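import Cfsg.Agent.Lib.Coprime23.PSolv
import Cfsg.Agent.Lib.Basics.Cores
import Cfsg.Agent.Lib.Basics.Tools
import Cfsg.Agent.Lib.Transfer.Residual

/-!
Extensions of `p`-solvable groups.
-/

set_option autoImplicit false

namespace Cfsg.Agent.Fusion

universe u

variable {p : ℕ} [hp : Fact p.Prime]

theorem isPSolvable_of_normal_quotient {G : Type u} [Group G] (E : Subgroup G) [E.Normal]
    (hE : (∃ k, Nat.card E = p ^ k) ∨ (Nat.card E).Coprime p)
    (h : Cfsg.IsPSolvable p (G ⧸ E)) : Cfsg.IsPSolvable p G := by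
  obtain ⟨m, C, h0, h1, hmono, hn, hfac⟩ := h
  let π := QuotientGroup.mk' E
  refine ⟨m + 1, Fin.cons ⊥ (fun i => (C i).comap π), rfl, ?_, ?_, ?_, ?_⟩
  · show (Fin.cons ⊥ (fun i => (C i).comap π) : Fin (m + 2) → Subgroup G) (Fin.last m).succ = ⊤
    rw [Fin.cons_succ, h1, Subgroup.comap_top]
  · refine Fin.monotone_iff_le_succ.mpr fun i => ?_
    induction i using Fin.cases with
    | zero => simp
    | succ j =>
      rw [← Fin.succ_castSucc, Fin.cons_succ, Fin.cons_succ]
      exact Subgroup.comap_mono (hmono (Fin.castSucc_lt_succ).le)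
  · intro i
    induction i using Fin.cases with
    | zero => rw [Fin.cons_zero]; infer_instance
    | succ j => rw [Fin.cons_succ]; exact (hn j).comap π
  · intro i
    induction i using Fin.cases with
    | zero =>
      rw [Fin.castSucc_zero, Fin.cons_zero, Fin.cons_succ, h0, Subgroup.relIndex_bot_left,
        MonoidHom.comap_bot, QuotientGroup.ker_mk']
      exact hE
    | succ j =>
      rw [← Fin.succ_castSucc, Fin.cons_succ, Fin.cons_succ, Subgroup.relIndex_comap,
        Subgroup.map_comap_eq_self_of_surjective (QuotientGroup.mk'_surjective E)]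
      exact hfac j

/-- A group with a `p`-solvable normal subgroup whose index is a power of `p` or prime to `p` is
`p`-solvable. -/
theorem isPSolvable_extension : ∀ (n : ℕ) (G : Type u) [Group G] [Finite G] (N : Subgroup G)
    [N.Normal], Nat.card G ≤ n → Cfsg.IsPSolvable p N →
    ((∃ k, N.index = p ^ k) ∨ N.index.Coprime p) → Cfsg.IsPSolvable p G := by
  intro n
  induction n with
  | zero => intro G _ _ _ _ h; have := Nat.card_pos (α := G); omega
  | succ n ih =>
    intro G _ _ N _ hc hN hidx
    rcases subsingleton_or_nontrivial N with hS | hNt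
    · obtain rfl : N = ⊥ := (Subgroup.eq_bot_iff_forall N).mpr fun x hx =>
        congrArg Subtype.val (Subsingleton.elim (⟨x, hx⟩ : N) 1)
      refine ⟨1, ![⊥, ⊤], rfl, rfl, Fin.monotone_iff_le_succ.mpr fun i => by fin_cases i; exact bot_le,
        Fin.forall_fin_two.mpr ⟨(inferInstance : (⊥ : Subgroup G).Normal), (inferInstance : (⊤ : Subgroup G).Normal)⟩, fun i => ?_⟩
      fin_cases i
      show (∃ m : ℕ, (⊥ : Subgroup G).relIndex ⊤ = p ^ m) ∨
        ((⊥ : Subgroup G).relIndex ⊤).Coprime p
      rw [Subgroup.relIndex_top_right]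
      exact hidx
    obtain ⟨E₀, hE₀n, hE₀, hE₀c⟩ : ∃ E₀ : Subgroup N, E₀.Characteristic ∧ E₀ ≠ ⊥ ∧
        ((∃ k, Nat.card E₀ = p ^ k) ∨ (Nat.card E₀).Coprime p) := by
      rcases Coprime23.exists_core_ne_bot hN with h | h
      · exact ⟨_, inferInstance, h, Or.inl (Basics.pCore_isPGroup (G := N) p).exists_card_eq⟩
      · exact ⟨_, inferInstance, h, Or.inr (Basics.pPrimeCore_coprime p)⟩
    set E := E₀.map N.subtype with hE
    haveI : E.Normal := inferInstance
    have hEne : E ≠ ⊥ := fun h => hE₀
      ((Subgroup.map_eq_bot_iff_of_injective _ N.subtype_injective).mp h)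
    have hEc : (∃ k, Nat.card E = p ^ k) ∨ (Nat.card E).Coprime p := by
      rwa [hE, Subgroup.card_map_of_injective N.subtype_injective]
    refine isPSolvable_of_normal_quotient E hEc ?_
    have hlt := Basics.card_quotient_lt hEne
    haveI : (N.map (QuotientGroup.mk' E)).Normal :=
      Subgroup.Normal.map inferInstance _ (QuotientGroup.mk'_surjective E)
    refine ih (G ⧸ E) (N.map (QuotientGroup.mk' E)) (by omega)
      (Coprime23.isPSolvable_map _ ((QuotientGroup.mk' E).subgroupMap_surjective N) hN) ?_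
    rw [Subgroup.index_map_eq N (QuotientGroup.mk'_surjective E)
      ((QuotientGroup.ker_mk' E).le.trans (Subgroup.map_subtype_le _))]
    exact hidx

theorem isPSolvable_of_coprime {G : Type u} [Group G] (h : (Nat.card G).Coprime p) :
    Cfsg.IsPSolvable p G := by
  refine ⟨1, ![⊥, ⊤], rfl, rfl, Fin.monotone_iff_le_succ.mpr fun i => by fin_cases i; exact bot_le,
    Fin.forall_fin_two.mpr ⟨(inferInstance : (⊥ : Subgroup G).Normal), (inferInstance : (⊤ : Subgroup G).Normal)⟩, fun i => Or.inr ?_⟩
  fin_cases i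
  show ((⊥ : Subgroup G).relIndex ⊤).Coprime p
  rw [Subgroup.relIndex_top_right, Subgroup.index_bot]
  exact h

theorem pResidual_ne_top_of_isPSolvable {G : Type u} [Group G] [Finite G]
    (h : Cfsg.IsPSolvable p G) (hdvd : p ∣ Nat.card G)
    (hres : ∀ N : Subgroup G, N.Normal → N.index.Coprime p → N = ⊤) : pResidual p G ≠ ⊤ := by
  obtain ⟨m, C, h0, h1, hmono, hn, hfac⟩ := h
  intro htop
  have key : ∀ i : Fin (m + 1), C i = ⊤ := by
    intro i
    induction i using Fin.reverseInduction with
    | last => exact h1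
    | cast j ih =>
      haveI := hn j.castSucc
      rcases hfac j with ⟨k, hk⟩ | hk
      · rw [ih, Subgroup.relIndex_top_right] at hk
        have hp' : IsPGroup p (G ⧸ C j.castSucc) :=
          IsPGroup.of_card (n := k) (by rw [← Subgroup.index_eq_card, hk])
        exact top_le_iff.mp (htop.ge.trans
          (Transfer.pResidual_le_of_isPGroup_quotient _ hp'))
      · rw [ih, Subgroup.relIndex_top_right] at hk
        exact hres _ (hn _) hk
  have h2 := key 0
  rw [h0] at h2
  have h3 : Nat.card G = 1 := by rw [← Subgroup.card_top (G := G), ← h2, Subgroup.card_bot]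
  rw [h3] at hdvd
  exact hp.out.ne_one (Nat.dvd_one.mp hdvd)

end Cfsg.Agent.Fusion
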