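import Cfsg.Agent.Lib.Fusion.Group

/-!
Strongly `p`-embedded subgroups in the sense of `IsStronglyPEmbedded`.
-/

set_option autoImplicit false

namespace Cfsg.Agent.Fusion

variable {X : Type*} [Group X] {p : ℕ}

theorem kCore_le_iff [Finite X] [Fact p.Prime] {T Y : Subgroup X} (hT : IsPGroup p T) :
    kGeneratedCore p 1 T ≤ Y ↔
      ∀ Q ≤ T, Q ≠ ⊥ → Subgroup.normalizer (Q : Set X) ≤ Y := by
  have hrank : ∀ Q ≤ T, (¬ PRankLE p (1 - 1) Q ↔ Q ≠ ⊥) := by
    intro Q hQ
    constructor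
    · rintro h rfl
      refine h fun A _ _ => ?_
      have : Subsingleton A := Subsingleton.intro fun a b => Subtype.ext (Subtype.ext
        ((Subgroup.mem_bot.mp a.1.2).trans (Subgroup.mem_bot.mp b.1.2).symm))
      rw [Nat.card_of_subsingleton (1 : A)]
      simp
    · intro hne hle
      have : Nontrivial Q := (Subgroup.nontrivial_iff_ne_bot Q).mpr hne
      obtain ⟨a, ha⟩ : ∃ a : Q, orderOf a = p := by
        refine exists_prime_orderOf_dvd_card' p ?_
        obtain ⟨n, hn⟩ := IsPGroup.iff_card.mp (hT.to_le hQ)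
        rw [hn]
        refine dvd_pow_self p ?_
        rintro rfl
        rw [pow_zero] at hn
        exact not_nontrivial_iff_subsingleton.mpr (Nat.card_eq_one_iff_unique.mp hn).1 this
      have h := hle (Subgroup.zpowers a) inferInstance fun b hb => by
        obtain ⟨k, rfl⟩ := Subgroup.mem_zpowers_iff.mp hb
        rw [← zpow_natCast, ← zpow_mul, mul_comm, zpow_mul, zpow_natCast, ← ha, pow_orderOf_eq_one,
          one_zpow]
      rw [Nat.card_zpowers, ha] at h
      have := (Fact.out : p.Prime).two_le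
      simp at h
      omega
  refine ⟨fun h Q hQ hne => le_trans ?_ h,
    fun h => iSup_le fun ⟨Q, hQ, hr⟩ => h Q hQ ((hrank Q hQ).mp hr)⟩
  exact le_iSup (fun Q : {Q : Subgroup X // Q ≤ T ∧ ¬ PRankLE p (1 - 1) Q} =>
    Subgroup.normalizer ((Q : Subgroup X) : Set X)) ⟨Q, hQ, (hrank Q hQ).mpr hne⟩

theorem mem_of_conj_le [Finite X] [Fact p.Prime] {Y : Subgroup X} (T : Sylow p X)
    (hY : ∀ Q ≤ (T : Subgroup X), Q ≠ ⊥ → Subgroup.normalizer (Q : Set X) ≤ Y)
    {R : Subgroup X} (hR : R ≤ T) (hne : R ≠ ⊥) {x : X} (hx : ∀ r ∈ R, x * r * x⁻¹ ∈ T) :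
    x ∈ Y := by
  have hTne : (T : Subgroup X) ≠ ⊥ := fun h => hne (le_bot_iff.mp (h ▸ hR))
  have hTY : (T : Subgroup X) ≤ Y := Subgroup.le_normalizer.trans (hY _ le_rfl hTne)
  have hsyl : IsSylowIn p (T : Subgroup X) Y := by
    obtain ⟨D, hTD, hD⟩ := exists_isSylowIn hTY T.2
    rw [T.is_maximal' hD.2.1 hTD] at hD
    exact hD
  have claim : ∀ n, ∀ T₁ : Sylow p X,
      Nat.card (T : Subgroup X) - Nat.card ((T : Subgroup X) ⊓ T₁ : Subgroup X) = n →
      (T : Subgroup X) ⊓ T₁ ≠ ⊥ → (T₁ : Subgroup X) ≤ Y := by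
    intro n
    induction n using Nat.strong_induction_on with
    | h n ih =>
    intro T₁ hn hD
    by_cases hTT : (T₁ : Subgroup X) ≤ T
    · exact hTT.trans hTY
    set D := (T : Subgroup X) ⊓ T₁ with hDdef
    have hDT₁ : D < (T₁ : Subgroup X) :=
      lt_of_le_of_ne inf_le_right fun h => hTT (h ▸ inf_le_left)
    obtain ⟨y, hy, hyD, hyN⟩ := exists_mem_not_mem_normalizer T₁.2 hDT₁
    set K := (T₁ : Subgroup X) ⊓ Subgroup.normalizer (D : Set X)
    obtain ⟨e, he, heK⟩ := hsyl.2.2 K (inf_le_right.trans (hY D inf_le_left hD))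
      (T₁.2.to_le inf_le_left)
    have hKle : K.map (MulAut.conj e).toMonoidHom ≤ (T : Subgroup X) ⊓ (e • T₁ : Sylow p X) :=
      le_inf ((map_conj_le_iff e).mpr heK) ((map_conj_le_iff e).mpr fun k hk => by
        rw [Sylow.coe_subgroup_smul]
        exact Subgroup.smul_mem_pointwise_smul _ _ _ hk.1)
    have hDK : Nat.card D < Nat.card K := by
      have hle : D ≤ K := le_inf inf_le_right Subgroup.le_normalizer
      refine lt_of_le_of_ne (Subgroup.card_le_of_le hle) fun h => hyD ?_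
      rw [Subgroup.eq_of_le_of_card_ge hle h.ge]
      exact ⟨hy, hyN⟩
    have hlt : Nat.card D < Nat.card ((T : Subgroup X) ⊓ (e • T₁ : Sylow p X) : Subgroup X) := by
      refine hDK.trans_le ?_
      rw [← card_map_conj K e]
      exact Subgroup.card_le_of_le hKle
    have hle' := ih _ (by
      have := Subgroup.card_le_of_le
        (inf_le_left : (T : Subgroup X) ⊓ (e • T₁ : Sylow p X) ≤ T)
      omega) (e • T₁) rfl (fun h => by
        rw [h, Subgroup.card_bot] at hlt
        exact absurd hlt (by have : 0 < Nat.card D := Nat.card_pos; omega))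
    intro t ht
    have : e * t * e⁻¹ ∈ Y := hle' (by
      rw [Sylow.coe_subgroup_smul]; exact Subgroup.smul_mem_pointwise_smul _ _ _ ht)
    have := Y.mul_mem (Y.mul_mem (Y.inv_mem he) this) he
    simpa [mul_assoc] using this
  have hmem : ∀ r ∈ R, r ∈ ((x⁻¹ • T : Sylow p X) : Subgroup X) := fun r hr => by
    rw [Sylow.coe_subgroup_smul]
    have := Subgroup.smul_mem_pointwise_smul _ (MulAut.conj x⁻¹) _ (hx r hr)
    convert this using 1
    simp [mul_assoc]
  have hT₁ := claim _ (x⁻¹ • T) rfl fun h => hne (le_bot_iff.mp (h ▸ fun r hr => ⟨hR hr, hmem r hr⟩))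
  obtain ⟨e, he, heT⟩ := hsyl.2.2 _ hT₁ (x⁻¹ • T : Sylow p X).2
  have hN : e * x⁻¹ ∈ Subgroup.normalizer ((T : Subgroup X) : Set X) := by
    refine mem_normalizer_of_forall fun t ht => ?_
    have := heT (x⁻¹ * t * x⁻¹⁻¹) (by
      rw [Sylow.coe_subgroup_smul]; exact Subgroup.smul_mem_pointwise_smul _ _ _ ht)
    simpa [mul_assoc] using this
  have := Y.mul_mem (Y.inv_mem (hY _ le_rfl hTne hN)) he
  simpa using this

/-- A strongly `p`-embedded subgroup can be conjugated so as to belong to any given Sylow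
subgroup. -/
theorem exists_core_le_of_isStronglyPEmbedded [Finite X] [Fact p.Prime] {Y : Subgroup X}
    (h : IsStronglyPEmbedded p Y) (T : Sylow p X) :
    ∃ Y' : Subgroup X, Y' ≠ ⊤ ∧
      ∀ Q ≤ (T : Subgroup X), Q ≠ ⊥ → Subgroup.normalizer (Q : Set X) ≤ Y' := by
  obtain ⟨-, hY, P, hP⟩ := h
  rw [kCore_le_iff P.2] at hP
  obtain ⟨x, hx⟩ := MulAction.exists_smul_eq X P T
  refine ⟨Y.map (MulAut.conj x).toMonoidHom, fun htop => hY ?_, fun Q hQ hne => ?_⟩
  · refine eq_top_iff.mpr fun y _ => ?_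
    obtain ⟨z, hz, hzy⟩ := htop.ge (Subgroup.mem_top ((MulAut.conj x) y))
    exact (MulAut.conj x).injective hzy ▸ hz
  · have hQ' : Q.map (MulAut.conj x⁻¹).toMonoidHom ≤ (P : Subgroup X) := by
      refine (map_conj_le_iff _).mpr fun q hq => ?_
      have h1 := hQ hq
      rw [← hx, Sylow.coe_subgroup_smul, Subgroup.mem_pointwise_smul_iff_inv_smul_mem] at h1
      simpa [MulAut.smul_def, mul_assoc] using h1
    have hne' : Q.map (MulAut.conj x⁻¹).toMonoidHom ≠ ⊥ := fun h0 => hne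
      ((Subgroup.map_eq_bot_iff_of_injective Q (MulAut.conj x⁻¹).injective).mp h0)
    intro n hn
    have : (MulAut.conj x⁻¹) n ∈ Subgroup.normalizer
        ((Q.map (MulAut.conj x⁻¹).toMonoidHom : Subgroup X) : Set X) :=
      (Subgroup.map_equiv_normalizer_eq Q (MulAut.conj x⁻¹)).le ⟨n, hn, rfl⟩
    exact ⟨_, hP _ hQ' hne' this, by simp [mul_assoc]⟩

theorem isPGroup_pCore (p : ℕ) (X : Type*) [Group X] : IsPGroup p (pCore p X) :=
  Sylow.sSup_of_normal _ (fun _ h => h.2) (fun _ h => h.1)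

theorem le_pCore {N : Subgroup X} (hN : N.Normal) (hp : IsPGroup p N) : N ≤ pCore p X :=
  le_sSup ⟨hN, hp⟩

instance normal_pCore (p : ℕ) (X : Type*) [Group X] : (pCore p X).Normal :=
  Subgroup.sSup_normal _ fun _ h => h.1

theorem pCore_eq_bot_of_isStronglyPEmbedded [Finite X] [Fact p.Prime] {Y : Subgroup X}
    (h : IsStronglyPEmbedded p Y) : pCore p X = ⊥ := by
  obtain ⟨-, hY, P, hP⟩ := h
  rw [kCore_le_iff P.2] at hP
  by_contra hne
  refine hY (top_le_iff.mp ?_)
  rw [← Subgroup.normalizer_eq_top (H := pCore p X)]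
  exact hP _ ((isPGroup_pCore p X).le_sylow_of_normal P) hne

theorem not_isPGroup_of_isStronglyPEmbedded [Finite X] [Fact p.Prime] {Y : Subgroup X}
    (h : IsStronglyPEmbedded p Y) : ¬ IsPGroup p X := by
  intro hX
  have h1 := pCore_eq_bot_of_isStronglyPEmbedded h
  rw [eq_bot_iff] at h1
  have htop : (⊤ : Subgroup X) = ⊥ := le_bot_iff.mp
    ((le_pCore inferInstance (hX.to_subgroup ⊤)).trans h1)
  have := h.1
  rw [← Subgroup.card_top (G := X), htop, Subgroup.card_bot] at this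
  exact (Fact.out : p.Prime).one_lt.ne' (Nat.dvd_one.mp this)

end Cfsg.Agent.Fusion
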