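import Cfsg.Agent.Lib.Fusion.Centric
import Cfsg.Agent.Lib.Fusion.StronglyEmbedded

/-!
Essential subgroups and Alperin's fusion theorem.
-/

set_option autoImplicit false

namespace Cfsg.Agent.Fusion

open Cfsg.FusionSystem (centralizerIn normalizerIn)

variable {Ω : Type*} [Group Ω] {S : Subgroup Ω}
variable {F : FusionSystem S} {P Q R : Subgroup Ω} {f g : Ω → Ω} {p : ℕ}

theorem normal_inn_subgroupOf (F : FusionSystem S) (P : Subgroup Ω) :
    ((Inn P).subgroupOf (F.autGroup P)).Normal :=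
  Subgroup.normal_subgroupOf

theorem isPGroup_inn {P : Subgroup Ω} (h : IsPGroup p P) : IsPGroup p (Inn P) :=
  inn_eq_autInducedBy P ▸ isPGroup_autInducedBy h P

theorem mem_of_cj_mem_inn (hC : centralizerIn S P ≤ P) {k : Ω} (hk : k ∈ S) {α : MulAut P}
    (hα : ∀ x ∈ P, autFun α x = cj k x) (hinn : α ∈ Inn P) (hP : P ≤ S) : k ∈ P := by
  rw [inn_eq_autInducedBy] at hinn
  obtain ⟨a, ha, h⟩ := mem_autInducedBy_iff_cj.mp hinn
  have hz : a⁻¹ * k ∈ centralizerIn S P := mem_centralizerIn.mpr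
    ⟨S.mul_mem (S.inv_mem (hP ha)) hk, fun x hx => by
      have h1 := (hα x hx).symm.trans (h x hx)
      simp only [cj_apply] at h1
      calc x * (a⁻¹ * k) = a⁻¹ * (a * x * a⁻¹) * k := by group
        _ = a⁻¹ * k * x := by rw [← h1]; group⟩
  have := P.mul_mem ha (hC hz)
  rwa [mul_inv_cancel_left] at this

/-- Essential subgroups are radical. -/
theorem isRadical_of_isEssential [Finite S] [Fact p.Prime] (hS : IsPGroup p S)
    (hP : F.IsEssential p P) : F.IsRadical p P := by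
  obtain ⟨hc, -, hn, Y, hY⟩ := hP
  have hPS := hc.1
  have := finite_of_le hPS
  have := finite_mulAut P
  refine ⟨hPS, le_antisymm ?_ ?_⟩
  · have hb := pCore_eq_bot_of_isStronglyPEmbedded hY
    have hsurj := QuotientGroup.mk'_surjective ((Inn P).subgroupOf (F.autGroup P))
    have hle : (pCore p (F.autGroup P)).map (QuotientGroup.mk' _) ≤ ⊥ := hb ▸
      le_pCore (Subgroup.Normal.map inferInstance _ hsurj) ((isPGroup_pCore p _).map _)
    rw [le_bot_iff, Subgroup.map_eq_bot_iff, QuotientGroup.ker_mk'] at hle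
    rintro _ ⟨α, hα, rfl⟩
    exact hle hα
  · intro α hα
    refine ⟨⟨α, inn_le_autGroup hPS hα⟩, le_pCore hn ?_ hα, rfl⟩
    exact (isPGroup_inn (hS.to_le hPS)).comap_of_injective _ (Subgroup.subtype_injective _)

/-- `α` extends to a map defined on a subgroup strictly containing `P`. -/
def Extends (F : FusionSystem S) (P : Subgroup Ω) (α : MulAut P) : Prop :=
  ∃ (Q : Subgroup Ω) (f : Ω → Ω), P < Q ∧ MapTo F Q f ∧ ∀ x ∈ P, f x = autFun α x

/-- The subgroup generated by the automorphisms which extend properly. -/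
def extAut (F : FusionSystem S) (P : Subgroup Ω) : Subgroup (MulAut P) :=
  Subgroup.closure {α | Extends F P α}

theorem extAut_eq (F : FusionSystem S) (P : Subgroup Ω) :
    extAut F P = Subgroup.closure {α : MulAut P | ∃ (Q : Subgroup Ω) (hPQ : P < Q) (φ : Q →* Ω),
      φ ∈ F.Hom Q ∧ ∀ x : P, φ (Subgroup.inclusion hPQ.le x) = α x} := by
  refine congrArg Subgroup.closure (Set.ext fun α => ⟨?_, ?_⟩)
  · rintro ⟨Q, f, hPQ, ⟨φ, hφ, hφf⟩, hf⟩
    exact ⟨Q, hPQ, φ, hφ, fun x => by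
      rw [hφf, Subgroup.coe_inclusion, hf _ x.2, autFun_coe]⟩
  · rintro ⟨Q, hPQ, φ, hφ, h⟩
    refine ⟨Q, ev φ, hPQ, mapTo_ev hφ, fun x hx => ?_⟩
    rw [ev_apply φ (hPQ.le hx), autFun_apply α hx]
    exact h ⟨x, hx⟩

theorem extAut_le_autGroup : extAut F P ≤ F.autGroup P :=
  (Subgroup.closure_le _).mpr fun _ ⟨_, _, hPQ, hf, h⟩ =>
    (mem_autGroup_iff (hPQ.le.trans hf.le)).mpr
      ((hf.restrict hPQ.le).congr' fun x hx => (h x hx).symm)

theorem extends_of_mem_extSub [Finite S] [Fact p.Prime] (hS : IsPGroup p S) (hF : F.IsSaturated p)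
    (hP : F.IsFullyNormalized P) {α : MulAut P} (hα : α ∈ F.autGroup P)
    (h : ∃ k ∈ extSub S (mapTo_of_mem_autGroup hP.1 hα), k ∉ P) : Extends F P α := by
  obtain ⟨g, hg, hgf⟩ := (isReceptive_iff.mp (isReceptive_of_isFullyNormalized hS hF hP)).2 P _
    (mapTo_of_mem_autGroup hP.1 hα) (img_autFun α)
  obtain ⟨k, hk, hkP⟩ := h
  exact ⟨_, g, lt_of_le_of_ne (le_extSub _) fun he => hkP (he.symm ▸ hk), hg, hgf⟩

theorem extends_of_conj_mem [Finite S] [Fact p.Prime] (hS : IsPGroup p S) (hF : F.IsSaturated p)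
    (hP : F.IsFullyNormalized P) {α γ : MulAut P} (hα : α ∈ F.autGroup P) {k : Ω}
    (hk : k ∈ normalizerIn S P) (hkP : k ∉ P) (hγ : ∀ x ∈ P, autFun γ x = cj k x)
    (h : α * γ * α⁻¹ ∈ autInducedBy S P) : Extends F P α := by
  obtain ⟨h', hh', hx'⟩ := mem_autInducedBy_iff_cj.mp h
  refine extends_of_mem_extSub hS hF hP hα ⟨k, ⟨hk, h', hh', fun x hx => ?_⟩, hkP⟩
  have := hx' _ (autFun_mem α hx)
  rw [autFun_mul _ _ (autFun_mem α hx), autFun_inv_autFun α hx, autFun_mul _ _ hx, hγ x hx] at this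
  exact this

theorem exists_conjAut {k : Ω} (hk : k ∈ Subgroup.normalizer (P : Set Ω)) :
    ∃ γ : MulAut P, ∀ x ∈ P, autFun γ x = cj k x :=
  ⟨P.normalizerMonoidHom ⟨k, hk⟩, fun x hx => by rw [autFun_apply _ hx]; rfl⟩

theorem autInducedBy_le_extAut [Finite S] [Fact p.Prime] (hS : IsPGroup p S) (hP : P < S) :
    autInducedBy S P ≤ extAut F P := by
  intro α hα
  obtain ⟨k, hk, h⟩ := mem_autInducedBy_iff_cj.mp hα
  exact Subgroup.subset_closure ⟨normalizerIn S P, cj k, lt_normalizerIn hS hP,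
    mapTo_cj normalizerIn_le hk, fun x hx => (h x hx).symm⟩

theorem extAut_eq_autGroup_of_not_isCentric [Finite S] [Fact p.Prime] (hS : IsPGroup p S)
    (hF : F.IsSaturated p) (hP : F.IsFullyNormalized P) (hc : ¬ F.IsCentric P) :
    extAut F P = F.autGroup P := by
  refine le_antisymm extAut_le_autGroup fun α hα => Subgroup.subset_closure ?_
  refine extends_of_mem_extSub hS hF hP hα ?_
  by_contra! h
  exact hc (isCentric_of_isFullyCentralized (isFullyCentralized_of_isFullyNormalized hS hF hP)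
    fun k hk => h k (centralizerIn_le_extSub _ hk))

section Out

variable [Finite S] [Fact p.Prime]

theorem isStronglyPEmbedded_extAut (hS : IsPGroup p S) (hF : F.IsSaturated p) (hPS : P < S)
    (hP : F.IsFullyNormalized P) (hne : extAut F P ≠ F.autGroup P) :
    ∃ _ : ((Inn P).subgroupOf (F.autGroup P)).Normal,
      IsStronglyPEmbedded p (((extAut F P).subgroupOf (F.autGroup P)).map
        (QuotientGroup.mk' ((Inn P).subgroupOf (F.autGroup P)))) := by
  have hn := normal_inn_subgroupOf F P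
  have hc : F.IsCentric P := by
    by_contra hc
    exact hne (extAut_eq_autGroup_of_not_isCentric hS hF hP hc)
  have := finite_of_le hPS.le
  have := finite_mulAut P
  refine ⟨hn, ?_⟩
  obtain ⟨-, T, hT⟩ := isFullyAutomized_of_isFullyNormalized hS hF hP
  set mk := QuotientGroup.mk' ((Inn P).subgroupOf (F.autGroup P)) with hmk
  have hsurj : Function.Surjective mk := QuotientGroup.mk'_surjective _
  set T' : Sylow p _ := T.mapSurjective hsurj with hT'
  have hT'c : T'.toSubgroup = ((autInducedBy S P).subgroupOf (F.autGroup P)).map mk := by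
    rw [← hT]; rfl
  have hinn : (Inn P).subgroupOf (F.autGroup P) ≤ (autInducedBy S P).subgroupOf (F.autGroup P) :=
    fun _ h => inn_le_autInducedBy hPS.le h
  obtain ⟨k, hk, hkP⟩ := SetLike.exists_of_lt (lt_normalizerIn hS hPS)
  obtain ⟨γ, hγ⟩ := exists_conjAut hk.2
  have hγA : γ ∈ autInducedBy S P := mem_autInducedBy_iff_cj.mpr ⟨k, hk.1, hγ⟩
  refine ⟨?_, ?_, T', ?_⟩
  · have hne' : T'.toSubgroup ≠ ⊥ := by
      rw [hT'c, Ne, Subgroup.map_eq_bot_iff, QuotientGroup.ker_mk']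
      intro hle
      exact hkP (mem_of_cj_mem_inn (centralizerIn_le_of_isCentric hc) hk.1 hγ
        (hle (show (⟨γ, autInducedBy_le_autGroup hPS.le hγA⟩ : F.autGroup P) ∈
          (autInducedBy S P).subgroupOf (F.autGroup P) from hγA)) hPS.le)
    by_contra hdvd
    refine hne' (Subgroup.eq_bot_of_card_eq _ ?_)
    obtain ⟨n, hn'⟩ := IsPGroup.iff_card.mp T'.2
    rcases n with _ | n
    · simpa using hn'
    · exact absurd ((dvd_pow_self p (Nat.succ_ne_zero n)).trans
        (hn' ▸ Subgroup.card_subgroup_dvd_card _)) hdvd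
  · intro htop
    have h1 : ((extAut F P).subgroupOf (F.autGroup P)).map mk = (⊤ : Subgroup _) := htop
    have h2 := congrArg (Subgroup.comap mk) h1
    rw [Subgroup.comap_map_eq, QuotientGroup.ker_mk', Subgroup.comap_top, sup_eq_left.mpr fun a ha =>
      autInducedBy_le_extAut hS hPS (hinn ha), Subgroup.subgroupOf_eq_top] at h2
    exact hne (le_antisymm extAut_le_autGroup h2)
  · rw [kCore_le_iff T'.2]
    intro Q hQ hQne x hx
    obtain ⟨α, rfl⟩ := hsurj x
    obtain ⟨q, hqQ, hq1⟩ := Q.bot_or_exists_ne_one.resolve_left hQne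
    obtain ⟨γ', hγ'mem, rfl⟩ := (hT'c ▸ hQ hqQ : q ∈ _)
    obtain ⟨k', hk', hk'x⟩ := mem_autInducedBy_iff_cj.mp hγ'mem
    have hk'N : k' ∈ normalizerIn S P :=
      ⟨hk', mem_normalizer_of_conjAut (α := (γ' : MulAut P)) fun y => by
        rw [← autFun_coe]; exact hk'x y y.2⟩
    have hk'P : k' ∉ P := fun h => hq1 ((QuotientGroup.eq_one_iff _).mpr
      (show (γ' : MulAut P) ∈ Inn P from inn_eq_autInducedBy P ▸
        mem_autInducedBy_iff_cj.mpr ⟨k', h, hk'x⟩))
    have hconj : mk (α * γ' * α⁻¹) ∈ T'.toSubgroup := by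
      rw [map_mul, map_mul, map_inv]
      exact hQ ((Subgroup.mem_normalizer_iff.mp hx _).mp hqQ)
    have hconj' : α * γ' * α⁻¹ ∈ (autInducedBy S P).subgroupOf (F.autGroup P) := by
      have := Subgroup.mem_comap.mpr hconj
      rwa [hT'c, Subgroup.comap_map_eq, QuotientGroup.ker_mk', sup_eq_left.mpr hinn] at this
    exact ⟨α, Subgroup.subset_closure
      (extends_of_conj_mem hS hF hP α.2 hk'N hk'P hk'x hconj'), rfl⟩

theorem extAut_ne_of_isEssential (hS : IsPGroup p S) (hF : F.IsSaturated p) (hPS : P < S)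
    (hP : F.IsEssential p P) : extAut F P ≠ F.autGroup P := by
  obtain ⟨hc, hPn, hn, Y, hY⟩ := hP
  intro heq
  have := finite_of_le hPS.le
  have := finite_mulAut P
  obtain ⟨-, T, hT⟩ := isFullyAutomized_of_isFullyNormalized hS hF hPn
  set mk := QuotientGroup.mk' ((Inn P).subgroupOf (F.autGroup P)) with hmk
  have hsurj : Function.Surjective mk := QuotientGroup.mk'_surjective _
  set T' : Sylow p _ := T.mapSurjective hsurj with hT'
  obtain ⟨Y', hY', hcore⟩ := exists_core_le_of_isStronglyPEmbedded hY T'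
  have key : ∀ α (hα : α ∈ F.autGroup P), Extends F P α → mk ⟨α, hα⟩ ∈ Y' := by
    intro α hα hext
    obtain ⟨Q, f, hPQ, hf, hfα⟩ := hext
    have := finite_of_le hf.le
    obtain ⟨k, hk, hkP⟩ := SetLike.exists_of_lt (lt_normalizerIn (hS.to_le hf.le) hPQ)
    obtain ⟨γ, hγ⟩ := exists_conjAut hk.2
    have hγA : γ ∈ autInducedBy S P := mem_autInducedBy_iff_cj.mpr ⟨k, hf.le hk.1, hγ⟩
    have hγF := autInducedBy_le_autGroup (F := F) hPS.le hγA
    have hconj : α * γ * α⁻¹ ∈ autInducedBy S P := by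
      refine mem_autInducedBy_iff_cj.mpr ⟨f k, hf.mem hk.1, fun y hy => ?_⟩
      obtain ⟨x, hx, rfl⟩ : ∃ x ∈ P, autFun α x = y :=
        ⟨autFun α⁻¹ y, autFun_mem _ hy, autFun_autFun_inv α hy⟩
      rw [autFun_mul _ _ hy, autFun_inv_autFun α hx, autFun_mul _ _ hx, hγ x hx, cj_apply,
        cj_apply, ← hfα _ (conj_mem_of_mem_normalizerIn hk hx), hf.map_conj hk.1 (hPQ.le hx),
        hfα x hx]
    refine mem_of_conj_le T' hcore (R := Subgroup.zpowers (mk ⟨γ, hγF⟩)) ?_ ?_ ?_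
    · refine Subgroup.zpowers_le.mpr ⟨⟨γ, hγF⟩, ?_, rfl⟩
      show (⟨γ, hγF⟩ : F.autGroup P) ∈ (T : Subgroup _)
      rw [hT]; exact hγA
    · rw [Ne, Subgroup.zpowers_eq_bot]
      intro h1
      have h1' := (QuotientGroup.eq_one_iff (⟨γ, hγF⟩ : F.autGroup P)).mp h1
      exact hkP (mem_of_cj_mem_inn (centralizerIn_le_of_isCentric hc) (hf.le hk.1) hγ h1' hPS.le)
    · rintro _ ⟨n, rfl⟩
      show _ * (mk ⟨γ, hγF⟩ ^ n) * _ ∈ _
      rw [← conj_zpow, ← map_inv, ← map_mul, ← map_mul]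
      refine Subgroup.zpow_mem T'.toSubgroup ⟨_, ?_, rfl⟩ n
      show _ ∈ T.toSubgroup
      rw [hT]; exact hconj
  refine hY' (eq_top_iff.mpr fun x _ => ?_)
  obtain ⟨⟨α, hα⟩, rfl⟩ := hsurj x
  suffices ∀ β ∈ extAut F P, ∀ hβ : β ∈ F.autGroup P, mk ⟨β, hβ⟩ ∈ Y' from
    this α (heq.symm ▸ hα) hα
  intro β hβ
  induction hβ using Subgroup.closure_induction with
  | mem b hb => exact fun hb' => key b hb' hb
  | one => intro h1; rw [show (⟨1, h1⟩ : F.autGroup P) = 1 from rfl, map_one]; exact Y'.one_mem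
  | mul a b ha hb iha ihb =>
      intro hab
      have ha' := extAut_le_autGroup (F := F) ha
      have hb' := extAut_le_autGroup (F := F) hb
      rw [show (⟨a * b, hab⟩ : F.autGroup P) = ⟨a, ha'⟩ * ⟨b, hb'⟩ from rfl, map_mul]
      exact Y'.mul_mem (iha ha') (ihb hb')
  | inv a ha iha =>
      intro hainv
      have ha' := extAut_le_autGroup (F := F) ha
      rw [show (⟨a⁻¹, hainv⟩ : F.autGroup P) = ⟨a, ha'⟩⁻¹ from rfl, map_inv]
      exact Y'.inv_mem (iha ha')

/-- The dichotomy behind Alperin's theorem. -/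
theorem extAut_eq_or_isEssential (hS : IsPGroup p S) (hF : F.IsSaturated p) (hPS : P < S)
    (hP : F.IsFullyNormalized P) : extAut F P = F.autGroup P ∨ F.IsEssential p P := by
  by_cases h : extAut F P = F.autGroup P
  · exact Or.inl h
  · refine Or.inr ⟨?_, hP, ?_⟩
    · by_contra hc
      exact h (extAut_eq_autGroup_of_not_isCentric hS hF hP hc)
    · obtain ⟨hn, hY⟩ := isStronglyPEmbedded_extAut hS hF hPS hP h
      exact ⟨hn, _, hY⟩

/-- Alperin's fusion theorem. -/
theorem alperin (hS : IsPGroup p S) (hF : F.IsSaturated p) (E : FusionSystem S)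
    (hE : ∀ P : Subgroup Ω, P = S ∨ F.IsEssential p P → F.autGroup P ≤ E.autGroup P) :
    ∀ (P : Subgroup Ω) (f : Ω → Ω), MapTo F P f → MapTo E P f := by
  intro P
  induction hk : Nat.card S - Nat.card P using Nat.strong_induction_on generalizing P with
  | h k ih =>
  intro f hf
  rcases eq_or_lt_of_le hf.le with rfl | hlt
  · have himg : img f P = P := img_eq_self_of_forall hf fun x hx => hf.mem hx
    have h1 := hE P (Or.inl rfl) (autOf_mem hf himg)
    exact (mapTo_of_mem_autGroup le_rfl h1).congr' fun x hx => (autFun_autOf hf himg hx).symm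
  have hlt' : ∀ {Q R : Subgroup Ω}, Nat.card Q = Nat.card P → Q < R → R ≤ S →
      ∀ g, MapTo F R g → MapTo E R g := by
    intro Q R hQ hQR hR g hg
    refine ih _ ?_ R rfl g hg
    have := finite_of_le hR
    have h1 : Nat.card Q < Nat.card R := by
      refine lt_of_le_of_ne (Subgroup.card_le_of_le hQR.le) fun he => ?_
      exact hQR.ne (Subgroup.eq_of_le_of_card_ge hQR.le he.ge)
    have h2 : Nat.card R ≤ Nat.card S := Subgroup.card_le_of_le hR
    omega
  have hPS := hf.le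
  set P' := img f P with hP'
  have hP'S : P' ≤ S := hf.img_le
  have hcard : Nat.card P' = Nat.card P := hf.card_img le_rfl
  have hP'lt : P' < S := lt_of_le_of_ne hP'S fun he => by
    rw [he] at hcard
    exact hlt.ne (Subgroup.eq_of_le_of_card_ge hPS hcard.le)
  obtain ⟨Q, hPQ, hQn⟩ := exists_isFullyNormalized (F := F) hPS
  have hQa := isFullyAutomized_of_isFullyNormalized hS hF hQn
  have hQr := isReceptive_of_isFullyNormalized hS hF hQn
  obtain ⟨g, hg, hgQ⟩ := exists_map_normalizerIn hS hQa hQr hPQ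
  obtain ⟨g', hg', hg'Q⟩ :=
    exists_map_normalizerIn hS hQa hQr (isConj_trans (isConj_symm hf.isConj) hPQ)
  have hgE := (hlt' rfl (lt_normalizerIn hS hlt) normalizerIn_le g hg).restrict
    (le_normalizerIn hPS)
  have hg'E := (hlt' hcard (lt_normalizerIn hS hP'lt) normalizerIn_le g' hg').restrict
    (le_normalizerIn hP'S)
  obtain ⟨k₀, hk₀, hk₀g, hgk₀, hk₀img⟩ := (hg.restrict (le_normalizerIn hPS)).exists_iso_inverse
  rw [hgQ] at hk₀ hgk₀
  have hk₀m : ∀ y ∈ Q, k₀ y ∈ P := fun y hy => by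
    obtain ⟨x, hx, rfl⟩ :=
      ((hg.restrict (le_normalizerIn hPS)).mem_img_iff le_rfl).mp (hgQ ▸ hy : y ∈ img g P)
    rw [hk₀g x hx]; exact hx
  have hfm : ∀ x ∈ P, f x ∈ P' := fun x hx => mem_img_of_mem hx
  have ha : MapTo F Q (fun y => g' (f (k₀ y))) :=
    (hk₀.comp hf hk₀m).comp (hg'.restrict (le_normalizerIn hP'S)) fun y hy => hfm _ (hk₀m y hy)
  have := finite_of_le hQn.1
  have haimg : img (fun y => g' (f (k₀ y))) Q = Q := img_eq_self_of_forall ha fun y hy => by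
    rw [← hg'Q]; exact mem_img_of_mem (hfm _ (hk₀m y hy))
  set α := autOf ha haimg with hα
  have hαE : α ∈ E.autGroup Q := by
    have hQlt : Q < S := lt_of_le_of_ne hQn.1 fun he => by
      have h1 := isConj_card hPQ
      rw [he] at h1
      exact hlt.ne (Subgroup.eq_of_le_of_card_ge hPS h1.le)
    rcases extAut_eq_or_isEssential hS hF hQlt hQn with h | h
    · refine ((Subgroup.closure_le _).mpr ?_ : extAut F Q ≤ E.autGroup Q) (show α ∈ extAut F Q by rw [h]; exact autOf_mem ha haimg)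
      rintro β ⟨R, fR, hQR, hfR, hfRβ⟩
      exact (mem_autGroup_iff hQn.1).mpr (((hlt' (isConj_card hPQ) hQR hfR.le fR hfR).restrict
        hQR.le).congr' fun x hx => (hfRβ x hx).symm)
    · exact hE Q (Or.inr h) (autOf_mem ha haimg)
  obtain ⟨k₁, hk₁, hk₁g, -, -⟩ := hg'E.exists_iso_inverse
  rw [hg'Q] at hk₁
  have hgm : ∀ x ∈ P, g x ∈ Q := fun x hx => hgQ ▸ mem_img_of_mem hx
  refine ((hgE.comp (mapTo_of_mem_autGroup hQn.1 hαE) hgm).comp hk₁
    fun x hx => autFun_mem α (hgm x hx)).congr' fun x hx => ?_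
  show f x = k₁ (autFun α (g x))
  rw [autFun_autOf ha haimg (hgm x hx), hk₀g x hx, hk₁g _ (hfm x hx)]

theorem eq_inner_of_isPGroup_autGroup (hS : IsPGroup p S) (hF : F.IsSaturated p)
    (h : ∀ P : Subgroup Ω, P = S ∨ F.IsEssential p P → IsPGroup p (F.autGroup P)) :
    F = innerFusionSystem S := by
  refine fusionSystem_ext fun P f => ⟨alperin hS hF _ ?_ P f,
    fun hf => le_iff_mapTo.mp (inner_le F) P f hf⟩
  rintro Q (rfl | hess)
  · have := finite_mulAut Q
    obtain ⟨-, T, hT⟩ := isFullyAutomized_of_isFullyNormalized hS hF isFullyNormalized_top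
    have hp : IsPGroup p (⊤ : Subgroup (F.autGroup Q)) := (h Q (Or.inl rfl)).to_subgroup ⊤
    have htop : (⊤ : Subgroup (F.autGroup Q)) = T := T.is_maximal' hp le_top
    rw [hT] at htop
    intro α hα
    exact autInducedBy_le_autGroup le_rfl
      (show α ∈ autInducedBy Q Q from htop.le (Subgroup.mem_top (⟨α, hα⟩ : F.autGroup Q)))
  · obtain ⟨hc, hQn, hn, Y, hY⟩ := hess
    have := finite_of_le hc.1
    have := finite_mulAut Q
    exact absurd ((h Q (Or.inr ⟨hc, hQn, hn, Y, hY⟩)).to_quotient _)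
      (not_isPGroup_of_isStronglyPEmbedded hY)

end Out

/-- A system given by a property of maps, closed under composition and inverses. -/
noncomputable def restrictSys (F : FusionSystem S) (C : (P : Subgroup Ω) → (Ω → Ω) → Prop)
    (hcongr : ∀ {P : Subgroup Ω} {f g : Ω → Ω}, MapTo F P f → C P f → (∀ x ∈ P, g x = f x) → C P g)
    (hconj : ∀ {P : Subgroup Ω} {g : Ω}, P ≤ S → g ∈ S → C P (cj g))
    (hcomp : ∀ {P Q : Subgroup Ω} {f g : Ω → Ω}, MapTo F P f → MapTo F Q g → (∀ x ∈ P, f x ∈ Q) →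
      C P f → C Q g → C P (fun x => g (f x)))
    (hinv : ∀ {P : Subgroup Ω} {f g : Ω → Ω}, MapTo F P f → MapTo F (img f P) g →
      (∀ x ∈ P, g (f x) = x) → C P f → C (img f P) g) : FusionSystem S where
  Hom P := {φ | φ ∈ F.Hom P ∧ C P (ev φ)}
  le_of_mem h := F.le_of_mem h.1
  injective_of_mem h := F.injective_of_mem h.1
  conj_mem := fun {P g} hP hg =>
    ⟨F.conj_mem hP hg, hcongr (mapTo_cj hP hg) (hconj hP hg) fun x hx => ev_apply _ hx⟩
  comp_mem := fun {P Q φ ψ} hφ hψ hQ => by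
    refine ⟨F.comp_mem hφ.1 hψ.1 hQ, ?_⟩
    have hm : ∀ x ∈ P, ev φ x ∈ Q := fun x hx => ev_apply φ hx ▸ hQ ⟨x, hx⟩
    refine hcongr ((mapTo_ev hφ.1).comp (mapTo_ev hψ.1) hm)
      (hcomp (mapTo_ev hφ.1) (mapTo_ev hψ.1) hm hφ.2 hψ.2) fun x hx => ?_
    show ev (ψ.comp (φ.codRestrict Q hQ)) x = ev ψ (ev φ x)
    rw [ev_apply _ hx, ev_apply φ hx, ev_apply ψ (hQ ⟨x, hx⟩)]
    rfl
  inv_mem := fun {P φ} hφ => by
    obtain ⟨ψ, hψ, hψφ⟩ := F.inv_mem hφ.1
    refine ⟨ψ, ⟨hψ, ?_⟩, hψφ⟩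
    have hr : φ.range = img (ev φ) P := range_eq_img_ev φ
    have key : ∀ R : Subgroup Ω, R = img (ev φ) P → ∀ g : Ω → Ω, MapTo F R g →
        (∀ x ∈ P, g (ev φ x) = x) → C R g := by
      rintro R rfl g hg hgx
      exact hinv (mapTo_ev hφ.1) hg hgx hφ.2
    exact key _ hr _ (mapTo_ev hψ) fun x hx => by
      rw [ev_apply φ hx, ev_apply ψ ⟨⟨x, hx⟩, rfl⟩]; exact hψφ ⟨x, hx⟩

/-- Alperin's theorem for a property of maps. -/
theorem alperin_prop [Finite S] [Fact p.Prime] (hS : IsPGroup p S) (hF : F.IsSaturated p)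
    (C : (P : Subgroup Ω) → (Ω → Ω) → Prop)
    (hcongr : ∀ {P : Subgroup Ω} {f g : Ω → Ω}, MapTo F P f → C P f → (∀ x ∈ P, g x = f x) → C P g)
    (hconj : ∀ {P : Subgroup Ω} {g : Ω}, P ≤ S → g ∈ S → C P (cj g))
    (hcomp : ∀ {P Q : Subgroup Ω} {f g : Ω → Ω}, MapTo F P f → MapTo F Q g → (∀ x ∈ P, f x ∈ Q) →
      C P f → C Q g → C P (fun x => g (f x)))
    (hinv : ∀ {P : Subgroup Ω} {f g : Ω → Ω}, MapTo F P f → MapTo F (img f P) g →
      (∀ x ∈ P, g (f x) = x) → C P f → C (img f P) g)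
    (hbase : ∀ P : Subgroup Ω, P = S ∨ F.IsEssential p P → ∀ α ∈ F.autGroup P, C P (autFun α))
    {P : Subgroup Ω} {f : Ω → Ω} (hf : MapTo F P f) : C P f := by
  have hE : ∀ Q : Subgroup Ω, Q = S ∨ F.IsEssential p Q →
      F.autGroup Q ≤ (restrictSys F C hcongr hconj hcomp hinv).autGroup Q := by
    intro Q hQ α hα
    have hQS : Q ≤ S := by
      rcases hQ with rfl | h
      · exact le_rfl
      · exact h.1.1
    exact Subgroup.subset_closure
      ⟨mapTo_autFun_iff_hom.mp (mapTo_of_mem_autGroup hQS hα), hbase Q hQ α hα⟩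
  obtain ⟨φ, ⟨hφ, hφC⟩, hφf⟩ := alperin hS hF _ hE P f hf
  exact hcongr (mapTo_ev hφ) hφC fun x hx => by rw [ev_apply φ hx]; exact (hφf ⟨x, hx⟩).symm

end Cfsg.Agent.Fusion
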