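import Cfsg.Agent.Lib.Fusion.Saturation

/-!
Centric subgroups; uniqueness of extensions from centric subgroups.
-/

set_option autoImplicit false

namespace Cfsg.Agent.Fusion

open Cfsg.FusionSystem (centralizerIn normalizerIn)

variable {Ω : Type*} [Group Ω] {S : Subgroup Ω}
variable {F : FusionSystem S} {P Q R : Subgroup Ω} {f g : Ω → Ω} {p : ℕ}

theorem hom_mem_iff_mapTo {φ : P →* Ω} (h : ∀ x : P, φ x = f x) : φ ∈ F.Hom P ↔ MapTo F P f :=
  ⟨fun hφ => ⟨φ, hφ, h⟩, fun hf => hf.hom_mem h⟩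

/-- Two systems over `S` with the same maps are equal. -/
theorem fusionSystem_ext {F E : FusionSystem S}
    (h : ∀ (P : Subgroup Ω) (f : Ω → Ω), MapTo F P f ↔ MapTo E P f) : F = E := by
  have hH : F.Hom = E.Hom := by
    funext P
    ext φ
    rw [← mapTo_ev_iff (F := F), ← mapTo_ev_iff (F := E)]
    exact h P _
  cases F; cases E; cases hH; rfl

theorem le_iff_mapTo {F E : FusionSystem S} :
    F ≤ E ↔ ∀ (P : Subgroup Ω) (f : Ω → Ω), MapTo F P f → MapTo E P f :=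
  ⟨fun h _ _ ⟨φ, hφ, hf⟩ => ⟨φ, h _ hφ, hf⟩,
    fun h P φ hφ => mapTo_ev_iff.mp (h P _ (mapTo_ev hφ))⟩

theorem mapTo_inner_iff : MapTo (innerFusionSystem S) P f ↔
    P ≤ S ∧ ∃ g ∈ S, ∀ x ∈ P, f x = g * x * g⁻¹ := by
  constructor
  · rintro ⟨φ, ⟨hP, g, hg, h⟩, hφ⟩
    exact ⟨hP, g, hg, fun x hx => (hφ ⟨x, hx⟩).symm.trans (h ⟨x, hx⟩)⟩
  · rintro ⟨hP, g, hg, h⟩
    exact ⟨conjHom P g, ⟨hP, g, hg, fun _ => rfl⟩, fun x => (h x x.2).symm⟩

theorem inner_le (F : FusionSystem S) : innerFusionSystem S ≤ F :=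
  le_iff_mapTo.mpr fun _ _ h => by
    obtain ⟨hP, g, hg, hx⟩ := mapTo_inner_iff.mp h
    exact (mapTo_cj hP hg).congr' hx

theorem centralizerIn_anti (h : Q ≤ P) : centralizerIn S P ≤ centralizerIn S Q :=
  fun _ hx => mem_centralizerIn.mpr
    ⟨(mem_centralizerIn.mp hx).1, fun y hy => (mem_centralizerIn.mp hx).2 y (h hy)⟩

theorem isCentric_of_isConj (hQ : F.IsCentric Q) (h : F.IsConj Q R) : F.IsCentric R :=
  ⟨isConj_le_right h, fun T hT => hQ.2 T (isConj_trans h hT)⟩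

theorem isCentric_mono (hQ : F.IsCentric Q) (hQP : Q ≤ P) (hP : P ≤ S) : F.IsCentric P := by
  refine ⟨hP, fun R hR => ?_⟩
  obtain ⟨f, hf, rfl⟩ := isConj_iff.mp hR
  exact (centralizerIn_anti (img_mono hQP)).trans
    ((hQ.2 _ (hf.restrict hQP).isConj).trans (img_mono hQP))

theorem centralizerIn_le_of_isCentric (hQ : F.IsCentric Q) : centralizerIn S Q ≤ Q :=
  hQ.2 Q (isConj_refl hQ.1)

theorem isCentric_of_isFullyCentralized [Finite S] (hU : F.IsFullyCentralized P)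
    (hC : centralizerIn S P ≤ P) : F.IsCentric P := by
  refine ⟨hU.1, fun Q hQ => ?_⟩
  obtain ⟨f, hf, rfl⟩ := isConj_iff.mp hQ
  have := finite_of_le (centralizerIn_le (S := S) (P := img f P))
  have h : img f (centralizerIn S P) = centralizerIn S (img f P) := by
    refine Subgroup.eq_of_le_of_card_ge (img_le_of_forall fun z hz =>
      hf.map_mem_centralizerIn le_rfl (hC hz) hz) ?_
    rw [hf.card_img hC]
    exact hU.2 _ hf.isConj
  exact h.ge.trans (img_mono hC)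

theorem isFullyCentralized_of_isCentric [Finite S] (hQ : F.IsCentric Q) :
    F.IsFullyCentralized Q := by
  refine ⟨hQ.1, fun R hR => ?_⟩
  obtain ⟨f, hf, rfl⟩ := isConj_iff.mp (isConj_symm hR)
  have hle := hQ.2 R hR
  rw [← hf.card_img hle]
  have := finite_of_le (centralizerIn_le (S := S) (P := img f R))
  exact Subgroup.card_le_of_le (img_le_of_forall fun z hz =>
    hf.map_mem_centralizerIn le_rfl (hle hz) hz)

/-- An automorphism in the system of `Q₁` which is the identity on a normal centric subgroup `Q`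
is conjugation by an element of `Z(Q)`. -/
theorem exists_conj_of_fix_centric [Finite S] [Fact p.Prime] (hS : IsPGroup p S)
    (hF : F.IsSaturated p) (hQc : F.IsCentric Q) (hQP : Q ≤ P)
    (hn : P ≤ Subgroup.normalizer (Q : Set Ω)) (hf : MapTo F P f) (himg : img f P = P)
    (hfix : ∀ x ∈ Q, f x = x) :
    ∃ z ∈ Q, z ∈ centralizerIn S Q ∧ ∀ y ∈ P, f y = z * y * z⁻¹ := by
  have hPS := hf.le
  have := finite_of_le hPS
  have := finite_mulAut P
  set ψ := autOf hf himg with hψ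
  have := finite_of_le hQc.1
  obtain ⟨e, he⟩ := IsPGroup.iff_card.mp (hS.to_le hQc.1)
  have hc : ∀ y ∈ P, y⁻¹ * f y ∈ Q := fun y hy => by
    refine centralizerIn_le_of_isCentric hQc (mem_centralizerIn.mpr
      ⟨S.mul_mem (S.inv_mem (hPS hy)) (hf.mem hy), fun x hx => ?_⟩)
    have hyx : y * x * y⁻¹ ∈ Q := (Subgroup.mem_normalizer_iff.mp (hn hy) x).mp hx
    have h1 := hf.map_conj hy (hQP hx)
    rw [hfix x hx, hfix _ hyx] at h1
    calc x * (y⁻¹ * f y) = y⁻¹ * (y * x * y⁻¹) * f y := by group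
      _ = y⁻¹ * f y * x := by rw [h1]; group
  have hiter : ∀ (k : ℕ) (y : Ω), y ∈ P → autFun (ψ ^ k) y = y * (y⁻¹ * f y) ^ k := by
    intro k
    induction k with
    | zero => intro y hy; rw [pow_zero, autFun_one hy, pow_zero, mul_one]
    | succ k ih =>
        intro y hy
        rw [pow_succ', autFun_mul _ _ hy, ih y hy]
        have hck : (y⁻¹ * f y) ^ k ∈ Q := Q.pow_mem (hc y hy) k
        rw [autFun_autOf hf himg (P.mul_mem hy (hQP hck)), hf.map_mul hy (hQP hck), hfix _ hck,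
          pow_succ', ← mul_assoc y (y⁻¹ * f y), mul_inv_cancel_left]
  have hψp : ψ ^ p ^ e = 1 := autFun_ext fun y hy => by
    rw [hiter _ y hy, autFun_one hy, ← he]
    have h1 : (⟨y⁻¹ * f y, hc y hy⟩ : Q) ^ Nat.card Q = 1 := pow_card_eq_one'
    have h2 := congrArg Subtype.val h1
    simp only [SubmonoidClass.coe_pow] at h2
    rw [h2]; simp
  have hp : IsPGroup p (Subgroup.zpowers ψ) := by
    obtain ⟨i, -, hi⟩ := (Nat.dvd_prime_pow Fact.out).mp (orderOf_dvd_of_pow_eq_one hψp)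
    exact IsPGroup.of_card (n := i) ((Nat.card_zpowers ψ).trans hi)
  obtain ⟨R, hPR, hRn⟩ := exists_isFullyNormalized (F := F) hPS
  obtain ⟨γ, hγ, hγR⟩ := isConj_iff.mp hPR
  have hRa := isFullyAutomized_of_isFullyNormalized hS hF hRn
  have hRS := hRn.1
  have hB : (Subgroup.zpowers ψ).map (MulAut.congr (isoEquiv hγ hγR)).toMonoidHom ≤ F.autGroup R :=
    le_of_le_of_eq (Subgroup.map_mono (Subgroup.zpowers_le.mpr (autOf_mem hf himg)))
      (map_congr_autGroup hγ hγR)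
  obtain ⟨δ, hδ, hδc⟩ := exists_conj_le_autInducedBy hRa hB (hp.map _)
  obtain ⟨g, hg, hgx⟩ := mem_autInducedBy_iff_cj.mp (hδc _ ⟨_, Subgroup.mem_zpowers _, rfl⟩)
  have hγm : ∀ x ∈ P, γ x ∈ R := fun x hx => hγR ▸ mem_img_of_mem hx
  have hγ' : MapTo F P (fun x => autFun δ (γ x)) :=
    hγ.comp (mapTo_of_mem_autGroup hRS hδ) hγm
  set γ' := fun x => autFun δ (γ x)
  have hrel : ∀ x ∈ P, γ' (f x) = g * γ' x * g⁻¹ := fun x hx => by
    have hy : γ' x ∈ R := autFun_mem δ (hγm x hx)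
    have := hgx _ hy
    rw [MulEquiv.toMonoidHom_eq_coe, MonoidHom.coe_coe, autFun_mul _ _ hy,
      autFun_inv_autFun δ (hγm x hx), autFun_mul _ _ (hγm x hx),
      autFun_congr hγ hγR _ hx, autFun_autOf hf himg hx] at this
    exact this
  have hQ' : F.IsConj Q (img γ' Q) := (hγ'.restrict hQP).isConj
  have hgc : g ∈ centralizerIn S (img γ' Q) := by
    refine mem_centralizerIn.mpr ⟨hg, fun y hy => ?_⟩
    obtain ⟨x, hx, rfl⟩ := (hγ'.mem_img_iff hQP).mp hy
    conv_lhs => rw [← hfix x hx, hrel x (hQP hx)]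
    group
  obtain ⟨z, hz, hzg⟩ := (hγ'.mem_img_iff hQP).mp (hQc.2 _ hQ' hgc)
  refine ⟨z, hz, mem_centralizerIn.mpr ⟨hPS (hQP hz), fun x hx => ?_⟩, fun y hy => ?_⟩
  · refine hγ'.inj (P.mul_mem (hQP hx) (hQP hz)) (P.mul_mem (hQP hz) (hQP hx)) ?_
    rw [hγ'.map_mul (hQP hx) (hQP hz), hγ'.map_mul (hQP hz) (hQP hx), hzg]
    exact (mem_centralizerIn.mp hgc).2 _ (mem_img_of_mem hx)
  · refine hγ'.inj (himg ▸ mem_img_of_mem hy)
      (P.mul_mem (P.mul_mem (hQP hz) hy) (P.inv_mem (hQP hz))) ?_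
    rw [hrel y hy, hγ'.map_conj (hQP hz) hy, hzg]

/-- Maps which agree on a centric subgroup differ by conjugation by an element of its centre. -/
theorem eq_conj_of_eqOn_centric [Finite S] [Fact p.Prime] (hS : IsPGroup p S)
    (hF : F.IsSaturated p) (hQc : F.IsCentric Q) (hQP : Q ≤ P) (hf : MapTo F P f)
    (hg : MapTo F P g) (h : ∀ x ∈ Q, f x = g x) :
    ∃ z ∈ Q, z ∈ centralizerIn S Q ∧ ∀ y ∈ P, g y = f (z * y * z⁻¹) := by
  induction hk : Nat.card P - Nat.card Q using Nat.strong_induction_on generalizing Q f with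
  | h k ih =>
  rcases eq_or_lt_of_le hQP with rfl | hlt
  · exact ⟨1, Q.one_mem, Subgroup.one_mem _, fun y hy => by simp [h y hy]⟩
  have hPS := hf.le
  have := finite_of_le hPS
  set Q₁ := P ⊓ Subgroup.normalizer (Q : Set Ω) with hQ₁
  have hQQ₁ : Q ≤ Q₁ := le_inf hQP Subgroup.le_normalizer
  have hQ₁P : Q₁ ≤ P := inf_le_left
  have hlt' : Q < Q₁ := by
    refine lt_of_le_of_ne hQQ₁ fun he => ?_
    have := (hS.to_le hPS)
    have hl := lt_normalizerIn (S := P) this hlt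
    exact hl.ne he
  have himg : img g Q₁ ≤ img f Q₁ := by
    refine img_le_of_forall fun y hy => ?_
    have hyP := hQ₁P hy
    have hc : (f y)⁻¹ * g y ∈ centralizerIn S (img f Q) := by
      refine mem_centralizerIn.mpr ⟨S.mul_mem (S.inv_mem (hf.mem hyP)) (hg.mem hyP), fun z hz => ?_⟩
      obtain ⟨x, hx, rfl⟩ := (hf.mem_img_iff hQP).mp hz
      have hyx : y * x * y⁻¹ ∈ Q := (Subgroup.mem_normalizer_iff.mp hy.2 x).mp hx
      have h1 := hg.map_conj hyP (hQP hx)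
      rw [← h x hx, ← h _ hyx, hf.map_conj hyP (hQP hx)] at h1
      calc f x * ((f y)⁻¹ * g y) = (f y)⁻¹ * (f y * f x * (f y)⁻¹) * g y := by group
        _ = (f y)⁻¹ * g y * f x := by rw [h1]; group
    have := Subgroup.mul_mem _ (mem_img_of_mem (f := f) hy)
      (img_mono hQQ₁ (hQc.2 _ (hf.restrict hQP).isConj hc))
    rwa [mul_inv_cancel_left] at this
  obtain ⟨k', hk', hkf, hfk, -⟩ := (hf.restrict hQ₁P).exists_iso_inverse
  have hmem : ∀ y ∈ Q₁, g y ∈ img f Q₁ := fun y hy => himg (mem_img_of_mem hy)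
  have hψ : MapTo F Q₁ (fun y => k' (g y)) := (hg.restrict hQ₁P).comp hk' hmem
  have hψimg : img (fun y => k' (g y)) Q₁ = Q₁ := by
    have := finite_of_le (hQ₁P.trans hPS)
    refine img_eq_self_of_forall hψ fun y hy => ?_
    obtain ⟨x, hx, hxy⟩ := ((hf.restrict hQ₁P).mem_img_iff le_rfl).mp (hmem y hy)
    show k' (g y) ∈ Q₁
    rw [← hxy, hkf x hx]; exact hx
  have hfix : ∀ x ∈ Q, k' (g x) = x := fun x hx => by rw [← h x hx, hkf x (hQQ₁ hx)]
  obtain ⟨z, hz, hzc, hzy⟩ :=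
    exists_conj_of_fix_centric hS hF hQc hQQ₁ inf_le_right hψ hψimg hfix
  have hzP := hQP hz
  have hf' : MapTo F P (fun y => f (z * y * z⁻¹)) :=
    ((mapTo_cj hPS (hPS hzP)).comp hf fun y hy =>
      P.mul_mem (P.mul_mem hzP hy) (P.inv_mem hzP))
  have hagree : ∀ y ∈ Q₁, f (z * y * z⁻¹) = g y := fun y hy => by
    rw [← hzy y hy, hfk _ (hmem y hy)]
  obtain ⟨w, hw, hwc, hwy⟩ := ih _ (by
      have h1 : Nat.card Q < Nat.card Q₁ := by
        have := finite_of_le (hQ₁P.trans hPS)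
        refine lt_of_le_of_ne (Subgroup.card_le_of_le hQQ₁) fun he => ?_
        exact hlt'.ne (Subgroup.eq_of_le_of_card_ge hQQ₁ he.ge)
      have h2 : Nat.card Q₁ ≤ Nat.card P := Subgroup.card_le_of_le hQ₁P
      omega)
    (isCentric_mono hQc hQQ₁ (hQ₁P.trans hPS)) hQ₁P hf' hagree rfl
  have hwc' : w ∈ centralizerIn S Q := centralizerIn_anti hQQ₁ hwc
  have hwQ : w ∈ Q := centralizerIn_le_of_isCentric hQc hwc'
  refine ⟨z * w, Q.mul_mem hz hwQ, Subgroup.mul_mem _ hzc hwc', fun y hy => ?_⟩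
  rw [hwy y hy]
  refine congrArg f ?_
  group

end Cfsg.Agent.Fusion
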