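import Cfsg.Agent.Lib.Fusion.Model

/-!
The model theorem, existence: a saturated system with a normal centric subgroup has a model.
-/

set_option autoImplicit false

namespace Cfsg.Agent.Fusion

open Cfsg.FusionSystem (centralizerIn normalizerIn)

universe u v

variable {Ω : Type u} [Group Ω] {S : Subgroup Ω} {F : FusionSystem S} {Q : Subgroup Ω} {p : ℕ}
variable {X : Type v} [MulAction (S × S) X]

theorem ModelData.isFullyNormalized [Finite S] (D : ModelData F p Q X) : F.IsFullyNormalized Q := by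
  refine ⟨D.le, fun R hR => ?_⟩
  obtain ⟨f, hf, rfl⟩ := isConj_iff.mp hR
  rw [D.img_eq hf le_rfl]

/-- The data carried by the model built on a biset. -/
structure IsBisetModel (F : FusionSystem S) (p : ℕ) {Q : Subgroup Ω} (D : ModelData F p Q X)
    {G : Type*} [Group G] (ι : S →* G) (π : D.twistGrp →* G) : Prop where
  realized : F.IsRealizedBy ι
  sylow : ∃ T : Sylow p G, (T : Subgroup G) = ι.range
  centralizer : ∀ g : G, (∀ w : Q, g * ι (D.inc w) = ι (D.inc w) * g) →
    ∃ z : Subgroup.center Q, g = ι (D.inc z)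
  surj : Function.Surjective π
  fst : ∀ g, π g = 1 → (g : MulAut Q × Equiv.Perm X).1 = 1
  lift : ∀ (s : S) (g : D.twistGrp),
    (g : MulAut Q × Equiv.Perm X).2 = MulAction.toPerm ((s, 1) : S × S) →
    (∀ w : Q, D.inc ((g : MulAut Q × Equiv.Perm X).1 w) = s * D.inc w * s⁻¹) → π g = ι s
  card : Nat.card G = Nat.card (F.autGroup Q) * Nat.card (Subgroup.center Q)

theorem exists_bisetModel [Finite S] [Finite X] [Fact p.Prime] (hS : IsPGroup p S)
    (hF : F.IsSaturated p) (D : ModelData F p Q X) :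
    ∃ (G : Type max u v) (_ : Group G) (_ : Finite G) (ι : S →* G) (π : D.twistGrp →* G),
      IsBisetModel F p D ι π := by
  classical
  obtain ⟨τ, n, hn, hτz, hτeq⟩ := exists_coordHom hS D
  have := finite_of_le D.le
  have := finite_mulAut Q
  choose L hL2 hL1 using D.lm_mem
  have hLhom : ∀ s t, L (s * t) = L s * L t := fun s t => Subtype.ext <| Prod.ext
    (MulEquiv.ext fun w => Subgroup.inclusion_injective D.le (by
      show D.inc ((L (s * t) : MulAut Q × Equiv.Perm X).1 w) =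
        D.inc ((L s : MulAut Q × Equiv.Perm X).1 ((L t : MulAut Q × Equiv.Perm X).1 w))
      rw [hL1, hL1, hL1]; group))
    (by
      show (L (s * t) : MulAut Q × Equiv.Perm X).2 =
        (L s : MulAut Q × Equiv.Perm X).2 * (L t : MulAut Q × Equiv.Perm X).2
      rw [hL2, hL2, hL2]
      exact Equiv.ext fun x => (lm_lm s t x).symm)
  have hLc : ∀ z : Subgroup.center Q, L (D.inc z) ∈ D.kerTwist := fun z => by
    refine MulEquiv.ext fun w => Subgroup.inclusion_injective D.le ?_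
    show D.inc ((L (D.inc z) : MulAut Q × Equiv.Perm X).1 w) = D.inc w
    rw [hL1, ← _root_.map_inv, ← _root_.map_mul, ← _root_.map_mul,
      ← Subgroup.mem_center_iff.mp z.2 w, mul_inv_cancel_right]
  have hτL : ∀ z : Subgroup.center Q, τ ⟨L (D.inc z), hLc z⟩ = z ^ n := fun z =>
    hτz z _ (hL2 _)
  set M : Subgroup D.twistGrp := τ.ker.map D.kerTwist.subtype with hM
  have hMn : M.Normal := by
    refine ⟨?_⟩
    rintro _ ⟨g, hg, rfl⟩ u
    refine ⟨⟨u * g * u⁻¹, (inferInstance : D.kerTwist.Normal).conj_mem _ g.2 u⟩, ?_, rfl⟩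
    refine Subtype.ext ?_
    rw [hτeq u g _ rfl, (hg : τ g = 1)]
    simp
  let π := QuotientGroup.mk' M
  let ι : S →* D.twistGrp ⧸ M := π.comp (MonoidHom.mk' L hLhom)
  have hMker : M ≤ D.kerTwist := Subgroup.map_subtype_le _
  have hpow : ∀ z : Subgroup.center Q, ∃ y : Subgroup.center Q, y ^ n = z := by
    intro z
    obtain ⟨k, hk⟩ := (hS.to_le D.le) (z : Q)
    have hzk : z ^ p ^ k = 1 := Subtype.ext hk
    have hcop : Nat.Coprime n (orderOf z) :=
      ((((Fact.out : p.Prime).coprime_iff_not_dvd).mpr hn).symm.pow_right k).coprime_dvd_right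
        (orderOf_dvd_of_pow_eq_one hzk)
    obtain ⟨e, he⟩ := exists_pow_eq_self_of_coprime hcop
    exact ⟨z ^ e, by rw [← pow_mul, mul_comm, pow_mul]; exact he⟩
  have hker : ∀ g : D.twistGrp, g ∈ D.kerTwist → ∃ z : Subgroup.center Q, π g = ι (D.inc z) := by
    intro g hg
    obtain ⟨z, hz⟩ := hpow (τ ⟨g, hg⟩)
    refine ⟨z, QuotientGroup.eq.mpr ⟨⟨g, hg⟩⁻¹ * ⟨L (D.inc z), hLc z⟩, ?_, rfl⟩⟩
    show τ _ = 1
    rw [_root_.map_mul, _root_.map_inv, hτL, hz, inv_mul_cancel]
  have hιinj : Function.Injective ι := by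
    rw [← MonoidHom.ker_eq_bot_iff, eq_bot_iff]
    intro s hs
    obtain ⟨g, hg, hgs⟩ := (QuotientGroup.eq_one_iff _).mp (hs : π (L s) = 1)
    have h1 : (L s : MulAut Q × Equiv.Perm X).1 = 1 :=
      hMker ((QuotientGroup.eq_one_iff _).mp (hs : π (L s) = 1))
    obtain ⟨z, rfl⟩ := D.centralizes (s := s) fun w => by
      have h2 := hL1 s w
      rw [h1, MulAut.one_apply] at h2
      conv_rhs => rw [h2]
      group
    obtain rfl : g = ⟨L (D.inc z), hLc z⟩ := Subtype.ext hgs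
    have hzn : z ^ n = 1 := (hτL z).symm.trans hg
    obtain ⟨k, hk⟩ := (hS.to_le D.le) (z : Q)
    have hz1 : z = 1 := orderOf_eq_one_iff.mp (Nat.eq_one_of_dvd_coprimes
      ((((Fact.out : p.Prime).coprime_iff_not_dvd).mpr hn).symm.pow_right k)
      (orderOf_dvd_of_pow_eq_one hzn) (orderOf_dvd_of_pow_eq_one (Subtype.ext hk)))
    rw [Subgroup.mem_bot, hz1, Subgroup.coe_one, _root_.map_one]
  -- twisting a left translation
  have hconj : ∀ (u : D.twistGrp) (a b : S),
      (∀ x, (u : MulAut Q × Equiv.Perm X).2 (lm a x) =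
        lm b ((u : MulAut Q × Equiv.Perm X).2 x)) →
      (∀ w, (u : MulAut Q × Equiv.Perm X).1 ((L a : MulAut Q × Equiv.Perm X).1 w) =
        (L b : MulAut Q × Equiv.Perm X).1 ((u : MulAut Q × Equiv.Perm X).1 w)) →
      π u * ι a = ι b * π u := by
    intro u a b h2 h1
    show π u * π (L a) = π (L b) * π u
    rw [← _root_.map_mul, ← _root_.map_mul]
    refine congrArg π (Subtype.ext (Prod.ext (MulEquiv.ext h1) (Equiv.ext fun x => ?_)))
    show (u : MulAut Q × Equiv.Perm X).2 ((L a : MulAut Q × Equiv.Perm X).2 x) =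
      (L b : MulAut Q × Equiv.Perm X).2 ((u : MulAut Q × Equiv.Perm X).2 x)
    rw [hL2, hL2]
    exact h2 x
  have hconjQ : ∀ (u : D.twistGrp) (w : Q),
      π u * ι (D.inc w) = ι (D.inc ((u : MulAut Q × Equiv.Perm X).1 w)) * π u := by
    intro u w
    refine hconj u _ _ (u.2.2.2 w) fun v => Subgroup.inclusion_injective D.le ?_
    show D.inc _ = D.inc _
    rw [hL1]
    have h3 : (L (D.inc w) : MulAut Q × Equiv.Perm X).1 v = w * v * w⁻¹ :=
      Subgroup.inclusion_injective D.le (by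
        show D.inc _ = D.inc _
        rw [hL1, _root_.map_mul, _root_.map_mul, _root_.map_inv])
    rw [h3]
    simp only [_root_.map_mul, _root_.map_inv]
  have hcent : ∀ g : D.twistGrp ⧸ M, (∀ w : Q, g * ι (D.inc w) = ι (D.inc w) * g) →
      ∃ z : Subgroup.center Q, g = ι (D.inc z) := by
    intro g hg
    obtain ⟨u, rfl⟩ := QuotientGroup.mk'_surjective M g
    refine hker u (MulEquiv.ext fun w => Subgroup.inclusion_injective D.le (hιinj ?_))
    exact mul_right_cancel ((hconjQ u w).symm.trans (hg w))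
  -- every map with source containing `Q` gives an element
  have hexists : ∀ {P : Subgroup Ω} {f : Ω → Ω} (hf : MapTo F P f), Q ≤ P →
      ∃ u : D.twistGrp, (∀ w : Q, ((u : MulAut Q × Equiv.Perm X).1 w : Ω) = f w) ∧
        ∀ (a : Ω) (ha : a ∈ P),
          π u * ι ⟨a, hf.le ha⟩ = ι ⟨f a, hf.mem ha⟩ * π u := by
    intro P f hf hQP
    obtain ⟨e, he1, he2⟩ := D.translate P f hf hQP
    have himg := D.img_eq hf hQP
    have htw : D.Twist (autOf (hf.restrict hQP) himg) e :=
      ⟨autOf_mem _ _, he1, fun w x => he2 w (hQP w.2) x⟩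
    have hQn : ∀ a ∈ P, ∀ w : Q, a * (w : Ω) * a⁻¹ ∈ Q := fun a ha w =>
      StronglyClosed.conj_mem (IsNormal.stronglyClosed D.normal) (hf.le ha) w.2
    refine ⟨⟨(_, e), htw⟩, fun w => rfl, fun a ha => hconj _ _ _ (he2 a ha) fun w => ?_⟩
    refine Subtype.ext ?_
    show f ((L ⟨a, hf.le ha⟩ : MulAut Q × Equiv.Perm X).1 w : Ω) = _
    have h1 : ∀ (s : S) (v : Q), (((L s : MulAut Q × Equiv.Perm X).1 v : Q) : Ω) =
        (s : Ω) * v * (s : Ω)⁻¹ := fun s v => congrArg Subtype.val (hL1 s v)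
    rw [h1, h1, hf.map_conj ha (hQP w.2)]
    rfl
  have hreal : F.IsRealizedBy ι := by
    refine ⟨hιinj, fun P hP φ hφ => ⟨fun hmem => ?_, ?_⟩⟩
    · obtain ⟨g, hg, hgf, -⟩ := (isNormal_iff.mp D.normal).2 P _ (mapTo_ev hmem)
      obtain ⟨u, -, hu⟩ := hexists hg le_sup_right
      refine ⟨π u, fun x => ?_⟩
      rw [eq_mul_inv_iff_mul_eq]
      have h1 := hu x (Subgroup.mem_sup_left x.2)
      rw [h1]
      congr 2
      exact Subtype.ext (((hgf x x.2).trans (ev_coe φ x)).symm)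
    · rintro ⟨g, hg⟩
      obtain ⟨u, rfl⟩ := QuotientGroup.mk'_surjective M g
      replace hg : ∀ x : P, ι ⟨φ x, hφ x⟩ = π u * ι ⟨x, hP x.2⟩ * (π u)⁻¹ := hg
      set β := (u : MulAut Q × Equiv.Perm X).1 with hβ
      have hm := mapTo_of_mem_autGroup D.le u.2.1
      have hrec := isReceptive_of_isFullyNormalized hS hF D.isFullyNormalized
      obtain ⟨γ, hγ, hγβ⟩ := (isReceptive_iff.mp hrec).2 Q _ hm (img_autFun β)
      have hsub : P ⊔ Q ≤ extSub S hm := by
        refine sup_le (fun a ha => ?_) (le_extSub hm)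
        refine ⟨⟨hP ha, IsNormal.le_normalizer D.normal (hP ha)⟩,
          φ ⟨a, ha⟩, hφ _, fun y hy => ?_⟩
        have hconj' : a * y * a⁻¹ ∈ Q :=
          StronglyClosed.conj_mem (IsNormal.stronglyClosed D.normal) (hP ha) hy
        have h1 : ι (D.inc (β ⟨a * y * a⁻¹, hconj'⟩)) =
            ι ((⟨φ ⟨a, ha⟩, hφ _⟩ : S) * D.inc (β ⟨y, hy⟩) * (⟨φ ⟨a, ha⟩, hφ _⟩ : S)⁻¹) := by
          have e1 : D.inc ⟨a * y * a⁻¹, hconj'⟩ =
              (⟨a, hP ha⟩ : S) * D.inc ⟨y, hy⟩ * (⟨a, hP ha⟩ : S)⁻¹ := rfl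
          have e2 := hg ⟨a, ha⟩
          rw [_root_.map_mul, _root_.map_mul, _root_.map_inv, e2]
          refine mul_right_cancel (b := π u) ?_
          rw [← hconjQ u, e1, _root_.map_mul, _root_.map_mul, _root_.map_inv]
          have e3 := hconjQ u ⟨y, hy⟩
          calc π u * (ι ⟨a, hP ha⟩ * ι (D.inc ⟨y, hy⟩) * (ι ⟨a, hP ha⟩)⁻¹)
              = π u * ι ⟨a, hP ha⟩ * (π u)⁻¹ * (π u * ι (D.inc ⟨y, hy⟩)) *
                  (ι ⟨a, hP ha⟩)⁻¹ := by group
            _ = _ := by rw [e3, hβ]; group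
        have h2 := congrArg Subtype.val (hιinj h1)
        rw [autFun_apply β hconj', autFun_apply β hy]
        exact h2
      obtain ⟨u', hu'1, hu'⟩ := hexists (hγ.restrict hsub) le_sup_right
      have hu'β : (u' : MulAut Q × Equiv.Perm X).1 = β := MulEquiv.ext fun w => Subtype.ext (by
        rw [hu'1 w, hγβ w w.2, autFun_coe])
      obtain ⟨z, hz⟩ := hker (u * u'⁻¹) (by
        show (u : MulAut Q × Equiv.Perm X).1 * (u' : MulAut Q × Equiv.Perm X).1⁻¹ = 1
        rw [hu'β, mul_inv_cancel])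
      have hzS : ((D.inc z : S) : Ω) ∈ S := (D.inc z).2
      refine ((hγ.restrict (le_sup_left.trans hsub)).comp
        (mapTo_cj (F := F) le_rfl hzS) fun x hx => hγ.mem (hsub (Subgroup.mem_sup_left hx))).hom_mem
        fun x => ?_
      have hx' := Subgroup.mem_sup_left (T := Q) x.2
      have h1 : ι ⟨φ x, hφ x⟩ = ι (D.inc z * ⟨γ x, hγ.mem (hsub hx')⟩ * (D.inc z)⁻¹) := by
        rw [hg x, _root_.map_mul, _root_.map_mul, _root_.map_inv, ← hz, _root_.map_mul,
          _root_.map_inv]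
        have h2 := hu' x hx'
        calc π u * ι ⟨x, hP x.2⟩ * (π u)⁻¹
            = π u * (π u')⁻¹ * (π u' * ι ⟨x, hP x.2⟩) * (π u)⁻¹ := by group
          _ = _ := by rw [h2]; group
      exact congrArg Subtype.val (hιinj h1)
  -- projection to the automizer
  let pr : D.twistGrp ⧸ M →* F.autGroup Q := QuotientGroup.lift M
    (((MonoidHom.fst _ _).comp D.twistGrp.subtype).codRestrict (F.autGroup Q) fun u => u.2.1)
    fun u hu => Subtype.ext (hMker hu)
  have hprsurj : Function.Surjective pr := by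
    rintro ⟨β, hβ⟩
    obtain ⟨u, hu1, -⟩ := hexists (mapTo_of_mem_autGroup D.le hβ) le_rfl
    exact ⟨π u, Subtype.ext (MulEquiv.ext fun w => Subtype.ext (by
      show (((u : MulAut Q × Equiv.Perm X).1 w : Q) : Ω) = _
      rw [hu1, autFun_coe]))⟩
  have hprker : pr.ker = (Subgroup.center Q).map (ι.comp D.inc) := by
    refine le_antisymm (fun g hg => ?_) ?_
    · obtain ⟨u, rfl⟩ := QuotientGroup.mk'_surjective M g
      obtain ⟨z, hz⟩ := hker u (congrArg Subtype.val (hg : pr (π u) = 1))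
      exact ⟨z, z.2, hz.symm⟩
    · rintro _ ⟨z, hz, rfl⟩
      exact Subtype.ext (hLc ⟨z, hz⟩)
  have hindex : ι.range.index = (autInducedBy S Q).relIndex (F.autGroup Q) := by
    have hker' : pr.ker ≤ ι.range := by
      rw [hprker]
      rintro _ ⟨z, -, rfl⟩
      exact ⟨D.inc z, rfl⟩
    rw [← Subgroup.index_map_eq _ hprsurj hker', Subgroup.relIndex]
    congr 1
    ext ⟨β, hβ⟩
    constructor
    · rintro ⟨_, ⟨s, rfl⟩, he⟩
      show β ∈ autInducedBy S Q
      obtain rfl : (pr (ι s) : MulAut Q) = β := congrArg Subtype.val he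
      exact mem_autInducedBy_iff.mpr ⟨s, s.2, fun w => congrArg Subtype.val (hL1 s w)⟩
    · intro h
      obtain ⟨s, hs, hsw⟩ := mem_autInducedBy_iff.mp (h : β ∈ autInducedBy S Q)
      refine ⟨ι ⟨s, hs⟩, ⟨_, rfl⟩, Subtype.ext (MulEquiv.ext fun w => Subtype.ext ?_)⟩
      exact (congrArg Subtype.val (hL1 ⟨s, hs⟩ w)).trans (hsw w).symm
  have hfin : Finite (D.twistGrp ⧸ M) := inferInstance
  refine ⟨D.twistGrp ⧸ M, inferInstance, hfin, ι, π, hreal, ?_, hcent,
    QuotientGroup.mk'_surjective M, fun g hg => hMker ((QuotientGroup.eq_one_iff g).mp hg), ?_, ?_⟩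
  · refine ⟨(IsPGroup.of_surjective hS ι.rangeRestrict ι.rangeRestrict_surjective).toSylow ?_, rfl⟩
    rw [hindex]
    exact ((isFullyAutomized_iff hS).mp
      (isFullyAutomized_of_isFullyNormalized hS hF D.isFullyNormalized)).2
  · intro s g hg2 hg1
    refine congrArg π (Subtype.ext (Prod.ext (MulEquiv.ext fun w =>
      Subgroup.inclusion_injective D.le ((hg1 w).trans (hL1 s w).symm)) (hg2.trans (hL2 s).symm)))
  · rw [Subgroup.card_eq_card_quotient_mul_card_subgroup pr.ker,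
      Nat.card_congr (QuotientGroup.quotientKerEquivOfSurjective pr hprsurj).toEquiv, hprker,
      Subgroup.card_map_of_injective (f := ι.comp D.inc) (hιinj.comp (Subgroup.inclusion_injective D.le))]

theorem IsBisetModel.isModel {G : Type*} [Group G] [Finite G] [Finite S] [Fact p.Prime]
    {D : ModelData F p Q X} {ι : S →* G} {π : D.twistGrp →* G} (h : IsBisetModel F p D ι π) :
    F.IsModel p G ι := by
  refine ⟨inferInstance, h.realized, h.sylow, fun g hg => ?_⟩
  obtain ⟨T, hT⟩ := h.sylow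
  have hnorm : ((Q.subgroupOf S).map ι).Normal := by
    refine ⟨?_⟩
    rintro _ ⟨w, hw, rfl⟩ g
    obtain ⟨u, rfl⟩ := h.surj g
    have hwQ : (w : Ω) ∈ Q := hw
    refine ⟨D.inc ((u : MulAut Q × Equiv.Perm X).1 ⟨w, hwQ⟩), ((u : MulAut Q × Equiv.Perm X).1 ⟨w, hwQ⟩).2, ?_⟩
    obtain ⟨lw, hlw2, hlw1⟩ := D.lm_mem w
    obtain ⟨lb, hlb2, hlb1⟩ := D.lm_mem (D.inc ((u : MulAut Q × Equiv.Perm X).1 ⟨w, hwQ⟩))
    rw [← h.lift w lw hlw2 hlw1, ← h.lift _ lb hlb2 hlb1, eq_mul_inv_iff_mul_eq,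
      ← _root_.map_mul, ← _root_.map_mul]
    refine congrArg π (Subtype.ext (Prod.ext (MulEquiv.ext fun v => ?_) (Equiv.ext fun x => ?_)))
    · refine Subgroup.inclusion_injective D.le ?_
      show D.inc _ = D.inc _
      rw [show (((lb * u : D.twistGrp) : MulAut Q × Equiv.Perm X).1 v) =
        (lb : MulAut Q × Equiv.Perm X).1 ((u : MulAut Q × Equiv.Perm X).1 v) from rfl,
        show (((u * lw : D.twistGrp) : MulAut Q × Equiv.Perm X).1 v) =
        (u : MulAut Q × Equiv.Perm X).1 ((lw : MulAut Q × Equiv.Perm X).1 v) from rfl,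
        hlb1, show (lw : MulAut Q × Equiv.Perm X).1 v = ⟨w, hwQ⟩ * v * ⟨w, hwQ⟩⁻¹ from
          Subgroup.inclusion_injective D.le (by
            show D.inc _ = D.inc _
            rw [hlw1, _root_.map_mul, _root_.map_mul, _root_.map_inv]; rfl)]
      simp only [_root_.map_mul, _root_.map_inv]
    · show (lb : MulAut Q × Equiv.Perm X).2 ((u : MulAut Q × Equiv.Perm X).2 x) =
        (u : MulAut Q × Equiv.Perm X).2 ((lw : MulAut Q × Equiv.Perm X).2 x)
      rw [hlw2, hlb2]
      exact (u.2.2.2 ⟨w, hwQ⟩ x).symm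
  have hp : IsPGroup p ((Q.subgroupOf S).map ι) :=
    (T.isPGroup'.to_le (hT.symm ▸ by rintro _ ⟨w, -, rfl⟩; exact ⟨w, rfl⟩))
  have hle := le_pCore hnorm hp
  obtain ⟨z, rfl⟩ := h.centralizer g fun w =>
    (Subgroup.mem_centralizer_iff.mp hg _ (hle ⟨D.inc w, w.2, rfl⟩)).symm
  exact hle ⟨D.inc z, (z : Q).2, rfl⟩

/-- The model data of a stable biset. -/
theorem IsStableBiset.modelData [Finite S] [Fact p.Prime] {X : FSet (S.prod S)}
    (hX : IsStableBiset F X) (hQn : F.IsNormal Q) (hQc : F.IsCentric Q) {m : ℕ} (hm : ¬ p ∣ m)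
    (hcard : Nat.card X.carrier ≡ m * Nat.card S [MOD p * Nat.card S]) :
    letI := pairAct X
    ModelData F p Q X.carrier :=
  let _ := pairAct X
  ⟨hQn, hQc, hX.free, hX.fix_iff, fun _ _ hf _ => hX.translate hf, m, hm, hcard⟩

/-- Existence of models. -/
theorem exists_model [Finite S] [Fact p.Prime] (hS : IsPGroup p S) (hF : F.IsConstrained p) :
    ∃ (G : Type u) (_ : Group G) (ι : S →* G), F.IsModel p G ι := by
  obtain ⟨hsat, Q, hQn, hQc⟩ := hF
  obtain ⟨X, m, hX, hm, hcard⟩ := exists_stableBiset hS hsat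
  let := pairAct X
  obtain ⟨G, _, _, ι, π, h⟩ :=
    exists_bisetModel hS hsat (hX.modelData hQn hQc hm hcard)
  exact ⟨G, inferInstance, ι, h.isModel⟩

end Cfsg.Agent.Fusion
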