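import Cfsg.Agent.Lib.Fusion.Aut

/-!
Normal and central subgroups of a fusion system, normalizer and centralizer systems, strongly
closed subgroups.
-/

set_option autoImplicit false

namespace Cfsg.Agent.Fusion

open Cfsg.FusionSystem (centralizerIn normalizerIn)

variable {Ω : Type*} [Group Ω] {S : Subgroup Ω}
variable {F : FusionSystem S} {P Q R : Subgroup Ω} {f g : Ω → Ω}

theorem MapTo.img_sup {A B : Subgroup Ω} (h : MapTo F P f) (hA : A ≤ P) (hB : B ≤ P) :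
    img f (A ⊔ B) = img f A ⊔ img f B := by
  obtain ⟨φ, -, hφ⟩ := h
  rw [← map_subgroupOf_eq_img hφ (sup_le hA hB), ← map_subgroupOf_eq_img hφ hA,
    ← map_subgroupOf_eq_img hφ hB, Subgroup.subgroupOf_sup hA hB, Subgroup.map_sup]

theorem isNormal_iff : F.IsNormal Q ↔ Q ≤ S ∧ ∀ (P : Subgroup Ω) (f : Ω → Ω), MapTo F P f →
    ∃ g, MapTo F (P ⊔ Q) g ∧ (∀ x ∈ P, g x = f x) ∧ img g Q = Q := by
  refine and_congr_right fun _ => ⟨fun h P f hf => ?_, fun h P φ hφ => ?_⟩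
  · obtain ⟨φ, hφ, hφf⟩ := hf
    obtain ⟨ψ, hψ, hψφ, hψQ⟩ := h P φ hφ
    refine ⟨ev ψ, mapTo_ev hψ, fun x hx => ?_, ?_⟩
    · rw [← hφf ⟨x, hx⟩, ← hψφ, ← ev_coe ψ (Subgroup.inclusion le_sup_left ⟨x, hx⟩)]
      rfl
    · rwa [← map_subgroupOf_eq_img (fun x => (ev_coe ψ x).symm) le_sup_right]
  · obtain ⟨g, ⟨ψ, hψ, hψg⟩, hgf, hgQ⟩ := h P (ev φ) (mapTo_ev hφ)
    refine ⟨ψ, hψ, fun x => ?_, ?_⟩
    · rw [hψg, Subgroup.coe_inclusion, hgf _ x.2, ev_coe]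
    · rwa [map_subgroupOf_eq_img hψg le_sup_right]

theorem isCentral_iff : F.IsCentral Q ↔ Q ≤ S ∧ ∀ (P : Subgroup Ω) (f : Ω → Ω), MapTo F P f →
    ∃ g, MapTo F (P ⊔ Q) g ∧ (∀ x ∈ P, g x = f x) ∧ ∀ x ∈ Q, g x = x := by
  refine and_congr_right fun _ => ⟨fun h P f hf => ?_, fun h P φ hφ => ?_⟩
  · obtain ⟨φ, hφ, hφf⟩ := hf
    obtain ⟨ψ, hψ, hψφ, hψQ⟩ := h P φ hφ
    refine ⟨ev ψ, mapTo_ev hψ, fun x hx => ?_, fun x hx => ?_⟩
    · rw [← hφf ⟨x, hx⟩, ← hψφ, ← ev_coe ψ (Subgroup.inclusion le_sup_left ⟨x, hx⟩)]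
      rfl
    · exact (ev_apply ψ ((le_sup_right : Q ≤ P ⊔ Q) hx)).trans (hψQ ⟨x, hx⟩)
  · obtain ⟨g, ⟨ψ, hψ, hψg⟩, hgf, hgQ⟩ := h P (ev φ) (mapTo_ev hφ)
    refine ⟨ψ, hψ, fun x => ?_, fun x => ?_⟩
    · rw [hψg, Subgroup.coe_inclusion, hgf _ x.2, ev_coe]
    · rw [hψg]; exact hgQ x x.2

theorem isNormal_bot (F : FusionSystem S) : F.IsNormal ⊥ :=
  isNormal_iff.mpr ⟨bot_le, fun P f hf =>
    ⟨f, by rwa [sup_bot_eq], fun _ _ => rfl, hf.img_bot⟩⟩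

theorem isNormal_sup {Q₁ Q₂ : Subgroup Ω} (h₁ : F.IsNormal Q₁) (h₂ : F.IsNormal Q₂) :
    F.IsNormal (Q₁ ⊔ Q₂) := by
  refine isNormal_iff.mpr ⟨sup_le h₁.1 h₂.1, fun P f hf => ?_⟩
  obtain ⟨g₁, hg₁, hgf, hQ₁⟩ := (isNormal_iff.mp h₁).2 P f hf
  obtain ⟨g₂, hg₂, hgg, hQ₂⟩ := (isNormal_iff.mp h₂).2 _ g₁ hg₁
  refine ⟨g₂, by rwa [← sup_assoc],
    fun x hx => (hgg x ((le_sup_left : P ≤ P ⊔ Q₁) hx)).trans (hgf x hx), ?_⟩
  rw [hg₂.img_sup (le_sup_right.trans le_sup_left) le_sup_right, hQ₂,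
    img_congr fun x hx => hgg x ((le_sup_right : Q₁ ≤ P ⊔ Q₁) hx), hQ₁]

theorem isCentral_bot (F : FusionSystem S) : F.IsCentral ⊥ :=
  isCentral_iff.mpr ⟨bot_le, fun P f hf => ⟨f, by rwa [sup_bot_eq], fun _ _ => rfl,
    fun x hx => by rw [Subgroup.mem_bot.mp hx]; exact hf.map_one⟩⟩

theorem isCentral_sup {Q₁ Q₂ : Subgroup Ω} (h₁ : F.IsCentral Q₁) (h₂ : F.IsCentral Q₂) :
    F.IsCentral (Q₁ ⊔ Q₂) := by
  refine isCentral_iff.mpr ⟨sup_le h₁.1 h₂.1, fun P f hf => ?_⟩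
  obtain ⟨g₁, hg₁, hgf, hQ₁⟩ := (isCentral_iff.mp h₁).2 P f hf
  obtain ⟨g₂, hg₂, hgg, hQ₂⟩ := (isCentral_iff.mp h₂).2 _ g₁ hg₁
  refine ⟨g₂, by rwa [← sup_assoc],
    fun x hx => (hgg x ((le_sup_left : P ≤ P ⊔ Q₁) hx)).trans (hgf x hx), fun x hx => ?_⟩
  rw [Subgroup.sup_eq_closure] at hx
  have hle : ∀ y ∈ Q₁ ⊔ Q₂, y ∈ P ⊔ Q₁ ⊔ Q₂ :=
    fun y hy => (sup_le (le_sup_right.trans le_sup_left) le_sup_right : Q₁ ⊔ Q₂ ≤ _) hy
  induction hx using Subgroup.closure_induction with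
  | mem y hy =>
      rcases hy with hy | hy
      · exact (hgg y ((le_sup_right : Q₁ ≤ P ⊔ Q₁) hy)).trans (hQ₁ y hy)
      · exact hQ₂ y hy
  | one => exact hg₂.map_one
  | mul a b ha hb hfa hfb =>
      rw [← Subgroup.sup_eq_closure] at ha hb
      rw [hg₂.map_mul (hle a ha) (hle b hb), hfa, hfb]
  | inv a ha hfa =>
      rw [← Subgroup.sup_eq_closure] at ha
      rw [hg₂.map_inv (hle a ha), hfa]

theorem finite_subgroups_le [Finite S] : Finite {Q : Subgroup Ω // Q ≤ S} :=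
  Finite.of_injective (fun Q => Q.1.subgroupOf S) fun A B hAB => Subtype.ext (by
    have h' := congrArg (Subgroup.map S.subtype) hAB
    simpa [Subgroup.map_subgroupOf_eq_of_le, A.2, B.2] using h')

theorem sSup_mem_of_sup_closed [Finite S] {p : Subgroup Ω → Prop} (hle : ∀ Q, p Q → Q ≤ S)
    (hbot : p ⊥) (hsup : ∀ A B, p A → p B → p (A ⊔ B)) : p (sSup {Q | p Q}) := by
  have hfin : {Q : Subgroup Ω | p Q}.Finite := by
    have := finite_subgroups_le (S := S)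
    have : Finite {Q : Subgroup Ω | Q ≤ S} := this
    exact (Set.toFinite {Q : Subgroup Ω | Q ≤ S}).subset hle
  obtain ⟨M, hM, hmax⟩ := hfin.exists_maximal ⟨⊥, hbot⟩
  have hle' : sSup {Q | p Q} = M := by
    refine le_antisymm (sSup_le fun Q hQ => ?_) (le_sSup hM)
    exact le_sup_right.trans (hmax (hsup M Q hM hQ) le_sup_left)
  rwa [hle']

theorem isNormal_core [Finite S] (F : FusionSystem S) : F.IsNormal F.core :=
  sSup_mem_of_sup_closed (fun _ h => h.1) (isNormal_bot F) fun _ _ => isNormal_sup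

theorem isCentral_center [Finite S] (F : FusionSystem S) : F.IsCentral F.center :=
  sSup_mem_of_sup_closed (fun _ h => h.1) (isCentral_bot F) fun _ _ => isCentral_sup

/-! ### Normal and central subgroups are strongly closed -/

theorem stronglyClosed_iff : F.StronglyClosed P ↔ P ≤ S ∧
    ∀ (R : Subgroup Ω) (f : Ω → Ω), R ≤ P → MapTo F R f → ∀ x ∈ R, f x ∈ P := by
  refine and_congr_right fun _ => ⟨fun h R f hR hf x hx => ?_, fun h R hR φ hφ x => ?_⟩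
  · obtain ⟨φ, hφ, hφf⟩ := hf
    rw [← hφf ⟨x, hx⟩]
    exact h R hR φ hφ ⟨x, hx⟩
  · rw [← ev_coe φ x]
    exact h R (ev φ) hR (mapTo_ev hφ) x x.2

theorem StronglyClosed.map_mem (h : F.StronglyClosed P) {f : Ω → Ω} (hf : MapTo F R f) {x : Ω}
    (hx : x ∈ R) (hxP : x ∈ P) : f x ∈ P :=
  (stronglyClosed_iff.mp h).2 _ f inf_le_right (hf.restrict inf_le_left) x ⟨hx, hxP⟩

theorem IsNormal.stronglyClosed (h : F.IsNormal Q) : F.StronglyClosed Q := by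
  refine stronglyClosed_iff.mpr ⟨h.1, fun R f hR hf x hx => ?_⟩
  obtain ⟨g, -, hgf, hgQ⟩ := (isNormal_iff.mp h).2 R f hf
  rw [← hgf x hx, ← hgQ]
  exact mem_img_of_mem (hR hx)

theorem StronglyClosed.conj_mem (h : F.StronglyClosed Q) {s x : Ω} (hs : s ∈ S) (hx : x ∈ Q) :
    s * x * s⁻¹ ∈ Q :=
  StronglyClosed.map_mem h (mapTo_cj h.1 hs) hx hx

theorem StronglyClosed.le_normalizer [Finite S] (h : F.StronglyClosed Q) :
    S ≤ Subgroup.normalizer (Q : Set Ω) := fun _ hs =>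
  (mem_normalizerIn_of_forall h.1 hs fun _ hy => StronglyClosed.conj_mem h hs hy).2

theorem StronglyClosed.img_eq [Finite S] (h : F.StronglyClosed Q) (hf : MapTo F R f)
    (hQR : Q ≤ R) : img f Q = Q := by
  have := finite_of_le h.1
  exact img_eq_self_of_forall (hf.restrict hQR) fun x hx => StronglyClosed.map_mem h hf (hQR hx) hx

theorem IsNormal.le_normalizer (h : F.IsNormal Q) : S ≤ Subgroup.normalizer (Q : Set Ω) := by
  intro s hs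
  obtain ⟨g, -, hgf, hgQ⟩ := (isNormal_iff.mp h).2 S _ (mapTo_cj le_rfl hs)
  rw [Subgroup.mem_normalizer_iff_map_conj_eq]
  have he : img (cj s) Q = Q := by
    rw [← img_congr fun x hx => hgf x (h.1 hx), hgQ]
  rw [img_cj] at he
  exact he

theorem IsCentral.isNormal (h : F.IsCentral Q) : F.IsNormal Q := by
  refine isNormal_iff.mpr ⟨h.1, fun P f hf => ?_⟩
  obtain ⟨g, hg, hgf, hgQ⟩ := (isCentral_iff.mp h).2 P f hf
  exact ⟨g, hg, hgf, by rw [img_congr hgQ, img_id]⟩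

/-! ### Normalizer and centralizer systems -/

theorem mem_normalizerHom_iff {φ : P →* Ω} (hφ : ∀ x : P, φ x = f x) :
    φ ∈ F.normalizerHom Q P ↔ P ≤ normalizerIn S Q ∧ (∀ x ∈ P, f x ∈ normalizerIn S Q) ∧
      ∃ g, MapTo F (P ⊔ Q) g ∧ (∀ x ∈ P, g x = f x) ∧ img g Q = Q := by
  constructor
  · rintro ⟨-, hP, hmem, ψ, hψ, hψφ, hψQ⟩
    refine ⟨hP, fun x hx => hφ ⟨x, hx⟩ ▸ hmem ⟨x, hx⟩, ev ψ, mapTo_ev hψ, fun x hx => ?_, ?_⟩
    · rw [← hφ ⟨x, hx⟩, ← hψφ, ← ev_coe ψ (Subgroup.inclusion le_sup_left ⟨x, hx⟩)]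
      rfl
    · rwa [← map_subgroupOf_eq_img (fun x => (ev_coe ψ x).symm) le_sup_right]
  · rintro ⟨hP, hmem, g, hg, hgf, hgQ⟩
    refine ⟨((hg.restrict le_sup_left).congr' fun x hx => (hgf x hx).symm).hom_mem hφ, hP,
      fun x => hφ x ▸ hmem x x.2, ?_⟩
    obtain ⟨ψ, hψ, hψg⟩ := hg
    refine ⟨ψ, hψ, fun x => ?_, ?_⟩
    · rw [hψg, Subgroup.coe_inclusion, hgf _ x.2, hφ]
    · rwa [map_subgroupOf_eq_img hψg le_sup_right]

theorem mem_centralizerHom_iff {φ : P →* Ω} (hφ : ∀ x : P, φ x = f x) :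
    φ ∈ F.centralizerHom Q P ↔ P ≤ centralizerIn S Q ∧ (∀ x ∈ P, f x ∈ centralizerIn S Q) ∧
      ∃ g, MapTo F (P ⊔ Q) g ∧ (∀ x ∈ P, g x = f x) ∧ ∀ x ∈ Q, g x = x := by
  constructor
  · rintro ⟨-, hP, hmem, ψ, hψ, hψφ, hψQ⟩
    refine ⟨hP, fun x hx => hφ ⟨x, hx⟩ ▸ hmem ⟨x, hx⟩, ev ψ, mapTo_ev hψ, fun x hx => ?_,
      fun x hx => ?_⟩
    · rw [← hφ ⟨x, hx⟩, ← hψφ, ← ev_coe ψ (Subgroup.inclusion le_sup_left ⟨x, hx⟩)]
      rfl
    · exact (ev_apply ψ ((le_sup_right : Q ≤ P ⊔ Q) hx)).trans (hψQ ⟨x, hx⟩)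
  · rintro ⟨hP, hmem, g, hg, hgf, hgQ⟩
    refine ⟨((hg.restrict le_sup_left).congr' fun x hx => (hgf x hx).symm).hom_mem hφ, hP,
      fun x => hφ x ▸ hmem x x.2, ?_⟩
    obtain ⟨ψ, hψ, hψg⟩ := hg
    refine ⟨ψ, hψ, fun x => ?_, fun x => ?_⟩
    · rw [hψg, Subgroup.coe_inclusion, hgf _ x.2, hφ]
    · rw [hψg]; exact hgQ x x.2

/-- The normalizer system `N_F(Q)`. -/
def nSys (F : FusionSystem S) (hQ : Q ≤ S) : FusionSystem (normalizerIn S Q) where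
  Hom P := F.normalizerHom Q P
  le_of_mem h := ⟨h.2.1, h.2.2.1⟩
  injective_of_mem h := F.injective_of_mem h.1
  conj_mem := by
    intro P g hP hg
    refine (mem_normalizerHom_iff (f := cj g) fun _ => rfl).mpr ⟨hP, fun x hx => ?_, cj g,
      mapTo_cj (sup_le (hP.trans normalizerIn_le) hQ) hg.1, fun _ _ => rfl, ?_⟩
    · exact Subgroup.mul_mem _ (Subgroup.mul_mem _ hg (hP hx)) (Subgroup.inv_mem _ hg)
    · rw [img_cj]
      exact Subgroup.mem_normalizer_iff_map_conj_eq.mp hg.2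
  comp_mem := by
    intro P R φ ψ hφ hψ hR
    obtain ⟨hP, -, g₁, hg₁, hg₁φ, hg₁Q⟩ :=
      (mem_normalizerHom_iff fun x => (ev_coe φ x).symm).mp hφ
    obtain ⟨-, hψm, g₂, hg₂, hg₂ψ, hg₂Q⟩ :=
      (mem_normalizerHom_iff fun x => (ev_coe ψ x).symm).mp hψ
    have hmem : ∀ x ∈ P, ev φ x ∈ R := fun x hx => ev_apply φ hx ▸ hR ⟨x, hx⟩
    refine (mem_normalizerHom_iff (f := fun x => ev ψ (ev φ x)) fun x => ?_).mpr
      ⟨hP, fun x hx => hψm _ (hmem x hx), fun x => g₂ (g₁ x), hg₁.comp hg₂ fun x hx => ?_,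
        fun x hx => ?_, ?_⟩
    · show ψ _ = ev ψ (ev φ x)
      rw [ev_coe, ev_apply ψ (hR x)]; rfl
    · refine ?_
      have : img g₁ (P ⊔ Q) ≤ R ⊔ Q := by
        rw [hg₁.img_sup le_sup_left le_sup_right, hg₁Q]
        exact sup_le_sup_right (img_le_of_forall fun y hy => (hg₁φ y hy).symm ▸ hmem y hy) Q
      exact this (mem_img_of_mem hx)
    · show g₂ (g₁ x) = _
      rw [hg₁φ x hx, hg₂ψ _ (hmem x hx)]
    · rw [← hg₁.img_img le_sup_right, hg₁Q, hg₂Q]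
  inv_mem := by
    intro P φ hφ
    obtain ⟨hP, hm, g, hg, hgφ, hgQ⟩ := (mem_normalizerHom_iff fun x => (ev_coe φ x).symm).mp hφ
    obtain ⟨k, hk, hkg, -, hkimg⟩ := hg.exists_iso_inverse
    have hr : φ.range = img g P := range_eq_img fun x => by rw [hgφ x x.2, ev_coe]
    have hsup : img g (P ⊔ Q) = φ.range ⊔ Q := by
      rw [hg.img_sup le_sup_left le_sup_right, hgQ, hr]
    rw [hsup] at hk
    obtain ⟨ψ, -, hψk⟩ := hk.restrict (le_sup_left : φ.range ≤ φ.range ⊔ Q)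
    refine ⟨ψ, (mem_normalizerHom_iff hψk).mpr ⟨?_, ?_, k, hk, fun _ _ => rfl, ?_⟩, fun x => ?_⟩
    · rintro _ ⟨x, rfl⟩
      rw [← ev_coe φ x]
      exact hm x x.2
    · rintro _ ⟨x, rfl⟩
      rw [← ev_coe φ x, ← hgφ x x.2, hkg x ((le_sup_left : P ≤ P ⊔ Q) x.2)]
      exact hP x.2
    · have := hkimg Q le_sup_right
      rwa [hgQ] at this
    · rw [hψk]
      show k (φ x) = x
      rw [← ev_coe φ x, ← hgφ x x.2, hkg x ((le_sup_left : P ≤ P ⊔ Q) x.2)]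

/-- The centralizer system `C_F(Q)`. -/
def cSys (F : FusionSystem S) (hQ : Q ≤ S) : FusionSystem (centralizerIn S Q) where
  Hom P := F.centralizerHom Q P
  le_of_mem h := ⟨h.2.1, h.2.2.1⟩
  injective_of_mem h := F.injective_of_mem h.1
  conj_mem := by
    intro P g hP hg
    refine (mem_centralizerHom_iff (f := cj g) fun _ => rfl).mpr ⟨hP, fun x hx => ?_, cj g,
      mapTo_cj (sup_le (hP.trans centralizerIn_le) hQ) hg.1, fun _ _ => rfl, fun x hx => ?_⟩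
    · exact Subgroup.mul_mem _ (Subgroup.mul_mem _ hg (hP hx)) (Subgroup.inv_mem _ hg)
    · rw [cj_apply, ← (mem_centralizerIn.mp hg).2 x hx]; group
  comp_mem := by
    intro P R φ ψ hφ hψ hR
    obtain ⟨hP, -, g₁, hg₁, hg₁φ, hg₁Q⟩ :=
      (mem_centralizerHom_iff fun x => (ev_coe φ x).symm).mp hφ
    obtain ⟨-, hψm, g₂, hg₂, hg₂ψ, hg₂Q⟩ :=
      (mem_centralizerHom_iff fun x => (ev_coe ψ x).symm).mp hψ
    have hmem : ∀ x ∈ P, ev φ x ∈ R := fun x hx => ev_apply φ hx ▸ hR ⟨x, hx⟩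
    refine (mem_centralizerHom_iff (f := fun x => ev ψ (ev φ x)) fun x => ?_).mpr
      ⟨hP, fun x hx => hψm _ (hmem x hx), fun x => g₂ (g₁ x), hg₁.comp hg₂ fun x hx => ?_,
        fun x hx => ?_, fun x hx => ?_⟩
    · show ψ _ = ev ψ (ev φ x)
      rw [ev_coe, ev_apply ψ (hR x)]; rfl
    · have : img g₁ (P ⊔ Q) ≤ R ⊔ Q := by
        rw [hg₁.img_sup le_sup_left le_sup_right, img_congr (f := g₁) (P := Q) hg₁Q, img_id]
        exact sup_le_sup_right (img_le_of_forall fun y hy => (hg₁φ y hy).symm ▸ hmem y hy) Q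
      exact this (mem_img_of_mem hx)
    · show g₂ (g₁ x) = _
      rw [hg₁φ x hx, hg₂ψ _ (hmem x hx)]
    · show g₂ (g₁ x) = x
      rw [hg₁Q x hx, hg₂Q x hx]
  inv_mem := by
    intro P φ hφ
    obtain ⟨hP, hm, g, hg, hgφ, hgQ⟩ := (mem_centralizerHom_iff fun x => (ev_coe φ x).symm).mp hφ
    obtain ⟨k, hk, hkg, -, -⟩ := hg.exists_iso_inverse
    have hr : φ.range = img g P := range_eq_img fun x => by rw [hgφ x x.2, ev_coe]
    have hsup : img g (P ⊔ Q) = φ.range ⊔ Q := by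
      rw [hg.img_sup le_sup_left le_sup_right, img_congr (f := g) (P := Q) hgQ, img_id, hr]
    rw [hsup] at hk
    obtain ⟨ψ, -, hψk⟩ := hk.restrict (le_sup_left : φ.range ≤ φ.range ⊔ Q)
    refine ⟨ψ, (mem_centralizerHom_iff hψk).mpr ⟨?_, ?_, k, hk, fun _ _ => rfl, fun x hx => ?_⟩,
      fun x => ?_⟩
    · rintro _ ⟨x, rfl⟩
      rw [← ev_coe φ x]
      exact hm x x.2
    · rintro _ ⟨x, rfl⟩
      rw [← ev_coe φ x, ← hgφ x x.2, hkg x ((le_sup_left : P ≤ P ⊔ Q) x.2)]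
      exact hP x.2
    · conv_lhs => rw [← hgQ x hx]
      exact hkg x ((le_sup_right : Q ≤ P ⊔ Q) hx)
    · rw [hψk]
      show k (φ x) = x
      rw [← ev_coe φ x, ← hgφ x x.2, hkg x ((le_sup_left : P ≤ P ⊔ Q) x.2)]

theorem isNormalizerSystem_nSys (F : FusionSystem S) (hQ : Q ≤ S) :
    F.IsNormalizerSystem Q (nSys F hQ) := fun _ => rfl

theorem isCentralizerSystem_cSys (F : FusionSystem S) (hQ : Q ≤ S) :
    F.IsCentralizerSystem Q (cSys F hQ) := fun _ => rfl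

theorem mapTo_nSys_iff {E : FusionSystem (normalizerIn S Q)} (hE : F.IsNormalizerSystem Q E) :
    MapTo E P f ↔ P ≤ normalizerIn S Q ∧ (∀ x ∈ P, f x ∈ normalizerIn S Q) ∧
      ∃ g, MapTo F (P ⊔ Q) g ∧ (∀ x ∈ P, g x = f x) ∧ img g Q = Q := by
  constructor
  · rintro ⟨φ, hφ, hφf⟩
    exact (mem_normalizerHom_iff hφf).mp (hE P ▸ hφ)
  · intro h
    obtain ⟨φ, -, hφ⟩ := (h.2.2.choose_spec.1.restrict (le_sup_left : P ≤ P ⊔ Q))
    have hφf : ∀ x : P, φ x = f x := fun x => (hφ x).trans (h.2.2.choose_spec.2.1 x x.2)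
    exact ⟨φ, (hE P).symm ▸ (mem_normalizerHom_iff hφf).mpr h, hφf⟩

theorem mapTo_cSys_iff {E : FusionSystem (centralizerIn S Q)} (hE : F.IsCentralizerSystem Q E) :
    MapTo E P f ↔ P ≤ centralizerIn S Q ∧ (∀ x ∈ P, f x ∈ centralizerIn S Q) ∧
      ∃ g, MapTo F (P ⊔ Q) g ∧ (∀ x ∈ P, g x = f x) ∧ ∀ x ∈ Q, g x = x := by
  constructor
  · rintro ⟨φ, hφ, hφf⟩
    exact (mem_centralizerHom_iff hφf).mp (hE P ▸ hφ)
  · intro h
    obtain ⟨φ, -, hφ⟩ := (h.2.2.choose_spec.1.restrict (le_sup_left : P ≤ P ⊔ Q))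
    have hφf : ∀ x : P, φ x = f x := fun x => (hφ x).trans (h.2.2.choose_spec.2.1 x x.2)
    exact ⟨φ, (hE P).symm ▸ (mem_centralizerHom_iff hφf).mpr h, hφf⟩

end Cfsg.Agent.Fusion
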