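import Cfsg.Agent.Lib.Fusion.Alperin
import Cfsg.Agent.Lib.Fusion.Normal

/-!
Criteria for a subgroup to be normal in a saturated fusion system.
-/

set_option autoImplicit false

namespace Cfsg.Agent.Fusion

open Cfsg.FusionSystem (centralizerIn normalizerIn)

variable {Ω : Type*} [Group Ω] {S : Subgroup Ω}
variable {F : FusionSystem S} {P Q R : Subgroup Ω} {f g : Ω → Ω} {p : ℕ}

theorem isNormal_of_char (hQ : F.IsNormal Q) {U : Subgroup Ω} (hUQ : U ≤ Q)
    (hU : (U.subgroupOf Q).Characteristic) : F.IsNormal U := by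
  refine isNormal_iff.mpr ⟨hUQ.trans hQ.1, fun P f hf => ?_⟩
  obtain ⟨g, hg, hgf, hgQ⟩ := (isNormal_iff.mp hQ).2 P f hf
  refine ⟨g, hg.restrict (sup_le_sup_left hUQ P), hgf, ?_⟩
  have hgr := hg.restrict (le_sup_right : Q ≤ P ⊔ Q)
  have h := Subgroup.characteristic_iff_map_eq.mp hU (isoEquiv hgr hgQ)
  refine le_antisymm (img_le_of_forall fun x hx => ?_) fun y hy => ?_
  · exact Subgroup.mem_subgroupOf.mp
      (h.le ⟨⟨x, hUQ hx⟩, hx, rfl⟩ : isoEquiv hgr hgQ ⟨x, hUQ hx⟩ ∈ U.subgroupOf Q)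
  · obtain ⟨x, hx, hxy⟩ :=
      h.ge (Subgroup.mem_subgroupOf.mpr hy : (⟨y, hUQ hy⟩ : Q) ∈ U.subgroupOf Q)
    have hxy' : g x = y := congrArg Subtype.val hxy
    exact hxy' ▸ mem_img_of_mem (Subgroup.mem_subgroupOf.mp hx)

theorem autFun_pow_succ (α : MulAut P) (k : ℕ) {x : Ω} (hx : x ∈ P) :
    autFun (α ^ (k + 1)) x = autFun (α ^ k) (autFun α x) := by
  rw [pow_succ, autFun_mul _ _ hx]

/-- A group of automorphisms stabilizing a series is a `p`-group. -/
theorem isPGroup_stabilizer_series [Finite P] [Fact p.Prime] (hP : IsPGroup p P) {n : ℕ}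
    (c : Fin (n + 1) → Subgroup Ω) (h0 : c 0 = ⊥) (hn : c (Fin.last n) = P) (hle : ∀ i, c i ≤ P)
    (A : Subgroup (MulAut P))
    (h : ∀ α ∈ A, ∀ i : Fin n, ∀ x ∈ c i.succ, x⁻¹ * autFun α x ∈ c i.castSucc) : IsPGroup p A := by
  obtain ⟨e, he⟩ := IsPGroup.iff_card.mp hP
  have key : ∀ α ∈ A, ∀ i : Fin (n + 1), ∃ m : ℕ, ∀ x ∈ c i, autFun (α ^ p ^ m) x = x := by
    intro α hα i
    induction i using Fin.induction with
    | zero =>
        refine ⟨0, fun x hx => ?_⟩
        rw [h0] at hx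
        rw [Subgroup.mem_bot.mp hx, autFun_apply _ P.one_mem]
        exact congrArg Subtype.val (map_one (α ^ p ^ 0))
    | succ i ih =>
        obtain ⟨m, hm⟩ := ih
        refine ⟨m + e, fun x hx => ?_⟩
        set β := α ^ p ^ m with hβ
        have hy : x⁻¹ * autFun β x ∈ c i.castSucc :=
          h β (Subgroup.pow_mem _ hα _) i x hx
        set y := x⁻¹ * autFun β x
        have hxP := hle _ hx
        have hyP := hle _ hy
        have hk : ∀ k : ℕ, autFun (β ^ k) x = x * y ^ k := by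
          intro k
          induction k with
          | zero => rw [pow_zero, pow_zero, mul_one, autFun_one hxP]
          | succ k ihk =>
              rw [pow_succ' β, autFun_mul _ _ hxP, ihk, autFun_apply β (P.mul_mem hxP (P.pow_mem hyP k)),
                show (⟨x * y ^ k, P.mul_mem hxP (P.pow_mem hyP k)⟩ : P) = ⟨x, hxP⟩ * ⟨y, hyP⟩ ^ k
                  from rfl, map_mul, map_pow, Subgroup.coe_mul, SubmonoidClass.coe_pow,
                ← autFun_apply β hxP, ← autFun_apply β hyP, hm y hy]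
              show autFun β x * y ^ k = x * y ^ (k + 1)
              rw [pow_succ', ← mul_assoc, mul_inv_cancel_left]
        rw [pow_add, pow_mul, ← hβ, hk]
        have h1 : (⟨y, hyP⟩ : P) ^ Nat.card P = 1 := pow_card_eq_one'
        have h2 := congrArg Subtype.val h1
        simp only [SubmonoidClass.coe_pow, OneMemClass.coe_one] at h2
        rw [← he, h2, mul_one]
  rintro ⟨α, hα⟩
  obtain ⟨m, hm⟩ := key α hα (Fin.last n)
  refine ⟨m, Subtype.ext (autFun_ext fun x hx => ?_)⟩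
  show autFun (α ^ p ^ m) x = autFun 1 x
  rw [hm x (hn ▸ hx), autFun_one hx]

/-- The automorphisms in the system stabilizing an invariant series. -/
def stabSeries (F : FusionSystem S) {n : ℕ} (c : Fin (n + 1) → Subgroup Ω) (hle : ∀ i, c i ≤ P)
    (hinv : ∀ i, ∀ α ∈ F.autGroup P, ∀ x ∈ c i, autFun α x ∈ c i) : Subgroup (MulAut P) where
  carrier := {α | α ∈ F.autGroup P ∧ ∀ i : Fin n, ∀ x ∈ c i.succ, x⁻¹ * autFun α x ∈ c i.castSucc}
  one_mem' := ⟨Subgroup.one_mem _, fun i x hx => by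
    rw [autFun_one (hle _ hx), inv_mul_cancel]; exact Subgroup.one_mem _⟩
  mul_mem' := by
    rintro a b ⟨ha, ha'⟩ ⟨hb, hb'⟩
    refine ⟨Subgroup.mul_mem _ ha hb, fun i x hx => ?_⟩
    rw [autFun_mul _ _ (hle _ hx), show x⁻¹ * autFun a (autFun b x) =
      (x⁻¹ * autFun b x) * ((autFun b x)⁻¹ * autFun a (autFun b x)) by group]
    exact Subgroup.mul_mem _ (hb' i x hx) (ha' i _ (hinv _ b hb x hx))
  inv_mem' := by
    rintro a ⟨ha, ha'⟩
    refine ⟨Subgroup.inv_mem _ ha, fun i x hx => ?_⟩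
    have hz := hinv _ _ (Subgroup.inv_mem _ ha) x hx
    have := ha' i _ hz
    rw [autFun_autFun_inv a (hle _ hx)] at this
    simpa using Subgroup.inv_mem _ this

/-- In a centric radical subgroup lies every element acting trivially on an invariant series. -/
theorem mem_of_stabilizes_series [Finite S] [Fact p.Prime] (hS : IsPGroup p S)
    (hPc : F.IsCentric P) (hPr : F.IsRadical p P) {k : Ω} (hk : k ∈ normalizerIn S P) {n : ℕ}
    (c : Fin (n + 1) → Subgroup Ω) (h0 : c 0 = ⊥) (hn : c (Fin.last n) = P) (hle : ∀ i, c i ≤ P)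
    (hinv : ∀ i, ∀ α ∈ F.autGroup P, ∀ x ∈ c i, autFun α x ∈ c i)
    (hstab : ∀ i : Fin n, ∀ x ∈ c i.succ, x⁻¹ * (k * x * k⁻¹) ∈ c i.castSucc) : k ∈ P := by
  have hPS := hPc.1
  have := finite_of_le hPS
  obtain ⟨γ, hγ⟩ := exists_conjAut hk.2
  have hγA : γ ∈ autInducedBy S P := mem_autInducedBy_iff_cj.mpr ⟨k, hk.1, hγ⟩
  set K := stabSeries F c hle hinv with hK
  have hKle : K ≤ F.autGroup P := fun α hα => hα.1
  have hKp : IsPGroup p K :=
    isPGroup_stabilizer_series (hS.to_le hPS) c h0 hn hle K fun α hα => hα.2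
  have hnorm : (K.subgroupOf (F.autGroup P)).Normal := by
    refine ⟨fun β hβ α => ⟨Subgroup.mul_mem _ (Subgroup.mul_mem _ α.2 hβ.1) (Subgroup.inv_mem _ α.2),
      fun i x hx => ?_⟩⟩
    show x⁻¹ * autFun ((α : MulAut P) * (β : MulAut P) * (α : MulAut P)⁻¹) x ∈ _
    have hz := hinv _ _ (Subgroup.inv_mem _ α.2) x hx
    set z := autFun (α : MulAut P)⁻¹ x with hzdef
    have hzP := hle _ hz
    have hw := hinv _ _ α.2 _ (hβ.2 i z hz)
    rw [autFun_mul _ _ (hle _ hx), autFun_mul _ _ (autFun_mem _ (hle _ hx))]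
    convert hw using 1
    have hm := mapTo_of_mem_autGroup hPS α.2
    show x⁻¹ * autFun (α : MulAut P) (autFun (β : MulAut P) z) = _
    rw [hm.map_mul (P.inv_mem hzP) (autFun_mem _ hzP), hm.map_inv hzP, hzdef,
      autFun_autFun_inv _ (hle _ hx)]
    rfl
  have hγK : γ ∈ K := ⟨autInducedBy_le_autGroup hPS hγA, fun i x hx => by
    rw [hγ x (hle _ hx)]; exact hstab i x hx⟩
  have hinn : γ ∈ Inn P := by
    rw [← hPr.2]
    exact ⟨⟨γ, hKle hγK⟩, le_pCore hnorm
      (hKp.comap_of_injective _ (Subgroup.subtype_injective _)) hγK, rfl⟩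
  exact mem_of_cj_mem_inn (centralizerIn_le_of_isCentric hPc) hk.1 hγ hinn hPS

theorem exists_mem_normalizer_not_mem [Finite S] [Fact p.Prime] (hS : IsPGroup p S) (hP : P ≤ S)
    {T : Subgroup Ω} (hT : T ≤ S) (hTn : P ≤ Subgroup.normalizer (T : Set Ω)) (hTP : ¬ T ≤ P) :
    ∃ k ∈ T, k ∉ P ∧ k ∈ normalizerIn S P := by
  have := finite_of_le (sup_le hP hT)
  have hlt : P < P ⊔ T := lt_of_le_of_ne le_sup_left fun he => hTP (he ▸ le_sup_right)
  obtain ⟨y, hy, hyP⟩ :=
    SetLike.exists_of_lt (lt_normalizerIn (hS.to_le (sup_le hP hT)) hlt)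
  have hy' : y ∈ ((P ⊔ T : Subgroup Ω) : Set Ω) := hy.1
  rw [Subgroup.coe_mul_of_left_le_normalizer_right P T hTn] at hy'
  obtain ⟨a, ha, t, ht, rfl⟩ := hy'
  refine ⟨t, ht, fun h => hyP (P.mul_mem ha h), hT ht, ?_⟩
  rw [show t = a⁻¹ * (a * t) by group]
  exact Subgroup.mul_mem _ (Subgroup.inv_mem _ (Subgroup.le_normalizer ha)) hy.2

theorem isCentric_top [Finite S] : F.IsCentric S := by
  refine ⟨le_rfl, fun Q hQ z hz => ?_⟩
  obtain ⟨f, hf, rfl⟩ := isConj_iff.mp hQ
  rw [img_eq_self_of_forall hf fun x hx => hf.mem hx]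
  exact hz.1

section Criteria

variable [Finite S] [Fact p.Prime]

/-- The criterion through `S` and the essential subgroups. -/
theorem isNormal_of_forall_essential (hS : IsPGroup p S) (hF : F.IsSaturated p)
    (h : ∀ P : Subgroup Ω, P = S ∨ F.IsEssential p P →
      Q ≤ P ∧ ∀ α ∈ F.autGroup P, ∀ x ∈ Q, autFun α x ∈ Q) : F.IsNormal Q := by
  have hQS : Q ≤ S := (h S (Or.inl rfl)).1
  have hQn : ∀ s ∈ S, ∀ x ∈ Q, s * x * s⁻¹ ∈ Q := by
    intro s hs x hx
    obtain ⟨γ, hγ⟩ := exists_conjAut (P := S) (Subgroup.le_normalizer hs)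
    have := (h S (Or.inl rfl)).2 γ
      (autInducedBy_le_autGroup le_rfl (mem_autInducedBy_iff_cj.mpr ⟨s, hs, hγ⟩)) x hx
    rwa [hγ x (hQS hx)] at this
  have := finite_of_le hQS
  refine isNormal_iff.mpr ⟨hQS, fun P f hf => alperin_prop hS hF
    (fun P f => ∃ g, MapTo F (P ⊔ Q) g ∧ (∀ x ∈ P, g x = f x) ∧ img g Q = Q)
    (fun {P f g} _ hC hfg => by
      obtain ⟨e, he, hef, heQ⟩ := hC
      exact ⟨e, he, fun x hx => (hef x hx).trans (hfg x hx).symm, heQ⟩)
    (fun {P g} hP hg => ⟨cj g, mapTo_cj (sup_le hP hQS) hg, fun _ _ => rfl,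
      img_eq_self_of_forall (mapTo_cj (F := F) hQS hg) fun x hx => hQn g hg x hx⟩)
    (fun {P R f g} _ _ hfR h₁ h₂ => ?_) (fun {P f g} _ _ hgf h₁ => ?_) (fun P hP α hα => ?_) hf⟩
  · obtain ⟨e₁, he₁, he₁f, he₁Q⟩ := h₁
    obtain ⟨e₂, he₂, he₂g, he₂Q⟩ := h₂
    refine ⟨fun x => e₂ (e₁ x), he₁.comp he₂ fun x hx => ?_, fun x hx => ?_, ?_⟩
    · have : img e₁ (P ⊔ Q) ≤ R ⊔ Q := by
        rw [he₁.img_sup le_sup_left le_sup_right, he₁Q]
        exact sup_le_sup_right (img_le_of_forall fun y hy => (he₁f y hy).symm ▸ hfR y hy) Q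
      exact this (mem_img_of_mem hx)
    · show e₂ (e₁ x) = g (f x)
      rw [he₁f x hx, he₂g _ (hfR x hx)]
    · rw [← he₁.img_img le_sup_right, he₁Q, he₂Q]
  · obtain ⟨e, he, hef, heQ⟩ := h₁
    obtain ⟨k, hk, hke, -, hkimg⟩ := he.exists_iso_inverse
    rw [he.img_sup le_sup_left le_sup_right, heQ, img_congr (f := e) (P := P) hef] at hk
    refine ⟨k, hk, fun y hy => ?_, ?_⟩
    · have hf' : MapTo F P f := (he.restrict le_sup_left).congr' fun x hx => (hef x hx).symm
      obtain ⟨x, hx, rfl⟩ := (hf'.mem_img_iff le_rfl).mp hy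
      rw [hgf x hx, ← hef x hx, hke x ((le_sup_left : P ≤ P ⊔ Q) hx)]
    · have := hkimg Q le_sup_right
      rwa [heQ] at this
  · have hPS : P ≤ S := by
      rcases hP with rfl | h
      · exact le_rfl
      · exact h.1.1
    obtain ⟨hQP, hinv⟩ := h P hP
    have hm := mapTo_of_mem_autGroup hPS hα
    exact ⟨autFun α, by rwa [sup_eq_left.mpr hQP], fun _ _ => rfl,
      img_eq_self_of_forall (hm.restrict hQP) fun x hx => hinv α hα x hx⟩

theorem le_of_isNormal_of_isRadical (hS : IsPGroup p S) (hQ : F.IsNormal Q)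
    (hPc : F.IsCentric P) (hPr : F.IsRadical p P) : Q ≤ P := by
  by_contra hQP
  have hPS := hPc.1
  obtain ⟨k, hkQ, hkP, hkN⟩ :=
    exists_mem_normalizer_not_mem hS hPS hQ.1 (hPS.trans (IsNormal.le_normalizer hQ)) hQP
  set N := Q ⊓ Subgroup.normalizer (P : Set Ω) with hN
  set K := autInducedBy N P with hK
  have hNS : N ≤ S := inf_le_left.trans hQ.1
  have hKle : K ≤ F.autGroup P := (autInducedBy_mono hNS P).trans (autInducedBy_le_autGroup hPS)
  have := finite_of_le hPS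
  have hnorm : (K.subgroupOf (F.autGroup P)).Normal := by
    refine ⟨fun β hβ α => ?_⟩
    obtain ⟨q, hq, hqx⟩ := mem_autInducedBy_iff_cj.mp hβ
    obtain ⟨g, hg, hgα, hgQ⟩ :=
      (isNormal_iff.mp hQ).2 P _ (mapTo_of_mem_autGroup hPS α.2)
    have hqQ := (le_sup_right : Q ≤ P ⊔ Q) hq.1
    refine mem_autInducedBy_iff_cj.mpr ⟨g q, ⟨hgQ.le (mem_img_of_mem hq.1), ?_⟩, fun y hy => ?_⟩
    · refine mem_normalizer_of_forall fun y hy => ?_
      obtain ⟨x, hx, rfl⟩ : ∃ x ∈ P, autFun (α : MulAut P) x = y :=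
        ⟨_, autFun_mem _ hy, autFun_autFun_inv _ hy⟩
      have hx' := (le_sup_left : P ≤ P ⊔ Q) hx
      rw [← hgα x hx, ← hg.map_conj hqQ hx',
        hgα _ ((Subgroup.mem_normalizer_iff.mp hq.2 x).mp hx)]
      exact autFun_mem _ ((Subgroup.mem_normalizer_iff.mp hq.2 x).mp hx)
    · show autFun ((α : MulAut P) * (β : MulAut P) * (α : MulAut P)⁻¹) y = _
      obtain ⟨x, hx, rfl⟩ : ∃ x ∈ P, autFun (α : MulAut P) x = y :=
        ⟨_, autFun_mem _ hy, autFun_autFun_inv _ hy⟩
      have hx' := (le_sup_left : P ≤ P ⊔ Q) hx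
      rw [autFun_mul _ _ (autFun_mem _ hx), autFun_inv_autFun _ hx, autFun_mul _ _ hx]
      show autFun (α : MulAut P) (autFun ((F.autGroup P).subtype β) x) = _
      rw [hqx x hx, cj_apply, cj_apply, ← hgα _ ((Subgroup.mem_normalizer_iff.mp hq.2 x).mp hx),
        hg.map_conj hqQ hx', hgα x hx]
  obtain ⟨γ, hγ⟩ := exists_conjAut hkN.2
  have hγK : γ ∈ K := mem_autInducedBy_iff_cj.mpr ⟨k, ⟨hkQ, hkN.2⟩, hγ⟩
  refine hkP (mem_of_cj_mem_inn (centralizerIn_le_of_isCentric hPc) hkN.1 hγ ?_ hPS)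
  rw [← hPr.2]
  exact ⟨⟨γ, hKle hγK⟩, le_pCore hnorm
    ((isPGroup_autInducedBy (hS.to_le hNS) P).comap_of_injective _ (Subgroup.subtype_injective _))
    hγK, rfl⟩

theorem le_and_invariant_of_isNormal (hS : IsPGroup p S) (hQ : F.IsNormal Q) :
    ∀ P : Subgroup Ω, P = S ∨ F.IsEssential p P →
      Q ≤ P ∧ ∀ α ∈ F.autGroup P, ∀ x ∈ Q, autFun α x ∈ Q := by
  intro P hP
  have hPS : P ≤ S ∧ Q ≤ P := by
    rcases hP with rfl | h
    · exact ⟨le_rfl, hQ.1⟩
    · exact ⟨h.1.1, le_of_isNormal_of_isRadical hS hQ h.1 (isRadical_of_isEssential hS h)⟩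
  exact ⟨hPS.2, fun α hα x hx => StronglyClosed.map_mem (IsNormal.stronglyClosed hQ)
    (mapTo_of_mem_autGroup hPS.1 hα) (hPS.2 hx) hx⟩

theorem isNormal_of_stronglyClosed (hS : IsPGroup p S) (hF : F.IsSaturated p)
    (hQ : F.StronglyClosed Q) (h : ∀ P : Subgroup Ω, F.IsEssential p P → Q ≤ P) : F.IsNormal Q := by
  refine isNormal_of_forall_essential hS hF fun P hP => ?_
  have hPS : P ≤ S ∧ Q ≤ P := by
    rcases hP with rfl | hP
    · exact ⟨le_rfl, hQ.1⟩
    · exact ⟨hP.1.1, h P hP⟩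
  exact ⟨hPS.2, fun α hα x hx => StronglyClosed.map_mem hQ
    (mapTo_of_mem_autGroup hPS.1 hα) (hPS.2 hx) hx⟩

theorem StronglyClosed.inf {T₁ T₂ : Subgroup Ω} (h₁ : F.StronglyClosed T₁) (h₂ : F.StronglyClosed T₂) :
    F.StronglyClosed (T₁ ⊓ T₂) :=
  stronglyClosed_iff.mpr ⟨inf_le_left.trans h₁.1, fun _ _ hR hf x hx =>
    ⟨StronglyClosed.map_mem h₁ hf hx (hR hx).1, StronglyClosed.map_mem h₂ hf hx (hR hx).2⟩⟩

/-- A strongly closed subgroup with a series of weakly closed subgroups, centralized step by step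
by it, is normal. -/
theorem isNormal_of_series (hS : IsPGroup p S) (hF : F.IsSaturated p) (hQ : F.StronglyClosed Q)
    {n : ℕ} (c : Fin (n + 1) → Subgroup Ω) (h0 : c 0 = ⊥) (hn : c (Fin.last n) = Q)
    (hmono : Monotone c) (hcomm : ∀ i : Fin n, ∀ x ∈ c i.succ, ∀ k ∈ Q, x⁻¹ * (k * x * k⁻¹) ∈ c i.castSucc)
    (hclosed : ∀ i : Fin n, F.WeaklyClosed (c i.castSucc)) : F.IsNormal Q := by
  refine isNormal_of_stronglyClosed hS hF hQ fun P hP => ?_
  have hPS := hP.1.1
  have := finite_of_le hQ.1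
  have hcQ : ∀ i, c i ≤ Q := fun i => hn ▸ hmono (Fin.le_last i)
  have hweak : ∀ i : Fin n, ∀ (R : Subgroup Ω) (f : Ω → Ω), MapTo F R f → c i.castSucc ≤ R →
      ∀ x ∈ c i.castSucc, f x ∈ c i.castSucc := by
    intro i R f hf hR x hx
    obtain ⟨φ, hφ, hφf⟩ := hf.restrict hR
    rw [← (hclosed i).2 φ hφ]
    exact ⟨⟨x, hx⟩, hφf _⟩
  have key : ∀ i : Fin (n + 1), c i ≤ P := by
    intro i
    induction i using Fin.induction with
    | zero => rw [h0]; exact bot_le
    | succ i ih =>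
        by_contra hle
        set T := c i.succ with hT
        have hTS : T ≤ S := (hcQ _).trans hQ.1
        obtain ⟨k, hkT, hkP, hkN⟩ : ∃ k ∈ T, k ∉ P ∧ k ∈ normalizerIn S P := by
          by_cases hi : (i : ℕ) + 1 < n
          · have hTw : F.WeaklyClosed T := by
              have := hclosed ⟨(i : ℕ) + 1, hi⟩
              exact this
            refine exists_mem_normalizer_not_mem hS hPS hTS (fun s hs => ?_) hle
            have := finite_of_le hTS
            refine mem_normalizer_of_forall fun x hx => ?_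
            rw [← hTw.2 _ (F.conj_mem hTS (hPS hs))]
            exact ⟨⟨x, hx⟩, rfl⟩
          · have hTQ : T = Q := by
              rw [hT, ← hn]
              congr 1
              exact Fin.ext (by simp; omega)
            exact exists_mem_normalizer_not_mem hS hPS hTS
              (hPS.trans (hTQ.symm ▸ StronglyClosed.le_normalizer hQ)) hle
        have hkQ : k ∈ Q := hcQ _ hkT
        let d : Fin ((i : ℕ) + 2 + 1) → Subgroup Ω := fun j =>
          if h : (j : ℕ) ≤ i then c ⟨j, by omega⟩ else if (j : ℕ) = i + 1 then Q ⊓ P else P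
        refine hkP (mem_of_stabilizes_series hS hP.1 (isRadical_of_isEssential hS hP) hkN d ?_ ?_
          (fun j => ?_) (fun j α hα x hx => ?_) (fun j x hx => ?_))
        · simp only [d, Fin.val_zero, zero_le, dif_pos]
          exact h0
        · simp only [d, Fin.val_last]
          rw [dif_neg (by omega), if_neg (by omega)]
        · simp only [d]
          split_ifs with h1 h2
          · exact (hmono (Fin.mk_le_mk.mpr h1)).trans ih
          · exact inf_le_right
          · exact le_rfl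
        · have hm := mapTo_of_mem_autGroup hPS hα
          simp only [d] at hx ⊢
          split_ifs with h1 h2
          · rw [dif_pos h1] at hx
            have hjn : (j : ℕ) < n := lt_of_le_of_lt h1 i.2
            exact hweak ⟨j, hjn⟩ P _ hm ((hmono (Fin.mk_le_mk.mpr h1)).trans ih) x hx
          · rw [dif_neg h1, if_pos h2] at hx
            exact ⟨StronglyClosed.map_mem hQ hm hx.2 hx.1, autFun_mem α hx.2⟩
          · rw [dif_neg h1, if_neg h2] at hx
            exact autFun_mem α hx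
        · simp only [d, Fin.val_succ, Fin.coe_castSucc] at hx ⊢
          rcases lt_trichotomy (j : ℕ) i with hj | hj | hj
          · rw [dif_pos (by omega)] at hx
            rw [dif_pos (by omega)]
            exact hcomm ⟨j, by omega⟩ x hx k hkQ
          · rw [dif_neg (by omega), if_pos (by omega)] at hx
            rw [dif_pos (by omega)]
            have h1 := hcomm i k hkT x hx.1
            have h2 := Subgroup.inv_mem _ h1
            have hci : (c i.castSucc) = c ⟨j, by omega⟩ := congrArg c (Fin.ext hj.symm)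
            rw [← hci]
            have hstep : x⁻¹ * (k * x * k⁻¹) = x⁻¹ * k * ((k⁻¹ * (x * k * x⁻¹))⁻¹) * k⁻¹ * x := by
              group
            rw [hstep]
            have hxn : ∀ s ∈ S, ∀ y ∈ c i.castSucc, s * y * s⁻¹ ∈ c i.castSucc := fun s hs y hy =>
              hweak i S (cj s) (mapTo_cj le_rfl hs) ((hcQ _).trans hQ.1) y hy
            have h3 := hxn (x⁻¹ * k) (S.mul_mem (S.inv_mem (hPS hx.2)) hkN.1) _ h2
            convert h3 using 1
            group
          · have hj2 : (j : ℕ) = i + 1 := by omega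
            rw [dif_neg (by omega), if_neg (by omega)] at hx
            rw [dif_neg (by omega), if_pos hj2]
            refine ⟨?_, P.mul_mem (P.inv_mem hx) (conj_mem_of_mem_normalizerIn hkN hx)⟩
            rw [show x⁻¹ * (k * x * k⁻¹) = (x⁻¹ * k * x) * k⁻¹ by group]
            refine Q.mul_mem ?_ (Q.inv_mem hkQ)
            simpa using StronglyClosed.conj_mem hQ (S.inv_mem (hPS hx)) hkQ
  exact hn ▸ key (Fin.last n)

/-- Strongly closed subgroups with a central series of strongly closed subgroups are normal. -/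
theorem isNormal_of_stronglyClosed_series (hS : IsPGroup p S) (hF : F.IsSaturated p) {n : ℕ}
    (c : Fin (n + 1) → Subgroup Ω) (h0 : c 0 = ⊥) (hn : c (Fin.last n) = Q) (hmono : Monotone c)
    (hsc : ∀ i : Fin n, F.StronglyClosed (c i.succ))
    (hcomm : ∀ i : Fin n, ∀ x ∈ c i.succ, ∀ k ∈ Q, x⁻¹ * (k * x * k⁻¹) ∈ c i.castSucc) :
    F.IsNormal Q := by
  have hall : ∀ i : Fin (n + 1), F.StronglyClosed (c i) := by
    intro i
    induction i using Fin.cases with
    | zero => rw [h0]; exact IsNormal.stronglyClosed (isNormal_bot F)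
    | succ i => exact hsc i
  refine isNormal_of_series hS hF (hn ▸ hall (Fin.last n)) c h0 hn hmono hcomm fun i => ?_
  refine ⟨(hall _).1, fun φ hφ => ?_⟩
  rw [range_eq_img fun x => (ev_coe φ x).symm]
  exact StronglyClosed.img_eq (hall _) (mapTo_ev hφ) le_rfl

end Criteria

/-- The upper central series of `Q`, seen in `Ω`. -/
def ucs (Q : Subgroup Ω) (i : ℕ) : Subgroup Ω := (Subgroup.upperCentralSeries Q i).map Q.subtype

theorem exists_normal_series [Finite S] [Fact p.Prime] (hS : IsPGroup p S) (hQ : F.IsNormal Q) :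
    ∃ n, ucs Q 0 = ⊥ ∧ ucs Q n = Q ∧ Monotone (ucs Q) ∧ (∀ i, F.IsNormal (ucs Q i)) ∧
      ∀ i, ∀ x ∈ ucs Q (i + 1), ∀ k ∈ Q, x⁻¹ * (k * x * k⁻¹) ∈ ucs Q i := by
  have := finite_of_le hQ.1
  have := (hS.to_le hQ.1).isNilpotent
  refine ⟨Group.nilpotencyClass Q, ?_, ?_, fun a b hab => ?_, fun i => ?_, fun i x hx k hk => ?_⟩
  · simp [ucs]
  · simp [ucs, Subgroup.upperCentralSeries_nilpotencyClass, ← MonoidHom.range_eq_map]
  · exact Subgroup.map_mono (Subgroup.upperCentralSeries_mono Q hab)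
  · refine isNormal_of_char hQ (Subgroup.map_subtype_le _) ?_
    rw [ucs, Subgroup.subgroupOf, Subgroup.comap_map_eq_self_of_injective Q.subtype_injective]
    infer_instance
  · obtain ⟨a, ha, rfl⟩ := hx
    refine ⟨a⁻¹ * (⟨k, hk⟩ * a * ⟨k, hk⟩⁻¹), ?_, rfl⟩
    have h1 := (Subgroup.mem_upperCentralSeries_succ_iff.mp (Subgroup.inv_mem _ ha)) ⟨k, hk⟩
    convert h1 using 1
    simp [commutatorElement_def, mul_assoc]

theorem comm_mem_of_commutator_le {A B C : Subgroup Ω} (h : ⁅A, B⁆ ≤ C) {x k : Ω} (hx : x ∈ B)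
    (hk : k ∈ A) : x⁻¹ * (k * x * k⁻¹) ∈ C := by
  have h2 : ⁅B, A⁆ ≤ C := Subgroup.commutator_comm B A ▸ h
  have := h2 (Subgroup.commutator_mem_commutator (B.inv_mem hx) hk)
  convert this using 1
  simp [commutatorElement_def, mul_assoc]

end Cfsg.Agent.Fusion
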