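import Cfsg.Agent.Lib.Fusion.Realized
import Cfsg.Agent.Lib.Fusion.NormalCriteria
import Cfsg.Agent.Lib.Fusion.StronglyEmbedded

/-!
Structure of a model: the largest normal `p`-subgroup gives a normal centric subgroup, normal
subgroups of the system are normal in the model, centralizers of normal centric subgroups.
-/

set_option autoImplicit false

namespace Cfsg.Agent.Fusion

open Cfsg.FusionSystem (centralizerIn normalizerIn imageAlong preimageAlong)

universe u v

variable {Ω : Type u} [Group Ω] {S : Subgroup Ω} {F : FusionSystem S} {P Q : Subgroup Ω}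
variable {G : Type v} [Group G] {ι : S →* G} {p : ℕ} [Fact p.Prime]

namespace IsModel

variable (h : F.IsModel p G ι)
include h

theorem inj : Function.Injective ι := h.2.1.1

theorem pCore_le_range : pCore p G ≤ ι.range := by
  have := h.1
  obtain ⟨T, hT⟩ := h.2.2.1
  have hsup : IsPGroup p ((T : Subgroup G) ⊔ pCore p G : Subgroup G) :=
    T.isPGroup'.to_sup_of_normal_right (isPGroup_pCore p G)
  exact hT ▸ le_sup_right.trans (T.is_maximal' hsup le_sup_left).le

theorem isPGroup [Finite S] : IsPGroup p S := by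
  obtain ⟨T, hT⟩ := h.2.2.1
  have hp : IsPGroup p (T : Subgroup G) := T.2
  rw [hT] at hp
  exact hp.of_equiv (MonoidHom.ofInjective h.2.1.1).symm

theorem th_mem_pCore_iff {x : Ω} :
    x ∈ preimageAlong ι (pCore p G) ↔ x ∈ S ∧ th ι x ∈ pCore p G :=
  mem_preimageAlong

theorem isNormal_core_preimage [Finite S] : F.IsNormal (preimageAlong ι (pCore p G)) := by
  set R := preimageAlong ι (pCore p G) with hR
  have hRS : R ≤ S := preimageAlong_le
  refine isNormal_iff.mpr ⟨hRS, fun P f hf => ?_⟩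
  obtain ⟨g, hg⟩ := IsRealizedBy.exists_conj h.2.1 hf
  have hsup : ∀ x ∈ P ⊔ R, g * th ι x * g⁻¹ ∈ ι.range := by
    let K : Subgroup S := (ι.range.comap (MulAut.conj g).toMonoidHom).comap ι
    have hle : P ⊔ R ≤ K.map S.subtype := by
      refine sup_le (fun x hx => ⟨⟨x, hf.le hx⟩, ?_, rfl⟩) fun x hx => ⟨⟨x, hRS hx⟩, ?_, rfl⟩
      · show g * ι ⟨x, hf.le hx⟩ * g⁻¹ ∈ ι.range
        rw [← th_apply ι (hf.le hx), ← hg x hx]
        exact th_mem_range ι _
      · show g * ι ⟨x, hRS hx⟩ * g⁻¹ ∈ ι.range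
        rw [← th_apply ι (hRS hx)]
        exact pCore_le_range h ((normal_pCore p G).conj_mem _ (mem_preimageAlong.mp hx).2 g)
    intro x hx
    obtain ⟨s, hs, rfl⟩ := hle hx
    exact (th_coe ι s).symm ▸ hs
  obtain ⟨f', hf', hf'g⟩ := IsRealizedBy.exists_mapTo h.2.1 (sup_le hf.le hRS) g hsup
  refine ⟨f', hf', fun x hx => th_inj h.2.1.1 (hf'.mem (Subgroup.mem_sup_left hx)) (hf.mem hx)
    (by rw [hf'g x (Subgroup.mem_sup_left hx), hg x hx]), ?_⟩
  have := finite_of_le hRS
  refine img_eq_self_of_forall (hf'.restrict le_sup_right) fun x hx => mem_preimageAlong.mpr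
    ⟨hf'.mem (Subgroup.mem_sup_right hx), ?_⟩
  rw [hf'g x (Subgroup.mem_sup_right hx)]
  exact (normal_pCore p G).conj_mem _ (mem_preimageAlong.mp hx).2 g

theorem isCentric_core_preimage [Finite S] : F.IsCentric (preimageAlong ι (pCore p G)) := by
  set R := preimageAlong ι (pCore p G) with hR
  refine ⟨preimageAlong_le, fun T hT => ?_⟩
  obtain ⟨f, hf, rfl⟩ := isConj_iff.mp hT
  rw [StronglyClosed.img_eq (IsNormal.stronglyClosed (isNormal_core_preimage h)) hf le_rfl]
  intro x hx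
  obtain ⟨hxS, hxc⟩ := mem_centralizerIn.mp hx
  refine mem_preimageAlong.mpr ⟨hxS, h.2.2.2 (Subgroup.mem_centralizer_iff.mpr fun y hy => ?_)⟩
  obtain ⟨z, hz, rfl⟩ := exists_th_eq (pCore_le_range h hy)
  rw [← th_mul ι hz hxS, ← th_mul ι hxS hz, hxc z (mem_preimageAlong.mpr ⟨hz, hy⟩)]

theorem isSaturated : F.IsSaturated p := by
  have := h.1
  obtain ⟨T, hT⟩ := h.2.2.1
  exact IsRealizedBy.isSaturated h.2.1 T hT

theorem isConstrained [Finite S] : F.IsConstrained p :=
  ⟨isSaturated h, _, isNormal_core_preimage h, isCentric_core_preimage h⟩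

/-- Normal subgroups of the system are normal in the model. -/
theorem conj_mem [Finite S] (hQ : F.IsNormal Q) (g : G) {x : Ω} (hx : x ∈ Q) :
    ∃ y ∈ Q, th ι y = g * th ι x * g⁻¹ := by
  set R := preimageAlong ι (pCore p G) with hR
  have hRS : R ≤ S := preimageAlong_le
  obtain ⟨f, hf, hfg⟩ := IsRealizedBy.exists_mapTo h.2.1 hRS g fun z hz =>
    pCore_le_range h ((normal_pCore p G).conj_mem _ (mem_preimageAlong.mp hz).2 g)
  obtain ⟨f', hf', hff', hQ'⟩ := (isNormal_iff.mp hQ).2 R f hf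
  obtain ⟨k, hk⟩ := IsRealizedBy.exists_conj h.2.1 hf'
  have ho : k⁻¹ * g ∈ pCore p G := by
    refine h.2.2.2 (Subgroup.mem_centralizer_iff.mpr fun y hy => ?_)
    obtain ⟨z, hz, rfl⟩ := exists_th_eq (pCore_le_range h hy)
    have hzR : z ∈ R := mem_preimageAlong.mpr ⟨hz, hy⟩
    have e1 := hk z (Subgroup.mem_sup_left hzR)
    rw [hff' z hzR, hfg z hzR, eq_comm] at e1
    calc th ι z * (k⁻¹ * g) = k⁻¹ * (k * th ι z * k⁻¹) * g := by group
      _ = _ := by rw [e1]; group
  obtain ⟨o, hoS, ho'⟩ := exists_th_eq (pCore_le_range h ho)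
  have hxS := hQ.1 hx
  have hox : o * x * o⁻¹ ∈ Q := StronglyClosed.conj_mem (IsNormal.stronglyClosed hQ) hoS hx
  refine ⟨f' (o * x * o⁻¹), hQ' ▸ mem_img_of_mem hox, ?_⟩
  rw [hk _ (Subgroup.mem_sup_right hox), th_conj ι hoS hxS, ho']
  group

theorem normal_imageAlong [Finite S] (hQ : F.IsNormal Q) : (imageAlong ι Q).Normal := by
  refine ⟨fun y hy g => ?_⟩
  obtain ⟨x, hx, rfl⟩ := (mem_imageAlong hQ.1).mp hy
  obtain ⟨z, hz, hzg⟩ := conj_mem h hQ g hx
  exact hzg ▸ th_mem_imageAlong hQ.1 hz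

/-- The centralizer of a normal centric subgroup is its centre. -/
theorem centralizer_eq [Finite S] (hQn : F.IsNormal Q) (hQc : F.IsCentric Q) {c : G}
    (hc : ∀ x ∈ Q, c * th ι x = th ι x * c) :
    ∃ z ∈ Q, (∀ x ∈ Q, z * x = x * z) ∧ c = th ι z := by
  have := h.1
  have hQS := hQn.1
  set C := Subgroup.centralizer ((imageAlong ι Q : Subgroup G) : Set G) with hC
  have hmemC : ∀ {c : G}, c ∈ C ↔ ∀ x ∈ Q, c * th ι x = th ι x * c := by
    intro c
    rw [hC, Subgroup.mem_centralizer_iff]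
    refine ⟨fun h' x hx => (h' _ (th_mem_imageAlong hQS hx)).symm, fun h' y hy => ?_⟩
    obtain ⟨x, hx, rfl⟩ := (mem_imageAlong hQS).mp hy
    exact (h' x hx).symm
  have hCn : C.Normal := by
    have := normal_imageAlong h hQn
    exact Subgroup.normal_centralizer
  -- elements of `C` inside the image of `S`
  have hCS : ∀ c ∈ C, c ∈ ι.range → ∃ z ∈ Q, (∀ x ∈ Q, z * x = x * z) ∧ c = th ι z := by
    intro c hc hcr
    obtain ⟨z, hz, rfl⟩ := exists_th_eq hcr
    have hcomm : ∀ x ∈ Q, z * x = x * z := fun x hx =>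
      th_inj h.2.1.1 (S.mul_mem hz (hQS hx)) (S.mul_mem (hQS hx) hz)
        (by rw [th_mul ι hz (hQS hx), th_mul ι (hQS hx) hz]; exact hmemC.mp hc x hx)
    exact ⟨z, centralizerIn_le_of_isCentric hQc
      (mem_centralizerIn.mpr ⟨hz, fun y hy => (hcomm y hy).symm⟩), hcomm, rfl⟩
  have hcore : ∀ d : G, d ∈ C → d ∈ pCore p G → d ∈ ι.range := fun d _ hd => pCore_le_range h hd
  have hCp : IsPGroup p C := by
    intro ⟨c, hc⟩
    obtain ⟨a, m, hm, hord⟩ := Nat.exists_eq_pow_mul_and_not_dvd (orderOf_pos c).ne' p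
      (Fact.out : p.Prime).ne_one
    refine ⟨a, Subtype.ext ?_⟩
    show c ^ p ^ a = 1
    set d := c ^ p ^ a with hd
    have hdC : d ∈ C := C.pow_mem hc _
    have hdm : d ^ m = 1 := by rw [hd, ← pow_mul, ← hord, pow_orderOf_eq_one]
    have hcop : ∀ b : ℕ, Nat.Coprime m (p ^ b) := fun b =>
      (((Fact.out : p.Prime).coprime_iff_not_dvd).mpr hm).symm.pow_right b
    have hdO : d ∈ pCore p G := by
      refine h.2.2.2 (Subgroup.mem_centralizer_iff.mpr fun o ho => ?_)
      set z := o⁻¹ * d * o * d⁻¹ with hz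
      have hzC : z ∈ C := by
        rw [hz]
        refine C.mul_mem ?_ (C.inv_mem hdC)
        have := hCn.conj_mem d hdC o⁻¹
        rwa [inv_inv] at this
      have hzO : z ∈ pCore p G := by
        rw [hz, mul_assoc, mul_assoc, ← mul_assoc d]
        exact Subgroup.mul_mem _ (Subgroup.inv_mem _ ho) ((normal_pCore p G).conj_mem o ho d)
      obtain ⟨w, hwQ, -, hw⟩ := hCS z hzC (hcore z hzC hzO)
      have hzd : z * d = d * z := by
        rw [hw]
        exact ((hmemC.mp hdC) w hwQ).symm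
      have hdo : d * o * d⁻¹ = o * z := by rw [hz]; group
      have hpow : ∀ k : ℕ, d ^ k * o * (d ^ k)⁻¹ = o * z ^ k := by
        intro k
        induction k with
        | zero => simp
        | succ k ih =>
          have hzk : d * z ^ k * d⁻¹ = z ^ k := by
            rw [← (Commute.pow_left (hzd : Commute z d) k).eq, mul_inv_cancel_right]
          calc d ^ (k + 1) * o * (d ^ (k + 1))⁻¹ = d * (d ^ k * o * (d ^ k)⁻¹) * d⁻¹ := by
                rw [pow_succ']; group
            _ = (d * o * d⁻¹) * (d * z ^ k * d⁻¹) := by rw [ih]; group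
            _ = o * z ^ (k + 1) := by rw [hdo, hzk, pow_succ', mul_assoc]
      have hzm : z ^ m = 1 := by
        have h1 := hpow m
        rw [hdm, one_mul, inv_one, mul_one] at h1
        exact (mul_eq_left).mp h1.symm
      obtain ⟨b, hb⟩ := isPGroup_pCore p G ⟨z, hzO⟩
      have hz1 : z = 1 := orderOf_eq_one_iff.mp (Nat.eq_one_of_dvd_coprimes (hcop b)
        (orderOf_dvd_of_pow_eq_one hzm)
        (orderOf_dvd_of_pow_eq_one (congrArg Subtype.val hb)))
      rw [hz1, mul_one] at hdo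
      exact (mul_inv_eq_iff_eq_mul.mp hdo).symm
    obtain ⟨b, hb⟩ := isPGroup_pCore p G ⟨d, hdO⟩
    exact orderOf_eq_one_iff.mp (Nat.eq_one_of_dvd_coprimes (hcop b)
      (orderOf_dvd_of_pow_eq_one hdm) (orderOf_dvd_of_pow_eq_one (congrArg Subtype.val hb)))
  exact hCS c (hmemC.mpr hc) (pCore_le_range h (le_pCore hCn hCp (hmemC.mpr hc)))

/-- A normal subgroup of the system lies in the preimage of the largest normal `p`-subgroup. -/
theorem le_core_preimage [Finite S] (hQ : F.IsNormal Q) :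
    Q ≤ preimageAlong ι (pCore p G) := fun x hx =>
  mem_preimageAlong.mpr ⟨hQ.1 hx, le_pCore (normal_imageAlong h hQ)
    ((((isPGroup h).to_le hQ.1).of_equiv (Subgroup.subgroupOfEquivOfLe hQ.1).symm).map ι)
    (th_mem_imageAlong hQ.1 hx)⟩

end IsModel

end Cfsg.Agent.Fusion
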