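import Cfsg.Agent.Lib.Fusion.NormalizerSaturated
import Cfsg.Agent.Lib.Fusion.ModelBasic

/-!
Models of normalizer systems of centric subgroups.
-/

set_option autoImplicit false

namespace Cfsg.Agent.Fusion

open Cfsg.FusionSystem (centralizerIn normalizerIn imageAlong preimageAlong)

universe u v

variable {Ω : Type u} [Group Ω] {S : Subgroup Ω} {F : FusionSystem S} {R : Subgroup Ω} {p : ℕ}
variable {E : FusionSystem (normalizerIn S R)}

theorem isNormal_normalizerSystem (hR : R ≤ S) (hE : F.IsNormalizerSystem R E) :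
    E.IsNormal R := by
  have hRN := le_normalizerIn (S := S) hR
  refine isNormal_iff.mpr ⟨hRN, fun P f hf => ?_⟩
  obtain ⟨hP, hfN, g, hg, hgf, hgR⟩ := (mapTo_nSys_iff hE).mp hf
  refine ⟨g, (mapTo_nSys_iff hE).mpr ⟨sup_le hP hRN, fun x hx => ?_, g, ?_, fun _ _ => rfl, hgR⟩,
    hgf, hgR⟩
  · have h1 : img g (P ⊔ R) ≤ normalizerIn S R := by
      rw [hg.img_sup le_sup_left le_sup_right, hgR, img_congr hgf]
      exact sup_le (img_le_of_forall hfN) hRN
    exact h1 (mem_img_of_mem hx)
  · rwa [sup_assoc, sup_idem]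

theorem isCentric_normalizerSystem [Finite S] (hc : F.IsCentric R)
    (hE : F.IsNormalizerSystem R E) : E.IsCentric R := by
  have hn := isNormal_normalizerSystem hc.1 hE
  have := finite_of_le (normalizerIn_le (S := S) (P := R))
  refine ⟨hn.1, fun T hT => ?_⟩
  obtain ⟨f, hf, rfl⟩ := isConj_iff.mp hT
  rw [StronglyClosed.img_eq (IsNormal.stronglyClosed hn) hf le_rfl]
  exact fun x hx => centralizerIn_le_of_isCentric hc (mem_centralizerIn.mpr
    ⟨normalizerIn_le (mem_centralizerIn.mp hx).1, (mem_centralizerIn.mp hx).2⟩)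

theorem isConstrained_normalizerSystem [Finite S] [Fact p.Prime] (hS : IsPGroup p S)
    (hF : F.IsSaturated p) (hn : F.IsFullyNormalized R) (hc : F.IsCentric R)
    (hE : F.IsNormalizerSystem R E) : E.IsConstrained p :=
  ⟨isSaturated_normalizerSystem hS hF hn hE, R, isNormal_normalizerSystem hc.1 hE,
    isCentric_normalizerSystem hc hE⟩

/-- In a model of the normalizer system of a centric radical subgroup the core is that subgroup. -/
theorem pCore_eq_of_isRadical [Finite S] [Fact p.Prime] (hS : IsPGroup p S) (hc : F.IsCentric R)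
    (hr : F.IsRadical p R) (hE : F.IsNormalizerSystem R E) {G : Type v} [Group G]
    {ι : ↥(normalizerIn S R) →* G} (h : E.IsModel p G ι) :
    pCore p G = imageAlong ι R := by
  have hRS := hc.1
  have := finite_of_le (normalizerIn_le (S := S) (P := R))
  have hRn := isNormal_normalizerSystem hRS hE
  set R' := preimageAlong ι (pCore p G) with hR'
  have hR'n := IsModel.isNormal_core_preimage h
  have hR'N : R' ≤ normalizerIn S R := preimageAlong_le
  have hle : R ≤ R' := IsModel.le_core_preimage h hRn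
  set A := (autInducedBy R' R).subgroupOf (F.autGroup R) with hA
  have hAn : A.Normal := by
    refine ⟨fun a ha α => ?_⟩
    obtain ⟨k, hk, hka⟩ := mem_autInducedBy_iff_cj.mp (ha : (a : MulAut R) ∈ autInducedBy R' R)
    replace hka : ∀ x ∈ R, autFun (a : MulAut R) x = cj k x := hka
    have hα : MapTo E R (autFun (α : MulAut R)) := (mapTo_nSys_iff hE).mpr
      ⟨hRn.1, fun x hx => hRn.1 (autFun_mem _ hx), autFun (α : MulAut R),
        by rw [sup_idem]; exact mapTo_of_mem_autGroup hRS α.2, fun _ _ => rfl, img_autFun _⟩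
    obtain ⟨g, hg, hgα, hgR'⟩ := (isNormal_iff.mp hR'n).2 R _ hα
    refine mem_autInducedBy_iff_cj.mpr
      ⟨g k, (show img g R' = R' from hgR').le (mem_img_of_mem hk), fun y hy => ?_⟩
    obtain ⟨x, hx, rfl⟩ : ∃ x ∈ R, autFun (α : MulAut R) x = y :=
      ⟨_, autFun_mem _ hy, autFun_autFun_inv (α : MulAut R) hy⟩
    have hkx : k * x * k⁻¹ ∈ R := by
      rw [← cj_apply, ← hka x hx]; exact autFun_mem _ hx
    rw [Subgroup.coe_subtype, Subgroup.coe_mul, Subgroup.coe_mul, Subgroup.coe_inv,
      autFun_mul _ _ (autFun_mem _ hx), autFun_inv_autFun _ hx, autFun_mul _ _ hx, hka x hx,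
      cj_apply, cj_apply, ← hgα _ hkx, ← hgα x hx,
      hg.map_conj (Subgroup.mem_sup_right hk) (Subgroup.mem_sup_left hx)]
  have hAp : IsPGroup p A :=
    (isPGroup_autInducedBy (hS.to_le (hR'N.trans normalizerIn_le)) R).comap_of_injective _
      (Subgroup.subtype_injective _)
  have hInn : autInducedBy R' R ≤ Inn R := by
    intro α hα
    have hαF : α ∈ F.autGroup R := autInducedBy_le_autGroup hRS
      (autInducedBy_mono (hR'N.trans normalizerIn_le) _ hα)
    rw [← hr.2]
    exact ⟨⟨α, hαF⟩, le_pCore hAn hAp hα, rfl⟩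
  have heq : R' = R := by
    refine le_antisymm (fun x hx => ?_) hle
    have hxN := (hR'N hx).2
    have h1 : R.normalizerMonoidHom ⟨x, hxN⟩ ∈ autInducedBy R' R :=
      mem_autInducedBy_iff.mpr ⟨x, hx, fun _ => rfl⟩
    obtain ⟨r, hr', hrx⟩ := mem_autInducedBy_iff.mp ((inn_eq_autInducedBy R).le (hInn h1))
    have hc' : r⁻¹ * x ∈ centralizerIn S R := by
      refine mem_centralizerIn.mpr
        ⟨S.mul_mem (S.inv_mem (hRS hr')) (normalizerIn_le (hR'N hx)), fun y hy => ?_⟩
      have h2 : x * y * x⁻¹ = r * y * r⁻¹ := hrx ⟨y, hy⟩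
      calc y * (r⁻¹ * x) = r⁻¹ * (r * y * r⁻¹) * x := by group
        _ = _ := by rw [← h2]; group
    have := R.mul_mem hr' (centralizerIn_le_of_isCentric hc hc')
    rwa [mul_inv_cancel_left] at this
  calc pCore p G = imageAlong ι R' :=
        (imageAlong_preimageAlong (IsModel.pCore_le_range h)).symm
    _ = imageAlong ι R := congrArg (imageAlong ι) heq

end Cfsg.Agent.Fusion
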