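import Mathlib
import Cfsg.Agent.Lib.Fusion.ModelExistence
import Cfsg.Agent.Lib.Fusion.NormalizerModel
import Cfsg.Agent.Lib.Fusion.Alperin
import Cfsg.Agent.Lib.Fusion.Centric
import Cfsg.Agent.Lib.Fusion.NormalCriteria

/-!
# The centre of a fusion system is controlled locally

An element `x` of `Z(S)` is central in a saturated system `F` as soon as it is fixed by
`Aut_F(W S)` and, in the model at each fully normalized centric subgroup with Sylow subgroup `T`,
centrality of `x` follows from centrality in the normalizer of `W T`. Here `W` is any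
equivariant choice of a subgroup of `T` containing `x`.
-/

set_option autoImplicit false

namespace Cfsg.Agent.Fusion

open Cfsg.FusionSystem (centralizerIn normalizerIn imageAlong preimageAlong)

universe u

variable {Ω : Type u} [Group Ω] {S : Subgroup Ω} {F : FusionSystem S}
variable {P Q R U : Subgroup Ω} {f g : Ω → Ω} {x : Ω} {p : ℕ}

/-- The map extends to one fixing `x`. -/
def FixExt (F : FusionSystem S) (x : Ω) (P : Subgroup Ω) (f : Ω → Ω) : Prop :=
  ∃ g, MapTo F (P ⊔ Subgroup.zpowers x) g ∧ (∀ z ∈ P, g z = f z) ∧ g x = x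

theorem img_zpowers_of_fix {D : Subgroup Ω} (hg : MapTo F D g) (hx : x ∈ D) (hgx : g x = x) :
    img g (Subgroup.zpowers x) = Subgroup.zpowers x := by
  have hle : Subgroup.zpowers x ≤ D := Subgroup.zpowers_le.mpr hx
  obtain ⟨φ, -, hφg⟩ := id hg
  rw [← map_subgroupOf_eq_img hφg hle]
  have : (Subgroup.zpowers x).subgroupOf D = Subgroup.zpowers (⟨x, hx⟩ : D) := by
    rw [← Subgroup.comap_map_eq_self_of_injective D.subtype_injective
      (Subgroup.zpowers (⟨x, hx⟩ : D)), MonoidHom.map_zpowers]
    rfl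
  rw [this, MonoidHom.map_zpowers, hφg ⟨x, hx⟩]
  exact congrArg Subgroup.zpowers hgx

variable [Finite S] [Fact p.Prime]

/-- If the automorphisms of big centric subgroups fix `x`, all big maps extend fixing `x`. -/
theorem fixExt_of_big (hS : IsPGroup p S) (hF : F.IsSaturated p) (hxS : x ∈ S)
    (hxc : x ∈ Subgroup.centralizer (S : Set Ω)) (n : ℕ)
    (h : ∀ R : Subgroup Ω, F.IsFullyNormalized R → F.IsCentric R →
      n < Nat.card (normalizerIn S R : Subgroup Ω) → ∀ α ∈ F.autGroup R, autFun α x = x)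
    (hf : MapTo F P f) (hn : n < Nat.card P) : FixExt F x P f := by
  refine alperin_prop hS hF (fun P f => n < Nat.card P → FixExt F x P f)
    (fun {P f g} _ hC hfg hn => ?_) (fun {P g} hP hg _ => ?_)
    (fun {P Q f g} hf hg hfQ h₁ h₂ hn => ?_) (fun {P f g} hf hg hgf h₁ hn => ?_)
    (fun R hR α hα hn => ?_) hf hn
  · obtain ⟨e, he, hef, hex⟩ := hC hn
    exact ⟨e, he, fun z hz => (hef z hz).trans (hfg z hz).symm, hex⟩
  · refine ⟨cj g, mapTo_cj (sup_le hP (Subgroup.zpowers_le.mpr hxS)) hg, fun _ _ => rfl, ?_⟩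
    rw [cj_apply, Subgroup.mem_centralizer_iff.mp hxc g hg, mul_inv_cancel_right]
  · have hnQ : n < Nat.card Q := by
      have := finite_of_le hg.le
      refine hn.trans_le ?_
      rw [← hf.card_img le_rfl]
      exact Subgroup.card_le_of_le (img_le_of_forall hfQ)
    obtain ⟨e₁, he₁, he₁f, he₁x⟩ := h₁ hn
    obtain ⟨e₂, he₂, he₂g, he₂x⟩ := h₂ hnQ
    refine ⟨fun z => e₂ (e₁ z), he₁.comp he₂ fun z hz => ?_, fun z hz => ?_, ?_⟩
    · have : img e₁ (P ⊔ Subgroup.zpowers x) ≤ Q ⊔ Subgroup.zpowers x := by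
        rw [he₁.img_sup le_sup_left le_sup_right,
          img_zpowers_of_fix he₁ (Subgroup.mem_sup_right (Subgroup.mem_zpowers x)) he₁x]
        exact sup_le_sup_right (img_le_of_forall fun y hy => (he₁f y hy).symm ▸ hfQ y hy) _
      exact this (mem_img_of_mem hz)
    · show e₂ (e₁ z) = g (f z)
      rw [he₁f z hz, he₂g _ (hfQ z hz)]
    · show e₂ (e₁ x) = x
      rw [he₁x, he₂x]
  · have hn' : n < Nat.card P := by rwa [hf.card_img le_rfl] at hn
    obtain ⟨e, he, hef, hex⟩ := h₁ hn'
    obtain ⟨k, hk, hke, -, -⟩ := he.exists_iso_inverse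
    have hxD : x ∈ P ⊔ Subgroup.zpowers x := Subgroup.mem_sup_right (Subgroup.mem_zpowers x)
    rw [he.img_sup le_sup_left le_sup_right, img_zpowers_of_fix he hxD hex,
      img_congr (f := e) (P := P) hef] at hk
    refine ⟨k, hk, fun y hy => ?_, ?_⟩
    · obtain ⟨z, hz, rfl⟩ := (hf.mem_img_iff le_rfl).mp hy
      rw [hgf z hz, ← hef z hz, hke z (Subgroup.mem_sup_left hz)]
    · have := hke x hxD
      rwa [hex] at this
  · have hR' : F.IsFullyNormalized R ∧ F.IsCentric R := by
      rcases hR with rfl | hR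
      · exact ⟨isFullyNormalized_top, isCentric_top⟩
      · exact ⟨hR.2.1, hR.1⟩
    have hxR : x ∈ R := centralizerIn_le_of_isCentric hR'.2 (mem_centralizerIn.mpr
      ⟨hxS, fun y hy => Subgroup.mem_centralizer_iff.mp hxc y (hR'.2.1 hy)⟩)
    have := finite_of_le (normalizerIn_le (S := S) (P := R))
    refine ⟨autFun α, ?_, fun _ _ => rfl,
      h R hR'.1 hR'.2 (hn.trans_le (Subgroup.card_le_of_le (le_normalizerIn hR'.2.1))) α hα⟩
    rw [sup_eq_left.mpr (Subgroup.zpowers_le.mpr hxR)]
    exact mapTo_of_mem_autGroup hR'.2.1 hα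

/-- A map extending with `x` fixed fixes `x` when defined there. -/
theorem FixExt.apply (h : FixExt F x P f) (hx : x ∈ P) : f x = x := by
  obtain ⟨g, -, hgf, hgx⟩ := h
  rw [← hgf x hx, hgx]

/-- Transport of a fixed point along maps fixing it. -/
theorem fix_of_conj (hg : MapTo F R g) (hUR : U ≤ R) (hx : x ∈ U) (hgx : g x = x)
    (h : ∀ α ∈ F.autGroup (img g U), autFun α x = x) : ∀ α ∈ F.autGroup U, autFun α x = x := by
  intro α hα
  have hUS : U ≤ S := hUR.trans hg.le
  have := finite_of_le hUS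
  have hg' := hg.restrict hUR
  obtain ⟨k, hk, hkg, hgk, -⟩ := hg'.exists_iso_inverse
  have hkm : ∀ y ∈ img g U, k y ∈ U := fun y hy => by
    obtain ⟨z, hz, rfl⟩ := (hg'.mem_img_iff le_rfl).mp hy
    rw [hkg z hz]; exact hz
  have hcomp : MapTo F (img g U) (fun y => g (autFun α (k y))) :=
    (hk.comp (mapTo_of_mem_autGroup hUS hα) hkm).comp hg' fun y hy => autFun_mem α (hkm y hy)
  have hfin := finite_of_le hg'.img_le
  have himg : img (fun y => g (autFun α (k y))) (img g U) = img g U :=
    img_eq_self_of_forall hcomp fun y hy => mem_img_of_mem (autFun_mem α (hkm y hy))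
  have hxim : x ∈ img g U := by
    have := mem_img_of_mem (f := g) hx
    rwa [hgx] at this
  have h1 := h _ (autOf_mem hcomp himg)
  rw [autFun_autOf hcomp himg hxim] at h1
  have h2 : k x = x := by
    have := hkg x hx
    rwa [hgx] at this
  simp only [h2] at h1
  exact hg.inj (hUR (autFun_mem α hx)) (hUR hx) (h1.trans hgx.symm)

/-- If the automorphisms of big centric subgroups fix `x`, so do those of every subgroup with a
big normalizer. -/
theorem fix_autGroup_of_big (hS : IsPGroup p S) (hF : F.IsSaturated p) (hxS : x ∈ S)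
    (hxc : x ∈ Subgroup.centralizer (S : Set Ω)) (n : ℕ)
    (h : ∀ R : Subgroup Ω, F.IsFullyNormalized R → F.IsCentric R →
      n < Nat.card (normalizerIn S R : Subgroup Ω) → ∀ α ∈ F.autGroup R, autFun α x = x)
    (hU : U ≤ S) (hxU : x ∈ U) (hn : n < Nat.card (normalizerIn S U : Subgroup Ω)) :
    ∀ α ∈ F.autGroup U, autFun α x = x := by
  obtain ⟨U', hUU', hU'⟩ := exists_isFullyNormalized (F := F) hU
  have hU'a := isFullyAutomized_of_isFullyNormalized hS hF hU'
  have hU'r := isReceptive_of_isFullyNormalized hS hF hU'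
  have hU'c := isFullyCentralized_of_isFullyNormalized hS hF hU'
  obtain ⟨g, hg, hgU⟩ := exists_map_normalizerIn hS hU'a hU'r hUU'
  have hxN : x ∈ normalizerIn S U := le_normalizerIn hU hxU
  have hgx : g x = x := (fixExt_of_big hS hF hxS hxc n h hg hn).apply hxN
  refine fix_of_conj hg (le_normalizerIn hU) hxU hgx ?_
  rw [hgU]
  intro α hα
  have hU'S := hU'.1
  set C := centralizerIn S U' with hC
  set U₀ := U' ⊔ C with hU₀
  have hCS : C ≤ S := centralizerIn_le
  have hU₀S : U₀ ≤ S := sup_le hU'S hCS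
  have hfin := finite_of_le hU'S
  have hfin₀ := finite_of_le hU₀S
  have hxU' : x ∈ U' := by
    have := mem_img_of_mem (f := g) hxU
    rwa [hgU, hgx] at this
  -- centric
  have hU₀c : F.IsCentric U₀ := by
    refine ⟨hU₀S, fun T hT => ?_⟩
    obtain ⟨f, hf, rfl⟩ := isConj_iff.mp hT
    have hfC : img f C = centralizerIn S (img f U') := by
      have := finite_of_le (centralizerIn_le (S := S) (P := img f U'))
      refine Subgroup.eq_of_le_of_card_ge (img_le_of_forall fun z hz =>
        hf.map_mem_centralizerIn le_sup_left (Subgroup.mem_sup_right hz) hz) ?_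
      rw [hf.card_img le_sup_right]
      exact hU'c.2 _ (hf.restrict le_sup_left).isConj
    refine (centralizerIn_anti (img_mono le_sup_left)).trans ?_
    rw [← hfC]
    exact img_mono le_sup_right
  -- extension of `α`
  obtain ⟨e, he, hef⟩ := (isReceptive_iff.mp hU'r).2 U' _ (mapTo_of_mem_autGroup hU'S hα)
    (img_autFun α)
  have hU₀e : U₀ ≤ extSub S (mapTo_of_mem_autGroup hU'S hα) := by
    refine sup_le (le_extSub _) fun c hc => ?_
    refine ⟨⟨hCS hc, (centralizerIn_le_normalizerIn hc).2⟩, 1, S.one_mem, fun y hy => ?_⟩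
    simp only [cj_apply, one_mul, inv_one, mul_one]
    rw [← (mem_centralizerIn.mp hc).2 y hy, mul_inv_cancel_right]
  have he₀ := he.restrict hU₀e
  have heU' : img e U' = U' := by
    rw [img_congr (f := e) (g := autFun α) hef, img_autFun]
  have himg₀ : img e U₀ = U₀ := by
    refine img_eq_self_of_forall he₀ fun z hz => ?_
    have : img e U₀ ≤ U₀ := by
      rw [hU₀, he₀.img_sup le_sup_left le_sup_right, heU']
      refine sup_le le_sup_left (le_trans (img_le_of_forall fun c hc => ?_) le_sup_right)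
      have := he₀.map_mem_centralizerIn le_sup_left (Subgroup.mem_sup_right hc) hc
      rwa [heU'] at this
    exact this (mem_img_of_mem hz)
  -- move `U₀` to a fully normalized conjugate
  have hNU₀ : normalizerIn S U' ≤ normalizerIn S U₀ := by
    intro y hy
    have hy' := mapTo_cj (F := F) (P := U₀) hU₀S hy.1
    refine mem_normalizerIn_of_forall hU₀S hy.1 fun z hz => ?_
    have h1 : img (cj y) U' = U' := img_eq_self_of_forall (hy'.restrict le_sup_left)
      fun w hw => conj_mem_of_mem_normalizerIn hy hw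
    have : img (cj y) U₀ ≤ U₀ := by
      rw [hU₀, hy'.img_sup le_sup_left le_sup_right, h1]
      refine sup_le le_sup_left (le_trans (img_le_of_forall fun c hc => ?_) le_sup_right)
      have := hy'.map_mem_centralizerIn le_sup_left (Subgroup.mem_sup_right hc) hc
      rwa [h1] at this
    exact this (mem_img_of_mem (f := cj y) hz)
  have hn₀ : n < Nat.card (normalizerIn S U₀ : Subgroup Ω) := by
    have := finite_of_le (normalizerIn_le (S := S) (P := U₀))
    exact (hn.trans_le (hU'.2 U (isConj_symm hUU'))).trans_le (Subgroup.card_le_of_le hNU₀)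
  obtain ⟨V, hUV, hV⟩ := exists_isFullyNormalized (F := F) hU₀S
  obtain ⟨g', hg', hg'V⟩ := exists_map_normalizerIn hS (isFullyAutomized_of_isFullyNormalized hS hF hV)
    (isReceptive_of_isFullyNormalized hS hF hV) hUV
  have hxU₀ : x ∈ U₀ := Subgroup.mem_sup_left hxU'
  have hg'x : g' x = x := (fixExt_of_big hS hF hxS hxc n h hg' hn₀).apply
    (le_normalizerIn hU₀S hxU₀)
  have hfix : ∀ β ∈ F.autGroup U₀, autFun β x = x := by
    refine fix_of_conj hg' (le_normalizerIn hU₀S) hxU₀ hg'x ?_
    rw [hg'V]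
    exact h V hV (isCentric_of_isConj hU₀c hUV) (hn₀.trans_le (hV.2 U₀ (isConj_symm hUV)))
  have := hfix _ (autOf_mem he₀ himg₀)
  rw [autFun_autOf he₀ himg₀ hxU₀, hef x hxU'] at this
  exact this

/-- **Local control of the centre.** -/
theorem mem_center_of_local (hS : IsPGroup p S) (hF : F.IsSaturated p) (hxS : x ∈ S)
    (hxc : x ∈ Subgroup.centralizer (S : Set Ω)) (Wf : Subgroup Ω → Subgroup Ω)
    (hWle : ∀ T : Subgroup Ω, T ≤ S → Wf T ≤ T)
    (hWx : ∀ T : Subgroup Ω, T ≤ S → x ∈ T → x ∈ Wf T)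
    (hWeq : ∀ (T : Subgroup Ω) (f : Ω → Ω), MapTo F T f → img f (Wf T) = Wf (img f T))
    (htop : ∀ α ∈ F.autGroup (Wf S), autFun α x = x)
    (core : ∀ (R : Subgroup Ω), F.IsFullyNormalized R → F.IsCentric R →
      ∀ E : FusionSystem (normalizerIn S R), F.IsNormalizerSystem R E →
      ∀ (G : Type u) [Group G] (ι : ↥(normalizerIn S R) →* G), E.IsModel p G ι →
      (∀ a ∈ Subgroup.normalizer (imageAlong ι (Wf (normalizerIn S R)) : Set G),
        a * th ι x = th ι x * a) → ∀ a : G, a * th ι x = th ι x * a) :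
    x ∈ F.center := by
  have key : ∀ m : ℕ, ∀ R : Subgroup Ω, F.IsFullyNormalized R → F.IsCentric R →
      Nat.card S ≤ Nat.card (normalizerIn S R : Subgroup Ω) + m →
      ∀ α ∈ F.autGroup R, autFun α x = x := by
    intro m
    induction m using Nat.strong_induction_on with
    | _ m ih =>
      intro R hRn hRc hm α hα
      have hRS := hRn.1
      set T := normalizerIn S R with hT
      have hTS : T ≤ S := normalizerIn_le
      have := finite_of_le hTS
      have hxR : x ∈ R := centralizerIn_le_of_isCentric hRc (mem_centralizerIn.mpr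
        ⟨hxS, fun y hy => Subgroup.mem_centralizer_iff.mp hxc y (hRS hy)⟩)
      have hRT : R ≤ T := le_normalizerIn hRS
      have hxT : x ∈ T := hRT hxR
      have hE := isNormalizerSystem_nSys F hRS
      obtain ⟨G, _, ι, hmod⟩ := exists_model (hS.to_le hTS)
        (isConstrained_normalizerSystem hS hF hRn hRc hE)
      set U := Wf T with hUdef
      have hUT : U ≤ T := hWle T hTS
      have hxU : x ∈ U := hWx T hTS hxT
      -- the automorphisms of `U` fix `x`
      have hUfix : ∀ β ∈ F.autGroup U, autFun β x = x := by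
        rcases eq_or_lt_of_le hTS with hTeq | hlt
        · rw [hUdef, hTeq]; exact htop
        · have h1 : Nat.card T < Nat.card (normalizerIn S U : Subgroup Ω) := by
            have := finite_of_le (normalizerIn_le (S := S) (P := U))
            have := finite_of_le (normalizerIn_le (S := S) (P := T))
            have hlt' := lt_normalizerIn hS hlt
            refine lt_of_lt_of_le (lt_of_le_of_ne (Subgroup.card_le_of_le hlt'.le) fun e =>
              hlt'.ne (Subgroup.eq_of_le_of_card_ge hlt'.le e.ge)) (Subgroup.card_le_of_le ?_)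
            intro y hy
            have hy' := mapTo_cj (F := F) (P := T) hTS hy.1
            have himgT : img (cj y) T = T := img_eq_self_of_forall hy' fun z hz =>
              conj_mem_of_mem_normalizerIn hy hz
            refine mem_normalizerIn_of_forall (hUT.trans hTS) hy.1 fun z hz => ?_
            have := hWeq T (cj y) hy'
            rw [himgT] at this
            exact this.le (mem_img_of_mem (f := cj y) hz)
          have hTlt : Nat.card T < Nat.card S := h1.trans_le (Subgroup.card_le_of_le normalizerIn_le)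
          refine fix_autGroup_of_big hS hF hxS hxc (Nat.card T) (fun R' hR'n hR'c hbig => ?_)
            (hUT.trans hTS) hxU h1
          exact ih (m - 1) (by omega) R' hR'n hR'c (by omega)
      have hcomm := core R hRn hRc _ hE G ι hmod fun a ha => by
        have hmem : ∀ z ∈ U, a * th ι z * a⁻¹ ∈ imageAlong ι U := fun z hz =>
          (Subgroup.mem_normalizer_iff.mp ha _).mp (th_mem_imageAlong hUT hz)
        obtain ⟨f, hf, hfa⟩ := IsRealizedBy.exists_mapTo hmod.2.1 hUT a fun z hz =>
          imageAlong_le_range (hmem z hz)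
        have hfU : ∀ z ∈ U, f z ∈ U := fun z hz => by
          obtain ⟨w, hw, hwz⟩ := (mem_imageAlong hUT).mp (hfa z hz ▸ hmem z hz)
          rwa [← th_inj hmod.2.1.1 (hUT hw) (hf.mem hz) hwz]
        obtain ⟨-, -, e, he, hef, -⟩ := (mapTo_nSys_iff hE).mp hf
        have := finite_of_le (hUT.trans hTS)
        have hfF : MapTo F U f := (he.restrict le_sup_left).congr' fun z hz => (hef z hz).symm
        have h2 := hUfix _ (autOf_mem hfF (img_eq_self_of_forall hfF hfU))
        rw [autFun_autOf hfF _ hxU] at h2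
        have h3 := hfa x hxU
        rw [h2] at h3
        exact mul_inv_eq_iff_eq_mul.mp h3.symm
      have hα' : MapTo (nSys F hRS) R (autFun α) := (mapTo_nSys_iff hE).mpr
        ⟨hRT, fun z hz => hRT (autFun_mem α hz), autFun α,
          by rw [sup_idem]; exact mapTo_of_mem_autGroup hRS hα, fun _ _ => rfl, img_autFun α⟩
      obtain ⟨a, ha⟩ := IsRealizedBy.exists_conj hmod.2.1 hα'
      refine th_inj hmod.2.1.1 (hRT (autFun_mem α hxR)) hxT ?_
      rw [ha x hxR, hcomm a, mul_inv_cancel_right]
  have hcen : F.IsCentral (Subgroup.zpowers x) := by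
    refine isCentral_iff.mpr ⟨Subgroup.zpowers_le.mpr hxS, fun P f hf => ?_⟩
    have := finite_of_le hf.le
    obtain ⟨g, hg, hgf, hgx⟩ := fixExt_of_big hS hF hxS hxc 0
      (fun R hRn hRc _ => key (Nat.card S) R hRn hRc (Nat.le_add_left _ _)) hf Nat.card_pos
    refine ⟨g, hg, hgf, fun z hz => ?_⟩
    have hle : Subgroup.zpowers x ≤ P ⊔ Subgroup.zpowers x := le_sup_right
    obtain ⟨φ, -, hφ⟩ := id hg
    obtain ⟨i, rfl⟩ := Subgroup.mem_zpowers_iff.mp hz
    have h1 := congrArg (· ^ i) (hφ ⟨x, hle (Subgroup.mem_zpowers x)⟩)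
    simp only [← _root_.map_zpow] at h1
    rw [hφ] at h1
    simpa [hgx] using h1
  exact le_sSup (a := Subgroup.zpowers x) hcen (Subgroup.mem_zpowers x)

/-! ### The centre of a normalizer system -/

variable {N : FusionSystem (normalizerIn S U)}

theorem center_le_center_normalizerSystem (hUS : U ≤ S) (hn : S ≤ Subgroup.normalizer (U : Set Ω))
    (hN : F.IsNormalizerSystem U N) : F.center ≤ N.center := by
  have hNS : normalizerIn S U = S := inf_eq_left.mpr hn
  obtain ⟨hZS, hext⟩ := isCentral_iff.mp (isCentral_center F)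
  refine le_sSup (isCentral_iff.mpr ⟨hZS.trans hNS.ge, fun P f hf => ?_⟩)
  obtain ⟨hP, -, g₀, hg₀, hg₀f, hg₀U⟩ := (mapTo_nSys_iff hN).mp hf
  obtain ⟨g, hg, hgg, hgZ⟩ := hext _ g₀ hg₀
  have hle : P ⊔ F.center ≤ P ⊔ U ⊔ F.center := sup_le_sup_right le_sup_left _
  refine ⟨g, (mapTo_nSys_iff hN).mpr ⟨sup_le hP (hZS.trans hNS.ge), fun z hz => ?_, g, ?_,
    fun _ _ => rfl, ?_⟩, fun z hz => by rw [hgg z (Subgroup.mem_sup_left hz), hg₀f z hz], hgZ⟩
  · rw [hNS]; exact hg.mem (hle hz)
  · rwa [sup_right_comm]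
  · rw [img_congr (g := g₀) fun z hz => hgg z (Subgroup.mem_sup_right hz), hg₀U]

theorem mem_center_normalizerSystem (hUS : U ≤ S) (hn : S ≤ Subgroup.normalizer (U : Set Ω))
    (hN : F.IsNormalizerSystem U N) (hx : x ∈ N.center) :
    x ∈ S ∧ x ∈ Subgroup.centralizer (S : Set Ω) ∧
      (x ∈ U → ∀ α ∈ F.autGroup U, autFun α x = x) := by
  have hNS : normalizerIn S U = S := inf_eq_left.mpr hn
  have : Finite (normalizerIn S U) := finite_of_le normalizerIn_le
  obtain ⟨hZN, hext⟩ := isCentral_iff.mp (isCentral_center N)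
  have hxc := N.center_le_centralizer hx
  rw [hNS] at hxc
  refine ⟨hNS.le (hZN hx), hxc, fun hxU α hα => ?_⟩
  have hα' : MapTo N U (autFun α) := (mapTo_nSys_iff hN).mpr
    ⟨hUS.trans hNS.ge, fun z hz => hNS.ge (hUS (autFun_mem α hz)), autFun α,
      by rw [sup_idem]; exact mapTo_of_mem_autGroup hUS hα, fun _ _ => rfl, img_autFun α⟩
  obtain ⟨g, -, hgα, hgx⟩ := hext U _ hα'
  rw [← hgα x hxU]
  exact hgx x hx

/-! ### Functors -/

variable (W : ∀ (Q : Type u) [Group Q], Subgroup Q)

/-- An invariant functor on the subgroups of `Ω`. -/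
def functorIn (T : Subgroup Ω) : Subgroup Ω := (W ↥T).map T.subtype

theorem functorIn_le (T : Subgroup Ω) : functorIn W T ≤ T := Subgroup.map_subtype_le _

theorem img_functorIn
    (hW : ∀ (Q R : Type u) [Group Q] [Group R] [Finite Q], IsPGroup p Q →
      ∀ φ : Q ≃* R, (W Q).map φ.toMonoidHom = W R)
    (hS : IsPGroup p S) {T : Subgroup Ω} (hf : MapTo F T f) :
    img f (functorIn W T) = functorIn W (img f T) := by
  have := finite_of_le hf.le
  have h := hW ↥T ↥(img f T) (hS.to_le hf.le) (isoEquiv hf rfl)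
  refine le_antisymm (img_le_of_forall ?_) ?_
  · rintro _ ⟨w, hw, rfl⟩
    exact ⟨isoEquiv hf rfl w, h.le ⟨w, hw, rfl⟩, rfl⟩
  · rintro _ ⟨v, hv, rfl⟩
    obtain ⟨w, hw, rfl⟩ := h.ge hv
    exact mem_img_of_mem (f := f) (⟨w, hw, rfl⟩ : (w : Ω) ∈ functorIn W T)

theorem imageAlong_functorIn {G : Type u} [Group G]
    (hW : ∀ (Q R : Type u) [Group Q] [Group R] [Finite Q], IsPGroup p Q →
      ∀ φ : Q ≃* R, (W Q).map φ.toMonoidHom = W R)
    {T : Subgroup Ω} [Finite T] (hT : IsPGroup p T) {ι : ↥T →* G} (hι : Function.Injective ι)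
    {P : Subgroup G} (hP : P = ι.range) :
    imageAlong ι (functorIn W T) = (W ↥P).map P.subtype := by
  subst hP
  rw [← hW ↥T ↥ι.range hT (MonoidHom.ofInjective hι), imageAlong, functorIn,
    Subgroup.subgroupOf, Subgroup.comap_map_eq_self_of_injective T.subtype_injective,
    Subgroup.map_map]
  rfl

theorem mem_functorIn_of_center
    (hW : ∀ (Q : Type u) [Group Q] [Finite Q], IsPGroup p Q → Subgroup.center Q ≤ W Q)
    (hS : IsPGroup p S) {T : Subgroup Ω} (hT : T ≤ S) (hxc : x ∈ Subgroup.centralizer (S : Set Ω))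
    (hx : x ∈ T) : x ∈ functorIn W T := by
  have := finite_of_le hT
  exact ⟨⟨x, hx⟩, hW ↥T (hS.to_le hT) (Subgroup.mem_center_iff.mpr fun y =>
    Subtype.ext (Subgroup.mem_centralizer_iff.mp hxc y (hT y.2))), rfl⟩

end Cfsg.Agent.Fusion
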