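import Mathlib
import Cfsg.Prelude.Def_FusionReduction
import Cfsg.Agent.Lib.Fusion.CenterControl
import Cfsg.Agent.Lib.Transfer.CoreClosure

/-!
# Glauberman's theorem on the centre of `N_F(J(S))`
-/

set_option autoImplicit false

namespace Cfsg.Agent.Fusion

open Cfsg.FusionSystem (centralizerIn normalizerIn imageAlong preimageAlong)
open Cfsg.Agent.Transfer (JAb)

universe u

variable {Ω : Type u} [Group Ω] {S : Subgroup Ω} {F : FusionSystem S}
variable {U T : Subgroup Ω} {f : Ω → Ω} {x : Ω} {p : ℕ}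

theorem img_JAb (hf : MapTo F T f) : img f (JAb 0 T) = JAb 0 (img f T) := by
  obtain ⟨φ, hφ, hφf⟩ := id hf
  have hinj := F.injective_of_mem hφ
  have h1 : (JAb 0 T).subgroupOf T = JAb 0 (⊤ : Subgroup T) := by
    apply Subgroup.map_injective T.subtype_injective
    rw [Subgroup.subgroupOf_map_subtype, inf_eq_left.mpr (Transfer.JAb_le T),
      Transfer.map_JAb _ _ T.subtype_injective.injOn, ← MonoidHom.range_eq_map, Subgroup.range_subtype]
  rw [← map_subgroupOf_eq_img hφf (Transfer.JAb_le T), h1,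
    Transfer.map_JAb _ _ hinj.injOn, ← MonoidHom.range_eq_map, range_eq_img hφf]

theorem imageAlong_JAb {G : Type*} [Group G] {ι : ↥T →* G} (hι : Function.Injective ι) :
    imageAlong ι (JAb 0 T) = JAb 0 ι.range := by
  have h1 : (JAb 0 T).subgroupOf T = JAb 0 (⊤ : Subgroup T) := by
    apply Subgroup.map_injective T.subtype_injective
    rw [Subgroup.subgroupOf_map_subtype, inf_eq_left.mpr (Transfer.JAb_le T),
      Transfer.map_JAb _ _ T.subtype_injective.injOn, ← MonoidHom.range_eq_map, Subgroup.range_subtype]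
  rw [Cfsg.FusionSystem.imageAlong, h1, Transfer.map_JAb _ _ hι.injOn, ← MonoidHom.range_eq_map]

variable [Finite S] [Fact p.Prime]

/-- An element fixed by `Aut_F(J(S))` is central when `p` is odd, or it is a `p`-th power in
`Z(S)`, or the system is `S₄`-free. -/
theorem mem_center_of_J (hS : IsPGroup p S) (hF : F.IsSaturated p) (hxS : x ∈ S)
    (hxc : x ∈ Subgroup.centralizer (S : Set Ω))
    (htop : ∀ α ∈ F.autGroup (JAb 0 S), autFun α x = x)
    (h : p ≠ 2 ∨ (∃ z ∈ S ⊓ Subgroup.centralizer (S : Set Ω), z ^ p = x) ∨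
      F.IsSectionFree p (Equiv.Perm (Fin 4))) : x ∈ F.center := by
  refine mem_center_of_local hS hF hxS hxc (fun T => JAb 0 T) (fun T _ => Transfer.JAb_le T)
    (fun T hT hxT => ?_) (fun T f hf => img_JAb hf) htop
    fun R hRn hRc E hE G _ ι hmod ha => ?_
  · have := finite_of_le hT
    -- work inside `↥T`
    have h1 : (⟨x, hxT⟩ : T) ∈ JAb 0 (⊤ : Subgroup T) :=
      Transfer.center_le_JAb_zero _ ⟨trivial, Subgroup.mem_centralizer_iff.mpr fun y _ =>
        Subtype.ext (Subgroup.mem_centralizer_iff.mp hxc y (hT y.2))⟩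
    have h2 := Subgroup.mem_map_of_mem T.subtype h1
    rwa [Transfer.map_JAb _ _ T.subtype_injective.injOn, ← MonoidHom.range_eq_map,
      Subgroup.range_subtype] at h2
  · obtain ⟨hfin, hreal, ⟨P, hP⟩, hC⟩ := hmod
    have hTS : normalizerIn S R ≤ S := normalizerIn_le
    have hRS := hRn.1
    have hxR : x ∈ R := centralizerIn_le_of_isCentric hRc (mem_centralizerIn.mpr
      ⟨hxS, fun y hy => Subgroup.mem_centralizer_iff.mp hxc y (hRS hy)⟩)
    have hxT : x ∈ normalizerIn S R := le_normalizerIn hRS hxR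
    have hcT : ∀ z : Ω, z ∈ S → z ∈ Subgroup.centralizer (S : Set Ω) →
        z ∈ normalizerIn S R := fun z hzS hzc =>
      centralizerIn_le_normalizerIn (mem_centralizerIn.mpr
        ⟨hzS, fun y hy => Subgroup.mem_centralizer_iff.mp hzc y (hRS hy)⟩)
    have hP' : ∀ z : Ω, z ∈ S → z ∈ Subgroup.centralizer (S : Set Ω) →
        th ι z ∈ (P : Subgroup G) ⊓ Subgroup.centralizer ((P : Subgroup G) : Set G) := by
      intro z hzS hzc
      have hzT := hcT z hzS hzc
      refine ⟨hP ▸ th_mem_range ι z, Subgroup.mem_centralizer_iff.mpr fun y hy => ?_⟩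
      rw [SetLike.mem_coe, hP] at hy
      obtain ⟨w, hw, rfl⟩ := exists_th_eq hy
      rw [← th_mul ι hw hzT, ← th_mul ι hzT hw,
        Subgroup.mem_centralizer_iff.mp hzc w (hTS hw)]
    refine Transfer.commute_of_normalizer_J P (th ι x) (hP' x hxS hxc).1 (hP' x hxS hxc).2 hC ?_ ?_
    · intro a hmem
      refine Subgroup.mem_centralizer_iff.mpr fun b hb => ?_
      rw [Set.mem_singleton_iff.mp hb]
      refine (ha a ?_).symm
      rwa [imageAlong_JAb hreal.1, ← hP]
    · rcases h with h | ⟨z, hz, hzx⟩ | h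
      · exact Or.inl h
      · refine Or.inr (Or.inl ⟨th ι z, hP' z hz.1 hz.2, ?_⟩)
        have hzT := hcT z hz.1 hz.2
        rw [th_apply ι hzT, ← map_pow, th_apply ι hxT]
        exact congrArg ι (Subtype.ext hzx)
      · exact Or.inr (Or.inr (h R hRn hRc E hE G ι ⟨hfin, hreal, ⟨P, hP⟩, hC⟩))

/-- The elements of the centre of `N_F(J(S))` to which the theorem applies. -/
theorem mem_center_of_mem_center_J (hS : IsPGroup p S) (hF : F.IsSaturated p)
    {N : FusionSystem (normalizerIn S (JAb 0 S))} (hN : F.IsNormalizerSystem (JAb 0 S) N)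
    (hx : x ∈ N.center)
    (h : p ≠ 2 ∨ (∃ z ∈ S ⊓ Subgroup.centralizer (S : Set Ω), z ^ p = x) ∨
      F.IsSectionFree p (Equiv.Perm (Fin 4))) : x ∈ F.center := by
  have hn : S ≤ Subgroup.normalizer (JAb 0 S : Set Ω) :=
    Subgroup.le_normalizer.trans (Transfer.normalizer_le_normalizer_JAb S)
  obtain ⟨hxS, hxc, hfix⟩ := mem_center_normalizerSystem (Transfer.JAb_le S) hn hN hx
  refine mem_center_of_J hS hF hxS hxc (hfix ?_) h
  -- `Z(S) ≤ J(S)`
  have h1 : (⟨x, hxS⟩ : S) ∈ JAb 0 (⊤ : Subgroup S) :=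
    Transfer.center_le_JAb_zero _ ⟨trivial, Subgroup.mem_centralizer_iff.mpr fun y _ =>
      Subtype.ext (Subgroup.mem_centralizer_iff.mp hxc y y.2)⟩
  have h2 := Subgroup.mem_map_of_mem S.subtype h1
  rwa [Transfer.map_JAb _ _ S.subtype_injective.injOn, ← MonoidHom.range_eq_map,
    Subgroup.range_subtype] at h2

omit [Fact p.Prime] in
/-- The subgroup generated by the `p`-th powers of `Z(S)` consists of `p`-th powers. -/
theorem exists_pow_of_mem_closure {x : Ω}
    (hx : x ∈ Subgroup.closure ((fun z : Ω => z ^ p) ''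
      ((S ⊓ Subgroup.centralizer (S : Set Ω) : Subgroup Ω) : Set Ω))) :
    ∃ z ∈ S ⊓ Subgroup.centralizer (S : Set Ω), z ^ p = x := by
  induction hx using Subgroup.closure_induction with
  | mem y hy => exact hy
  | one => exact ⟨1, one_mem _, one_pow p⟩
  | mul a c _ _ iha ihc =>
    obtain ⟨u, hu, rfl⟩ := iha
    obtain ⟨v, hv, rfl⟩ := ihc
    exact ⟨u * v, mul_mem hu hv,
      Commute.mul_pow (Subgroup.mem_centralizer_iff.mp hv.2 u hu.1) p⟩
  | inv a _ iha =>
    obtain ⟨u, hu, rfl⟩ := iha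
    exact ⟨u⁻¹, inv_mem hu, inv_pow u p⟩

end Cfsg.Agent.Fusion
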