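import Cfsg.Agent.Lib.Fusion.FocalCentralizer

/-!
For a normal subsystem `E` over `T` of `F`, the focal subgroup of `C_F(T)` centralizes `E`.
-/

set_option autoImplicit false
set_option linter.style.haveILetI false

namespace Cfsg.Agent.Fusion

open Cfsg.FusionSystem (centralizerIn normalizerIn)

universe u

variable {Ω : Type u} [Group Ω] {S T : Subgroup Ω} {F : FusionSystem S} {E : FusionSystem T}
  {p : ℕ} [Finite S] [Fact p.Prime]

/-- The map `f` extends to `X`, fixing it pointwise. -/
def ExtFix (F : FusionSystem S) (X P : Subgroup Ω) (f : Ω → Ω) : Prop :=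
  ∃ g, MapTo F (P ⊔ X) g ∧ (∀ x ∈ P, g x = f x) ∧ ∀ x ∈ X, g x = x

omit [Finite S] [Fact p.Prime] in
theorem ExtFix.congr' {X P : Subgroup Ω} {f f' : Ω → Ω} (h : ExtFix F X P f)
    (hff : ∀ x ∈ P, f' x = f x) : ExtFix F X P f' := by
  obtain ⟨g, hg, hgf, hgX⟩ := h
  exact ⟨g, hg, fun x hx => (hgf x hx).trans (hff x hx).symm, hgX⟩

omit [Finite S] [Fact p.Prime] in
theorem ExtFix.comp {X P Q : Subgroup Ω} {f g : Ω → Ω} (h₁ : ExtFix F X P f)
    (h₂ : ExtFix F X Q g) (hfQ : ∀ x ∈ P, f x ∈ Q) : ExtFix F X P fun x => g (f x) := by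
  obtain ⟨e₁, he₁, he₁f, he₁X⟩ := h₁
  obtain ⟨e₂, he₂, he₂g, he₂X⟩ := h₂
  refine ⟨fun x => e₂ (e₁ x), he₁.comp he₂ fun x hx => ?_, fun x hx => ?_, fun x hx => ?_⟩
  · have : img e₁ (P ⊔ X) ≤ Q ⊔ X := by
      rw [he₁.img_sup le_sup_left le_sup_right, img_congr (f := e₁) (P := X) he₁X, img_id]
      exact sup_le_sup_right (img_le_of_forall fun y hy => (he₁f y hy).symm ▸ hfQ y hy) X
    exact this (mem_img_of_mem hx)
  · show e₂ (e₁ x) = g (f x)
    rw [he₁f x hx, he₂g _ (hfQ x hx)]
  · show e₂ (e₁ x) = x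
    rw [he₁X x hx, he₂X x hx]

omit [Finite S] [Fact p.Prime] in
theorem ExtFix.inverse {X P P' : Subgroup Ω} {f g : Ω → Ω} (h : ExtFix F X P f)
    (himg : img f P = P') (hgf : ∀ x ∈ P, g (f x) = x) : ExtFix F X P' g := by
  obtain ⟨e, he, hef, heX⟩ := h
  obtain ⟨k, hk, hke, -, -⟩ := he.exists_iso_inverse
  rw [he.img_sup le_sup_left le_sup_right, img_congr (f := e) (P := X) heX, img_id,
    img_congr (f := e) (P := P) hef, himg] at hk
  refine ⟨k, hk, fun y hy => ?_, fun x hx => ?_⟩
  · have hP : MapTo F P e := he.restrict le_sup_left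
    have h1 : y ∈ img e P := by rw [img_congr hef, himg]; exact hy
    obtain ⟨x, hx, rfl⟩ := (hP.mem_img_iff le_rfl).mp h1
    rw [hke x ((le_sup_left : P ≤ P ⊔ X) hx), hef x hx, hgf x hx]
  · conv_lhs => rw [← heX x hx]
    exact hke x ((le_sup_right : X ≤ P ⊔ X) hx)

/-- In a normal subsystem the focal subgroup of `C_F(T)` is centralized. -/
theorem extFix_focal (hS : IsPGroup p S) (hE : E.IsNormalIn F p) (hTS : T ≤ S)
    {P : Subgroup Ω} {f : Ω → Ω} (hf : MapTo E P f) :
    ExtFix F (cSys F hTS).focalSubgroup P f := by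
  classical
  obtain ⟨⟨hEs, hFs, hEi⟩, hext⟩ := hE
  haveI : Finite T := finite_of_le hTS
  have hTp : IsPGroup p T := hS.to_le hTS
  have hTn : S ≤ Subgroup.normalizer (T : Set Ω) := StronglyClosed.le_normalizer hEi.2.1
  have hTfn : F.IsFullyNormalized T := isFullyNormalized_of_normal hTS hTn
  have hD := isCentralizerSystem_cSys F hTS
  set X := (cSys F hTS).focalSubgroup with hXdef
  have hXC : X ≤ centralizerIn S T := focal_le_iff.mpr fun R g hg x hx =>
    Subgroup.mul_mem _ (Subgroup.inv_mem _ (hg.le hx)) (hg.mem hx)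
  have hXS : X ≤ S := hXC.trans centralizerIn_le
  have hXfix : ∀ {t x : Ω}, t ∈ T → x ∈ X → t * x * t⁻¹ = x := fun ht hx => by
    rw [(mem_centralizerIn.mp (hXC hx)).2 _ ht, mul_inv_cancel_right]
  -- `X` is invariant under `Aut_F(T ⊔ C_S(T))`
  set U := T ⊔ centralizerIn S T with hUdef
  have hXU : X ≤ U := hXC.trans le_sup_right
  have hinvX : ∀ {a : Ω → Ω}, MapTo F U a → img a T = T → ∀ x ∈ X, a x ∈ X := by
    intro a ha haT
    have hmap : ∀ R g, MapTo (cSys F hTS) R g → ∀ x ∈ R, a (x⁻¹ * g x) ∈ X := by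
      intro R g hg x hx
      obtain ⟨hRC, hgC, e, he, heg, heT⟩ := (mapTo_cSys_iff hD).mp hg
      have hRU : R ⊔ T ≤ U := sup_le (hRC.trans le_sup_right) le_sup_left
      have hgxC : g x ∈ centralizerIn S T := hgC x hx
      obtain ⟨k, hk, hka, -, -⟩ := (ha.restrict hRU).exists_iso_inverse
      have hkmem : ∀ y ∈ img a (R ⊔ T), k y ∈ R ⊔ T := fun y hy => by
        obtain ⟨w, hw, rfl⟩ := ((ha.restrict hRU).mem_img_iff le_rfl).mp hy
        rw [hka w hw]; exact hw
      have heU : ∀ y ∈ R ⊔ T, e y ∈ U := fun y hy => by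
        have h1 : img e (R ⊔ T) ≤ U := by
          rw [he.img_sup le_sup_left le_sup_right, img_congr (f := e) (P := T) heT, img_id,
            img_congr (f := e) (P := R) heg]
          exact sup_le ((img_le_of_forall hgC).trans le_sup_right) le_sup_left
        exact h1 (mem_img_of_mem hy)
      have hm : MapTo F (img a (R ⊔ T)) (fun y => a (e (k y))) :=
        (hk.comp he hkmem).comp ha fun y hy => heU _ (hkmem y hy)
      rw [(ha.restrict hRU).img_sup le_sup_left le_sup_right, haT] at hm
      have haC : ∀ c ∈ centralizerIn S T, a c ∈ centralizerIn S T := fun c hc =>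
        mem_centralizerIn.mpr ⟨ha.mem ((le_sup_right : centralizerIn S T ≤ U) hc), fun y hy => by
          obtain ⟨t, ht, rfl⟩ := (ha.mem_img_iff le_sup_left).mp (haT.ge hy)
          rw [← ha.map_mul ((le_sup_left : T ≤ U) ht) ((le_sup_right : centralizerIn S T ≤ U) hc),
            ← ha.map_mul ((le_sup_right : centralizerIn S T ≤ U) hc) ((le_sup_left : T ≤ U) ht),
            (mem_centralizerIn.mp hc).2 t ht]⟩
      have hRa : MapTo F R a := ha.restrict (hRC.trans le_sup_right)
      have hD' : MapTo (cSys F hTS) (img a R) (fun y => a (e (k y))) := by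
        refine (mapTo_cSys_iff hD).mpr ⟨img_le_of_forall fun w hw => haC w (hRC hw),
          fun y hy => ?_, _, hm, fun _ _ => rfl, fun y hy => ?_⟩
        · obtain ⟨w, hw, rfl⟩ := (hRa.mem_img_iff le_rfl).mp hy
          rw [hka w ((le_sup_left : R ≤ R ⊔ T) hw), heg w hw]
          exact haC _ (hgC w hw)
        · obtain ⟨t, ht, rfl⟩ := (ha.mem_img_iff le_sup_left).mp (haT.ge hy)
          show a (e (k (a t))) = a t
          rw [hka t ((le_sup_right : T ≤ R ⊔ T) ht), heT t ht]
      have h1 := mem_focal hD' (mem_img_of_mem (f := a) hx)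
      rw [hka x ((le_sup_left : R ≤ R ⊔ T) hx), heg x hx] at h1
      have hxU : x ∈ U := (le_sup_right : centralizerIn S T ≤ U) (hRC hx)
      rwa [ha.map_mul (U.inv_mem hxU) ((le_sup_right : centralizerIn S T ≤ U) hgxC),
        ha.map_inv hxU]
    intro y hy
    unfold FusionSystem.focalSubgroup at hXdef
    rw [hXdef] at hy
    induction hy using Subgroup.closure_induction with
    | mem w hw =>
      obtain ⟨R, φ, x, hφ, rfl⟩ := hw
      have := hmap R _ (mapTo_ev hφ) x x.2
      rwa [ev_coe] at this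
    | one => rw [ha.map_one]; exact X.one_mem
    | mul b c hb hc ihb ihc =>
      rw [← hXdef] at hb hc
      rw [ha.map_mul (hXU hb) (hXU hc)]
      exact X.mul_mem ihb ihc
    | inv b hb ihb =>
      rw [← hXdef] at hb
      rw [ha.map_inv (hXU hb)]
      exact X.inv_mem ihb
  -- fully normalized in `F` implies fully normalized in `E`
  have hfnE : ∀ {P : Subgroup Ω}, P ≤ T → F.IsFullyNormalized P → E.IsFullyNormalized P := by
    intro P hPT hPfn
    refine ⟨hPT, fun P' hP' => ?_⟩
    obtain ⟨g, hg, hgP⟩ := exists_isStd hS hFs hPfn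
      (isConj_symm (IsSubsystemOf.isConj hEi.1 hP'))
    haveI : Finite ↥(normalizerIn T P) := finite_of_le (inf_le_left.trans hTS)
    have hle : normalizerIn T P' ≤ normalizerIn S P' := inf_le_inf_right _ hTS
    refine Nat.card_le_card_of_injective (fun x => ⟨g x, ?_⟩) ?_
    · refine ⟨StronglyClosed.map_mem hEi.2.1 hg (hle x.2) x.2.1, ?_⟩
      have hP'le : P' ≤ normalizerIn S P' := le_normalizerIn (isConj_le_right (IsSubsystemOf.isConj hEi.1 hP'))
      haveI : Finite P := finite_of_le (hPT.trans hTS)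
      refine mem_normalizer_of_forall fun y hy => ?_
      obtain ⟨w, hw, rfl⟩ := (hg.mem_img_iff hP'le).mp (hgP.ge hy)
      rw [← hg.map_conj (hle x.2) (hP'le hw)]
      exact hgP.le (mem_img_of_mem (conj_mem_of_mem_normalizerIn (hle x.2) hw))
    · intro x y hxy
      exact Subtype.ext (hg.inj (hle x.2) (hle y.2) (congrArg Subtype.val hxy))
  -- the main step
  have hcore : ∀ P ≤ T, F.IsFullyNormalized P → centralizerIn T P ≤ P →
      (∀ (R : Subgroup Ω) (g : Ω → Ω), Nat.card P < Nat.card R → MapTo E R g → ExtFix F X R g) →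
      ∀ α ∈ E.autGroup P, ExtFix F X P (autFun α) := by
    intro P hPT hPfn hCTP hIH
    have hPS : P ≤ S := hPT.trans hTS
    haveI := finite_of_le hPS
    haveI := finite_mulAut P
    have hPfc : F.IsFullyCentralized P := isFullyCentralized_of_isFullyNormalized hS hFs hPfn
    have hEfn := hfnE hPT hPfn
    have hXP : X ≤ centralizerIn S P := hXC.trans (centralizerIn_anti hPT)
    let G : Subgroup (MulAut P) :=
      { carrier := {α | α ∈ E.autGroup P ∧ ExtFix F X P (autFun α)}
        one_mem' := ⟨Subgroup.one_mem _, fun x => x, mapTo_id F (sup_le hPS hXS),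
          fun x hx => (autFun_one hx).symm, fun _ _ => rfl⟩
        mul_mem' := by
          rintro a b ⟨ha, ha'⟩ ⟨hb, hb'⟩
          exact ⟨Subgroup.mul_mem _ ha hb, (hb'.comp ha' fun x hx => autFun_mem b hx).congr'
            fun x hx => autFun_mul _ _ hx⟩
        inv_mem' := by
          rintro a ⟨ha, ha'⟩
          exact ⟨Subgroup.inv_mem _ ha, ha'.inverse (img_autFun a)
            fun x hx => autFun_inv_autFun a hx⟩ }
    have hGinn : autInducedBy T P ≤ G := by
      intro α hα
      obtain ⟨t, ht, htx⟩ := mem_autInducedBy_iff_cj.mp hα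
      exact ⟨autInducedBy_le_autGroup hPT hα, cj t,
        mapTo_cj (sup_le hPS hXS) (hTS ht), fun x hx => (htx x hx).symm, fun x hx => hXfix ht hx⟩
    -- automorphisms with a lift centralizing `C_S(P)` modulo `P`
    set Q := P ⊔ centralizerIn S P with hQdef
    have hQS : Q ≤ S := sup_le hPS centralizerIn_le
    haveI := finite_of_le hQS
    haveI := finite_mulAut Q
    have hlift : ∀ (α : MulAut P) (θ : MulAut Q), α ∈ E.autGroup P → θ ∈ F.autGroup Q →
        (∀ x ∈ P, autFun θ x = autFun α x) → (orderOf α).Coprime p →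
        (∀ c ∈ centralizerIn S P, c⁻¹ * autFun θ c ∈ P) → α ∈ G := by
      intro α θ hα hθ hθα hcop hθc
      obtain ⟨a, b, ha, hb, hab, ⟨j, hj⟩, hbc⟩ := Transfer.exists_pPart_mul (p := p) θ
      have hθP : ∀ x ∈ P, autFun θ x ∈ P := fun x hx => hθα x hx ▸ autFun_mem α hx
      have hQP : P ≤ Q := le_sup_left
      have hm := mapTo_of_mem_autGroup hQS hθ
      -- powers of `θ` behave like `θ`
      have hpow : ∀ n : ℕ, (∀ x ∈ P, autFun (θ ^ n) x = autFun (α ^ n) x) ∧
          ∀ c ∈ centralizerIn S P, c⁻¹ * autFun (θ ^ n) c ∈ P := by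
        intro n
        induction n with
        | zero => exact ⟨fun x hx => by rw [pow_zero, pow_zero, autFun_one hx, autFun_one (hQP hx)],
            fun c hc => by rw [pow_zero, autFun_one ((le_sup_right : centralizerIn S P ≤ Q) hc),
              inv_mul_cancel]; exact P.one_mem⟩
        | succ n ih =>
          refine ⟨fun x hx => ?_, fun c hc => ?_⟩
          · rw [pow_succ' θ, pow_succ' α, autFun_mul _ _ (hQP hx), autFun_mul _ _ hx, ih.1 x hx,
              hθα _ (autFun_mem (α ^ n) hx)]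
          · have hcQ := (le_sup_right : centralizerIn S P ≤ Q) hc
            have hv : c⁻¹ * autFun (θ ^ n) c ∈ P := ih.2 c hc
            rw [pow_succ' θ, autFun_mul _ _ hcQ,
              show autFun (θ ^ n) c = c * (c⁻¹ * autFun (θ ^ n) c) by group,
              hm.map_mul hcQ (hQP hv), ← mul_assoc]
            exact P.mul_mem (hθc c hc) (hθP _ hv)
      obtain ⟨i, rfl⟩ := Submonoid.mem_powers_iff _ _ |>.mp ((mem_powers_iff_mem_zpowers).mpr hb)
      obtain ⟨k, rfl⟩ := Submonoid.mem_powers_iff _ _ |>.mp ((mem_powers_iff_mem_zpowers).mpr ha)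
      have hak : α ^ k = 1 := by
        refine Transfer.eq_one_of_pow_of_coprime (p := p) ⟨j, orderOf_dvd_of_pow_eq_one ?_⟩
          (Nat.Coprime.coprime_dvd_left (orderOf_dvd_of_pow_eq_one ?_) hcop)
        · refine autFun_ext fun x hx => ?_
          rw [← pow_mul, ← (hpow _).1 x hx, pow_mul, orderOf_dvd_iff_pow_eq_one.mp hj,
            autFun_one (hQP hx), autFun_one hx]
        · rw [← pow_mul, mul_comm, pow_mul, pow_orderOf_eq_one, one_pow]
      have hαi : ∀ x ∈ P, autFun (θ ^ i) x = autFun α x := fun x hx => by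
        have h1 := hθα x hx
        rw [← hab, autFun_mul _ _ (hQP hx), (hpow i).1 x hx,
          (hpow k).1 _ (autFun_mem (α ^ i) hx), hak, autFun_one (autFun_mem _ hx)] at h1
        rw [(hpow i).1 x hx]; exact h1
      refine ⟨hα, autFun (θ ^ i), (mapTo_of_mem_autGroup hQS (Subgroup.pow_mem _ hθ i)).restrict
        (sup_le hQP (hXP.trans le_sup_right)), hαi, ?_⟩
      intro y hy
      have hbF : θ ^ i ∈ F.autGroup Q := Subgroup.pow_mem _ hθ i
      have hmi := mapTo_of_mem_autGroup hQS hbF
      have hXQ : X ≤ Q := hXP.trans le_sup_right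
      rw [hXdef, FusionSystem.focalSubgroup] at hy
      induction hy using Subgroup.closure_induction with
      | mem w hw =>
        obtain ⟨R, φ, x, hφ, rfl⟩ := hw
        obtain ⟨hRC, hgC, e, he, hef, heT⟩ := (mapTo_cSys_iff hD).mp (mapTo_ev hφ)
        have hD' : MapTo (cSys F hPfc.1) R (ev φ) :=
          (mapTo_cSys_iff (isCentralizerSystem_cSys F hPfc.1)).mpr
            ⟨hRC.trans (centralizerIn_anti hPT), fun z hz => centralizerIn_anti hPT (hgC z hz),
              e, he.restrict (sup_le_sup_left hPT R), hef, fun z hz => heT z (hPT hz)⟩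
        have h1 := focal_fixed hS hFs hPfc hQdef hbF hbc
          (fun z hz => (hαi z hz).symm ▸ autFun_mem α hz) (hpow i).2 hD' x.2
        rwa [ev_coe] at h1
      | one => exact hmi.map_one
      | mul b c hb hc ihb ihc =>
        rw [hmi.map_mul (hXQ hb) (hXQ hc), ihb, ihc]
      | inv b hb ihb => rw [hmi.map_inv (hXQ hb), ihb]
    obtain ⟨-, Rs, hRs⟩ := isFullyAutomized_of_isFullyNormalized hTp hEs hEfn
    by_cases hPeq : P = T
    · subst hPeq
      intro α hα
      obtain ⟨a, b, -, -, hab, ⟨j, hj⟩, hb⟩ :=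
        Transfer.exists_pPart_mul (p := p) (⟨α, hα⟩ : E.autGroup P)
      have hab' : (a : MulAut P) * (b : MulAut P) = α := congrArg Subtype.val hab
      rw [← hab']
      refine (G.mul_mem ?_ ?_).2
      · refine hGinn ?_
        rw [← inn_eq_autInducedBy]
        refine mem_of_pow_eq_one_of_normal hTp
          (isFullyAutomized_of_isFullyNormalized hTp hEs hEfn)
          (normal_inn_subgroupOf E P) (autInducedBy_self_eq_inn).le a.2 (k := j) ?_
        rw [← SubgroupClass.coe_pow, orderOf_dvd_iff_pow_eq_one.mp hj]; rfl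
      · obtain ⟨β, hβ, hβT, hβc⟩ := hext b b.2
        refine hlift b β b.2 hβ (fun x hx => ?_) (by rwa [Subgroup.orderOf_coe]) fun c hc => ?_
        · rw [autFun_apply β ((le_sup_left : P ≤ P ⊔ centralizerIn S P) hx), autFun_apply _ hx]
          exact hβT ⟨x, hx⟩
        · have hcU := (le_sup_right : centralizerIn S P ≤ P ⊔ centralizerIn S P) hc
          rw [autFun_apply β hcU]
          exact (hβc ⟨c, hcU⟩ hc).1
    -- `P < T`
    let J : Subgroup (MulAut P) :=
      { carrier := {α | α ∈ E.autGroup P ∧ ∃ θ ∈ F.autGroup Q, (∀ x ∈ P, autFun θ x = autFun α x) ∧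
          ∀ c ∈ centralizerIn S P, c⁻¹ * autFun θ c ∈ P}
        one_mem' := ⟨Subgroup.one_mem _, 1, Subgroup.one_mem _,
          fun x hx => by rw [autFun_one hx, autFun_one ((le_sup_left : P ≤ Q) hx)],
          fun c hc => by rw [autFun_one ((le_sup_right : centralizerIn S P ≤ Q) hc), inv_mul_cancel]
                         exact P.one_mem⟩
        mul_mem' := by
          rintro a b ⟨ha, θa, hθa, hax, hac⟩ ⟨hb, θb, hθb, hbx, hbc⟩
          refine ⟨Subgroup.mul_mem _ ha hb, θa * θb, Subgroup.mul_mem _ hθa hθb, fun x hx => ?_,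
            fun c hc => ?_⟩
          · rw [autFun_mul _ _ ((le_sup_left : P ≤ Q) hx), autFun_mul _ _ hx, hbx x hx,
              hax _ (autFun_mem b hx)]
          · have hcQ := (le_sup_right : centralizerIn S P ≤ Q) hc
            have hv := hbc c hc
            have hm := mapTo_of_mem_autGroup hQS hθa
            rw [autFun_mul _ _ hcQ, show autFun θb c = c * (c⁻¹ * autFun θb c) by group,
              hm.map_mul hcQ ((le_sup_left : P ≤ Q) hv), ← mul_assoc]
            exact P.mul_mem (hac c hc) (by rw [hax _ hv]; exact autFun_mem a hv)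
        inv_mem' := by
          rintro a ⟨ha, θ, hθ, hx', hc'⟩
          refine ⟨Subgroup.inv_mem _ ha, θ⁻¹, Subgroup.inv_mem _ hθ, fun x hx => ?_, fun c hc => ?_⟩
          · have h1 := hx' _ (autFun_mem a⁻¹ hx)
            rw [autFun_autFun_inv a hx] at h1
            have h2 := congrArg (autFun θ⁻¹) h1
            rw [autFun_inv_autFun θ ((le_sup_left : P ≤ Q) (autFun_mem a⁻¹ hx))] at h2
            exact h2.symm
          · have hcQ := (le_sup_right : centralizerIn S P ≤ Q) hc
            have hv := hc' c hc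
            have hvQ : c⁻¹ * autFun θ c ∈ Q := (le_sup_left : P ≤ Q) hv
            have hm := mapTo_of_mem_autGroup hQS (Subgroup.inv_mem _ hθ)
            have h1 : autFun θ⁻¹ (c * (c⁻¹ * autFun θ c)) = c := by
              rw [mul_inv_cancel_left, autFun_inv_autFun θ hcQ]
            rw [hm.map_mul hcQ hvQ] at h1
            rw [eq_mul_inv_of_mul_eq h1, inv_mul_cancel_left]
            refine P.inv_mem ?_
            have h2 : autFun θ⁻¹ (c⁻¹ * autFun θ c) = autFun a⁻¹ (c⁻¹ * autFun θ c) := by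
              have h3 := hx' _ (autFun_mem a⁻¹ hv)
              rw [autFun_autFun_inv a hv] at h3
              have h4 := congrArg (autFun θ⁻¹) h3
              rw [autFun_inv_autFun θ ((le_sup_left : P ≤ Q) (autFun_mem a⁻¹ hv))] at h4
              exact h4.symm
            rw [h2]; exact autFun_mem a⁻¹ hv }
    have hJA : J ≤ E.autGroup P := fun α hα => hα.1
    have hTJ : autInducedBy T P ≤ J := by
      intro α hα
      obtain ⟨t, ht, htx⟩ := mem_autInducedBy_iff_cj.mp hα
      have htP : t ∈ Subgroup.normalizer (P : Set Ω) := mem_normalizer_of_forall fun y hy => by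
        have := autFun_mem α hy; rwa [htx y hy] at this
      have htC : ∀ c ∈ centralizerIn S P, t * c * t⁻¹ ∈ centralizerIn S P := fun c hc =>
        mem_centralizerIn.mpr ⟨S.mul_mem (S.mul_mem (hTS ht) hc.1) (S.inv_mem (hTS ht)),
          fun y hy => by
            have hy' := (Subgroup.mem_normalizer_iff.mp (Subgroup.inv_mem _ htP) y).mp hy
            have h1 := (mem_centralizerIn.mp hc).2 _ hy'
            calc y * (t * c * t⁻¹) = t * ((t⁻¹ * y * t⁻¹⁻¹) * c) * t⁻¹ := by group
              _ = t * c * t⁻¹ * y := by rw [h1]; group⟩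
      have htQ : ∀ y ∈ Q, t * y * t⁻¹ ∈ Q := by
        intro y hy
        have hle : Q ≤ Q.comap (MulAut.conj t).toMonoidHom := sup_le
          (fun w hw => (le_sup_left : P ≤ Q) ((Subgroup.mem_normalizer_iff.mp htP w).mp hw))
          (fun w hw => (le_sup_right : centralizerIn S P ≤ Q) (htC w hw))
        exact hle hy
      obtain ⟨θ, hθ⟩ := exists_conjAut (mem_normalizer_of_forall htQ)
      refine ⟨autInducedBy_le_autGroup hPT hα, θ,
        autInducedBy_le_autGroup hQS (mem_autInducedBy_iff_cj.mpr ⟨t, hTS ht, hθ⟩),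
        fun x hx => (hθ x ((le_sup_left : P ≤ Q) hx)).trans (htx x hx).symm, fun c hc => ?_⟩
      rw [hθ c ((le_sup_right : centralizerIn S P ≤ Q) hc), cj_apply]
      refine hCTP (mem_centralizerIn.mpr ⟨?_, ?_⟩)
      · rw [show c⁻¹ * (t * c * t⁻¹) = (c⁻¹ * t * c⁻¹⁻¹) * t⁻¹ by group]
        exact T.mul_mem (StronglyClosed.conj_mem hEi.2.1 (S.inv_mem hc.1) ht) (T.inv_mem ht)
      · exact (mem_centralizerIn.mp
          ((centralizerIn S P).mul_mem ((centralizerIn S P).inv_mem hc) (htC c hc))).2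
    -- `J` lies in `G`
    have hJG : J ≤ G := by
      set J' := J.subgroupOf (E.autGroup P) with hJ'
      have hRJ : (Rs : Subgroup (E.autGroup P)) ≤ J' := by rw [hRs]; exact Subgroup.comap_mono hTJ
      have hsyl := Transfer.pResidual_sup_sylow (p := p) (Rs.subtype hRJ)
      intro α hα
      have h1 : (⟨⟨α, hJA hα⟩, hα⟩ : J') ∈
          (G.comap ((E.autGroup P).subtype.comp J'.subtype) : Subgroup J') := by
        refine (sup_le ?_ ?_ : pResidual p J' ⊔ _ ≤ _) (hsyl.ge (Subgroup.mem_top _))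
        · rw [pResidual, Subgroup.closure_le]
          intro w hw
          obtain ⟨hwE, θ, hθ, hx', hc'⟩ := w.2
          refine hlift _ θ hwE hθ hx' ?_ hc'
          show (orderOf (((w : J') : E.autGroup P) : MulAut P)).Coprime p
          rw [Subgroup.orderOf_coe, Subgroup.orderOf_coe]
          exact hw
        · intro w hw
          rw [Sylow.coe_subtype, Subgroup.mem_subgroupOf, hRs] at hw
          exact hGinn hw
      exact h1
    have hJn : (J.subgroupOf (E.autGroup P)).Normal := by
      refine ⟨fun β hβ γ => ?_⟩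
      obtain ⟨hβE, θ, hθ, hx', hc'⟩ := hβ
      have hγm : MapTo F P (autFun (γ : MulAut P)) :=
        IsSubsystemOf.mapTo hEi.1 (mapTo_of_mem_autGroup hPT γ.2)
      obtain ⟨g, hg, hgγ⟩ := (isReceptive_iff.mp (isReceptive_of_isFullyNormalized hS hFs hPfn)).2
        P _ hγm (img_autFun _)
      have hgQ : MapTo F Q g :=
        hg.restrict (sup_le (le_extSub hγm) (centralizerIn_le_extSub hγm))
      have hgC : ∀ c ∈ centralizerIn S P, g c ∈ centralizerIn S P := fun c hc =>
        mem_centralizerIn.mpr ⟨hgQ.mem ((le_sup_right : centralizerIn S P ≤ Q) hc), fun y hy => by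
          have hy2 : autFun (γ : MulAut P)⁻¹ y ∈ P := autFun_mem _ hy
          rw [show y = g (autFun (γ : MulAut P)⁻¹ y) by rw [hgγ _ hy2, autFun_autFun_inv _ hy],
            ← hgQ.map_mul ((le_sup_left : P ≤ Q) hy2) ((le_sup_right : centralizerIn S P ≤ Q) hc),
            ← hgQ.map_mul ((le_sup_right : centralizerIn S P ≤ Q) hc) ((le_sup_left : P ≤ Q) hy2),
            (mem_centralizerIn.mp hc).2 _ hy2]⟩
      have himgQ : img g Q = Q := by
        refine img_eq_self_of_forall hgQ fun y hy => ?_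
        have hle : img g Q ≤ Q := by
          rw [hQdef, hgQ.img_sup le_sup_left le_sup_right]
          exact sup_le ((img_congr hgγ).trans (img_autFun _) |>.le.trans le_sup_left)
            ((img_le_of_forall hgC).trans le_sup_right)
        exact hle (mem_img_of_mem hy)
      set θg := autOf hgQ himgQ with hθg
      have hgCimg : img g (centralizerIn S P) = centralizerIn S P := by
        haveI : Finite ↥(centralizerIn S P) := finite_of_le centralizerIn_le
        exact img_eq_self_of_forall (hgQ.restrict le_sup_right) hgC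
      refine ⟨((γ * β * γ⁻¹ : E.autGroup P)).2, θg * θ * θg⁻¹,
        Subgroup.mul_mem _ (Subgroup.mul_mem _ (autOf_mem hgQ himgQ) hθ)
          (Subgroup.inv_mem _ (autOf_mem hgQ himgQ)), fun y hy => ?_, fun c hc => ?_⟩
      · obtain ⟨x, hx, rfl⟩ : ∃ x ∈ P, autFun (γ : MulAut P) x = y :=
          ⟨_, autFun_mem _ hy, autFun_autFun_inv _ hy⟩
        have hxQ := (le_sup_left : P ≤ Q) hx
        have hgx : autFun θg x = autFun (γ : MulAut P) x := by
          rw [hθg, autFun_autOf hgQ himgQ hxQ, hgγ x hx]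
        simp only [MonoidHom.coe_comp, Subgroup.coe_subtype, Subgroup.coe_mul, Subgroup.coe_inv]
        rw [← hgx, autFun_mul _ _ (autFun_mem θg hxQ), autFun_inv_autFun θg hxQ,
          autFun_mul _ _ hxQ, hx' x hx, hgx, autFun_mul _ _ (autFun_mem _ hx),
          autFun_inv_autFun _ hx, autFun_mul _ _ hx,
          hθg, autFun_autOf hgQ himgQ ((le_sup_left : P ≤ Q) (autFun_mem _ hx)),
          hgγ _ (autFun_mem _ hx)]
        rfl
      · obtain ⟨c₀, hc₀, rfl⟩ := (hgQ.mem_img_iff le_sup_right).mp (hgCimg.ge hc)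
        have hc₀Q := (le_sup_right : centralizerIn S P ≤ Q) hc₀
        have hgc : autFun θg c₀ = g c₀ := by rw [hθg, autFun_autOf hgQ himgQ hc₀Q]
        have hv := hc' c₀ hc₀
        rw [← hgc, autFun_mul _ _ (autFun_mem θg hc₀Q), autFun_inv_autFun θg hc₀Q,
          autFun_mul _ _ hc₀Q, hgc, hθg, autFun_autOf hgQ himgQ (autFun_mem θ hc₀Q),
          show autFun θ c₀ = c₀ * (c₀⁻¹ * autFun θ c₀) by group,
          hgQ.map_mul hc₀Q ((le_sup_left : P ≤ Q) hv), inv_mul_cancel_left, hgγ _ hv]
        exact autFun_mem _ hv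
    intro α hα
    haveI := hJn
    have hRJ : (Rs : Subgroup (E.autGroup P)) ≤ J.subgroupOf (E.autGroup P) := by
      rw [hRs]; exact Subgroup.comap_mono hTJ
    have htop := Sylow.normalizer_sup_eq_top' Rs hRJ
    have hPlt : P < T := lt_of_le_of_ne hPT hPeq
    have hnorm : Subgroup.normalizer ((Rs : Subgroup (E.autGroup P)) : Set (E.autGroup P)) ≤
        G.subgroupOf (E.autGroup P) := by
      intro n hn
      have hnm : MapTo E P (autFun (n : MulAut P)) := mapTo_of_mem_autGroup hPT n.2
      obtain ⟨g, hg, hgn⟩ := (isReceptive_iff.mp (isReceptive_of_isFullyNormalized hTp hEs hEfn)).2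
        P _ hnm (img_autFun _)
      have hext' : normalizerIn T P ≤ extSub T hnm := by
        intro k hk
        obtain ⟨κ, hκ⟩ := exists_conjAut hk.2
        have hκT : κ ∈ autInducedBy T P := mem_autInducedBy_iff_cj.mpr ⟨k, hk.1, hκ⟩
        have hkR : (⟨κ, autInducedBy_le_autGroup hPT hκT⟩ : E.autGroup P) ∈
            (Rs : Subgroup (E.autGroup P)) := by
          rw [hRs]; exact hκT
        have h1 := (Subgroup.mem_normalizer_iff.mp hn _).mp hkR
        rw [hRs] at h1
        obtain ⟨h, hh, hx'⟩ := mem_autInducedBy_iff_cj.mp (Subgroup.mem_subgroupOf.mp h1)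
        refine ⟨hk, h, hh, fun x hx => ?_⟩
        have h2 := hx' _ (autFun_mem (n : MulAut P) hx)
        simp only [Subgroup.coe_mul, Subgroup.coe_inv] at h2
        rw [autFun_mul _ _ (autFun_mem _ hx), autFun_inv_autFun _ hx, autFun_mul _ _ hx,
          hκ x hx, cj_apply, cj_apply] at h2
        exact h2
      have hlt : Nat.card P < Nat.card (normalizerIn T P) := by
        haveI : Finite ↥(normalizerIn T P) := finite_of_le (inf_le_left.trans hTS)
        exact lt_of_not_ge fun h =>
          (lt_normalizerIn hTp hPlt).ne (Subgroup.eq_of_le_of_card_ge (le_normalizerIn hPT) h)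
      obtain ⟨e, he, heg, heX⟩ := hIH _ g hlt (hg.restrict hext')
      refine ⟨n.2, e, he.restrict (sup_le_sup_right (le_normalizerIn hPT) X), fun x hx => ?_, heX⟩
      rw [heg x (le_normalizerIn hPT hx), hgn x hx]
      rfl
    exact (Subgroup.mem_subgroupOf.mp ((sup_le hnorm (Subgroup.comap_mono hJG) :
      _ ≤ G.subgroupOf (E.autGroup P)) (htop.ge (Subgroup.mem_top (⟨α, hα⟩ : E.autGroup P))))).2
  refine alperin_prop_strong hTp hEs (fun P f => ExtFix F X P f)
    (fun _ hC hfg => hC.congr' hfg)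
    (fun {P g} hP hg => ⟨cj g, mapTo_cj (sup_le (hP.trans hTS) hXS) (hTS hg), fun _ _ => rfl,
      fun x hx => hXfix hg hx⟩)
    (fun _ _ hfQ h₁ h₂ => h₁.comp h₂ hfQ)
    (fun _ _ hgf h₁ => h₁.inverse rfl hgf)
    (fun P hP hIH α hα => ?_) hf
  have hPT : P ≤ T := by
    rcases hP with rfl | h
    · exact le_rfl
    · exact h.1.1
  have hcent : centralizerIn T P ≤ P := by
    rcases hP with rfl | h
    · exact inf_le_left
    · exact centralizerIn_le_of_isCentric h.1
  by_cases hPeq : P = T
  · subst hPeq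
    exact hcore P le_rfl hTfn hcent hIH α hα
  have hPlt : P < T := lt_of_le_of_ne hPT hPeq
  obtain ⟨P₁, hconj, hfn₁⟩ := exists_isFullyNormalized (F := F) (hPT.trans hTS)
  obtain ⟨f₀, hf₀, hf₀P⟩ := exists_isStd hS hFs hfn₁ hconj
  set K := normalizerIn T P with hK
  have hKS : K ≤ normalizerIn S P := inf_le_inf_right _ hTS
  have hKT : K ≤ T := inf_le_left
  have hPK : P ≤ K := le_normalizerIn hPT
  obtain ⟨a, ha, e, he, hae⟩ := IsInvariantIn.frattini hEi hKT (hf₀.restrict hKS)
  have hcard : Nat.card P < Nat.card K := by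
    haveI : Finite K := finite_of_le (hKT.trans hTS)
    exact lt_of_not_ge fun h =>
      (lt_normalizerIn hTp hPlt).ne (Subgroup.eq_of_le_of_card_ge (le_normalizerIn hPT) h)
  obtain ⟨ge, hge, hgee, hgeX⟩ := hIH K e hcard he
  have ham := mapTo_of_mem_autGroup hTS ha
  obtain ⟨at', hat, hata⟩ := (isReceptive_iff.mp (isReceptive_of_isFullyNormalized hS hFs hTfn)).2
    T _ ham (img_autFun a)
  have hatU : MapTo F U at' := hat.restrict (sup_le (le_extSub ham) (centralizerIn_le_extSub ham))
  have hatT : img at' T = T := (img_congr hata).trans (img_autFun a)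
  have hge' : MapTo F (P ⊔ X) ge := hge.restrict (sup_le_sup_right hPK X)
  have hgeU : ∀ y ∈ P ⊔ X, ge y ∈ U := fun y hy => by
    have hle : img ge (P ⊔ X) ≤ U := by
      rw [hge'.img_sup le_sup_left le_sup_right, img_congr (f := ge) (P := X) hgeX, img_id]
      refine sup_le ?_ hXU
      exact (img_le_of_forall fun x hx => by rw [hgee x (hPK hx)]; exact he.mem (hPK hx)).trans
        le_sup_left
    exact hle (mem_img_of_mem hy)
  set h := fun y => at' (ge y) with hhdef
  have hh : MapTo F (P ⊔ X) h := hge'.comp hatU hgeU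
  have hhP : ∀ x ∈ P, h x = f₀ x := fun x hx => by
    show at' (ge x) = f₀ x
    rw [hgee x (hPK hx), hata _ (he.mem (hPK hx)), ← hae x (hPK hx)]
  have hhX : ∀ x ∈ X, h x ∈ X := fun x hx => by
    show at' (ge x) ∈ X
    rw [hgeX x hx]; exact hinvX hatU hatT x hx
  have himgP : img h P = P₁ := (img_congr hhP).trans hf₀P
  have hP₁T : P₁ ≤ T := by
    rw [← hf₀P]
    exact img_le_of_forall fun x hx =>
      StronglyClosed.map_mem hEi.2.1 (hf₀.restrict hKS) (hPK hx) (hPT hx)
  haveI : Finite X := finite_of_le hXS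
  have himgX : img h X = X := img_eq_self_of_forall (hh.restrict le_sup_right) hhX
  have hcent₁ : centralizerIn T P₁ ≤ P₁ := by
    rw [← hf₀P]
    intro c hc
    have h1 : autFun a⁻¹ c ∈ centralizerIn T (img e P) := mem_centralizerIn.mpr
      ⟨autFun_mem _ hc.1, fun y hy => by
        obtain ⟨x, hx, rfl⟩ := ((he.restrict hPK).mem_img_iff le_rfl).mp hy
        have h2 := (mem_centralizerIn.mp hc).2 _ (mem_img_of_mem (f := f₀) hx)
        rw [hae x (hPK hx)] at h2
        have ham' := mapTo_of_mem_autGroup (F := F) hTS (Subgroup.inv_mem _ ha)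
        have h3 := congrArg (autFun a⁻¹) h2
        rw [ham'.map_mul (autFun_mem a (he.mem (hPK hx))) hc.1,
          ham'.map_mul hc.1 (autFun_mem a (he.mem (hPK hx))),
          autFun_inv_autFun a (he.mem (hPK hx))] at h3
        exact h3⟩
    have hEcen : centralizerIn T (img e P) ≤ img e P := by
      rcases hP with rfl | hess
      · exact absurd rfl hPeq
      · exact hess.1.2 _ (isConj_iff.mpr ⟨e, he.restrict hPK, rfl⟩)
    obtain ⟨x, hx, hxe⟩ := ((he.restrict hPK).mem_img_iff le_rfl).mp (hEcen h1)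
    have : c = f₀ x := by rw [hae x (hPK hx), hxe, autFun_autFun_inv a hc.1]
    exact this ▸ mem_img_of_mem hx
  -- the conjugated automorphism
  obtain ⟨g₁, hg₁, hg₁x⟩ := IsInvariantIn.conj hEi le_rfl hPT (mapTo_of_mem_autGroup hPT hα)
    (fun x hx => autFun_mem α hx) ((hh.restrict le_sup_left))
  rw [himgP] at hg₁
  have hg₁img : img g₁ P₁ = P₁ := by
    haveI : Finite P₁ := finite_of_le (hP₁T.trans hTS)
    refine img_eq_self_of_forall hg₁ fun y hy => ?_
    obtain ⟨x, hx, rfl⟩ := ((hh.restrict le_sup_left).mem_img_iff le_rfl).mp (himgP.ge hy)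
    rw [hg₁x x hx]; exact himgP.le (mem_img_of_mem (autFun_mem α hx))
  have hcard₁ : Nat.card P₁ = Nat.card P := by
    rw [← himgP, (hh.restrict le_sup_left).card_img le_rfl]
  obtain ⟨g, hg, hgg, hgX⟩ := hcore P₁ hP₁T hfn₁ hcent₁
    (fun R g hR hg => hIH R g (hcard₁ ▸ hR) hg) _ (autOf_mem hg₁ hg₁img)
  obtain ⟨k, hk, hkh, -, -⟩ := hh.exists_iso_inverse
  rw [hh.img_sup le_sup_left le_sup_right, himgP, himgX] at hk
  have hgmem : ∀ y ∈ P₁ ⊔ X, g y ∈ P₁ ⊔ X := fun y hy => by
    have hle : img g (P₁ ⊔ X) ≤ P₁ ⊔ X := by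
      rw [hg.img_sup le_sup_left le_sup_right, img_congr (f := g) (P := X) hgX, img_id,
        img_congr (f := g) (P := P₁) hgg, img_autFun]
    exact hle (mem_img_of_mem hy)
  have hhmem : ∀ y ∈ P ⊔ X, h y ∈ P₁ ⊔ X := fun y hy => by
    have hle : img h (P ⊔ X) ≤ P₁ ⊔ X := by
      rw [hh.img_sup le_sup_left le_sup_right, himgP, himgX]
    exact hle (mem_img_of_mem hy)
  refine ⟨fun y => k (g (h y)), (hh.comp hg hhmem).comp hk fun y hy => hgmem _ (hhmem y hy),
    fun x hx => ?_, fun x hx => ?_⟩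
  · show k (g (h x)) = autFun α x
    have hhx : h x ∈ P₁ := himgP.le (mem_img_of_mem hx)
    rw [hgg _ hhx, autFun_autOf hg₁ hg₁img hhx, hg₁x x hx,
      hkh _ ((le_sup_left : P ≤ P ⊔ X) (autFun_mem α hx))]
  · show k (g (h x)) = x
    rw [hgX _ (hhX x hx), hkh x ((le_sup_right : X ≤ P ⊔ X) hx)]

end Cfsg.Agent.Fusion
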