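import Cfsg.Agent.Lib.Fusion.Alperin
import Cfsg.Agent.Lib.Fusion.Normal
import Cfsg.Agent.Lib.Transfer.Residual

/-!
`O^p(Aut_F(P))`, the hyperfocal and focal subgroups, and Alperin base lemmas.
-/

set_option autoImplicit false

namespace Cfsg.Agent.Fusion

open Cfsg.FusionSystem (centralizerIn normalizerIn)

variable {Ω : Type*} [Group Ω] {S : Subgroup Ω}
variable {F : FusionSystem S} {P Q R : Subgroup Ω} {f g : Ω → Ω} {p : ℕ}

/-- `O^p(Aut_F(Q))` inside `Aut(Q)`. -/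
def oP (F : FusionSystem S) (p : ℕ) (Q : Subgroup Ω) : Subgroup (MulAut Q) :=
  (pResidual p (F.autGroup Q)).map (F.autGroup Q).subtype

theorem oP_le : oP F p Q ≤ F.autGroup Q := Subgroup.map_subtype_le _

theorem mem_oP_of_coprime {α : MulAut Q} (h : α ∈ F.autGroup Q) (hc : (orderOf α).Coprime p) :
    α ∈ oP F p Q :=
  ⟨⟨α, h⟩, Cfsg.Agent.Transfer.mem_pResidual_of_coprime (by rwa [Subgroup.orderOf_mk]), rfl⟩

/-- To check a property of all members of `O^p(Aut_F(Q))` closed under products and inverses,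
check it on elements of order prime to `p`. -/
theorem oP_induction {C : MulAut Q → Prop} (h1 : C 1)
    (hmul : ∀ a b, a ∈ F.autGroup Q → b ∈ F.autGroup Q → C a → C b → C (a * b))
    (hinv : ∀ a, a ∈ F.autGroup Q → C a → C a⁻¹)
    (hbase : ∀ a, a ∈ F.autGroup Q → (orderOf a).Coprime p → C a) :
    ∀ α ∈ oP F p Q, C α := by
  rintro _ ⟨a, ha, rfl⟩
  change a ∈ Subgroup.closure _ at ha
  induction ha using Subgroup.closure_induction with
  | mem x hx => exact hbase x x.2 (by rw [Subgroup.orderOf_coe]; exact hx)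
  | one => exact h1
  | mul x y _ _ hx hy => exact hmul _ _ x.2 y.2 hx hy
  | inv x _ hx => exact hinv _ x.2 hx

theorem congr_mem_oP (h : MapTo F P f) (hQ : img f P = Q) {α : MulAut P} (hα : α ∈ oP F p P) :
    MulAut.congr (isoEquiv h hQ) α ∈ oP F p Q := by
  obtain ⟨a, ha, rfl⟩ := hα
  set Φ : F.autGroup P →* F.autGroup Q :=
    (((MulAut.congr (isoEquiv h hQ)).toMonoidHom.comp (F.autGroup P).subtype).codRestrict _
      fun b => map_congr_autGroup h hQ ▸ ⟨b, b.2, rfl⟩)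
  exact ⟨Φ a, Cfsg.Agent.Transfer.map_pResidual_le Φ ⟨a, ha, rfl⟩, rfl⟩

theorem mem_hyperfocal (hP : P ≤ S) {α : MulAut P} (hα : α ∈ oP F p P) {x : Ω} (hx : x ∈ P) :
    x⁻¹ * autFun α x ∈ F.hyperfocalSubgroup p := by
  obtain ⟨a, ha, rfl⟩ := hα
  exact Subgroup.subset_closure ⟨P, a, ⟨x, hx⟩, hP, ha, by rw [autFun_apply _ hx]; rfl⟩

theorem hyperfocal_le_iff {D : Subgroup Ω} : F.hyperfocalSubgroup p ≤ D ↔
    ∀ P : Subgroup Ω, P ≤ S → ∀ α ∈ oP F p P, ∀ x ∈ P, x⁻¹ * autFun α x ∈ D := by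
  refine ⟨fun h P hP α hα x hx => h (mem_hyperfocal hP hα hx), fun h => ?_⟩
  refine (Subgroup.closure_le _).mpr ?_
  rintro _ ⟨P, a, x, hP, ha, rfl⟩
  have := h P hP a ⟨a, ha, rfl⟩ x x.2
  rwa [autFun_coe] at this

theorem hyperfocal_le : F.hyperfocalSubgroup p ≤ S :=
  hyperfocal_le_iff.mpr fun _ hP α _ _ hx =>
    S.mul_mem (S.inv_mem (hP hx)) (hP (autFun_mem α hx))

theorem hyperfocal_conj_mem {s y : Ω} (hs : s ∈ S) (hy : y ∈ F.hyperfocalSubgroup p) :
    s * y * s⁻¹ ∈ F.hyperfocalSubgroup p := by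
  have h : F.hyperfocalSubgroup p ≤
      (F.hyperfocalSubgroup p).comap (MulAut.conj s).toMonoidHom := by
    refine hyperfocal_le_iff.mpr fun P hP α hα x hx => ?_
    show s * (x⁻¹ * autFun α x) * s⁻¹ ∈ F.hyperfocalSubgroup p
    have hm : MapTo F P (cj s) := mapTo_cj hP hs
    have h1 := mem_hyperfocal hm.img_le (congr_mem_oP hm rfl hα) (mem_img_of_mem (f := cj s) hx)
    rw [autFun_congr hm rfl α hx] at h1
    convert h1 using 1
    simp only [cj_apply]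
    group
  exact h hy

theorem hyperfocal_le_focal : F.hyperfocalSubgroup p ≤ F.focalSubgroup := by
  refine hyperfocal_le_iff.mpr fun P hP α hα x hx => ?_
  obtain ⟨φ, hφ, hφf⟩ := mapTo_of_mem_autGroup hP (oP_le hα)
  exact Subgroup.subset_closure ⟨P, φ, ⟨x, hx⟩, hφ, by rw [hφf]⟩

theorem mem_focal (hf : MapTo F P f) {x : Ω} (hx : x ∈ P) : x⁻¹ * f x ∈ F.focalSubgroup := by
  obtain ⟨φ, hφ, hφf⟩ := hf
  exact Subgroup.subset_closure ⟨P, φ, ⟨x, hx⟩, hφ, by rw [hφf]⟩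

theorem focal_le_iff {D : Subgroup Ω} : F.focalSubgroup ≤ D ↔
    ∀ (P : Subgroup Ω) (f : Ω → Ω), MapTo F P f → ∀ x ∈ P, x⁻¹ * f x ∈ D := by
  refine ⟨fun h P f hf x hx => h (mem_focal hf hx), fun h => ?_⟩
  refine (Subgroup.closure_le _).mpr ?_
  rintro _ ⟨P, φ, x, hφ, rfl⟩
  have := h P (ev φ) (mapTo_ev hφ) x x.2
  rwa [ev_coe] at this

theorem isFullyNormalized_of_eq_top_or_essential (h : P = S ∨ F.IsEssential p P) :
    F.IsFullyNormalized P := by
  rcases h with rfl | h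
  · exact isFullyNormalized_top
  · exact h.2.1

/-- On a fully normalized subgroup, `Aut_F = O^p(Aut_F) Aut_S`. -/
theorem exists_eq_mul_of_isFullyNormalized [Finite S] [Fact p.Prime] (hS : IsPGroup p S)
    (hF : F.IsSaturated p) (hQ : F.IsFullyNormalized Q) {α : MulAut Q} (hα : α ∈ F.autGroup Q) :
    ∃ β ∈ oP F p Q, ∃ c ∈ autInducedBy S Q, α = β * c := by
  have := finite_of_le hQ.1
  have := finite_mulAut Q
  obtain ⟨-, R, hR⟩ := isFullyAutomized_of_isFullyNormalized hS hF hQ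
  have h : (⟨α, hα⟩ : F.autGroup Q) ∈
      ((pResidual p (F.autGroup Q) ⊔ (R : Subgroup _) : Subgroup _) : Set (F.autGroup Q)) := by
    rw [Cfsg.Agent.Transfer.pResidual_sup_sylow]; trivial
  rw [Subgroup.normal_mul] at h
  obtain ⟨b, hb, c, hc, hbc⟩ := h
  rw [hR] at hc
  exact ⟨b, ⟨b, hb, rfl⟩, c, hc, (congrArg Subtype.val hbc).symm⟩

/-- A power congruent to `1` modulo `m` has order prime to `p`. -/
theorem exists_pow_coprime {G : Type*} [Group G] [Finite G] [hp : Fact p.Prime] (γ : G) {m : ℕ}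
    (hm : m.Coprime p) : ∃ k, k ≡ 1 [MOD m] ∧ (orderOf (γ ^ k)).Coprime p := by
  obtain ⟨a, n, hn, hγ⟩ :=
    Nat.exists_eq_pow_mul_and_not_dvd (orderOf_pos γ).ne' p hp.out.ne_one
  obtain ⟨k, hk1, hk0⟩ := Nat.chineseRemainder (hm.pow_right a) 1 0
  refine ⟨k, hk1, Nat.Coprime.coprime_dvd_left (orderOf_dvd_of_pow_eq_one ?_)
    ((hp.out.coprime_iff_not_dvd.mpr hn).symm)⟩
  rw [← pow_mul]
  refine orderOf_dvd_iff_pow_eq_one.mp ?_
  rw [hγ]
  exact Nat.mul_dvd_mul_right (Nat.modEq_zero_iff_dvd.mp hk0) n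

end Cfsg.Agent.Fusion
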