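import Cfsg.Agent.Lib.Fusion.Alperin
import Cfsg.Agent.Lib.Fusion.Normal

/-!
Invariant subsystems, the Frattini condition, simplicity criteria.
-/

set_option autoImplicit false

namespace Cfsg.Agent.Fusion

open Cfsg.FusionSystem (centralizerIn normalizerIn)

variable {Ω : Type*} [Group Ω] {S T : Subgroup Ω}
variable {F : FusionSystem S} {E : FusionSystem T} {P Q R : Subgroup Ω} {f g : Ω → Ω} {p : ℕ}

theorem IsSubsystemOf.mapTo (h : E.IsSubsystemOf F) (hf : MapTo E P f) : MapTo F P f := by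
  obtain ⟨φ, hφ, hφf⟩ := hf
  exact ⟨φ, h P hφ, hφf⟩

theorem IsSubsystemOf.isConj (h : E.IsSubsystemOf F) (hc : E.IsConj P Q) : F.IsConj P Q := by
  obtain ⟨φ, hφ, hφr⟩ := hc
  exact ⟨φ, h P hφ, hφr⟩

theorem IsSubsystemOf.autGroup_le (h : E.IsSubsystemOf F) (P : Subgroup Ω) :
    E.autGroup P ≤ F.autGroup P :=
  Subgroup.closure_mono fun _ hα => h P hα

/-- Transport of a map of `E` by an element of `Aut_F(T)`. -/
theorem IsInvariantIn.transport (h : E.IsInvariantIn F) (hPT : P ≤ T) (hf : MapTo E P f)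
    {α : MulAut T} (hα : α ∈ F.autGroup T) :
    ∃ g, MapTo E (img (autFun α) P) g ∧ ∀ x ∈ P, g (autFun α x) = autFun α (f x) := by
  obtain ⟨φ, hφ, hφf⟩ := id hf
  obtain ⟨χ, hχ, hχx⟩ := h.2.2.1 P hPT φ hφ α hα
  have he : (P.subgroupOf T).map (T.subtype.comp α.toMonoidHom) = img (autFun α) P :=
    map_subgroupOf_eq_img (fun x => (autFun_coe α x).symm) hPT
  refine ⟨ev χ, he ▸ mapTo_ev hχ, fun x hx => ?_⟩
  have hm : ((α ⟨x, hPT hx⟩ : T) : Ω) ∈ (P.subgroupOf T).map (T.subtype.comp α.toMonoidHom) :=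
    ⟨⟨x, hPT hx⟩, hx, rfl⟩
  have hfx : φ ⟨x, hx⟩ ∈ T := (E.le_of_mem hφ).2 _
  have h1 := hχx ⟨x, hx⟩ hfx hm
  rw [autFun_apply α (hPT hx), ev_apply χ hm, h1, ← hφf ⟨x, hx⟩, autFun_apply α hfx]

theorem IsInvariantIn.frattini (h : E.IsInvariantIn F) (hPT : P ≤ T) (hf : MapTo F P f) :
    ∃ α ∈ F.autGroup T, ∃ f₀, MapTo E P f₀ ∧ ∀ x ∈ P, f x = autFun α (f₀ x) := by
  obtain ⟨φ, hφ, hφf⟩ := hf
  obtain ⟨α, hα, φ₀, hφ₀, hx⟩ := h.2.2.2 P hPT φ hφ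
  refine ⟨α, hα, ev φ₀, mapTo_ev hφ₀, fun x hxP => ?_⟩
  rw [← hφf ⟨x, hxP⟩, ev_apply φ₀ hxP, hx ⟨x, hxP⟩ ((E.le_of_mem hφ₀).2 _),
    autFun_apply α ((E.le_of_mem hφ₀).2 _)]

/-- An invariant subsystem is invariant under all maps of `F` between subgroups of `T`. -/
theorem IsInvariantIn.conj (h : E.IsInvariantIn F) (hPQ : P ≤ Q) (hQT : Q ≤ T) (hf : MapTo E P f)
    (hfQ : ∀ x ∈ P, f x ∈ Q) {ψ : Ω → Ω} (hψ : MapTo F Q ψ) :
    ∃ g, MapTo E (img ψ P) g ∧ ∀ x ∈ P, g (ψ x) = ψ (f x) := by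
  obtain ⟨α, hα, ψ₀, hψ₀, hψx⟩ := IsInvariantIn.frattini h hQT hψ
  obtain ⟨k, hk, hkψ, -, -⟩ := (hψ₀.restrict hPQ).exists_iso_inverse
  have hkm : ∀ y ∈ img ψ₀ P, k y ∈ P := fun y hy => by
    obtain ⟨x, hx, rfl⟩ := ((hψ₀.restrict hPQ).mem_img_iff le_rfl).mp hy
    rw [hkψ x hx]; exact hx
  have hh : MapTo E (img ψ₀ P) (fun y => ψ₀ (f (k y))) :=
    (hk.comp hf hkm).comp hψ₀ fun y hy => hfQ _ (hkm y hy)
  obtain ⟨g, hg, hgx⟩ := IsInvariantIn.transport h (hψ₀.restrict hPQ).img_le hh hα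
  have he : img ψ P = img (autFun α) (img ψ₀ P) := by
    rw [(hψ₀.restrict hPQ).img_img le_rfl]
    exact img_congr fun x hx => hψx x (hPQ hx)
  refine ⟨g, he ▸ hg, fun x hx => ?_⟩
  rw [hψx x (hPQ hx), hgx _ (mem_img_of_mem hx)]
  show autFun α (ψ₀ (f (k (ψ₀ x)))) = ψ (f x)
  rw [hkψ x hx, hψx _ (hfQ x hx)]

theorem normal_autGroup_of_conj (hP : P ≤ T) (hsub : E.IsSubsystemOf F)
    (hconj : ∀ {f ψ : Ω → Ω}, MapTo E P f → img f P ≤ P → MapTo F P ψ → img ψ P = P →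
      ∃ g, MapTo E P g ∧ ∀ x ∈ P, g (ψ x) = ψ (f x)) :
    ((E.autGroup P).subgroupOf (F.autGroup P)).Normal := by
  refine ⟨fun β hβ α => ?_⟩
  have hPS : P ≤ S := by
    by_contra hn
    obtain ⟨φ, hφ, -⟩ := mapTo_id E hP
    exact hn (F.le_of_mem (hsub P hφ)).1
  obtain ⟨g, hg, hgx⟩ := hconj (mapTo_of_mem_autGroup hP (Subgroup.mem_subgroupOf.mp hβ))
    (img_autFun _).le (mapTo_of_mem_autGroup hPS α.2) (img_autFun _)
  refine Subgroup.mem_subgroupOf.mpr ((mem_autGroup_iff hP).mpr (hg.congr' fun y hy => ?_))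
  obtain ⟨x, hx, rfl⟩ : ∃ x ∈ P, autFun (α : MulAut P) x = y :=
    ⟨_, autFun_mem _ hy, autFun_autFun_inv _ hy⟩
  rw [hgx x hx, Subgroup.coe_mul, Subgroup.coe_mul, Subgroup.coe_inv, autFun_mul _ _ (autFun_mem _ hx),
    autFun_inv_autFun _ hx, autFun_mul _ _ hx]

theorem IsInvariantIn.normal_autGroup (h : E.IsInvariantIn F) (hP : P ≤ T) :
    ((E.autGroup P).subgroupOf (F.autGroup P)).Normal := by
  refine normal_autGroup_of_conj hP h.1 fun {f ψ} hf hfP hψ hψP => ?_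
  obtain ⟨g, hg, hgx⟩ :=
    IsInvariantIn.conj h le_rfl hP hf (fun x hx => hfP (mem_img_of_mem hx)) hψ
  exact ⟨g, hψP ▸ hg, hgx⟩

section Saturated

variable [Finite S] [Fact p.Prime]

/-- A normal subgroup of an automizer which contains a Sylow subgroup contains all `p`-elements. -/
theorem mem_of_pow_eq_one_of_normal (hS : IsPGroup p S) (hP : F.IsFullyAutomized p P)
    {K : Subgroup (MulAut P)} (hK : (K.subgroupOf (F.autGroup P)).Normal)
    (hAK : autInducedBy S P ≤ K) {α : MulAut P} (hα : α ∈ F.autGroup P) {k : ℕ}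
    (hk : α ^ p ^ k = 1) : α ∈ K := by
  have hp : IsPGroup p (Subgroup.zpowers α) := by
    obtain ⟨i, -, hi⟩ := (Nat.dvd_prime_pow Fact.out).mp (orderOf_dvd_of_pow_eq_one hk)
    exact IsPGroup.of_card (n := i) ((Nat.card_zpowers α).trans hi)
  obtain ⟨β, hβ, hβc⟩ := exists_conj_le_autInducedBy hP (Subgroup.zpowers_le.mpr hα) hp
  have h1 := hK.conj_mem ⟨β * α * β⁻¹, Subgroup.mul_mem _ (Subgroup.mul_mem _ hβ hα)
    (Subgroup.inv_mem _ hβ)⟩ (hAK (hβc α (Subgroup.mem_zpowers α))) ⟨β⁻¹, Subgroup.inv_mem _ hβ⟩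
  have h2 : β⁻¹ * (β * α * β⁻¹) * β⁻¹⁻¹ ∈ K := Subgroup.mem_subgroupOf.mp h1
  rwa [show β⁻¹ * (β * α * β⁻¹) * β⁻¹⁻¹ = α by group] at h2

/-- The Frattini condition follows from invariance under all maps of `F` inside `T`. -/
theorem frattini_of_conj (hS : IsPGroup p S) (hF : F.IsSaturated p) (hsub : E.IsSubsystemOf F)
    (hT : F.StronglyClosed T)
    (hconj : ∀ {P Q : Subgroup Ω} {f ψ : Ω → Ω}, P ≤ Q → Q ≤ T → MapTo E P f →
      (∀ x ∈ P, f x ∈ Q) → MapTo F Q ψ → ∃ g, MapTo E (img ψ P) g ∧ ∀ x ∈ P, g (ψ x) = ψ (f x))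
    (hPT : P ≤ T) (hf : MapTo F P f) :
    ∃ α ∈ F.autGroup T, ∃ f₀, MapTo E P f₀ ∧ ∀ x ∈ P, f x = autFun α (f₀ x) := by
  induction hk : Nat.card T - Nat.card P using Nat.strong_induction_on generalizing P f with
  | h k ih =>
  have hTS : T ≤ S := hT.1
  have := finite_of_le hTS
  have hmT : ∀ {P : Subgroup Ω} {f : Ω → Ω}, P ≤ T → MapTo F P f → ∀ x ∈ P, f x ∈ T :=
    fun hP hf x hx => StronglyClosed.map_mem hT hf hx (hP hx)
  rcases eq_or_lt_of_le hPT with rfl | hlt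
  · have himg : img f P = P := img_eq_self_of_forall hf fun x hx => hmT le_rfl hf x hx
    exact ⟨autOf hf himg, autOf_mem hf himg, fun x => x, mapTo_id E le_rfl,
      fun x hx => (autFun_autOf hf himg hx).symm⟩
  -- closure properties of the conclusion
  have comp : ∀ {A B : Subgroup Ω} {u v : Ω → Ω}, MapTo F A u → (∀ x ∈ A, u x ∈ B) →
      (∃ α ∈ F.autGroup T, ∃ u₀, MapTo E A u₀ ∧ ∀ x ∈ A, u x = autFun α (u₀ x)) →
      (∃ α ∈ F.autGroup T, ∃ v₀, MapTo E B v₀ ∧ ∀ x ∈ B, v x = autFun α (v₀ x)) →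
      ∃ α ∈ F.autGroup T, ∃ w₀, MapTo E A w₀ ∧ ∀ x ∈ A, v (u x) = autFun α (w₀ x) := by
    intro A B u v hu huB ⟨α, hα, u₀, hu₀, h1⟩ ⟨β, hβ, v₀, hv₀, h2⟩
    have hAT : A ≤ T := hu₀.le
    have hBT : B ≤ T := hv₀.le
    obtain ⟨g, hg, hgx⟩ := hconj hBT le_rfl hv₀ (fun x hx => hv₀.mem hx)
      (mapTo_of_mem_autGroup hTS (Subgroup.inv_mem _ hα))
    have hm : ∀ x ∈ A, u₀ x ∈ img (autFun α⁻¹) B := fun x hx => by
      rw [← autFun_inv_autFun α (hu₀.mem hx), ← h1 x hx]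
      exact mem_img_of_mem (huB x hx)
    refine ⟨β * α, Subgroup.mul_mem _ hβ hα, fun x => g (u₀ x), hu₀.comp hg hm, fun x hx => ?_⟩
    have hux := huB x hx
    have hgm : g (u₀ x) ∈ T := hg.mem (hm x hx)
    have h3 : g (u₀ x) = autFun α⁻¹ (v₀ (u x)) := by
      rw [← autFun_inv_autFun α (hu₀.mem hx), ← h1 x hx]
      exact hgx _ hux
    rw [h2 _ hux, autFun_mul _ _ hgm, h3, autFun_autFun_inv α (hv₀.mem hux)]
  have inv : ∀ {A : Subgroup Ω} {u v : Ω → Ω}, MapTo F A u → (∀ x ∈ A, v (u x) = x) →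
      (∃ α ∈ F.autGroup T, ∃ u₀, MapTo E A u₀ ∧ ∀ x ∈ A, u x = autFun α (u₀ x)) →
      ∃ α ∈ F.autGroup T, ∃ v₀, MapTo E (img u A) v₀ ∧ ∀ y ∈ img u A, v y = autFun α (v₀ y) := by
    intro A u v hu hvu ⟨α, hα, u₀, hu₀, h1⟩
    have hAT : A ≤ T := hu₀.le
    obtain ⟨w, hw, hwu, huw, -⟩ := hu₀.exists_iso_inverse
    obtain ⟨g, hg, hgx⟩ := hconj (hu₀.img_le) le_rfl hw (fun y hy => hw.mem hy)
      (mapTo_of_mem_autGroup hTS hα)
    have he : img (autFun α) (img u₀ A) = img u A := by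
      rw [hu₀.img_img le_rfl]; exact (img_congr h1).symm
    refine ⟨α⁻¹, Subgroup.inv_mem _ hα, g, he ▸ hg, fun y hy => ?_⟩
    obtain ⟨x, hx, rfl⟩ := (hu.mem_img_iff le_rfl).mp hy
    rw [hvu x hx, h1 x hx, hgx _ (mem_img_of_mem hx), hwu x hx, autFun_inv_autFun α (hAT hx)]
  have hbig : ∀ {A R : Subgroup Ω} {u : Ω → Ω}, Nat.card A = Nat.card P → A < R → R ≤ T →
      MapTo F R u → ∃ α ∈ F.autGroup T, ∃ u₀, MapTo E A u₀ ∧ ∀ x ∈ A, u x = autFun α (u₀ x) := by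
    intro A R u hA hAR hRT hu
    have := finite_of_le (hRT.trans hTS)
    have h1 : Nat.card A < Nat.card R := by
      refine lt_of_le_of_ne (Subgroup.card_le_of_le hAR.le) fun he => ?_
      exact hAR.ne (Subgroup.eq_of_le_of_card_ge hAR.le he.ge)
    have h2 : Nat.card R ≤ Nat.card T := Subgroup.card_le_of_le hRT
    obtain ⟨α, hα, u₀, hu₀, hx⟩ := ih _ (by omega) hRT hu rfl
    exact ⟨α, hα, u₀, hu₀.restrict hAR.le, fun x hx' => hx x (hAR.le hx')⟩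
  have hPS := hf.le
  have hP'T : img f P ≤ T := img_le_of_forall fun x hx => hmT hPT hf x hx
  have hP'lt : img f P < T := lt_of_le_of_ne hP'T fun he => by
    have hc := hf.card_img le_rfl
    rw [he] at hc
    exact hlt.ne (Subgroup.eq_of_le_of_card_ge hPT hc.le)
  obtain ⟨Q, hPQ, hQn⟩ := exists_isFullyNormalized (F := F) hPS
  obtain ⟨a, ha, haQ⟩ := isConj_iff.mp hPQ
  have hQT : Q ≤ T := haQ ▸ img_le_of_forall fun x hx => hmT hPT ha x hx
  have hQlt : Q < T := lt_of_le_of_ne hQT fun he => by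
    have hc := isConj_card hPQ
    rw [he] at hc
    exact hlt.ne (Subgroup.eq_of_le_of_card_ge hPT hc.le)
  have hQa := isFullyAutomized_of_isFullyNormalized hS hF hQn
  have hQr := isReceptive_of_isFullyNormalized hS hF hQn
  have hTp := hS.to_le hTS
  obtain ⟨g₁, hg₁, hg₁Q⟩ := exists_map_normalizerIn hS hQa hQr hPQ
  obtain ⟨g₂, hg₂, hg₂Q⟩ :=
    exists_map_normalizerIn hS hQa hQr (isConj_trans (isConj_symm hf.isConj) hPQ)
  have hN : ∀ A : Subgroup Ω, normalizerIn T A ≤ normalizerIn S A := fun A z hz => ⟨hTS hz.1, hz.2⟩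
  have c₁ := hbig rfl (lt_normalizerIn hTp hlt) normalizerIn_le (hg₁.restrict (hN P))
  have c₂ := hbig (hf.card_img le_rfl) (lt_normalizerIn hTp hP'lt) normalizerIn_le
    (hg₂.restrict (hN _))
  have hg₁P := hg₁.restrict (le_normalizerIn hPS)
  have hg₂P := hg₂.restrict (le_normalizerIn hf.img_le)
  obtain ⟨k₁, hk₁, hk₁g, -, -⟩ := hg₁P.exists_iso_inverse
  rw [hg₁Q] at hk₁
  obtain ⟨k₂, hk₂, hk₂g, -, -⟩ := hg₂P.exists_iso_inverse
  rw [hg₂Q] at hk₂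
  have hk₁m : ∀ y ∈ Q, k₁ y ∈ P := fun y hy => by
    obtain ⟨x, hx, rfl⟩ := (hg₁P.mem_img_iff le_rfl).mp (hg₁Q ▸ hy : y ∈ img g₁ P)
    rw [hk₁g x hx]; exact hx
  have hfm : ∀ x ∈ P, f x ∈ img f P := fun x hx => mem_img_of_mem hx
  have hu : MapTo F Q (fun y => g₂ (f (k₁ y))) :=
    (hk₁.comp hf hk₁m).comp hg₂P fun y hy => hfm _ (hk₁m y hy)
  have hQS := hQn.1
  have := finite_of_le hQS
  have := finite_mulAut Q
  have huimg : img (fun y => g₂ (f (k₁ y))) Q = Q := img_eq_self_of_forall hu fun y hy => by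
    rw [← hg₂Q]; exact mem_img_of_mem (hfm _ (hk₁m y hy))
  set α := autOf hu huimg with hα
  -- Frattini argument in the automizer of `Q`
  have hK : ((E.autGroup Q).subgroupOf (F.autGroup Q)).Normal := by
    refine normal_autGroup_of_conj hQT hsub fun {f ψ} hf hfP hψ hψP => ?_
    obtain ⟨g, hg, hgx⟩ := hconj le_rfl hQT hf (fun x hx => hfP (mem_img_of_mem hx)) hψ
    exact ⟨g, hψP ▸ hg, hgx⟩
  obtain ⟨-, Sy, hSy⟩ := hQa
  set K := (E.autGroup Q).subgroupOf (F.autGroup Q)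
  have hKsyl : IsSylowIn p (Sy.toSubgroup ⊓ K) K :=
    IsSylowIn.inf_normal ((isSylowIn_iff_exists le_top).mpr
      ⟨Sy.comapOfInjective (ϕ := (⊤ : Subgroup (F.autGroup Q)).subtype) Subtype.val_injective
        (by simp), rfl⟩) le_top (by rw [Subgroup.normalizer_eq_top])
  obtain ⟨κ, hκ, hκc⟩ := hKsyl.2.2
    ((Sy.toSubgroup ⊓ K).map (MulAut.conj (⟨α, autOf_mem hu huimg⟩ : F.autGroup Q)).toMonoidHom)
    ((map_conj_le_iff _).mpr fun z hz => hK.conj_mem z hz.2 _) ((Sy.2.to_le inf_le_left).map _)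
  set β := κ * (⟨α, autOf_mem hu huimg⟩ : F.autGroup Q) with hβ
  have hβm := mapTo_of_mem_autGroup hQS β.2
  have hext : normalizerIn T Q ≤ extSub S hβm := by
    intro z hz
    obtain ⟨γ, hγ⟩ := exists_conjAut (P := Q) hz.2
    have hγE : γ ∈ E.autGroup Q :=
      autInducedBy_le_autGroup hQT (mem_autInducedBy_iff_cj.mpr ⟨z, hz.1, hγ⟩)
    have hγS : γ ∈ autInducedBy S Q := mem_autInducedBy_iff_cj.mpr ⟨z, hTS hz.1, hγ⟩
    set γ' : F.autGroup Q := ⟨γ, autInducedBy_le_autGroup hQS hγS⟩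
    have hmem : γ' ∈ Sy.toSubgroup ⊓ K := ⟨by rw [hSy]; exact hγS, hγE⟩
    have h1 := (hκc _ ⟨γ', hmem, rfl⟩).1
    rw [hSy] at h1
    have h1' : (β : MulAut Q) * γ * (β : MulAut Q)⁻¹ ∈ autInducedBy S Q := by
      have h2 := Subgroup.mem_subgroupOf.mp h1
      simp only [MulEquiv.coe_toMonoidHom, MulAut.conj_apply, Subgroup.coe_mul, Subgroup.coe_inv] at h2
      rw [hβ, Subgroup.coe_mul]
      convert h2 using 1
      group
      rfl
    obtain ⟨h', hh', hx'⟩ := mem_autInducedBy_iff_cj.mp h1'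
    refine ⟨hN Q hz, h', hh', fun x hx => ?_⟩
    have := hx' _ (autFun_mem (β : MulAut Q) hx)
    rw [autFun_mul _ _ (autFun_mem _ hx), autFun_inv_autFun _ hx, autFun_mul _ _ hx, hγ x hx] at this
    exact this
  obtain ⟨b, hb, hbx⟩ := (isReceptive_iff.mp hQr).2 Q _ hβm (img_autFun _)
  have cβ := hbig (isConj_card hPQ) (lt_normalizerIn hTp hQlt) normalizerIn_le (hb.restrict hext)
  obtain ⟨a₃, ha₃, b₀, hb₀, hbx₀⟩ := cβ
  have cκ : ∃ σ ∈ F.autGroup T, ∃ v₀, MapTo E Q v₀ ∧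
      ∀ x ∈ Q, autFun ((κ⁻¹ : F.autGroup Q) : MulAut Q) x = autFun σ (v₀ x) :=
    ⟨1, Subgroup.one_mem _, _, mapTo_of_mem_autGroup hQT (Subgroup.mem_subgroupOf.mp (K.inv_mem hκ)),
      fun x hx => (autFun_one (hQT (autFun_mem _ hx))).symm⟩
  have cβ' : ∃ σ ∈ F.autGroup T, ∃ v₀, MapTo E Q v₀ ∧
      ∀ x ∈ Q, autFun (β : MulAut Q) x = autFun σ (v₀ x) :=
    ⟨a₃, ha₃, b₀, hb₀, fun x hx => (hbx x hx).symm.trans (hbx₀ x hx)⟩
  have hg₁m : ∀ x ∈ P, g₁ x ∈ Q := fun x hx => hg₁Q ▸ mem_img_of_mem hx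
  have cinv := inv hg₂P hk₂g c₂
  rw [hg₂Q] at cinv
  have step1 := comp hg₁P hg₁m c₁ cβ'
  have hβg : MapTo F P (fun x => autFun (β : MulAut Q) (g₁ x)) := hg₁P.comp hβm hg₁m
  have step2 := comp hβg (fun x hx => autFun_mem _ (hg₁m x hx)) step1 cκ
  have hαg : MapTo F P (fun x => autFun ((κ⁻¹ : F.autGroup Q) : MulAut Q)
      (autFun (β : MulAut Q) (g₁ x))) :=
    hβg.comp (mapTo_of_mem_autGroup hQS (κ⁻¹).2) fun x hx => autFun_mem _ (hg₁m x hx)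
  obtain ⟨σ, hσ, w₀, hw₀, hw⟩ :=
    comp hαg (fun x hx => autFun_mem _ (autFun_mem _ (hg₁m x hx))) step2 cinv
  refine ⟨σ, hσ, w₀, hw₀, fun x hx => ?_⟩
  rw [← hw x hx]
  have hy := hg₁m x hx
  rw [← autFun_mul _ _ hy, hβ, Subgroup.coe_mul, Subgroup.coe_inv, inv_mul_cancel_left]
  show f x = k₂ (autFun (autOf hu huimg) (g₁ x))
  rw [autFun_autOf hu huimg hy, hk₁g x hx, hk₂g _ (hfm x hx)]

/-- A system climbs from a centric subgroup to `S`. -/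
theorem mapTo_top_of_centric {E : FusionSystem S} (hS : IsPGroup p S) (hF : F.IsSaturated p)
    (hE : E.IsSaturated p) (hEF : E.IsSubsystemOf F) (hf : MapTo F S f) (hR : F.IsCentric R)
    (hRimg : img f R = R) (hRE : MapTo E R f) : MapTo E S f := by
  induction hk : Nat.card S - Nat.card R using Nat.strong_induction_on generalizing R with
  | h k ih =>
  rcases eq_or_lt_of_le hR.1 with rfl | hlt
  · exact hRE
  have hRE' : E.IsCentric R := ⟨hR.1, fun Q hQ => hR.2 Q (IsSubsystemOf.isConj hEF hQ)⟩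
  obtain ⟨ψ, hψ, hψx⟩ := (isReceptive_iff.mp
    (isReceptive_of_isFullyCentralized hS hE (isFullyCentralized_of_isCentric hRE'))).2 R f hRE hRimg
  set R₁ := normalizerIn S R with hR₁
  have hlt' : R < R₁ := lt_normalizerIn hS hlt
  have hR₁S : R₁ ≤ S := normalizerIn_le
  have hext : R₁ ≤ extSub S hRE := fun z hz =>
    ⟨hz, f z, hf.mem hz.1, fun x hx => hf.map_conj hz.1 (hR.1 hx)⟩
  have := finite_of_le hR₁S
  have himg : img f R₁ = R₁ := img_eq_self_of_forall (hf.restrict hR₁S) fun z hz => by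
    have := hf.map_mem_normalizerIn hR.1 hz.1 hz
    rwa [hRimg] at this
  have hψ₁ := hψ.restrict hext
  obtain ⟨z, hz, -, hzy⟩ := eq_conj_of_eqOn_centric hS hF hR hlt'.le
    (IsSubsystemOf.mapTo hEF hψ₁) (hf.restrict hR₁S) hψx
  have hzR₁ := hlt'.le hz
  have hfE : MapTo E R₁ f :=
    ((mapTo_cj hR₁S (hR.1 hz)).comp hψ₁ fun y hy =>
      Subgroup.mul_mem _ (Subgroup.mul_mem _ hzR₁ hy) (Subgroup.inv_mem _ hzR₁)).congr'
      fun y hy => hzy y hy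
  refine ih _ ?_ (isCentric_mono hR hlt'.le hR₁S) himg hfE rfl
  have h1 : Nat.card R < Nat.card R₁ := by
    refine lt_of_le_of_ne (Subgroup.card_le_of_le hlt'.le) fun he => ?_
    exact hlt'.ne (Subgroup.eq_of_le_of_card_ge hlt'.le he.ge)
  have h2 : Nat.card R₁ ≤ Nat.card S := Subgroup.card_le_of_le hR₁S
  omega

end Saturated

/-- An invariant subsystem over `S` with the same automizer of `S` is the whole system. -/
theorem IsInvariantIn.eq_of_autGroup_le {E : FusionSystem S} (h : E.IsInvariantIn F)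
    (hA : F.autGroup S ≤ E.autGroup S) : ∀ P, E.Hom P = F.Hom P := by
  refine fun P => Set.Subset.antisymm (h.1 P) fun φ hφ => ?_
  obtain ⟨α, hα, f₀, hf₀, hx⟩ := IsInvariantIn.frattini h (F.le_of_mem hφ).1 (mapTo_ev hφ)
  exact mapTo_ev_iff.mp ((hf₀.comp (mapTo_of_mem_autGroup le_rfl (hA hα))
    fun x hx' => hf₀.mem hx').congr' hx)

theorem isSimple_of_forall {p : ℕ} (hF : F.IsSaturated p) (hS1 : S ≠ ⊥)
    (hsc : ∀ T : Subgroup Ω, F.StronglyClosed T → T = ⊥ ∨ T = S)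
    (hA : ∀ E : FusionSystem S, E.IsWeaklyNormalIn F p → F.autGroup S ≤ E.autGroup S) :
    F.IsSimple p := by
  refine ⟨hF, hS1, fun T E hE => ?_⟩
  rcases hsc T hE.1.2.2.2.1 with h | h
  · exact Or.inl h
  · subst h
    exact Or.inr ⟨rfl, IsInvariantIn.eq_of_autGroup_le hE.1.2.2 (hA E hE.1)⟩

theorem isSimple_of_autGroup_eq_inn {p : ℕ} (hF : F.IsSaturated p) (hS1 : S ≠ ⊥)
    (htop : F.autGroup S = Inn S) (hsc : ∀ T : Subgroup Ω, F.StronglyClosed T → T = ⊥ ∨ T = S) :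
    F.IsSimple p :=
  isSimple_of_forall hF hS1 hsc fun _ _ => htop ▸ inn_le_autGroup le_rfl

end Cfsg.Agent.Fusion
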