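import Cfsg.Agent.Lib.Fusion.Alperin
import Cfsg.Agent.Lib.Fusion.Hyperfocal
import Cfsg.Agent.Lib.Fusion.Invariant

/-!
Saturated subsystems of `p`-power index: uniqueness, transport, and normality.
-/

set_option autoImplicit false

namespace Cfsg.Agent.Fusion

open Cfsg.FusionSystem (centralizerIn normalizerIn)

variable {Ω : Type*} [Group Ω] {S T U : Subgroup Ω} {F : FusionSystem S} {E : FusionSystem T}
variable {P Q R : Subgroup Ω} {f g : Ω → Ω} {p : ℕ}

theorem oP_mono (h : E.IsSubsystemOf F) (Q : Subgroup Ω) : oP E p Q ≤ oP F p Q := by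
  rintro _ ⟨a, ha, rfl⟩
  exact ⟨Subgroup.inclusion (IsSubsystemOf.autGroup_le h Q) a,
    Cfsg.Agent.Transfer.map_pResidual_le _ ⟨a, ha, rfl⟩, rfl⟩

variable [Finite S] [Fact p.Prime]

/-- A saturated system is contained in any system over a larger subgroup which contains its
`O^p(Aut(P))`. -/
theorem mapTo_of_oP_le (hS : IsPGroup p S) (hTS : T ≤ S) (hE : E.IsSaturated p)
    (D : FusionSystem U) (hTU : T ≤ U)
    (h : ∀ Q : Subgroup Ω, Q ≤ T → oP E p Q ≤ D.autGroup Q) (hf : MapTo E P f) : MapTo D P f := by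
  have := finite_of_le hTS
  refine alperin_prop (hS.to_le hTS) hE (fun P f => MapTo D P f)
    (fun _ hC hfg => hC.congr' hfg) (fun hP hg => mapTo_cj (hP.trans hTU) (hTU hg))
    (fun _ _ hfQ hf hg => hf.comp hg hfQ) ?_ ?_ hf
  · intro P f g _ _ hgf hfD
    obtain ⟨k, hk, hkf, -, -⟩ := hfD.exists_iso_inverse
    refine hk.congr' fun y hy => ?_
    obtain ⟨x, hx, rfl⟩ := (hfD.mem_img_iff le_rfl).mp hy
    rw [hkf x hx, hgf x hx]
  · intro Q hQ α hα
    have hQn := isFullyNormalized_of_eq_top_or_essential hQ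
    obtain ⟨β, hβ, c, hc, rfl⟩ := exists_eq_mul_of_isFullyNormalized (hS.to_le hTS) hE hQn hα
    exact mapTo_of_mem_autGroup (hQn.1.trans hTU) (Subgroup.mul_mem _ (h Q hQn.1 hβ)
      (autInducedBy_le_autGroup (hQn.1.trans hTU) (autInducedBy_mono hTU Q hc)))

theorem hom_le_of_oP_le (hS : IsPGroup p S) (hTS : T ≤ S) (hE : E.IsSaturated p)
    (D : FusionSystem U) (hTU : T ≤ U)
    (h : ∀ Q : Subgroup Ω, Q ≤ T → oP E p Q ≤ D.autGroup Q) (P : Subgroup Ω) :
    E.Hom P ⊆ D.Hom P :=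
  fun _ hφ => mapTo_ev_iff.mp (mapTo_of_oP_le hS hTS hE D hTU h (mapTo_ev hφ))

/-- A saturated subsystem of `p`-power index is contained in every subsystem of `p`-power index
over a larger subgroup. -/
theorem pPowerIndex_le (hS : IsPGroup p S) (hTS : T ≤ S) (hE : E.IsSaturated p)
    (hEF : E.IsSubsystemOf F) (D : FusionSystem U) (hTU : T ≤ U)
    (hD : D.HasPPowerIndexIn F p) (P : Subgroup Ω) : E.Hom P ⊆ D.Hom P :=
  hom_le_of_oP_le hS hTS hE D hTU
    (fun Q hQ => (oP_mono hEF Q).trans (hD.2.2 Q (hQ.trans hTU))) P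

theorem pPowerIndex_unique (hS : IsPGroup p S) (hTS : T ≤ S) (E' : FusionSystem T)
    (hE : E.IsSaturated p) (hE' : E'.IsSaturated p) (hi : E.HasPPowerIndexIn F p)
    (hi' : E'.HasPPowerIndexIn F p) (P : Subgroup Ω) : E.Hom P = E'.Hom P :=
  Set.Subset.antisymm (pPowerIndex_le hS hTS hE hi.1 E' le_rfl hi' P)
    (pPowerIndex_le hS hTS hE' hi'.1 E le_rfl hi P)

/-- The transport of the saturated subsystem of `p`-power index by a map of `F` on `T` onto `T`. -/
theorem pPowerIndex_transport (hS : IsPGroup p S) (hTS : T ≤ S) (hE : E.IsSaturated p)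
    (hi : E.HasPPowerIndexIn F p) {a : Ω → Ω} (ha : MapTo F T a) (haT : img a T = T)
    (hf : MapTo E P f) :
    ∃ g, MapTo E (img a P) g ∧ ∀ x ∈ P, g (a x) = a (f x) := by
  have := finite_of_le hTS
  refine alperin_prop (hS.to_le hTS) hE
    (fun P f => ∃ g, MapTo E (img a P) g ∧ ∀ x ∈ P, g (a x) = a (f x)) ?_ ?_ ?_ ?_ ?_ hf
  · rintro P f g _ ⟨k, hk, hkx⟩ hfg
    exact ⟨k, hk, fun x hx => by rw [hfg x hx]; exact hkx x hx⟩
  · intro P t hP ht
    have hPT : img a P ≤ T := (img_mono hP).trans haT.le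
    refine ⟨cj (a t), mapTo_cj hPT (haT.le (mem_img_of_mem ht)), fun x hx => ?_⟩
    simp only [cj_apply]
    rw [ha.map_conj ht (hP hx)]
  · rintro P Q f g hf hg hfQ ⟨k, hk, hkx⟩ ⟨l, hl, hlx⟩
    refine ⟨fun y => l (k y), hk.comp hl ?_, fun x hx => ?_⟩
    · intro y hy
      obtain ⟨x, hx, rfl⟩ := ((ha.restrict hf.le).mem_img_iff le_rfl).mp hy
      rw [hkx x hx]; exact mem_img_of_mem (hfQ x hx)
    · show l (k (a x)) = a (g (f x))
      rw [hkx x hx, hlx _ (hfQ x hx)]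
  · rintro P f g hf hg hgf ⟨k, hk, hkx⟩
    obtain ⟨l, hl, hlk, -, -⟩ := hk.exists_iso_inverse
    have he : img a (img f P) = img k (img a P) := by
      rw [hf.img_img le_rfl a, (ha.restrict hf.le).img_img le_rfl k]
      exact img_congr fun x hx => (hkx x hx).symm
    refine ⟨l, he ▸ hl, fun y hy => ?_⟩
    obtain ⟨x, hx, rfl⟩ := (hf.mem_img_iff le_rfl).mp hy
    rw [← hkx x hx, hlk _ (mem_img_of_mem hx), hgf x hx]
  · intro Q hQ α hα
    have hQn := isFullyNormalized_of_eq_top_or_essential hQ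
    obtain ⟨β, hβ, c, hc, rfl⟩ := exists_eq_mul_of_isFullyNormalized (hS.to_le hTS) hE hQn hα
    obtain ⟨t, ht, htc⟩ := mem_autInducedBy_iff_cj.mp hc
    have haQ := ha.restrict hQn.1
    have hQ' : img a Q ≤ T := (img_mono hQn.1).trans haT.le
    have hγ := hi.2.2 (img a Q) hQ' (congr_mem_oP haQ rfl (oP_mono hi.1 Q hβ))
    have hat : a t ∈ T := haT.le (mem_img_of_mem ht)
    have hcm : ∀ y ∈ img a Q, cj (a t) y ∈ img a Q := fun y hy => by
      obtain ⟨x, hx, rfl⟩ := (haQ.mem_img_iff le_rfl).mp hy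
      have h1 : t * x * t⁻¹ ∈ Q := by
        rw [← cj_apply, ← htc x hx]; exact autFun_mem c hx
      rw [cj_apply, ← ha.map_conj ht (hQn.1 hx)]
      exact mem_img_of_mem h1
    refine ⟨_, (mapTo_cj hQ' hat).comp (mapTo_of_mem_autGroup hQ' hγ) hcm, fun x hx => ?_⟩
    show autFun (MulAut.congr (isoEquiv haQ rfl) β) (cj (a t) (a x)) = a (autFun (β * c) x)
    rw [autFun_mul _ _ hx, cj_apply, ← ha.map_conj ht (hQn.1 hx), ← cj_apply,
      ← htc x hx, autFun_congr haQ rfl β (autFun_mem c hx)]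

/-- Conjugation by an element of `S` normalizing `T`. -/
theorem img_cj_eq_of_normal (hTS : T ≤ S) (hTn : ∀ s ∈ S, ∀ x ∈ T, s * x * s⁻¹ ∈ T) {s : Ω}
    (hs : s ∈ S) : img (cj s) T = T := by
  have := finite_of_le hTS
  exact img_eq_self_of_forall (mapTo_cj (F := (innerFusionSystem S)) hTS hs) fun x hx => hTn s hs x hx

/-- Restriction of an element of `O^p(Aut_F(Q))` to an invariant subgroup. -/
theorem exists_oP_restrict (hQ : Q ≤ S) (hRQ : R ≤ Q)
    (hR : ∀ α ∈ F.autGroup Q, ∀ x ∈ R, autFun α x ∈ R) {β : MulAut Q} (hβ : β ∈ oP F p Q) :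
    ∃ γ ∈ oP F p R, ∀ x ∈ R, autFun γ x = autFun β x := by
  have := finite_of_le (hRQ.trans hQ)
  refine oP_induction (C := fun b => ∃ γ ∈ oP F p R, ∀ x ∈ R, autFun γ x = autFun b x)
    ⟨1, Subgroup.one_mem _, fun x hx => by rw [autFun_one hx, autFun_one (hRQ hx)]⟩ ?_ ?_ ?_ β hβ
  · rintro a b - hb ⟨γ, hγ, hγx⟩ ⟨δ, hδ, hδx⟩
    refine ⟨γ * δ, Subgroup.mul_mem _ hγ hδ, fun x hx => ?_⟩
    rw [autFun_mul _ _ hx, autFun_mul _ _ (hRQ hx), hδx x hx, hγx _ (hR b hb x hx)]
  · rintro a ha ⟨γ, hγ, hγx⟩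
    refine ⟨γ⁻¹, Subgroup.inv_mem _ hγ, fun x hx => ?_⟩
    have h1 : autFun a⁻¹ x ∈ R := hR _ (Subgroup.inv_mem _ ha) x hx
    have h2 := hγx _ h1
    rw [autFun_autFun_inv a (hRQ hx)] at h2
    conv_lhs => rw [← h2]
    exact autFun_inv_autFun γ h1
  · intro a ha hcop
    have hm : MapTo F R (autFun a) := (mapTo_of_mem_autGroup hQ ha).restrict hRQ
    have himg : img (autFun a) R = R := img_eq_self_of_forall hm (hR a ha)
    refine ⟨autOf hm himg, mem_oP_of_coprime (autOf_mem hm himg) ?_,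
      fun x hx => autFun_autOf hm himg hx⟩
    refine hcop.coprime_dvd_left (orderOf_dvd_of_pow_eq_one ?_)
    have hpow : ∀ n : ℕ, ∀ x ∈ R, autFun ((autOf hm himg) ^ n) x = autFun (a ^ n) x := by
      intro n
      induction n with
      | zero => intro x hx; simp [autFun_one hx, autFun_one (hRQ hx)]
      | succ n ih =>
        intro x hx
        rw [pow_succ, pow_succ, autFun_mul _ _ hx, autFun_mul _ _ (hRQ hx),
          autFun_autOf hm himg hx, ih _ (hR a ha x hx)]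
    refine autFun_ext fun x hx => ?_
    rw [hpow _ x hx, pow_orderOf_eq_one, autFun_one (hRQ hx), autFun_one hx]

theorem stronglyClosed_of_hyperfocal_le (hS : IsPGroup p S) (hF : F.IsSaturated p) (hTS : T ≤ S)
    (hTn : ∀ s ∈ S, ∀ x ∈ T, s * x * s⁻¹ ∈ T) (hT : F.hyperfocalSubgroup p ≤ T) :
    F.StronglyClosed T := by
  have key : ∀ {P : Subgroup Ω} {f : Ω → Ω}, MapTo F P f → ∀ x ∈ P, (x ∈ T ↔ f x ∈ T) := by
    intro P f hf
    refine alperin_prop hS hF (fun P f => ∀ x ∈ P, (x ∈ T ↔ f x ∈ T)) ?_ ?_ ?_ ?_ ?_ hf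
    · intro P f g _ h hfg x hx
      rw [hfg x hx]; exact h x hx
    · intro P s _ hs x _
      refine ⟨fun h => hTn s hs x h, fun h => ?_⟩
      have h1 := hTn s⁻¹ (S.inv_mem hs) _ h
      rwa [← cj_apply, cj_inv_cancel] at h1
    · intro P Q f g _ _ hfQ h h' x hx
      exact (h x hx).trans (h' _ (hfQ x hx))
    · intro P f g hf _ hgf h y hy
      obtain ⟨x, hx, rfl⟩ := (hf.mem_img_iff le_rfl).mp hy
      rw [hgf x hx]; exact (h x hx).symm
    · intro Q hQ α hα x hx
      have hQn := isFullyNormalized_of_eq_top_or_essential hQ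
      obtain ⟨β, hβ, c, hc, rfl⟩ := exists_eq_mul_of_isFullyNormalized hS hF hQn hα
      obtain ⟨s, hs, hsc⟩ := mem_autInducedBy_iff_cj.mp hc
      rw [autFun_mul _ _ hx]
      have hy : (autFun c x)⁻¹ * autFun β (autFun c x) ∈ T :=
        hT (mem_hyperfocal hQn.1 hβ (autFun_mem c hx))
      have h2 : x ∈ T ↔ autFun c x ∈ T := by
        rw [hsc x hx]
        refine ⟨fun h => hTn s hs x h, fun h => ?_⟩
        have h1 := hTn s⁻¹ (S.inv_mem hs) _ h
        rwa [← cj_apply, cj_inv_cancel] at h1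
      refine h2.trans ⟨fun h => ?_, fun h => ?_⟩
      · have h3 := T.mul_mem h hy
        rwa [mul_inv_cancel_left] at h3
      · have h3 := T.mul_mem h (T.inv_mem hy)
        rwa [mul_inv_rev, inv_inv, mul_inv_cancel_left] at h3
  exact stronglyClosed_iff.mpr ⟨hTS, fun R f hR hf x hx => (key hf x hx).mp (hR hx)⟩

/-- The Frattini property of the subsystem of `p`-power index. -/
theorem pPowerIndex_frattini (hS : IsPGroup p S) (hF : F.IsSaturated p) (hTS : T ≤ S)
    (hTn : ∀ s ∈ S, ∀ x ∈ T, s * x * s⁻¹ ∈ T) (hE : E.IsSaturated p)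
    (hi : E.HasPPowerIndexIn F p) (hf : MapTo F P f) (hPT : P ≤ T) :
    ∃ s ∈ S, ∃ f₀, MapTo E P f₀ ∧ ∀ x ∈ P, f x = cj s (f₀ x) := by
  have hsc := stronglyClosed_of_hyperfocal_le hS hF hTS hTn hi.2.1
  have htr : ∀ {s : Ω}, s ∈ S → ∀ {P : Subgroup Ω} {f : Ω → Ω}, MapTo E P f →
      ∃ g, MapTo E (img (cj s) P) g ∧ ∀ x ∈ P, g (cj s x) = cj s (f x) :=
    fun hs _ _ h => pPowerIndex_transport hS hTS hE hi (mapTo_cj hTS hs)
      (img_cj_eq_of_normal hTS hTn hs) h
  -- a map of `E` composed on the left with a conjugation can be moved to the right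
  have htr' : ∀ {s : Ω}, s ∈ S → ∀ {P Q : Subgroup Ω} {g : Ω → Ω}, MapTo E Q g → P ≤ T →
      (∀ x ∈ P, cj s x ∈ Q) →
      ∃ g', MapTo E P g' ∧ ∀ x ∈ P, g (cj s x) = cj s (g' x) := by
    intro s hs P Q g hg hP hPQ
    have hle : img (cj s) P ≤ Q := img_le_of_forall hPQ
    obtain ⟨k, hk, hkx⟩ := htr (S.inv_mem hs) (hg.restrict hle)
    have he : img (cj s⁻¹) (img (cj s) P) = P := by
      rw [(mapTo_cj (F := F) (hP.trans hTS) hs).img_img le_rfl]
      exact (img_congr fun x _ => cj_inv_cancel s x).trans img_id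
    refine ⟨k, he ▸ hk, fun x hx => ?_⟩
    have h1 := hkx (cj s x) (mem_img_of_mem hx)
    rw [cj_inv_cancel] at h1
    rw [h1, cj_cancel_inv]
  refine alperin_prop hS hF (fun P f => ∀ R : Subgroup Ω, R ≤ P → R ≤ T →
    ∃ s ∈ S, ∃ f₀, MapTo E R f₀ ∧ ∀ x ∈ R, f x = cj s (f₀ x)) ?_ ?_ ?_ ?_ ?_ hf P le_rfl hPT
  · intro P f g _ h hfg R hR hRT
    obtain ⟨s, hs, f₀, hf₀, hx⟩ := h R hR hRT
    exact ⟨s, hs, f₀, hf₀, fun x hxR => by rw [hfg x (hR hxR)]; exact hx x hxR⟩
  · intro P s _ hs R _ hRT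
    exact ⟨s, hs, fun x => x, mapTo_id E hRT, fun x _ => rfl⟩
  · intro P Q f g hf hg hfQ h h' R hR hRT
    obtain ⟨s, hs, f₀, hf₀, hfx⟩ := h R hR hRT
    have hfR : img f R ≤ T := img_le_of_forall fun x hx =>
      StronglyClosed.map_mem hsc (hf.restrict hR) hx (hRT hx)
    obtain ⟨t, ht, g₀, hg₀, hgx⟩ := h' (img f R)
      (img_le_of_forall fun x hx => hfQ x (hR hx)) hfR
    have hf₀T : img f₀ R ≤ T := hf₀.img_le
    obtain ⟨g', hg', hg'x⟩ := htr' hs hg₀ hf₀T (P := img f₀ R) (fun y hy => by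
      obtain ⟨x, hx, rfl⟩ := (hf₀.mem_img_iff le_rfl).mp hy
      rw [← hfx x hx]; exact mem_img_of_mem hx)
    refine ⟨t * s, S.mul_mem ht hs, fun x => g' (f₀ x),
      hf₀.comp hg' (fun x hx => mem_img_of_mem hx), fun x hx => ?_⟩
    show g (f x) = cj (t * s) (g' (f₀ x))
    rw [hgx _ (mem_img_of_mem hx), hfx x hx, hg'x _ (mem_img_of_mem hx), cj_mul]
  · intro P f g hf hg hgf h R hR hRT
    have hR' : img g R ≤ P := img_le_of_forall fun y hy => by
      obtain ⟨x, hx, rfl⟩ := (hf.mem_img_iff le_rfl).mp (hR hy)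
      rw [hgf x hx]; exact hx
    have hgR : img g R ≤ T := img_le_of_forall fun y hy => StronglyClosed.map_mem hsc (hg.restrict hR) hy (hRT hy)
    obtain ⟨s, hs, f₀, hf₀, hfx⟩ := h (img g R) hR' hgR
    obtain ⟨k, hk, hkx, -, -⟩ := hf₀.exists_iso_inverse
    have hfg : ∀ y ∈ R, cj s⁻¹ y = f₀ (g y) := fun y hy => by
      obtain ⟨x, hx, rfl⟩ := (hf.mem_img_iff le_rfl).mp (hR hy)
      have e := hfx _ (mem_img_of_mem hy)
      rw [hgf x hx] at e ⊢
      rw [e, cj_inv_cancel]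
    obtain ⟨k', hk', hk'x⟩ := htr' (S.inv_mem hs) hk hRT (fun y hy => by
      rw [hfg y hy]; exact mem_img_of_mem (mem_img_of_mem hy))
    refine ⟨s⁻¹, S.inv_mem hs, k', hk', fun y hy => ?_⟩
    rw [← hk'x y hy, hfg y hy, hkx _ (mem_img_of_mem hy)]
  · intro Q hQ α hα R hR hRT
    have hQn := isFullyNormalized_of_eq_top_or_essential hQ
    obtain ⟨β, hβ, c, hc, rfl⟩ := exists_eq_mul_of_isFullyNormalized hS hF hQn hα
    obtain ⟨s, hs, hsc'⟩ := mem_autInducedBy_iff_cj.mp hc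
    obtain ⟨γ, hγ, hγx⟩ := exists_oP_restrict (F := F) (p := p) hQn.1
      (inf_le_left : Q ⊓ T ≤ Q)
      (fun a ha x hx => ⟨autFun_mem a hx.1,
        StronglyClosed.map_mem hsc (mapTo_of_mem_autGroup hQn.1 ha) hx.1 hx.2⟩) hβ
    have hγE := mapTo_of_mem_autGroup (inf_le_right : Q ⊓ T ≤ T)
      (hi.2.2 (Q ⊓ T) inf_le_right hγ)
    have hsR : ∀ x ∈ R, cj s x ∈ Q ⊓ T := fun x hx =>
      ⟨by rw [← hsc' x (hR hx)]; exact autFun_mem c (hR hx), hTn s hs x (hRT hx)⟩
    obtain ⟨g', hg', hg'x⟩ := htr' hs hγE hRT hsR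
    refine ⟨s, hs, g', hg', fun x hx => ?_⟩
    rw [autFun_mul _ _ (hR hx), hsc' x (hR hx), ← hγx _ (hsR x hx), hg'x x hx]

/-- A saturated subsystem of `p`-power index over a normal subgroup is normal. -/
theorem pPowerIndex_isNormalIn (hS : IsPGroup p S) (hF : F.IsSaturated p) (hTS : T ≤ S)
    (hTn : ∀ s ∈ S, ∀ x ∈ T, s * x * s⁻¹ ∈ T) (hE : E.IsSaturated p)
    (hi : E.HasPPowerIndexIn F p) : E.IsNormalIn F p := by
  have := finite_of_le hTS
  have hsc := stronglyClosed_of_hyperfocal_le hS hF hTS hTn hi.2.1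
  refine ⟨⟨hE, hF, hi.1, hsc, ?_, ?_⟩, ?_⟩
  · intro P hPT φ hφ α hα
    obtain ⟨g, hg, hgx⟩ := pPowerIndex_transport hS hTS hE hi (mapTo_of_mem_autGroup hTS hα)
      (img_autFun α) (mapTo_ev hφ)
    have he : (P.subgroupOf T).map (T.subtype.comp α.toMonoidHom) = img (autFun α) P :=
      map_subgroupOf_eq_img (fun x => (autFun_coe α x).symm) hPT
    rw [← he] at hg
    obtain ⟨χ, hχ, hχg⟩ := hg
    refine ⟨χ, hχ, fun x hφx hαx => ?_⟩
    rw [hχg, ← autFun_apply α (hPT x.2), ← autFun_apply α hφx, hgx x x.2, ev_coe]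
  · intro P hPT φ hφ
    obtain ⟨s, hs, f₀, ⟨φ₀, hφ₀, hφ₀x⟩, hx⟩ :=
      pPowerIndex_frattini hS hF hTS hTn hE hi (mapTo_ev hφ) hPT
    have himg := img_cj_eq_of_normal hTS hTn hs
    refine ⟨autOf (mapTo_cj hTS hs) himg, autOf_mem _ _, φ₀, hφ₀, fun x hφx => ?_⟩
    rw [← autFun_apply _ hφx, autFun_autOf _ himg hφx, hφ₀x, ← hx x x.2, ev_coe]
  · -- the extension condition
    set C := centralizerIn S T with hC
    set W := T ⊔ C with hW
    have hWS : W ≤ S := sup_le hTS centralizerIn_le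
    have := finite_of_le hWS
    have hTW : T ≤ W := le_sup_left
    have hCW : C ≤ W := le_sup_right
    have hC' : ∀ β ∈ F.autGroup W, (∀ x ∈ T, autFun β x ∈ T) → ∀ c ∈ C, autFun β c ∈ C := by
      intro β hβ hβT c hc
      have hm := mapTo_of_mem_autGroup hWS hβ
      have h1 := hm.map_mem_centralizerIn hTW (hCW hc) hc
      rwa [img_eq_self_of_forall (hm.restrict hTW) hβT] at h1
    let K : MulAut T → Prop := fun a => ∃ β ∈ F.autGroup W,
      (∀ x ∈ T, autFun β x = autFun a x) ∧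
      ∀ c ∈ C, c⁻¹ * autFun β c ∈ T ⊓ Subgroup.centralizer (T : Set Ω)
    suffices hK : ∀ a ∈ E.autGroup T, K a by
      intro a ha
      obtain ⟨β, hβ, hβx, hβc⟩ := hK a ha
      refine ⟨β, hβ, fun x => ?_, fun c hc => ?_⟩
      · rw [← autFun_coe a x, ← hβx x x.2, autFun_apply β (hTW x.2)]; rfl
      · rw [← autFun_coe β c]; exact hβc c hc
    have hmul : ∀ a b, K a → K b → K (a * b) := by
      rintro a b ⟨β, hβ, hβx, hβc⟩ ⟨γ, hγ, hγx, hγc⟩
      refine ⟨β * γ, Subgroup.mul_mem _ hβ hγ, fun x hx => ?_, fun c hc => ?_⟩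
      · rw [autFun_mul _ _ (hTW hx), autFun_mul _ _ hx, hγx x hx, hβx _ (autFun_mem b hx)]
      · have hγC : autFun γ c ∈ C :=
          hC' γ hγ (fun x hx => by rw [hγx x hx]; exact autFun_mem b hx) c hc
        rw [autFun_mul _ _ (hCW hc),
          show c⁻¹ * autFun β (autFun γ c) =
            (c⁻¹ * autFun γ c) * ((autFun γ c)⁻¹ * autFun β (autFun γ c)) by group]
        exact Subgroup.mul_mem _ (hγc c hc) (hβc _ hγC)
    have hinv : ∀ a, K a → K a⁻¹ := by
      rintro a ⟨β, hβ, hβx, hβc⟩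
      have hβi : ∀ x ∈ T, autFun β⁻¹ x = autFun a⁻¹ x := fun x hx => by
        have h1 := hβx _ (autFun_mem a⁻¹ hx)
        rw [autFun_autFun_inv a hx] at h1
        conv_lhs => rw [← h1]
        exact autFun_inv_autFun β (hTW (autFun_mem a⁻¹ hx))
      refine ⟨β⁻¹, Subgroup.inv_mem _ hβ, hβi, fun c hc => ?_⟩
      have hcC : autFun β⁻¹ c ∈ C := hC' _ (Subgroup.inv_mem _ hβ)
        (fun x hx => by rw [hβi x hx]; exact autFun_mem _ hx) c hc
      have h1 := Subgroup.inv_mem _ (hβc _ hcC)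
      rwa [autFun_autFun_inv β (hCW hc), mul_inv_rev, inv_inv] at h1
    have htop : E.IsFullyNormalized T := isFullyNormalized_top
    intro a ha
    obtain ⟨b, hb, c, hc, rfl⟩ := exists_eq_mul_of_isFullyNormalized (hS.to_le hTS) hE htop ha
    refine hmul _ _ (oP_induction (C := K) ⟨1, Subgroup.one_mem _,
        fun x hx => by rw [autFun_one (hTW hx), autFun_one hx],
        fun c hc => by rw [autFun_one (hCW hc), inv_mul_cancel]; exact Subgroup.one_mem _⟩
      (fun a b _ _ => hmul a b) (fun a _ => hinv a) ?_ b hb) ?_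
    · intro a ha hcop
      have hTn' : F.IsFullyNormalized T := by
        refine ⟨hTS, fun R _ => ?_⟩
        have := finite_of_le (normalizerIn_le (S := S) (P := T))
        have : S ≤ normalizerIn S T := fun s hs => mem_normalizerIn_of_forall hTS hs (hTn s hs)
        exact Subgroup.card_le_of_le (normalizerIn_le.trans this)
      have haF := mapTo_of_mem_autGroup hTS (IsSubsystemOf.autGroup_le hi.1 T ha)
      obtain ⟨g, hg, hga⟩ := (isReceptive_iff.mp
        (isReceptive_of_isFullyNormalized hS hF hTn')).2 T _ haF (img_autFun a)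
      have hgW : MapTo F W g :=
        hg.restrict (sup_le (le_extSub haF) (centralizerIn_le_extSub haF))
      have hgT : ∀ x ∈ T, g x ∈ T := fun x hx => by rw [hga x hx]; exact autFun_mem a hx
      have hle : img g W ≤ W := by
        rw [hW, hgW.img_sup hTW hCW]
        refine sup_le_sup (img_le_of_forall hgT) (img_le_of_forall fun x hx => ?_)
        have h1 := hgW.map_mem_centralizerIn hTW (hCW hx) hx
        rwa [img_eq_self_of_forall (hgW.restrict hTW) hgT] at h1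
      have himg : img g W = W :=
        img_eq_self_of_forall hgW fun x hx => hle (mem_img_of_mem hx)
      have hγ := autOf_mem hgW himg
      set γ := autOf hgW himg with hγd
      have hγx : ∀ x ∈ T, autFun γ x = autFun a x := fun x hx => by
        rw [hγd, autFun_autOf hgW himg (hTW hx), hga x hx]
      have := finite_mulAut W
      have hm0 : 0 < orderOf a := by
        have := finite_mulAut T
        exact orderOf_pos a
      obtain ⟨k, hk, hkcop⟩ := exists_pow_coprime (p := p) γ hcop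
      have hpow : ∀ n : ℕ, ∀ x ∈ T, autFun (γ ^ n) x = autFun (a ^ n) x := by
        intro n
        induction n with
        | zero => intro x hx; simp [autFun_one (hTW hx), autFun_one hx]
        | succ n ih =>
          intro x hx
          rw [pow_succ', pow_succ', autFun_mul _ _ (hTW hx), autFun_mul _ _ hx, ih x hx,
            hγx _ (autFun_mem _ hx)]
      have hak : a ^ k = a := by
        conv_rhs => rw [← pow_one a]
        exact pow_eq_pow_iff_modEq.mpr hk
      have hγk : γ ^ k ∈ oP F p W := mem_oP_of_coprime (Subgroup.pow_mem _ hγ k) hkcop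
      refine ⟨γ ^ k, Subgroup.pow_mem _ hγ k, fun x hx => by rw [hpow k x hx, hak],
        fun c hc => ⟨hi.2.1 (mem_hyperfocal hWS hγk (hCW hc)), ?_⟩⟩
      have h1 := hC' _ (Subgroup.pow_mem _ hγ k)
        (fun x hx => by rw [hpow k x hx]; exact autFun_mem _ hx) c hc
      exact Subgroup.mul_mem _ (Subgroup.inv_mem _ hc.2) h1.2
    · obtain ⟨t, ht, htc⟩ := mem_autInducedBy_iff_cj.mp hc
      have hm : MapTo F W (cj t) := mapTo_cj hWS (hTS ht)
      have hfix : ∀ z ∈ C, cj t z = z := fun z hz => by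
        rw [cj_apply, (mem_centralizerIn.mp hz).2 t ht]; group
      have himg : img (cj t) W = W := img_eq_self_of_forall hm fun x hx =>
        W.mul_mem (W.mul_mem (hTW ht) hx) (W.inv_mem (hTW ht))
      refine ⟨autOf hm himg, autOf_mem _ _, fun x hx => by
        rw [autFun_autOf hm himg (hTW hx), htc x hx], fun z hz => ?_⟩
      rw [autFun_autOf hm himg (hCW hz), hfix z hz, inv_mul_cancel]
      exact Subgroup.one_mem _

end Cfsg.Agent.Fusion
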