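import Cfsg.Agent.Lib.Fusion.Quotient

/-!
The image of a saturated fusion system under a surjective morphism is saturated; the map of
automizers induced by a morphism.
-/

set_option autoImplicit false

namespace Cfsg.Agent.Fusion

open Cfsg.FusionSystem (centralizerIn normalizerIn imageAlong preimageAlong)

variable {Ω : Type*} [Group Ω] {S : Subgroup Ω} {Ω' : Type*} [Group Ω'] {S' : Subgroup Ω'}
variable {F : FusionSystem S} {E : FusionSystem S'} {T P Q R : Subgroup Ω} {f g : Ω → Ω}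
variable {P' Q' : Subgroup Ω'} {θ : S →* Ω'} {p : ℕ}

theorem img_induced (hf : MapTo F P f) {f' : Ω' → Ω'} (hf' : MapTo E (imageAlong θ P) f')
    (h : ∀ x ∈ P, f' (th θ x) = th θ (f x)) :
    img f' (imageAlong θ P) = imageAlong θ (img f P) := by
  ext y
  rw [hf'.mem_img_iff le_rfl, mem_imageAlong hf.img_le]
  constructor
  · rintro ⟨z, hz, rfl⟩
    obtain ⟨x, hx, rfl⟩ := (mem_imageAlong hf.le).mp hz
    exact ⟨f x, mem_img_of_mem hx, (h x hx).symm⟩
  · rintro ⟨w, hw, rfl⟩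
    obtain ⟨x, hx, rfl⟩ := (hf.mem_img_iff le_rfl).mp hw
    exact ⟨th θ x, th_mem_imageAlong hf.le hx, h x hx⟩

theorem IsMorphism.exists_aut (h : F.IsMorphism E θ) (hQ : Q ≤ S) {σ : MulAut Q}
    (hσ : σ ∈ F.autGroup Q) :
    ∃ τ ∈ E.autGroup (imageAlong θ Q), ∀ x ∈ Q, autFun τ (th θ x) = th θ (autFun σ x) := by
  obtain ⟨g, hg, hgσ⟩ := IsMorphism.exists_map h (mapTo_of_mem_autGroup hQ hσ)
  have himg : img g (imageAlong θ Q) = imageAlong θ Q := by
    rw [img_induced (mapTo_of_mem_autGroup hQ hσ) hg hgσ, img_autFun]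
  refine ⟨autOf hg himg, autOf_mem hg himg, fun x hx => ?_⟩
  rw [autFun_autOf hg himg (th_mem_imageAlong hQ hx), hgσ x hx]

/-- The homomorphism of automizers induced by a morphism. -/
theorem IsMorphism.exists_autHom (h : F.IsMorphism E θ) (hQ : Q ≤ S) :
    ∃ Φ : F.autGroup Q →* E.autGroup (imageAlong θ Q),
      ∀ σ : F.autGroup Q, ∀ x ∈ Q,
        autFun (Φ σ : MulAut (imageAlong θ Q)) (th θ x) = th θ (autFun (σ : MulAut Q) x) := by
  choose Φ hΦ hΦx using fun σ : F.autGroup Q => IsMorphism.exists_aut h hQ σ.2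
  refine ⟨MonoidHom.mk' (fun σ => ⟨Φ σ, hΦ σ⟩) fun a b => Subtype.ext (autFun_ext fun y hy => ?_),
    hΦx⟩
  obtain ⟨x, hx, rfl⟩ := (mem_imageAlong hQ).mp hy
  show autFun (Φ (a * b)) (th θ x) = autFun (Φ a * Φ b) (th θ x)
  rw [autFun_mul _ _ hy, hΦx (a * b) x hx, hΦx b x hx, hΦx a _ (autFun_mem _ hx),
    Subgroup.coe_mul, autFun_mul _ _ hx]

theorem autHom_surjective (h : F.IsSurjectiveMorphism E θ) (hQ : Q ≤ S) [Finite Q]
    (hker : kerIn θ ≤ Q)
    {Φ : F.autGroup Q →* E.autGroup (imageAlong θ Q)}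
    (hΦ : ∀ σ : F.autGroup Q, ∀ x ∈ Q,
      autFun (Φ σ : MulAut (imageAlong θ Q)) (th θ x) = th θ (autFun (σ : MulAut Q) x)) :
    Function.Surjective Φ := by
  intro τ
  have hQ'S' : imageAlong θ Q ≤ S' := h.2.1 ▸ imageAlong_le_range
  obtain ⟨-, f, hf, hff⟩ := IsSurjectiveMorphism.exists_lift h (mapTo_of_mem_autGroup hQ'S' τ.2)
  have hpre := preimageAlong_imageAlong hQ hker
  rw [hpre] at hf hff
  have hfQ : ∀ x ∈ Q, f x ∈ Q := fun x hx => by
    rw [← hpre]
    exact mem_preimageAlong.mpr ⟨hf.mem hx, hff x hx ▸ autFun_mem _ (th_mem_imageAlong hQ hx)⟩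
  refine ⟨⟨autOf hf (img_eq_self_of_forall hf hfQ), autOf_mem hf _⟩,
    Subtype.ext (autFun_ext fun y hy => ?_)⟩
  obtain ⟨x, hx, rfl⟩ := (mem_imageAlong hQ).mp hy
  rw [hΦ _ x hx, hff x hx]
  exact congrArg (th θ) (autFun_autOf hf _ hx)

theorem isSaturated_image [Finite S] [Fact p.Prime] (hS : IsPGroup p S) (hF : F.IsSaturated p)
    (h : F.IsSurjectiveMorphism E θ) : E.IsSaturated p := by
  intro P' hP'
  have hr := h.2.1
  have hT := IsMorphism.stronglyClosed_kerIn h.1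
  have : Finite S' := hr ▸ Finite.of_surjective θ.rangeRestrict θ.rangeRestrict_surjective
  have hS' : IsPGroup p S' := hr ▸ hS.of_surjective θ.rangeRestrict θ.rangeRestrict_surjective
  have hP'r : P' ≤ θ.range := hr ▸ hP'
  obtain ⟨Q, hPQ, hQn⟩ :=
    exists_isFullyNormalized (F := F) (preimageAlong_le (θ := θ) (P' := P'))
  have hQS : Q ≤ S := hQn.1
  have := finite_of_le hQS
  have := finite_mulAut Q
  obtain ⟨f₀, hf₀, hf₀Q⟩ := isConj_iff.mp hPQ
  have hTQ : kerIn θ ≤ Q := hf₀Q ▸ StronglyClosed.le_img hT hf₀ kerIn_le_preimageAlong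
  have hQ'S' : imageAlong θ Q ≤ S' := hr ▸ imageAlong_le_range
  have hpreQ := preimageAlong_imageAlong hQS hTQ
  have hQaut := isFullyAutomized_of_isFullyNormalized hS hF hQn
  have hQrec := isReceptive_of_isFullyNormalized hS hF hQn
  refine ⟨imageAlong θ Q, ?_, ?_, ?_⟩
  · obtain ⟨f', hf', hff⟩ := IsMorphism.exists_map h.1 hf₀
    have := img_induced hf₀ hf' hff
    rw [imageAlong_preimageAlong hP'r] at hf' this
    rw [hf₀Q] at this
    exact this ▸ hf'.isConj
  · refine (isFullyAutomized_iff hS').mpr ⟨hQ'S', fun hdvd => ?_⟩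
    obtain ⟨Φ, hΦ⟩ := IsMorphism.exists_autHom h.1 hQS
    refine ((isFullyAutomized_iff hS).mp hQaut).2 (hdvd.trans ?_)
    refine dvd_trans ?_ (Subgroup.index_map_dvd _ (autHom_surjective h hQS hTQ hΦ))
    refine Subgroup.index_dvd_of_le ?_
    rintro _ ⟨σ, hσ, rfl⟩
    obtain ⟨n, hn, hnσ⟩ := mem_autInducedBy_iff_cj.mp (hσ : (σ : MulAut Q) ∈ autInducedBy S Q)
    refine mem_autInducedBy_iff_cj.mpr
      ⟨th θ n, hr ▸ th_mem_range θ n, fun y hy => ?_⟩
    obtain ⟨x, hx, rfl⟩ := (mem_imageAlong hQS).mp hy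
    show autFun (Φ σ : MulAut (imageAlong θ Q)) _ = _
    rw [hΦ σ x hx]
    exact (congrArg (th θ) (hnσ x hx)).trans (th_conj θ hn (hQS hx))
  · refine isReceptive_iff.mpr ⟨hQ'S', fun R' f' hf' hf'Q => ?_⟩
    obtain ⟨hR'r, f, hf, hff⟩ := IsSurjectiveMorphism.exists_lift h hf'
    set R := preimageAlong θ R' with hR
    have hRS : R ≤ S := preimageAlong_le
    have hfm : ∀ x ∈ R, f x ∈ Q := fun x hx => by
      rw [← hpreQ]
      exact mem_preimageAlong.mpr ⟨hf.mem hx, hff x hx ▸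
        hf'Q ▸ mem_img_of_mem (mem_preimageAlong.mp hx).2⟩
    have hfQ : img f R = Q := by
      refine le_antisymm (img_le_of_forall hfm) fun y hy => ?_
      obtain ⟨z, hz, hzy⟩ := (hf'.mem_img_iff le_rfl).mp
        (hf'Q.symm ▸ th_mem_imageAlong hQS hy : th θ y ∈ img f' R')
      obtain ⟨x, hx, rfl⟩ := exists_preimage hR'r hz
      rw [hff x hx] at hzy
      have := Subgroup.mul_mem _ (mem_img_of_mem (f := f) hx)
        (StronglyClosed.le_img hT hf kerIn_le_preimageAlong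
          ((th_eq_iff (hf.mem hx) (hQS hy)).mp hzy))
      rwa [mul_inv_cancel_left] at this
    set N := preimageAlong θ (extSub S' hf') with hN
    have hNS : N ≤ S := preimageAlong_le
    have hNR : N ≤ normalizerIn S R := fun n hn => by
      obtain ⟨hnS, hn'⟩ := mem_preimageAlong.mp hn
      refine mem_normalizerIn_of_forall hRS hnS fun x hx =>
        mem_preimageAlong.mpr ⟨S.mul_mem (S.mul_mem hnS (hRS hx)) (S.inv_mem hnS), ?_⟩
      rw [th_conj θ hnS (hRS hx)]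
      exact conj_mem_of_mem_normalizerIn hn'.1 (mem_preimageAlong.mp hx).2
    set e := MulAut.congr (isoEquiv hf hfQ) with he
    set A := (autInducedBy N R).map e.toMonoidHom with hA
    have hAK : A ≤ autInducedBy S Q ⊔ modKer F (kerIn θ) Q := by
      rintro _ ⟨a, ha, rfl⟩
      obtain ⟨n, hn, hna⟩ := mem_autInducedBy_iff_cj.mp ha
      obtain ⟨hnS, hn'⟩ := mem_preimageAlong.mp hn
      obtain ⟨hn'N, h', hh', hh'x⟩ := hn'
      obtain ⟨s, hs⟩ : h' ∈ θ.range := hr.symm ▸ hh'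
      have hth : th θ (s : Ω) = h' := (th_coe θ s).trans hs
      have hkey : ∀ x ∈ R, th θ (f (n * x * n⁻¹)) = h' * th θ (f x) * h'⁻¹ := fun x hx => by
        rw [← hff _ (conj_mem_of_mem_normalizerIn (hNR hn) hx), th_conj θ hnS (hRS hx),
          hh'x _ (mem_preimageAlong.mp hx).2, hff x hx]
      have hsN : (s : Ω) ∈ normalizerIn S Q := mem_normalizerIn_of_forall hQS s.2 fun y hy => by
        obtain ⟨x, hx, rfl⟩ := (hf.mem_img_iff le_rfl).mp (hfQ.symm ▸ hy : y ∈ img f R)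
        rw [← hpreQ]
        refine mem_preimageAlong.mpr ⟨S.mul_mem (S.mul_mem s.2 (hQS hy)) (S.inv_mem s.2), ?_⟩
        rw [th_conj θ s.2 (hQS hy), hth, ← hkey x hx]
        exact th_mem_imageAlong hQS (hfm _ (conj_mem_of_mem_normalizerIn (hNR hn) hx))
      obtain ⟨c, hc⟩ : ∃ c : MulAut Q, ∀ x ∈ Q, autFun c x = cj (s : Ω) x :=
        ⟨Q.normalizerMonoidHom ⟨s, hsN.2⟩, fun x hx => by rw [autFun_apply _ hx]; rfl⟩
      have hcS : c ∈ autInducedBy S Q := mem_autInducedBy_iff_cj.mpr ⟨s, s.2, hc⟩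
      have haF : e a ∈ F.autGroup Q := map_congr_autGroup hf hfQ ▸
        ⟨a, autInducedBy_le_autGroup hRS (autInducedBy_mono hNS R ha), rfl⟩
      have hK : c⁻¹ * e a ∈ modKer F (kerIn θ) Q := by
        refine ⟨Subgroup.mul_mem _ (Subgroup.inv_mem _ (autInducedBy_le_autGroup hQS hcS)) haF,
          fun y hy => ?_⟩
        obtain ⟨x, hx, rfl⟩ := (hf.mem_img_iff le_rfl).mp (hfQ.symm ▸ hy : y ∈ img f R)
        have hw : autFun (c⁻¹ * e a) (f x) ∈ Q := autFun_mem _ hy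
        refine (th_eq_iff (hQS hy) (hQS hw)).mp ?_
        have h1 : autFun c (autFun (c⁻¹ * e a) (f x)) = f (n * x * n⁻¹) := by
          rw [← autFun_mul _ _ hy, mul_inv_cancel_left, he, autFun_congr hf hfQ a hx, hna x hx,
            cj_apply]
        rw [hc _ hw, cj_apply] at h1
        have h2 := congrArg (th θ) h1
        rw [th_conj θ s.2 (hQS hw), hth, hkey x hx] at h2
        exact (mul_left_cancel (mul_right_cancel h2)).symm
      have := Subgroup.mul_mem_sup hcS hK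
      rwa [mul_inv_cancel_left] at this
    obtain ⟨κ, hκ, hκA⟩ := exists_mem_conj_le_of_sup (p := p) (A := A) modKer_le
      (autInducedBy_le_autGroup hQS) (autGroup_le_normalizer_modKer hT hQS)
      (isPGroup_autInducedBy hS Q) ((isFullyAutomized_iff hS).mp hQaut).2
      ((isPGroup_autInducedBy (hS.to_le hNS) R).map _) hAK
    have hκm := mapTo_of_mem_autGroup hQS (modKer_le hκ)
    have hf₂ : MapTo F R (fun x => autFun κ (f x)) := hf.comp hκm hfm
    have hf₂Q : img (fun x => autFun κ (f x)) R = Q := by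
      rw [← hf.img_img le_rfl, hfQ, img_autFun]
    have hNext : N ≤ extSub S hf₂ := by
      intro n hn
      obtain ⟨a, ha⟩ : ∃ a : MulAut R, ∀ x ∈ R, autFun a x = cj n x :=
        ⟨R.normalizerMonoidHom ⟨n, (hNR hn).2⟩, fun x hx => by rw [autFun_apply _ hx]; rfl⟩
      have haA : e a ∈ A := ⟨a, mem_autInducedBy_iff_cj.mpr ⟨n, hn, ha⟩, rfl⟩
      obtain ⟨h, hh, hhx⟩ := mem_autInducedBy_iff_cj.mp (hκA _ haA)
      refine ⟨hNR hn, h, hh, fun x hx => ?_⟩
      have h1 := hhx (autFun κ (f x)) (autFun_mem κ (hfm x hx))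
      rw [autFun_mul _ _ (autFun_mem κ (hfm x hx)), autFun_inv_autFun κ (hfm x hx),
        autFun_mul _ _ (hfm x hx), he, autFun_congr hf hfQ a hx, ha x hx] at h1
      exact h1
    obtain ⟨γ, hγ, hγx⟩ := (isReceptive_iff.mp hQrec).2 R _ hf₂ hf₂Q
    obtain ⟨γ', hγ', hγγ⟩ := IsMorphism.exists_map h.1 (hγ.restrict hNext)
    rw [imageAlong_preimageAlong (hr.symm ▸ (extSub_le hf').trans normalizerIn_le)] at hγ'
    refine ⟨γ', hγ', fun y hy => ?_⟩
    obtain ⟨x, hx, rfl⟩ := exists_preimage hR'r hy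
    have hxN : x ∈ N := mem_preimageAlong.mpr ⟨hRS hx, le_extSub hf' hy⟩
    rw [hγγ x hxN, hγx x hx, hff x hx]
    exact ((th_eq_iff (hf.mem hx) (hf₂.mem hx)).mpr (hκ.2 _ (hfm x hx))).symm

end Cfsg.Agent.Fusion
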