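import Mathlib
import Cfsg.Agent.Lib.Fusion.ImageSaturation
import Cfsg.Agent.Lib.Fusion.NormalCriteria

/-!
# Criteria for a fusion system to be inner
-/

set_option autoImplicit false

namespace Cfsg.Agent.Fusion

open Cfsg.FusionSystem (centralizerIn normalizerIn imageAlong preimageAlong)

variable {Ω : Type*} [Group Ω] {S : Subgroup Ω} {F : FusionSystem S}
variable {P Q U : Subgroup Ω} {f : Ω → Ω} {p : ℕ}

theorem isFullyNormalized_of_normal [Finite S] (hU : U ≤ S)
    (hn : S ≤ Subgroup.normalizer (U : Set Ω)) : F.IsFullyNormalized U :=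
  ⟨hU, fun _ _ => by
    rw [show normalizerIn S U = S from inf_eq_left.mpr hn]
    exact Subgroup.card_le_of_le normalizerIn_le⟩

theorem isPGroup_autGroup_of_inner [Finite S] (hS : IsPGroup p S)
    (h : ∀ (R : Subgroup Ω) (g : Ω → Ω), MapTo F R g → MapTo (innerFusionSystem S) R g)
    (hU : U ≤ S) : IsPGroup p (F.autGroup U) := by
  refine (isPGroup_autInducedBy hS U).to_le fun α hα => ?_
  obtain ⟨-, g, hg, hgx⟩ := mapTo_inner_iff.mp (h U _ (mapTo_of_mem_autGroup hU hα))
  exact mem_autInducedBy_iff_cj.mpr ⟨g, hg, hgx⟩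

variable [Finite S] [Fact p.Prime]

theorem autGroup_le_autInducedBy (hS : IsPGroup p S) (hF : F.IsSaturated p)
    (hU : F.IsFullyNormalized U) (hp : IsPGroup p (F.autGroup U)) :
    F.autGroup U ≤ autInducedBy S U := by
  have := finite_of_le hU.1
  have := finite_mulAut U
  obtain ⟨-, hndvd⟩ :=
    (isFullyAutomized_iff hS).mp (isFullyAutomized_of_isFullyNormalized hS hF hU)
  obtain ⟨n, hn⟩ := hp.index ((autInducedBy S U).subgroupOf (F.autGroup U))
  refine Subgroup.relIndex_eq_one.mp ?_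
  rw [Subgroup.relIndex] at hndvd ⊢
  rw [hn] at hndvd ⊢
  rcases n with _ | n
  · exact pow_zero p
  · exact absurd (dvd_pow_self p (Nat.succ_ne_zero n)) hndvd

/-- Automorphisms of a normal subgroup with `p`-group automizer fix what `S` centralizes. -/
theorem autFun_eq_self_of_isPGroup (hS : IsPGroup p S) (hF : F.IsSaturated p)
    (hU : F.IsFullyNormalized U) (hp : IsPGroup p (F.autGroup U)) {x : Ω} (hx : x ∈ U)
    (hxc : x ∈ Subgroup.centralizer (S : Set Ω)) {α : MulAut U} (hα : α ∈ F.autGroup U) :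
    autFun α x = x := by
  obtain ⟨g, hg, hgx⟩ :=
    mem_autInducedBy_iff_cj.mp (autGroup_le_autInducedBy hS hF hU hp hα)
  rw [hgx x hx, cj_apply, Subgroup.mem_centralizer_iff.mp hxc g hg, mul_inv_cancel_right]

variable {Ω' : Type*} [Group Ω'] {S' : Subgroup Ω'} {E : FusionSystem S'} {θ : S →* Ω'}

/-- A system is inner if its quotient by a normal subgroup with `p`-group automizer is. -/
theorem eq_inner_of_quotient (hS : IsPGroup p S) (hF : F.IsSaturated p)
    (h : F.IsSurjectiveMorphism E θ) (hK : F.IsNormal (kerIn θ))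
    (hKp : IsPGroup p (F.autGroup (kerIn θ))) [Finite S'] (hS' : IsPGroup p S')
    (hE : ∀ (R : Subgroup Ω') (g : Ω' → Ω'), MapTo E R g → MapTo (innerFusionSystem S') R g) :
    F = innerFusionSystem S := by
  refine eq_inner_of_isPGroup_autGroup hS hF fun P hP => ?_
  obtain ⟨hKP, hinv⟩ := le_and_invariant_of_isNormal hS hK P hP
  have hPS : P ≤ S := by
    rcases hP with rfl | hP
    · exact le_rfl
    · exact hP.1.1
  have := finite_of_le hPS
  have := finite_of_le (kerIn_le (θ := θ) (S := S))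
  obtain ⟨Φ, hΦ⟩ := IsMorphism.exists_autHom h.1 hPS
  have hEp : IsPGroup p (E.autGroup (imageAlong θ P)) :=
    isPGroup_autGroup_of_inner hS' hE (h.2.1 ▸ imageAlong_le_range)
  intro α
  obtain ⟨a, ha⟩ := hEp (Φ α)
  set β : F.autGroup P := α ^ p ^ a with hβ
  have hβker : ∀ x ∈ P, x⁻¹ * autFun (β : MulAut P) x ∈ kerIn θ := fun x hx => by
    refine (th_eq_iff (hPS hx) (hPS (autFun_mem _ hx))).mp ?_
    rw [← hΦ β x hx, hβ, map_pow, ha, OneMemClass.coe_one,
      autFun_one (th_mem_imageAlong hPS hx)]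
  -- restriction to the kernel
  have hres : ∀ γ : F.autGroup P, ∃ δ : F.autGroup (kerIn θ),
      ∀ x ∈ kerIn θ, autFun (δ : MulAut (kerIn θ)) x = autFun (γ : MulAut P) x := by
    intro γ
    have hm := (mapTo_of_mem_autGroup hPS γ.2).restrict hKP
    have himg := img_eq_self_of_forall hm fun x hx => hinv γ γ.2 x hx
    exact ⟨⟨autOf hm himg, autOf_mem hm himg⟩, fun x hx => autFun_autOf hm himg hx⟩
  obtain ⟨δ, hδ⟩ := hres β
  obtain ⟨b, hb⟩ := hKp δ
  have hfixK : ∀ x ∈ kerIn θ, autFun ((β ^ p ^ b : F.autGroup P) : MulAut P) x = x := by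
    intro x hx
    have key : ∀ (σ : MulAut P) (τ : MulAut (kerIn θ)),
        (∀ y ∈ kerIn θ, autFun τ y = autFun σ y) →
        ∀ m : ℕ, ∀ y ∈ kerIn θ, autFun (σ ^ m) y = autFun (τ ^ m) y := by
      intro σ τ hστ m
      induction m with
      | zero => intro y hy; rw [pow_zero, pow_zero, autFun_one (hKP hy), autFun_one hy]
      | succ m ih =>
        intro y hy
        rw [autFun_pow_succ _ _ (hKP hy), autFun_pow_succ _ _ hy, ← hστ y hy,
          ih _ (autFun_mem τ hy)]
    rw [SubmonoidClass.coe_pow, key _ _ hδ _ x hx, ← SubmonoidClass.coe_pow, hb,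
      OneMemClass.coe_one, autFun_one hx]
  set γ : F.autGroup P := β ^ p ^ b with hγ
  have hγker : ∀ x ∈ P, x⁻¹ * autFun (γ : MulAut P) x ∈ kerIn θ := fun x hx => by
    refine (th_eq_iff (hPS hx) (hPS (autFun_mem _ hx))).mp ?_
    rw [← hΦ γ x hx, hγ, hβ, map_pow, map_pow, ha, one_pow, OneMemClass.coe_one,
      autFun_one (th_mem_imageAlong hPS hx)]
  -- the stabilizer of the series
  let c : Fin 3 → Subgroup Ω := ![⊥, kerIn θ, P]
  have hle : ∀ i, c i ≤ P := fun i => by
    fin_cases i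
    · exact bot_le
    · exact hKP
    · exact le_rfl
  have hcinv : ∀ i, ∀ σ ∈ F.autGroup P, ∀ x ∈ c i, autFun σ x ∈ c i := fun i σ hσ x hx => by
    fin_cases i
    · rw [show x = 1 from Subgroup.mem_bot.mp hx,
        (mapTo_of_mem_autGroup hPS hσ).map_one]
      exact Subgroup.one_mem _
    · exact hinv σ hσ x hx
    · exact autFun_mem σ hx
  have hγmem : (γ : MulAut P) ∈ stabSeries F c hle hcinv := by
    refine ⟨γ.2, fun i x hx => ?_⟩
    fin_cases i
    · show x⁻¹ * _ ∈ (⊥ : Subgroup Ω)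
      rw [hfixK x hx, inv_mul_cancel]
      exact Subgroup.one_mem _
    · exact hγker x hx
  obtain ⟨d, hd⟩ := isPGroup_stabilizer_series (hS.to_le hPS) c rfl rfl hle
    (stabSeries F c hle hcinv) (fun σ hσ => hσ.2) ⟨_, hγmem⟩
  refine ⟨a + b + d, Subtype.ext ?_⟩
  have h1 := congrArg Subtype.val hd
  simp only [hγ, hβ, SubmonoidClass.coe_pow, OneMemClass.coe_one] at h1 ⊢
  rw [pow_add, pow_add, pow_mul, pow_mul]
  exact h1

end Cfsg.Agent.Fusion
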