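import Cfsg.Agent.Lib.Fusion.Saturation

/-!
The fusion system of a finite group on a Sylow subgroup: maps, fully normalized and fully
centralized subgroups, saturation.
-/

set_option autoImplicit false

namespace Cfsg.Agent.Fusion

open Cfsg.FusionSystem (centralizerIn normalizerIn)

variable {G : Type*} [Group G] {p : ℕ}

/-! ### Sylow subgroups of subgroups -/

/-- `H` is a Sylow `p`-subgroup of the subgroup `X`, in the form used here. -/
def IsSylowIn (p : ℕ) (H X : Subgroup G) : Prop :=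
  H ≤ X ∧ IsPGroup p H ∧ ∀ K ≤ X, IsPGroup p K → ∃ x ∈ X, ∀ k ∈ K, x * k * x⁻¹ ∈ H

theorem isPGroup_img_cj {K : Subgroup G} (hK : IsPGroup p K) (g : G) :
    IsPGroup p (K.map (MulAut.conj g).toMonoidHom) :=
  hK.map _

theorem map_conj_le_iff {K H : Subgroup G} (g : G) :
    K.map (MulAut.conj g).toMonoidHom ≤ H ↔ ∀ k ∈ K, g * k * g⁻¹ ∈ H :=
  ⟨fun h k hk => h ⟨k, hk, rfl⟩, fun h => by rintro _ ⟨k, hk, rfl⟩; exact h k hk⟩

theorem card_map_conj (K : Subgroup G) (g : G) :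
    Nat.card (K.map (MulAut.conj g).toMonoidHom) = Nat.card K :=
  Subgroup.card_map_of_injective (MulAut.conj g).injective

theorem IsSylowIn.card_le [Finite G] {H X K : Subgroup G} (h : IsSylowIn p H X) (hK : K ≤ X)
    (hKp : IsPGroup p K) : Nat.card K ≤ Nat.card H := by
  obtain ⟨x, -, hx⟩ := h.2.2 K hK hKp
  rw [← card_map_conj K x]
  exact Subgroup.card_le_of_le ((map_conj_le_iff x).mpr hx)

theorem isSylowIn_iff_exists [Finite G] [Fact p.Prime] {H X : Subgroup G} (hle : H ≤ X) :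
    IsSylowIn p H X ↔ ∃ R : Sylow p X, (R : Subgroup X) = H.subgroupOf X := by
  constructor
  · rintro ⟨-, hH, hconj⟩
    obtain ⟨R, hR⟩ := (hH.of_equiv (Subgroup.subgroupOfEquivOfLe hle).symm).exists_le_sylow
    refine ⟨R, (Subgroup.eq_of_le_of_card_ge hR ?_).symm⟩
    have hc := IsSylowIn.card_le (⟨hle, hH, hconj⟩ : IsSylowIn p H X)
      (Subgroup.map_subtype_le (R : Subgroup X)) (R.2.map X.subtype)
    rw [Subgroup.card_map_of_injective X.subtype_injective] at hc
    rwa [Nat.card_congr (Subgroup.subgroupOfEquivOfLe hle).toEquiv]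
  · rintro ⟨R, hR⟩
    refine ⟨hle, (hR ▸ R.2).of_equiv (Subgroup.subgroupOfEquivOfLe hle), fun K hK hKp => ?_⟩
    obtain ⟨R', hR'⟩ := (hKp.of_equiv (Subgroup.subgroupOfEquivOfLe hK).symm).exists_le_sylow
    obtain ⟨x, hx⟩ := MulAction.exists_smul_eq X R' R
    refine ⟨x, x.2, fun k hk => ?_⟩
    have : x * ⟨k, hK hk⟩ * x⁻¹ ∈ (R : Subgroup X) := by
      rw [← hx, Sylow.coe_subgroup_smul]
      exact Subgroup.smul_mem_pointwise_smul _ _ _
        (hR' (Subgroup.mem_subgroupOf.mpr hk : (⟨k, hK hk⟩ : X) ∈ K.subgroupOf X))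
    rw [hR] at this
    exact this

theorem exists_isSylowIn [Finite G] [Fact p.Prime] {K X : Subgroup G} (hK : K ≤ X)
    (hKp : IsPGroup p K) : ∃ H, K ≤ H ∧ IsSylowIn p H X := by
  obtain ⟨R, hR⟩ := (hKp.of_equiv (Subgroup.subgroupOfEquivOfLe hK).symm).exists_le_sylow
  refine ⟨(R : Subgroup X).map X.subtype,
    fun k hk => ⟨⟨k, hK hk⟩, hR (Subgroup.mem_subgroupOf.mpr hk), rfl⟩, ?_⟩
  exact (isSylowIn_iff_exists (Subgroup.map_subtype_le _)).mpr ⟨R,
    (Subgroup.comap_map_eq_self_of_injective X.subtype_injective _).symm⟩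

theorem IsSylowIn.eq_of_le [Finite G] {H X K : Subgroup G} (h : IsSylowIn p H X) (hHK : H ≤ K)
    (hK : K ≤ X) (hKp : IsPGroup p K) : H = K :=
  Subgroup.eq_of_le_of_card_ge hHK (h.card_le hK hKp)

theorem isSylowIn_of_card_ge [Finite G] [Fact p.Prime] {H X K : Subgroup G} (hH : H ≤ X)
    (hHp : IsPGroup p H) (hK : IsSylowIn p K X) (hcard : Nat.card K ≤ Nat.card H) :
    IsSylowIn p H X := by
  obtain ⟨H', hle, hH'⟩ := exists_isSylowIn hH hHp
  obtain rfl : H = H' :=
    Subgroup.eq_of_le_of_card_ge hle ((hK.card_le hH'.1 hH'.2.1).trans hcard)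
  exact hH'

theorem IsSylowIn.inf_normal [Finite G] [Fact p.Prime] {H X C : Subgroup G}
    (h : IsSylowIn p H X) (hC : C ≤ X) (hn : X ≤ Subgroup.normalizer (C : Set G)) :
    IsSylowIn p (H ⊓ C) C := by
  obtain ⟨D, -, hD⟩ := exists_isSylowIn (p := p) (bot_le : (⊥ : Subgroup G) ≤ C) IsPGroup.of_bot
  refine isSylowIn_of_card_ge inf_le_right (h.2.1.to_le inf_le_left) hD ?_
  obtain ⟨x, hx, hxD⟩ := h.2.2 D (hD.1.trans hC) hD.2.1
  rw [← card_map_conj D x]
  exact Subgroup.card_le_of_le ((map_conj_le_iff x).mpr fun k hk =>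
    ⟨hxD k hk, (Subgroup.mem_normalizer_iff.mp (hn hx) k).mp (hD.1 hk)⟩)

/-! ### Maps of the fusion system of a group -/

variable {S P Q : Subgroup G} {f : G → G}

theorem mapTo_gfs_iff : MapTo (groupFusionSystem S) P f ↔
    P ≤ S ∧ ∃ g : G, ∀ x ∈ P, f x = g * x * g⁻¹ ∧ g * x * g⁻¹ ∈ S := by
  constructor
  · rintro ⟨φ, ⟨hP, hS, g, hg⟩, hφ⟩
    refine ⟨hP, g, fun x hx => ⟨?_, ?_⟩⟩
    · rw [← hφ ⟨x, hx⟩]; exact hg ⟨x, hx⟩
    · exact hg ⟨x, hx⟩ ▸ hS ⟨x, hx⟩
  · rintro ⟨hP, g, hg⟩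
    exact ⟨conjHom P g, ⟨hP, fun x => (hg x x.2).2, g, fun _ => rfl⟩,
      fun x => (hg x x.2).1.symm⟩

theorem mapTo_gfs_cj (hP : P ≤ S) {g : G} (hg : ∀ x ∈ P, g * x * g⁻¹ ∈ S) :
    MapTo (groupFusionSystem S) P (cj g) :=
  mapTo_gfs_iff.mpr ⟨hP, g, fun x hx => ⟨rfl, hg x hx⟩⟩

theorem isConj_gfs_iff : (groupFusionSystem S).IsConj P Q ↔
    P ≤ S ∧ Q ≤ S ∧ ∃ g : G, P.map (MulAut.conj g).toMonoidHom = Q := by
  constructor
  · intro h
    refine ⟨isConj_le_left h, isConj_le_right h, ?_⟩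
    obtain ⟨f, hf, rfl⟩ := isConj_iff.mp h
    obtain ⟨-, g, hg⟩ := mapTo_gfs_iff.mp hf
    exact ⟨g, by rw [← img_cj]; exact img_congr fun x hx => (hg x hx).1.symm⟩
  · rintro ⟨hP, hQ, g, hg⟩
    exact isConj_iff.mpr ⟨cj g, mapTo_gfs_cj hP ((map_conj_le_iff g).mp (hg.le.trans hQ)),
      (img_cj g).trans hg⟩

theorem autGroup_gfs (hP : P ≤ S) :
    (groupFusionSystem S).autGroup P = autInducedBy ⊤ P := by
  ext α
  rw [mem_autGroup_iff hP, mem_autInducedBy_iff_cj, mapTo_gfs_iff]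
  constructor
  · rintro ⟨-, g, hg⟩
    exact ⟨g, Subgroup.mem_top g, fun x hx => (hg x hx).1⟩
  · rintro ⟨g, -, hg⟩
    refine ⟨hP, g, fun x hx => ⟨hg x hx, ?_⟩⟩
    have := autFun_mem α hx
    rw [hg x hx] at this
    exact hP this

theorem normalizerIn_le_normalizer : normalizerIn S P ≤ Subgroup.normalizer (P : Set G) :=
  inf_le_right

variable [Finite G] [Fact p.Prime]

theorem exists_conj_isSylowIn (S : Sylow p G) {P : Subgroup G} (hP : P ≤ S) :
    ∃ g : G, P.map (MulAut.conj g).toMonoidHom ≤ S ∧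
      IsSylowIn p (normalizerIn (S : Subgroup G) (P.map (MulAut.conj g).toMonoidHom))
        (Subgroup.normalizer ((P.map (MulAut.conj g).toMonoidHom : Subgroup G) : Set G)) := by
  obtain ⟨R, hPR, hR⟩ := exists_isSylowIn (p := p)
    (Subgroup.le_normalizer : P ≤ Subgroup.normalizer (P : Set G)) (S.2.to_le hP)
  obtain ⟨T, hT⟩ := hR.2.1.exists_le_sylow
  obtain ⟨g, hg⟩ := MulAction.exists_smul_eq G T S
  have hgR : R.map (MulAut.conj g).toMonoidHom ≤ (S : Subgroup G) := by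
    rw [← hg, Sylow.coe_subgroup_smul]
    rintro _ ⟨k, hk, rfl⟩
    exact Subgroup.smul_mem_pointwise_smul _ _ _ (hT hk)
  have hN : Subgroup.normalizer ((P.map (MulAut.conj g).toMonoidHom : Subgroup G) : Set G) =
      (Subgroup.normalizer (P : Set G)).map (MulAut.conj g).toMonoidHom :=
    (Subgroup.map_equiv_normalizer_eq P (MulAut.conj g)).symm
  refine ⟨g, (Subgroup.map_mono hPR).trans hgR, ?_⟩
  have hR' : IsSylowIn p (R.map (MulAut.conj g).toMonoidHom)
      (Subgroup.normalizer ((P.map (MulAut.conj g).toMonoidHom : Subgroup G) : Set G)) := by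
    rw [hN]
    refine ⟨Subgroup.map_mono hR.1, isPGroup_img_cj hR.2.1 g, fun K hK hKp => ?_⟩
    obtain ⟨x, hx, hxK⟩ := hR.2.2 (K.map (MulAut.conj g⁻¹).toMonoidHom)
      ((map_conj_le_iff _).mpr fun k hk => by
        obtain ⟨n, hn, hnk⟩ := hK hk
        subst hnk
        simpa [mul_assoc] using hn)
      (isPGroup_img_cj hKp _)
    refine ⟨g * x * g⁻¹, ⟨x, hx, rfl⟩, fun k hk => ⟨x * (g⁻¹ * k * g⁻¹⁻¹) * x⁻¹,
      hxK _ ⟨k, hk, rfl⟩, ?_⟩⟩
    show g * _ * g⁻¹ = _
    group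
  exact isSylowIn_of_card_ge normalizerIn_le_normalizer (S.2.to_le normalizerIn_le) hR'
    (Subgroup.card_le_of_le (le_inf hgR hR'.1))

theorem isFullyNormalized_gfs_iff (S : Sylow p G) {P : Subgroup G} (hP : P ≤ S) :
    (groupFusionSystem (S : Subgroup G)).IsFullyNormalized P ↔
      IsSylowIn p (normalizerIn (S : Subgroup G) P) (Subgroup.normalizer (P : Set G)) := by
  have key : ∀ {P Q : Subgroup G} (g : G), P.map (MulAut.conj g).toMonoidHom = Q →
      ∀ K ≤ Subgroup.normalizer (P : Set G),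
        K.map (MulAut.conj g).toMonoidHom ≤ Subgroup.normalizer (Q : Set G) := by
    rintro P Q g rfl K hK
    exact (Subgroup.map_mono hK).trans (Subgroup.map_equiv_normalizer_eq P (MulAut.conj g)).le
  constructor
  · rintro ⟨-, hmax⟩
    obtain ⟨g, hgS, hQ⟩ := exists_conj_isSylowIn S hP
    obtain ⟨R, -, hR⟩ := exists_isSylowIn (p := p)
      (normalizerIn_le_normalizer (S := (S : Subgroup G)) (P := P)) (S.2.to_le normalizerIn_le)
    refine isSylowIn_of_card_ge normalizerIn_le_normalizer (S.2.to_le normalizerIn_le) hR ?_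
    refine le_trans ?_ (hmax _ (isConj_gfs_iff.mpr ⟨hP, hgS, g, rfl⟩))
    rw [← card_map_conj R g]
    exact hQ.card_le (key g rfl R hR.1) (isPGroup_img_cj hR.2.1 g)
  · refine fun hSyl => ⟨hP, fun Q hQ => ?_⟩
    obtain ⟨-, hQS, g, hg⟩ := isConj_gfs_iff.mp hQ
    have hback : Q.map (MulAut.conj g⁻¹).toMonoidHom = P := by
      rw [← hg, Subgroup.map_map]
      convert Subgroup.map_id P using 2
      ext x; simp [mul_assoc]
    rw [← card_map_conj (normalizerIn (S : Subgroup G) Q) g⁻¹]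
    exact hSyl.card_le (key g⁻¹ hback _ normalizerIn_le_normalizer)
      (isPGroup_img_cj (S.2.to_le normalizerIn_le) _)

theorem exists_centralizer_conj_le (S : Sylow p G) {P : Subgroup G}
    (hN : IsSylowIn p (normalizerIn (S : Subgroup G) P) (Subgroup.normalizer (P : Set G)))
    {K : Subgroup G} (hKp : IsPGroup p K)
    (hK : K ≤ normalizerIn (S : Subgroup G) P ⊔ Subgroup.centralizer (P : Set G)) :
    ∃ c ∈ Subgroup.centralizer (P : Set G), ∀ k ∈ K, c * k * c⁻¹ ∈ normalizerIn (S : Subgroup G) P := by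
  set N := normalizerIn (S : Subgroup G) P with hNdef
  set C := Subgroup.centralizer (P : Set G)
  have hCN : C ≤ Subgroup.normalizer (P : Set G) := Subgroup.centralizer_le_normalizer _
  have hsup : N ⊔ C ≤ Subgroup.normalizer (P : Set G) := sup_le normalizerIn_le_normalizer hCN
  have hsyl : IsSylowIn p N (N ⊔ C) := by
    obtain ⟨D, hND, hD⟩ := exists_isSylowIn (p := p) (le_sup_left : N ≤ N ⊔ C) hN.2.1
    rw [← hN.eq_of_le hND (hD.1.trans hsup) hD.2.1] at hD
    exact hD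
  obtain ⟨x, hx, hxK⟩ := hsyl.2.2 K hK hKp
  have hnC : N ≤ Subgroup.normalizer (C : Set G) := fun n hn => mem_normalizer_of_forall fun c hc =>
    Subgroup.mem_centralizer_iff.mpr fun y hy => by
      have h1 : n⁻¹ * y * n ∈ P := by
        simpa using conj_mem_of_mem_normalizerIn (N.inv_mem hn) hy
      have h2 := Subgroup.mem_centralizer_iff.mp hc _ h1
      calc y * (n * c * n⁻¹) = n * ((n⁻¹ * y * n) * c) * n⁻¹ := by group
        _ = n * c * n⁻¹ * y := by rw [h2]; group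
  have hx' : x ∈ ((N ⊔ C : Subgroup G) : Set G) := hx
  rw [Subgroup.coe_mul_of_left_le_normalizer_right N C hnC] at hx'
  obtain ⟨n, hn, c, hc, rfl⟩ := hx'
  refine ⟨c, hc, fun k hk => ?_⟩
  have := N.mul_mem (N.mul_mem (N.inv_mem hn) (hxK k hk)) hn
  convert this using 1
  show _ = n⁻¹ * (n * c * k * (n * c)⁻¹) * n
  group

theorem isSaturated_gfs (S : Sylow p G) : (groupFusionSystem (S : Subgroup G)).IsSaturated p := by
  refine isSaturated_of_isFullyNormalized fun P hPn => ?_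
  have hP := hPn.1
  have hN := (isFullyNormalized_gfs_iff S hP).mp hPn
  refine ⟨(isFullyAutomized_iff S.2).mpr ⟨hP, ?_⟩, isReceptive_iff.mpr ⟨hP, fun R f hf hfP => ?_⟩⟩
  · rw [autGroup_gfs hP, autInducedBy_eq_map, autInducedBy_eq_map,
      ← normalizerIn_subgroupOf_normalizer]
    obtain ⟨T, hT⟩ := (isSylowIn_iff_exists normalizerIn_le_normalizer).mp hN
    intro hdvd
    refine Sylow.not_dvd_index T (hdvd.trans ?_)
    rw [← hT, Subgroup.relIndex_map_map, Subgroup.top_subgroupOf, top_sup_eq,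
      Subgroup.relIndex_top_right]
    exact Subgroup.index_dvd_of_le le_sup_left
  · obtain ⟨hR, g, hg⟩ := mapTo_gfs_iff.mp hf
    have hfi : P = R.map (MulAut.conj g).toMonoidHom := by
      rw [← img_cj, ← hfP]; exact img_congr fun x hx => (hg x hx).1
    set E := extSub (S : Subgroup G) hf with hE
    set N := normalizerIn (S : Subgroup G) P
    have hK : E.map (MulAut.conj g).toMonoidHom ≤ N ⊔ Subgroup.centralizer (P : Set G) := by
      refine (map_conj_le_iff g).mpr ?_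
      rintro k ⟨hkN, h, hh, hkh⟩
      have hconj : ∀ x ∈ R, g * (k * x * k⁻¹) * g⁻¹ = h * (g * x * g⁻¹) * h⁻¹ := fun x hx => by
        have := hkh x hx
        rwa [(hg x hx).1, (hg _ (conj_mem_of_mem_normalizerIn hkN hx)).1] at this
      have hhN : h ∈ N := mem_normalizerIn_of_forall hP hh fun y hy => by
        obtain ⟨x, hx, rfl⟩ : y ∈ R.map (MulAut.conj g).toMonoidHom := hfi ▸ hy
        show h * (g * x * g⁻¹) * h⁻¹ ∈ P
        rw [← hconj x hx, hfi]
        exact ⟨_, conj_mem_of_mem_normalizerIn hkN hx, rfl⟩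
      have hc : h⁻¹ * (g * k * g⁻¹) ∈ Subgroup.centralizer (P : Set G) := by
        refine Subgroup.mem_centralizer_iff.mpr fun y hy => ?_
        obtain ⟨x, hx, rfl⟩ : y ∈ R.map (MulAut.conj g).toMonoidHom := hfi ▸ hy
        show g * x * g⁻¹ * (h⁻¹ * (g * k * g⁻¹)) = h⁻¹ * (g * k * g⁻¹) * (g * x * g⁻¹)
        calc g * x * g⁻¹ * (h⁻¹ * (g * k * g⁻¹))
            = h⁻¹ * (h * (g * x * g⁻¹) * h⁻¹) * (g * k * g⁻¹) := by group
          _ = h⁻¹ * (g * k * g⁻¹) * (g * x * g⁻¹) := by rw [← hconj x hx]; group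
      rw [show g * k * g⁻¹ = h * (h⁻¹ * (g * k * g⁻¹)) by group]
      exact Subgroup.mul_mem_sup hhN hc
    obtain ⟨c, hc, hck⟩ := exists_centralizer_conj_le S hN
      (isPGroup_img_cj (S.2.to_le ((extSub_le hf).trans normalizerIn_le)) g) hK
    refine ⟨cj (c * g), mapTo_gfs_cj ((extSub_le hf).trans normalizerIn_le) fun k hk => ?_,
      fun x hx => ?_⟩
    · have := normalizerIn_le (hck _ ⟨k, hk, rfl⟩)
      rw [← cj_apply, cj_mul]
      exact this
    · rw [cj_mul, (hg x hx).1]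
      have hxP : g * x * g⁻¹ ∈ P := hfi ▸ ⟨x, hx, rfl⟩
      simp only [cj_apply]
      rw [← Subgroup.mem_centralizer_iff.mp hc _ hxP]
      group

theorem isFullyCentralized_gfs_iff (S : Sylow p G) {P : Subgroup G} (hP : P ≤ S) :
    (groupFusionSystem (S : Subgroup G)).IsFullyCentralized P ↔
      IsSylowIn p (centralizerIn (S : Subgroup G) P) (Subgroup.centralizer (P : Set G)) := by
  have key : ∀ {P Q : Subgroup G} (g : G), P.map (MulAut.conj g).toMonoidHom = Q →
      ∀ K ≤ Subgroup.centralizer (P : Set G),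
        K.map (MulAut.conj g).toMonoidHom ≤ Subgroup.centralizer (Q : Set G) := by
    rintro P Q g rfl K hK
    rintro _ ⟨k, hk, rfl⟩
    refine Subgroup.mem_centralizer_iff.mpr ?_
    rintro _ ⟨x, hx, rfl⟩
    show g * x * g⁻¹ * (g * k * g⁻¹) = g * k * g⁻¹ * (g * x * g⁻¹)
    have := Subgroup.mem_centralizer_iff.mp (hK hk) x hx
    calc g * x * g⁻¹ * (g * k * g⁻¹) = g * (x * k) * g⁻¹ := by group
      _ = g * k * g⁻¹ * (g * x * g⁻¹) := by rw [this]; group
  have hcle : ∀ Q : Subgroup G,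
      centralizerIn (S : Subgroup G) Q ≤ Subgroup.centralizer (Q : Set G) := fun _ => inf_le_right
  constructor
  · rintro ⟨-, hmax⟩
    obtain ⟨g, hgS, hQ⟩ := exists_conj_isSylowIn S hP
    set Q := P.map (MulAut.conj g).toMonoidHom
    have hQc : IsSylowIn p (centralizerIn (S : Subgroup G) Q)
        (Subgroup.centralizer (Q : Set G)) := by
      have hCN : Subgroup.centralizer (Q : Set G) ≤ Subgroup.normalizer (Q : Set G) :=
        Subgroup.centralizer_le_normalizer _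
      have h := hQ.inf_normal hCN ((Subgroup.normal_subgroupOf_iff_le_normalizer hCN).mp inferInstance)
      have he : normalizerIn (S : Subgroup G) Q ⊓ Subgroup.centralizer (Q : Set G) =
          centralizerIn (S : Subgroup G) Q := by
        refine le_antisymm (fun z hz => ⟨hz.1.1, hz.2⟩) fun z hz => ⟨⟨hz.1, hCN hz.2⟩, hz.2⟩
      rwa [he] at h
    obtain ⟨R, -, hR⟩ := exists_isSylowIn (p := p) (hcle P) (S.2.to_le centralizerIn_le)
    refine isSylowIn_of_card_ge (hcle P) (S.2.to_le centralizerIn_le) hR ?_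
    refine le_trans ?_ (hmax _ (isConj_gfs_iff.mpr ⟨hP, hgS, g, rfl⟩))
    rw [← card_map_conj R g]
    exact hQc.card_le (key g rfl R hR.1) (isPGroup_img_cj hR.2.1 g)
  · refine fun hSyl => ⟨hP, fun Q hQ => ?_⟩
    obtain ⟨-, hQS, g, hg⟩ := isConj_gfs_iff.mp hQ
    have hback : Q.map (MulAut.conj g⁻¹).toMonoidHom = P := by
      rw [← hg, Subgroup.map_map]
      convert Subgroup.map_id P using 2
      ext x; simp [mul_assoc]
    rw [← card_map_conj (centralizerIn (S : Subgroup G) Q) g⁻¹]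
    exact hSyl.card_le (key g⁻¹ hback _ (hcle Q))
      (isPGroup_img_cj (S.2.to_le centralizerIn_le) _)

end Cfsg.Agent.Fusion
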