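import Cfsg.Agent.Lib.Fusion.KNormalizer

/-!
Normalizer systems of fully normalized subgroups and centralizer systems of fully centralized
subgroups are saturated.
-/

set_option autoImplicit false

namespace Cfsg.Agent.Fusion

open Cfsg.FusionSystem (centralizerIn normalizerIn)

variable {Ω : Type*} [Group Ω] {S : Subgroup Ω} {F : FusionSystem S} {Q : Subgroup Ω} {p : ℕ}

theorem inK_top_iff [Finite Q] {g : Ω → Ω} {P : Subgroup Ω} (hg : MapTo F (P ⊔ Q) g) :
    InK (⊤ : Subgroup (MulAut Q)) g ↔ img g Q = Q :=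
  ⟨InK.img_eq, fun h => ⟨autOf (hg.restrict le_sup_right) h, Subgroup.mem_top _,
    fun _ hx => (autFun_autOf _ h hx).symm⟩⟩

theorem inK_bot_iff {g : Ω → Ω} :
    InK (⊥ : Subgroup (MulAut Q)) g ↔ ∀ x ∈ Q, g x = x :=
  ⟨fun ⟨k, hk, hkg⟩ x hx => by rw [hkg x hx, Subgroup.mem_bot.mp hk, autFun_one hx],
    fun h => ⟨1, Subgroup.one_mem _, fun x hx => by rw [h x hx, autFun_one hx]⟩⟩

/-- The normalizer system of a fully normalized subgroup is saturated. -/
theorem isSaturated_normalizerSystem [Finite S] [Fact p.Prime] (hS : IsPGroup p S)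
    (hF : F.IsSaturated p) (hQ : F.IsFullyNormalized Q) {E : FusionSystem (normalizerIn S Q)}
    (hE : F.IsNormalizerSystem Q E) : E.IsSaturated p := by
  have hQS := hQ.1
  have := finite_of_le hQS
  refine isSaturated_kSys (K := (⊤ : Subgroup (MulAut Q))) hS hF hQS (fun f hf => ?_) ?_ ?_
  · obtain ⟨ψ, hψ, hψQ⟩ := exists_map_normalizerIn hS
      (isFullyAutomized_of_isFullyNormalized hS hF hQ)
      (isReceptive_of_isFullyNormalized hS hF hQ) (isConj_symm hf.isConj)
    have hle : kNorm S (⊤ : Subgroup (MulAut Q)) f ⊔ img f Q ≤ normalizerIn S (img f Q) := by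
      refine sup_le (fun x hx => ?_) (le_normalizerIn hf.img_le)
      obtain ⟨hxS, k, -, hk⟩ := hx
      refine mem_normalizerIn_of_forall hf.img_le hxS fun y hy => ?_
      obtain ⟨q, hq, rfl⟩ := (hf.mem_img_iff le_rfl).mp hy
      exact hk q hq ▸ mem_img_of_mem (autFun_mem k hq)
    have hc : MapTo F Q fun q => ψ (f q) :=
      hf.comp hψ fun q hq => le_normalizerIn hf.img_le (mem_img_of_mem hq)
    refine ⟨ψ, hψ.restrict hle, autOf hc ?_, Subgroup.mem_top _,
      fun x hx => (autFun_autOf hc _ hx).symm⟩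
    rw [← hf.img_img le_rfl, hψQ]
  · ext x
    rw [mem_kNorm_id]
    constructor
    · intro hx
      refine ⟨hx.1, Q.normalizerMonoidHom ⟨x, hx.2⟩, Subgroup.mem_top _, fun q hq => ?_⟩
      rw [autFun_apply _ hq]
      rfl
    · exact fun ⟨hxS, hK⟩ => mem_normalizerIn_of_forall hQS hxS fun y hy => hK.mem hy
  · intro P f
    rw [mapTo_nSys_iff hE]
    constructor
    · rintro ⟨h1, h2, g, hg, hgf, hgQ⟩
      exact ⟨h1, h2, g, hg, hgf, (inK_top_iff hg).mpr hgQ⟩
    · rintro ⟨h1, h2, g, hg, hgf, hgK⟩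
      exact ⟨h1, h2, g, hg, hgf, hgK.img_eq⟩

/-- The centralizer system of a fully centralized subgroup is saturated. -/
theorem isSaturated_centralizerSystem [Finite S] [Fact p.Prime] (hS : IsPGroup p S)
    (hF : F.IsSaturated p) (hQ : F.IsFullyCentralized Q) {E : FusionSystem (centralizerIn S Q)}
    (hE : F.IsCentralizerSystem Q E) : E.IsSaturated p := by
  have hQS := hQ.1
  refine isSaturated_kSys (K := (⊥ : Subgroup (MulAut Q))) hS hF hQS (fun f hf => ?_) ?_ ?_
  · obtain ⟨g, hg, hgf, -, hgimg⟩ := hf.exists_iso_inverse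
    have himg : img g (img f Q) = Q := hgimg Q le_rfl
    obtain ⟨ψ, hψ, hψg⟩ :=
      (isReceptive_iff.mp (isReceptive_of_isFullyCentralized hS hF hQ)).2 _ g hg himg
    have hle : kNorm S (⊥ : Subgroup (MulAut Q)) f ⊔ img f Q ≤ extSub S hg := by
      refine sup_le (fun x hx => centralizerIn_le_extSub hg ?_) (le_extSub hg)
      obtain ⟨hxS, k, hk, hkx⟩ := hx
      refine mem_centralizerIn.mpr ⟨hxS, fun y hy => ?_⟩
      obtain ⟨q, hq, rfl⟩ := (hf.mem_img_iff le_rfl).mp hy
      have h1 := hkx q hq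
      rw [Subgroup.mem_bot.mp hk, autFun_one hq, mul_inv_eq_iff_eq_mul] at h1
      exact h1.symm
    refine ⟨ψ, hψ.restrict hle, inK_bot_iff.mpr fun x hx => ?_⟩
    show ψ (f x) = x
    rw [hψg _ (mem_img_of_mem hx), hgf x hx]
  · ext x
    rw [mem_kNorm_id, inK_bot_iff, mem_centralizerIn]
    refine and_congr_right fun _ => forall_congr' fun q => forall_congr' fun _ => ?_
    rw [cj_apply, mul_inv_eq_iff_eq_mul, eq_comm]
  · intro P f
    rw [mapTo_cSys_iff hE]
    simp only [inK_bot_iff]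

end Cfsg.Agent.Fusion
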