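import Cfsg.Agent.Lib.Fusion.Invariant
import Cfsg.Agent.Lib.Fusion.NormalizerSaturated

/-!
Strongly closed subgroups with a commuting strongly closed complement: restriction, extension of
maps, and invariant subsystems in the language of `MapTo`.
-/

set_option autoImplicit false

namespace Cfsg.Agent.Fusion

open Cfsg.FusionSystem (centralizerIn normalizerIn)

variable {Ω : Type*} [Group Ω] {S T D : Subgroup Ω}
variable {F : FusionSystem S} {E : FusionSystem T} {P Q R : Subgroup Ω} {f g : Ω → Ω} {p : ℕ}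

theorem isInvariantIn_of_mapTo (hsub : E.IsSubsystemOf F) (hT : F.StronglyClosed T)
    (hinv : ∀ (P : Subgroup Ω) (f : Ω → Ω), P ≤ T → MapTo E P f → ∀ α ∈ F.autGroup T,
      ∃ g, MapTo E (img (autFun α) P) g ∧ ∀ x ∈ P, g (autFun α x) = autFun α (f x))
    (hfr : ∀ (P : Subgroup Ω) (f : Ω → Ω), P ≤ T → MapTo F P f →
      ∃ α ∈ F.autGroup T, ∃ f₀, MapTo E P f₀ ∧ ∀ x ∈ P, f x = autFun α (f₀ x)) :
    E.IsInvariantIn F := by
  refine ⟨hsub, hT, fun P hPT φ hφ α hα => ?_, fun P hPT φ hφ => ?_⟩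
  · obtain ⟨g, hg, hgx⟩ := hinv P (ev φ) hPT (mapTo_ev hφ) α hα
    have he : (P.subgroupOf T).map (T.subtype.comp α.toMonoidHom) = img (autFun α) P :=
      map_subgroupOf_eq_img (fun x => (autFun_coe α x).symm) hPT
    rw [← he] at hg
    obtain ⟨χ, hχ, hχg⟩ := hg
    refine ⟨χ, hχ, fun x hφx hαx => ?_⟩
    rw [hχg]
    show g ((α ⟨x, hPT x.2⟩ : T) : Ω) = _
    rw [← autFun_apply α (hPT x.2), hgx x x.2, ev_coe, autFun_apply α hφx]
  · obtain ⟨α, hα, f₀, ⟨φ₀, hφ₀, hφ₀f⟩, hx⟩ := hfr P (ev φ) hPT (mapTo_ev hφ)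
    refine ⟨α, hα, φ₀, hφ₀, fun x hφx => ?_⟩
    rw [← autFun_apply α hφx, hφ₀f, ← hx x x.2, ev_coe]

/-- A strongly closed subgroup is the only subgroup conjugate to itself. -/
theorem StronglyClosed.eq_of_isConj [Finite S] (hT : F.StronglyClosed T) (h : F.IsConj T Q) :
    Q = T := by
  obtain ⟨f, hf, rfl⟩ := isConj_iff.mp h
  exact StronglyClosed.img_eq hT hf le_rfl

theorem StronglyClosed.isFullyNormalized [Finite S] (hT : F.StronglyClosed T) :
    F.IsFullyNormalized T :=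
  ⟨hT.1, fun Q hQ => by rw [StronglyClosed.eq_of_isConj hT hQ]⟩

/-- The full restriction to a strongly closed subgroup with commuting complement is saturated. -/
theorem isSaturated_fullRestriction [Finite S] [Fact p.Prime] (hS : IsPGroup p S)
    (hF : F.IsSaturated p) (hT : F.StronglyClosed T)
    (hdec : ∀ s ∈ S, ∃ t ∈ T, ∃ d ∈ D, s = t * d)
    (hcomm : ∀ t ∈ T, ∀ d ∈ D, t * d = d * t)
    (hE : ∀ P : Subgroup Ω, P ≤ T → E.Hom P = F.Hom P) : E.IsSaturated p := by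
  have hTS : T ≤ S := hT.1
  have := finite_of_le hTS
  have hm : ∀ {P : Subgroup Ω} {f : Ω → Ω}, P ≤ T → (MapTo E P f ↔ MapTo F P f) :=
    fun hP => by rw [MapTo, MapTo, hE _ hP]
  intro P hP
  obtain ⟨Q, hPQ, hQn⟩ := exists_isFullyNormalized (F := F) (hP.trans hTS)
  obtain ⟨a, ha, haQ⟩ := isConj_iff.mp hPQ
  have hQT : Q ≤ T := haQ ▸ img_le_of_forall fun x hx => StronglyClosed.map_mem hT ha hx (hP hx)
  refine ⟨Q, isConj_iff.mpr ⟨a, (hm hP).mpr ha, haQ⟩, ?_, ?_⟩
  · have haut : E.autGroup Q = F.autGroup Q := by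
      ext α
      rw [mem_autGroup_iff hQT, mem_autGroup_iff hQn.1, hm hQT]
    have hind : autInducedBy T Q = autInducedBy S Q := by
      refine le_antisymm (autInducedBy_mono hTS Q) fun α hα => ?_
      obtain ⟨s, hs, hsα⟩ := mem_autInducedBy_iff_cj.mp hα
      obtain ⟨t, ht, d, hd, rfl⟩ := hdec s hs
      refine mem_autInducedBy_iff_cj.mpr ⟨t, ht, fun x hx => ?_⟩
      rw [hsα x hx, cj_mul]
      congr 1
      rw [cj_apply, ← hcomm x (hQT hx) d hd, mul_inv_cancel_right]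
    refine (isFullyAutomized_iff (hS.to_le hTS)).mpr ⟨hQT, ?_⟩
    rw [haut, hind]
    exact ((isFullyAutomized_iff hS).mp (isFullyAutomized_of_isFullyNormalized hS hF hQn)).2
  · refine isReceptive_iff.mpr ⟨hQT, fun A f hf hfQ => ?_⟩
    have hAT : A ≤ T := hf.le
    have hf' : MapTo F A f := (hm hAT).mp hf
    obtain ⟨g, hg, hgf⟩ := (isReceptive_iff.mp
      (isReceptive_of_isFullyNormalized hS hF hQn)).2 A f hf' hfQ
    have hle : extSub T hf ≤ extSub S hf' := by
      rintro x ⟨hxN, h, hh, hx⟩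
      exact ⟨⟨hTS hxN.1, hxN.2⟩, h, hTS hh, hx⟩
    have hNT : extSub T hf ≤ T := (extSub_le hf).trans normalizerIn_le
    exact ⟨g, (hm hNT).mpr (hg.restrict hle), hgf⟩

/-- A map between subgroups centralized by a strongly closed `D` extends over `D`. -/
theorem exists_extension_sup [Finite S] [Fact p.Prime] (hS : IsPGroup p S)
    (hF : F.IsSaturated p) (hT : F.StronglyClosed T) (hD : F.StronglyClosed D)
    (hcomm : ∀ t ∈ T, ∀ d ∈ D, t * d = d * t) (hP : P ≤ T) (hf : MapTo F P f) :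
    ∃ g, MapTo F (P ⊔ D) g ∧ (∀ x ∈ P, g x = f x) ∧ img g D = D := by
  set P' := img f P with hP'def
  have hP'T : P' ≤ T := img_le_of_forall fun x hx => StronglyClosed.map_mem hT hf hx (hP hx)
  have hDC : ∀ {A : Subgroup Ω}, A ≤ T → D ≤ centralizerIn S A := fun hA d hd =>
    mem_centralizerIn.mpr ⟨hD.1 hd, fun y hy => hcomm y (hA hy) d hd⟩
  obtain ⟨Q, hQc, hQn⟩ := exists_isFullyNormalized (F := F) hf.img_le
  have hrec := (isReceptive_iff.mp (isReceptive_of_isFullyNormalized hS hF hQn)).2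
  obtain ⟨b, hb, hbQ⟩ := isConj_iff.mp hQc
  have ha : MapTo F P (fun x => b (f x)) := hf.comp hb fun x hx => mem_img_of_mem hx
  have haQ : img (fun x => b (f x)) P = Q := by rw [← hf.img_img le_rfl]; exact hbQ
  obtain ⟨u, hu, hua⟩ := hrec P _ ha haQ
  obtain ⟨v, hv, hvb⟩ := hrec P' b hb hbQ
  have huD : P ⊔ D ≤ extSub S ha :=
    sup_le (le_extSub ha) ((hDC hP).trans (centralizerIn_le_extSub ha))
  have hvD : P' ⊔ D ≤ extSub S hb :=
    sup_le (le_extSub hb) ((hDC hP'T).trans (centralizerIn_le_extSub hb))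
  replace hu := hu.restrict huD
  replace hv := hv.restrict hvD
  have huimg : img u (P ⊔ D) = Q ⊔ D := by
    rw [hu.img_sup le_sup_left le_sup_right, img_congr hua, haQ,
      StronglyClosed.img_eq hD hu le_sup_right]
  have hvimg : img v (P' ⊔ D) = Q ⊔ D := by
    rw [hv.img_sup le_sup_left le_sup_right, img_congr hvb, hbQ,
      StronglyClosed.img_eq hD hv le_sup_right]
  obtain ⟨k, hk, hkv, -, -⟩ := hv.exists_iso_inverse
  rw [hvimg] at hk
  have hg : MapTo F (P ⊔ D) (fun x => k (u x)) :=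
    hu.comp hk fun x hx => huimg ▸ mem_img_of_mem hx
  refine ⟨_, hg, fun x hx => ?_, StronglyClosed.img_eq hD hg le_sup_right⟩
  show k (u x) = f x
  rw [hua x hx, ← hvb (f x) (mem_img_of_mem hx)]
  exact hkv _ ((le_sup_left : P' ≤ P' ⊔ D) (mem_img_of_mem hx))

/-- An automorphism of a strongly closed subgroup with commuting complement extends to `S`. -/
theorem exists_extension_top [Finite S] [Fact p.Prime] (hS : IsPGroup p S)
    (hF : F.IsSaturated p) (hT : F.StronglyClosed T)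
    (hdec : ∀ s ∈ S, ∃ t ∈ T, ∃ d ∈ D, s = t * d)
    (hcomm : ∀ t ∈ T, ∀ d ∈ D, t * d = d * t) (hf : MapTo F T f) :
    ∃ g, MapTo F S g ∧ ∀ x ∈ T, g x = f x := by
  have hfT := StronglyClosed.img_eq hT hf le_rfl
  obtain ⟨g, hg, hgf⟩ := (isReceptive_iff.mp (isReceptive_of_isFullyNormalized hS hF
    (StronglyClosed.isFullyNormalized hT))).2 T f hf hfT
  refine ⟨g, hg.restrict fun s hs => ⟨⟨hs, StronglyClosed.le_normalizer hT hs⟩, ?_⟩, hgf⟩
  obtain ⟨t, ht, d, hd, rfl⟩ := hdec s hs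
  refine ⟨f t, hf.mem ht, fun x hx => ?_⟩
  have : t * d * x * (t * d)⁻¹ = t * x * t⁻¹ := by
    rw [mul_assoc t d x, ← hcomm x hx d hd]; group
  rw [this, hf.map_conj ht hx]

end Cfsg.Agent.Fusion
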