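import Cfsg.Agent.Lib.Fusion.Alperin

/-!
Alperin's theorem in inductive form.
-/

set_option autoImplicit false

namespace Cfsg.Agent.Fusion

open Cfsg.FusionSystem (centralizerIn normalizerIn)

variable {Ω : Type*} [Group Ω] {S : Subgroup Ω}
variable {F : FusionSystem S} {P Q R : Subgroup Ω} {f g : Ω → Ω} {p : ℕ}

section

variable [Finite S] [Fact p.Prime]

/-- Alperin's fusion theorem, with knowledge of the larger subgroups at each step. -/
theorem alperin_strong (hS : IsPGroup p S) (hF : F.IsSaturated p) (E : FusionSystem S)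
    (hE : ∀ P : Subgroup Ω, P = S ∨ F.IsEssential p P →
      (∀ (R : Subgroup Ω) (g : Ω → Ω), Nat.card P < Nat.card R → MapTo F R g → MapTo E R g) →
      F.autGroup P ≤ E.autGroup P) :
    ∀ (P : Subgroup Ω) (f : Ω → Ω), MapTo F P f → MapTo E P f := by
  intro P
  induction hk : Nat.card S - Nat.card P using Nat.strong_induction_on generalizing P with
  | h k ih =>
  intro f hf
  rcases eq_or_lt_of_le hf.le with rfl | hlt
  · have himg : img f P = P := img_eq_self_of_forall hf fun x hx => hf.mem hx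
    have h1 := hE P (Or.inl rfl) (fun R g hR hg => absurd hR
      (not_lt.mpr (Subgroup.card_le_of_le hg.le))) (autOf_mem hf himg)
    exact (mapTo_of_mem_autGroup le_rfl h1).congr' fun x hx => (autFun_autOf hf himg hx).symm
  have hlt' : ∀ {Q R : Subgroup Ω}, Nat.card Q = Nat.card P → Q < R → R ≤ S →
      ∀ g, MapTo F R g → MapTo E R g := by
    intro Q R hQ hQR hR g hg
    refine ih _ ?_ R rfl g hg
    have := finite_of_le hR
    have h1 : Nat.card Q < Nat.card R := by
      refine lt_of_le_of_ne (Subgroup.card_le_of_le hQR.le) fun he => ?_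
      exact hQR.ne (Subgroup.eq_of_le_of_card_ge hQR.le he.ge)
    have h2 : Nat.card R ≤ Nat.card S := Subgroup.card_le_of_le hR
    omega
  have hPS := hf.le
  set P' := img f P with hP'
  have hP'S : P' ≤ S := hf.img_le
  have hcard : Nat.card P' = Nat.card P := hf.card_img le_rfl
  have hP'lt : P' < S := lt_of_le_of_ne hP'S fun he => by
    rw [he] at hcard
    exact hlt.ne (Subgroup.eq_of_le_of_card_ge hPS hcard.le)
  obtain ⟨Q, hPQ, hQn⟩ := exists_isFullyNormalized (F := F) hPS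
  have hQa := isFullyAutomized_of_isFullyNormalized hS hF hQn
  have hQr := isReceptive_of_isFullyNormalized hS hF hQn
  obtain ⟨g, hg, hgQ⟩ := exists_map_normalizerIn hS hQa hQr hPQ
  obtain ⟨g', hg', hg'Q⟩ :=
    exists_map_normalizerIn hS hQa hQr (isConj_trans (isConj_symm hf.isConj) hPQ)
  have hgE := (hlt' rfl (lt_normalizerIn hS hlt) normalizerIn_le g hg).restrict
    (le_normalizerIn hPS)
  have hg'E := (hlt' hcard (lt_normalizerIn hS hP'lt) normalizerIn_le g' hg').restrict
    (le_normalizerIn hP'S)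
  obtain ⟨k₀, hk₀, hk₀g, hgk₀, hk₀img⟩ := (hg.restrict (le_normalizerIn hPS)).exists_iso_inverse
  rw [hgQ] at hk₀ hgk₀
  have hk₀m : ∀ y ∈ Q, k₀ y ∈ P := fun y hy => by
    obtain ⟨x, hx, rfl⟩ :=
      ((hg.restrict (le_normalizerIn hPS)).mem_img_iff le_rfl).mp (hgQ ▸ hy : y ∈ img g P)
    rw [hk₀g x hx]; exact hx
  have hfm : ∀ x ∈ P, f x ∈ P' := fun x hx => mem_img_of_mem hx
  have ha : MapTo F Q (fun y => g' (f (k₀ y))) :=
    (hk₀.comp hf hk₀m).comp (hg'.restrict (le_normalizerIn hP'S)) fun y hy => hfm _ (hk₀m y hy)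
  have := finite_of_le hQn.1
  have haimg : img (fun y => g' (f (k₀ y))) Q = Q := img_eq_self_of_forall ha fun y hy => by
    rw [← hg'Q]; exact mem_img_of_mem (hfm _ (hk₀m y hy))
  set α := autOf ha haimg with hα
  have hαE : α ∈ E.autGroup Q := by
    have hQlt : Q < S := lt_of_le_of_ne hQn.1 fun he => by
      have h1 := isConj_card hPQ
      rw [he] at h1
      exact hlt.ne (Subgroup.eq_of_le_of_card_ge hPS h1.le)
    rcases extAut_eq_or_isEssential hS hF hQlt hQn with h | h
    · refine ((Subgroup.closure_le _).mpr ?_ : extAut F Q ≤ E.autGroup Q) (show α ∈ extAut F Q by rw [h]; exact autOf_mem ha haimg)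
      rintro β ⟨R, fR, hQR, hfR, hfRβ⟩
      exact (mem_autGroup_iff hQn.1).mpr (((hlt' (isConj_card hPQ) hQR hfR.le fR hfR).restrict
        hQR.le).congr' fun x hx => (hfRβ x hx).symm)
    · refine hE Q (Or.inr h) (fun R g hR hg => ?_) (autOf_mem ha haimg)
      refine ih _ ?_ R rfl g hg
      have h1 := isConj_card hPQ
      have h2 : Nat.card R ≤ Nat.card S := Subgroup.card_le_of_le hg.le
      omega
  obtain ⟨k₁, hk₁, hk₁g, -, -⟩ := hg'E.exists_iso_inverse
  rw [hg'Q] at hk₁
  have hgm : ∀ x ∈ P, g x ∈ Q := fun x hx => hgQ ▸ mem_img_of_mem hx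
  refine ((hgE.comp (mapTo_of_mem_autGroup hQn.1 hαE) hgm).comp hk₁
    fun x hx => autFun_mem α (hgm x hx)).congr' fun x hx => ?_
  show f x = k₁ (autFun α (g x))
  rw [autFun_autOf ha haimg (hgm x hx), hk₀g x hx, hk₁g _ (hfm x hx)]

/-- The inductive form for a property of maps. -/
theorem alperin_prop_strong (hS : IsPGroup p S) (hF : F.IsSaturated p)
    (C : (P : Subgroup Ω) → (Ω → Ω) → Prop)
    (hcongr : ∀ {P : Subgroup Ω} {f g : Ω → Ω}, MapTo F P f → C P f → (∀ x ∈ P, g x = f x) → C P g)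
    (hconj : ∀ {P : Subgroup Ω} {g : Ω}, P ≤ S → g ∈ S → C P (cj g))
    (hcomp : ∀ {P Q : Subgroup Ω} {f g : Ω → Ω}, MapTo F P f → MapTo F Q g → (∀ x ∈ P, f x ∈ Q) →
      C P f → C Q g → C P (fun x => g (f x)))
    (hinv : ∀ {P : Subgroup Ω} {f g : Ω → Ω}, MapTo F P f → MapTo F (img f P) g →
      (∀ x ∈ P, g (f x) = x) → C P f → C (img f P) g)
    (hbase : ∀ P : Subgroup Ω, P = S ∨ F.IsEssential p P →
      (∀ (R : Subgroup Ω) (g : Ω → Ω), Nat.card P < Nat.card R → MapTo F R g → C R g) →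
      ∀ α ∈ F.autGroup P, C P (autFun α))
    {P : Subgroup Ω} {f : Ω → Ω} (hf : MapTo F P f) : C P f := by
  have hC : ∀ (R : Subgroup Ω) (g : Ω → Ω), MapTo (restrictSys F C hcongr hconj hcomp hinv) R g →
      C R g := by
    rintro R g ⟨φ, ⟨hφ, hφC⟩, hφg⟩
    exact hcongr (mapTo_ev hφ) hφC fun x hx => by rw [ev_apply φ hx]; exact (hφg ⟨x, hx⟩).symm
  refine hC P f (alperin_strong hS hF _ (fun Q hQ hIH α hα => ?_) P f hf)
  have hQS : Q ≤ S := by
    rcases hQ with rfl | h
    · exact le_rfl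
    · exact h.1.1
  exact Subgroup.subset_closure ⟨mapTo_autFun_iff_hom.mp (mapTo_of_mem_autGroup hQS hα),
    hbase Q hQ (fun R g hR hg => hC R g (hIH R g hR hg)) α hα⟩

end

end Cfsg.Agent.Fusion
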