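import Cfsg.Agent.Lib.Fusion.SaturationCriterionMain
import Cfsg.Agent.Lib.Fusion.AlperinStrong
import Cfsg.Agent.Lib.Fusion.Invariant
import Cfsg.Agent.Lib.Fusion.Hyperfocal
import Cfsg.Prelude.Def_FusionComponents

/-!
Subsystems of index prime to `p`, relative to a family of centric subgroups containing the
essential ones.
-/

set_option autoImplicit false

namespace Cfsg.Agent.Fusion

open Cfsg.FusionSystem (centralizerIn normalizerIn)

variable {Ω : Type*} [Group Ω] {S : Subgroup Ω} {F : FusionSystem S}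
variable {P Q R : Subgroup Ω} {f g h : Ω → Ω} {p : ℕ} {ℋ : Set (Subgroup Ω)}

/-- The subgroup of `Aut_F(Q)` generated by its elements of `p`-power order. -/
def ppP (F : FusionSystem S) (p : ℕ) (Q : Subgroup Ω) : Subgroup (MulAut Q) :=
  (Subgroup.closure {α : F.autGroup Q | ∃ k : ℕ, orderOf α = p ^ k}).map (F.autGroup Q).subtype

theorem ppP_le : ppP F p Q ≤ F.autGroup Q := Subgroup.map_subtype_le _

theorem congr_mem_ppP (h : MapTo F P f) (hQ : img f P = Q) {α : MulAut P} (hα : α ∈ ppP F p P) :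
    MulAut.congr (isoEquiv h hQ) α ∈ ppP F p Q := by
  obtain ⟨a, ha, rfl⟩ := hα
  set Φ : F.autGroup P →* F.autGroup Q :=
    (((MulAut.congr (isoEquiv h hQ)).toMonoidHom.comp (F.autGroup P).subtype).codRestrict _
      fun b => map_congr_autGroup h hQ ▸ ⟨b, b.2, rfl⟩)
  have hinj : Function.Injective Φ := fun a b hab =>
    Subtype.ext ((MulAut.congr (isoEquiv h hQ)).injective (congrArg Subtype.val hab))
  refine ⟨Φ a, ?_, rfl⟩
  have h1 : Φ a ∈ (Subgroup.closure {α : F.autGroup P | ∃ k : ℕ, orderOf α = p ^ k}).map Φ :=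
    ⟨a, ha, rfl⟩
  rw [MonoidHom.map_closure] at h1
  refine Subgroup.closure_mono ?_ h1
  rintro _ ⟨b, ⟨k, hk⟩, rfl⟩
  exact ⟨k, (orderOf_injective Φ hinj b).trans hk⟩

theorem mem_ppP_of_pow [Fact p.Prime] {α : MulAut Q} (hα : α ∈ F.autGroup Q) {k : ℕ}
    (hk : α ^ p ^ k = 1) : α ∈ ppP F p Q := by
  obtain ⟨i, -, hi⟩ := (Nat.dvd_prime_pow Fact.out).mp (orderOf_dvd_of_pow_eq_one hk)
  exact ⟨⟨α, hα⟩, Subgroup.subset_closure ⟨i, by rw [Subgroup.orderOf_mk]; exact hi⟩, rfl⟩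

theorem normal_ppP (hQ : Q ≤ S) {β α : MulAut Q} (hβ : β ∈ F.autGroup Q) (hα : α ∈ ppP F p Q) :
    β * α * β⁻¹ ∈ ppP F p Q := by
  have h1 := congr_mem_ppP (mapTo_of_mem_autGroup hQ hβ) (img_autFun β) hα
  convert h1 using 1
  refine autFun_ext fun y hy => ?_
  obtain ⟨x, hx, rfl⟩ : ∃ x ∈ Q, autFun β x = y := ⟨_, autFun_mem _ hy, autFun_autFun_inv _ hy⟩
  rw [autFun_congr _ _ α hx, autFun_mul _ _ hy, autFun_inv_autFun β hx, autFun_mul _ _ hx]

theorem autInducedBy_le_ppP [Finite S] [Fact p.Prime] (hS : IsPGroup p S) (hQ : Q ≤ S) :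
    autInducedBy S Q ≤ ppP F p Q := by
  intro α hα
  obtain ⟨k, hk⟩ := isPGroup_autInducedBy hS Q ⟨α, hα⟩
  exact mem_ppP_of_pow (autInducedBy_le_autGroup hQ hα) (congrArg Subtype.val hk)

/-! ### The subsystem generated by the `p`-power automorphisms of the members of the family -/

/-- Maps generated by `O^{p'}(Aut_F(Q))`, `Q ∈ ℋ`, and the inner maps. -/
inductive Ezero (F : FusionSystem S) (p : ℕ) (ℋ : Set (Subgroup Ω)) :
    Subgroup Ω → (Ω → Ω) → Prop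
  | base (Q : Subgroup Ω) (α : MulAut Q) (hQ : Q ∈ ℋ) (hQS : Q ≤ S) (hα : α ∈ ppP F p Q)
      (P : Subgroup Ω) (hP : P ≤ Q) (g : Ω → Ω) (hg : ∀ x ∈ P, g x = autFun α x) : Ezero F p ℋ P g
  | cj (P : Subgroup Ω) (s : Ω) (g : Ω → Ω) (hP : P ≤ S) (hs : s ∈ S)
      (hg : ∀ x ∈ P, g x = Cfsg.Agent.Fusion.cj s x) : Ezero F p ℋ P g
  | comp (P : Subgroup Ω) (f g h : Ω → Ω) (hf : Ezero F p ℋ P f) (hg : Ezero F p ℋ (img f P) g)
      (hh : ∀ x ∈ P, h x = g (f x)) : Ezero F p ℋ P h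

namespace Ezero

theorem mapTo (hf : Ezero F p ℋ P f) : MapTo F P f := by
  induction hf with
  | base Q α hQ hQS hα P hP g hg =>
    exact ((mapTo_of_mem_autGroup hQS (ppP_le hα)).restrict hP).congr' hg
  | cj P s g hP hs hg => exact (mapTo_cj hP hs).congr' hg
  | comp P f g h _ _ hh ih ih' =>
    exact (ih.comp ih' fun x hx => mem_img_of_mem hx).congr' hh

theorem congr_fun (hf : Ezero F p ℋ P f) (hfg : ∀ x ∈ P, g x = f x) : Ezero F p ℋ P g := by
  cases hf with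
  | base Q α hQ hQS hα _ hP _ hg =>
    exact .base Q α hQ hQS hα P hP g fun x hx => (hfg x hx).trans (hg x hx)
  | cj _ s _ hP hs hg => exact .cj P s g hP hs fun x hx => (hfg x hx).trans (hg x hx)
  | comp _ f₁ g₁ _ hf₁ hg₁ hh =>
    exact .comp P f₁ g₁ g hf₁ hg₁ fun x hx => (hfg x hx).trans (hh x hx)

theorem refl (hP : P ≤ S) : Ezero F p ℋ P (fun x => x) :=
  .cj P 1 _ hP S.one_mem fun x _ => (cj_one x).symm

theorem restrict (hf : Ezero F p ℋ P f) : ∀ {R : Subgroup Ω}, R ≤ P → Ezero F p ℋ R f := by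
  induction hf with
  | base Q α hQ hQS hα P hP g hg =>
    intro R hR
    exact .base Q α hQ hQS hα R (hR.trans hP) g fun x hx => hg x (hR hx)
  | cj P s g hP hs hg =>
    intro R hR
    exact .cj R s g (hR.trans hP) hs fun x hx => hg x (hR hx)
  | comp P f g h _ _ hh ih ih' =>
    intro R hR
    exact .comp R f g h (ih hR) (ih' (img_mono hR)) fun x hx => hh x (hR hx)

theorem comp' (hf : Ezero F p ℋ P f) (hg : Ezero F p ℋ Q g) (hfQ : ∀ x ∈ P, f x ∈ Q) :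
    Ezero F p ℋ P (fun x => g (f x)) :=
  .comp P f g _ hf (hg.restrict (img_le_of_forall hfQ)) fun _ _ => rfl

theorem inverse (hf : Ezero F p ℋ P f) : ∀ {g : Ω → Ω}, (∀ x ∈ P, g (f x) = x) →
    Ezero F p ℋ (img f P) g := by
  induction hf with
  | base Q α hQ hQS hα P hP f hf =>
    intro g hg
    have hm := ((mapTo_of_mem_autGroup hQS (ppP_le hα)).restrict hP).congr' hf
    refine .base Q α⁻¹ hQ hQS (Subgroup.inv_mem _ hα) _
      (img_le_of_forall fun x hx => hf x hx ▸ autFun_mem α (hP hx)) g fun y hy => ?_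
    obtain ⟨x, hx, rfl⟩ := (hm.mem_img_iff le_rfl).mp hy
    rw [hg x hx, hf x hx, autFun_inv_autFun α (hP hx)]
  | cj P s f hP hs hf =>
    intro g hg
    have hm := (mapTo_cj (F := F) hP hs).congr' hf
    refine .cj _ s⁻¹ g hm.img_le (S.inv_mem hs) fun y hy => ?_
    obtain ⟨x, hx, rfl⟩ := (hm.mem_img_iff le_rfl).mp hy
    rw [hg x hx, hf x hx, cj_inv_cancel]
  | comp P f g₁ h hf hg₁ hh ih ih' =>
    intro g hg
    obtain ⟨k, -, hkg, -, -⟩ := hg₁.mapTo.exists_iso_inverse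
    have himg : img h P = img g₁ (img f P) := by
      rw [hf.mapTo.img_img le_rfl]; exact img_congr hh
    rw [himg]
    have h1 := ih' (g := fun z => f (g z)) fun y hy => by
      obtain ⟨x, hx, rfl⟩ := (hf.mapTo.mem_img_iff le_rfl).mp hy
      show f (g (g₁ (f x))) = f x
      rw [← hh x hx, hg x hx]
    obtain ⟨k', -, hk', -, -⟩ := hf.mapTo.exists_iso_inverse
    refine (h1.comp' (ih hk') fun y hy => ?_).congr_fun fun y hy => ?_
    all_goals
      obtain ⟨z, hz, rfl⟩ := (hg₁.mapTo.mem_img_iff le_rfl).mp hy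
      obtain ⟨x, hx, rfl⟩ := (hf.mapTo.mem_img_iff le_rfl).mp hz
    · show f (g (g₁ (f x))) ∈ img f P
      rw [← hh x hx, hg x hx]; exact hz
    · show g (g₁ (f x)) = k' (f (g (g₁ (f x))))
      rw [← hh x hx, hg x hx, hk' x hx]

end Ezero

/-- The family is closed under conjugation and consists of centric subgroups; it contains `S` and
all the essential subgroups. -/
structure IsFamily (F : FusionSystem S) (p : ℕ) (ℋ : Set (Subgroup Ω)) : Prop where
  conj : ∀ P ∈ ℋ, ∀ Q, F.IsConj P Q → Q ∈ ℋ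
  centric : ∀ P ∈ ℋ, F.IsCentric P
  top : S ∈ ℋ
  essential : ∀ P, F.IsEssential p P → P ∈ ℋ
  star : ∀ P, F.IsCentric P → P ∉ ℋ → ∃ Q, F.IsConj P Q ∧
    ¬ (autInducedBy S Q ⊓ (pCore p ↥(F.autGroup Q)).map (F.autGroup Q).subtype ≤ Inn Q)

theorem IsCentric.conj (hP : F.IsCentric P) (hPQ : F.IsConj P Q) : F.IsCentric Q :=
  ⟨isConj_le_right hPQ, fun R hR => hP.2 R (isConj_trans hPQ hR)⟩

theorem isFamily_centric [Finite S] : IsFamily F p {P | F.IsCentric P} where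
  conj _ hP _ hQ := IsCentric.conj hP hQ
  centric _ hP := hP
  top := isCentric_top
  essential _ hP := hP.1
  star _ hP hn := absurd hP hn

variable [Finite S] [Fact p.Prime]

/-- Transport of `Ezero` by an element of `Aut_F(S)`. -/
theorem Ezero.transport (hℋ : IsFamily F p ℋ) (hf : Ezero F p ℋ P f) {a : MulAut S}
    (ha : a ∈ F.autGroup S) :
    Ezero F p ℋ (img (autFun a) P) (fun y => autFun a (f (autFun a⁻¹ y))) := by
  have hm := mapTo_of_mem_autGroup (le_refl S) ha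
  have hinv : ∀ {P : Subgroup Ω}, P ≤ S → ∀ y ∈ img (autFun a) P,
      ∃ x ∈ P, autFun a x = y ∧ autFun a⁻¹ y = x := fun hP y hy => by
    obtain ⟨x, hx, rfl⟩ := (hm.mem_img_iff hP).mp hy
    exact ⟨x, hx, rfl, autFun_inv_autFun a (hP hx)⟩
  induction hf with
  | base Q α hQ hQS hα P hP g hg =>
    have hr := hm.restrict hQS
    refine .base _ _ (hℋ.conj Q hQ _ hr.isConj) hr.img_le (congr_mem_ppP hr rfl hα) _
      (img_mono hP) _ fun y hy => ?_
    obtain ⟨x, hx, rfl, hxy⟩ := hinv (hP.trans hQS) y hy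
    show autFun a (g (autFun a⁻¹ (autFun a x))) = _
    rw [hxy, hg x hx, autFun_congr hr rfl α (hP hx)]
  | cj P s g hP hs hg =>
    refine .cj _ (autFun a s) _ ((hm.restrict hP).img_le) (autFun_mem a hs) fun y hy => ?_
    obtain ⟨x, hx, rfl, hxy⟩ := hinv hP y hy
    show autFun a (g (autFun a⁻¹ (autFun a x))) = _
    rw [hxy, hg x hx, cj_apply, cj_apply, hm.map_conj hs (hP hx)]
  | comp P f g h hf hg hh ih ih' =>
    have hPS := hf.mapTo.le
    refine (ih.comp' ih' fun y hy => ?_).congr_fun fun y hy => ?_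
    all_goals
      obtain ⟨x, hx, rfl, hxy⟩ := hinv hPS y hy
    · show autFun a (f (autFun a⁻¹ (autFun a x))) ∈ img (autFun a) (img f P)
      rw [hxy]
      exact mem_img_of_mem (mem_img_of_mem hx)
    · show autFun a (h (autFun a⁻¹ (autFun a x))) =
        autFun a (g (autFun a⁻¹ (autFun a (f (autFun a⁻¹ (autFun a x))))))
      rw [hxy, autFun_inv_autFun a (hf.mapTo.mem hx), hh x hx]

/-- An element of `Aut_F(S)` can be moved from the left to the right. -/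
theorem Ezero.move (hℋ : IsFamily F p ℋ) {a : MulAut S} (ha : a ∈ F.autGroup S) (hPS : P ≤ S)
    (hg : Ezero F p ℋ Q g) (hPQ : ∀ x ∈ P, autFun a x ∈ Q) :
    ∃ g', Ezero F p ℋ P g' ∧ ∀ x ∈ P, g (autFun a x) = autFun a (g' x) := by
  have h1 := (hg.restrict (img_le_of_forall hPQ)).transport hℋ (Subgroup.inv_mem _ ha)
  have he : img (autFun a⁻¹) (img (autFun a) P) = P := by
    rw [(mapTo_of_mem_autGroup (le_refl S) ha).img_img hPS]
    exact (img_congr fun x hx => autFun_inv_autFun a (hPS hx)).trans img_id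
  rw [he] at h1
  refine ⟨_, h1, fun x hx => ?_⟩
  show g (autFun a x) = autFun a (autFun a⁻¹ (g (autFun a⁻¹⁻¹ x)))
  rw [inv_inv, autFun_autFun_inv a (hg.mapTo.mem (hPQ x hx))]

/-- A map has the form `α ∘ f₀`. -/
def Frat (F : FusionSystem S) (p : ℕ) (ℋ : Set (Subgroup Ω)) (P : Subgroup Ω) (f : Ω → Ω) :
    Prop :=
  ∃ a ∈ F.autGroup S, ∃ f₀, Ezero F p ℋ P f₀ ∧ ∀ x ∈ P, f x = autFun a (f₀ x)

/-- The Frattini decomposition. -/
theorem frat_of_mapTo (hS : IsPGroup p S) (hF : F.IsSaturated p) (hℋ : IsFamily F p ℋ)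
    (hf : MapTo F P f) : Frat F p ℋ P f := by
  have := finite_mulAut S
  refine alperin_prop_strong hS hF (Frat F p ℋ) ?_ ?_ ?_ ?_ ?_ hf
  · rintro P f g - ⟨a, ha, f₀, hf₀, hx⟩ hfg
    exact ⟨a, ha, f₀, hf₀, fun x hxP => by rw [hfg x hxP, hx x hxP]⟩
  · intro P s hP hs
    exact ⟨1, Subgroup.one_mem _, cj s, .cj P s _ hP hs fun _ _ => rfl, fun x hx =>
      (autFun_one (S.mul_mem (S.mul_mem hs (hP hx)) (S.inv_mem hs))).symm⟩
  · rintro P Q f g hf hg hfQ ⟨a, ha, f₀, hf₀, hfx⟩ ⟨b, hb, g₀, hg₀, hgx⟩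
    obtain ⟨g', hg', hg'x⟩ := Ezero.move hℋ ha hf₀.mapTo.img_le hg₀ (P := img f₀ P) fun y hy => by
      obtain ⟨x, hx, rfl⟩ := (hf₀.mapTo.mem_img_iff le_rfl).mp hy
      rw [← hfx x hx]; exact hfQ x hx
    refine ⟨b * a, Subgroup.mul_mem _ hb ha, _, hf₀.comp' hg' fun x hx => mem_img_of_mem hx,
      fun x hx => ?_⟩
    show g (f x) = _
    rw [autFun_mul _ _ (hg'.mapTo.mem (mem_img_of_mem hx)), ← hg'x _ (mem_img_of_mem hx),
      ← hfx x hx, hgx _ (hfQ x hx)]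
  · rintro P f g hf hg hgf ⟨a, ha, f₀, hf₀, hfx⟩
    obtain ⟨k, -, hk, -, -⟩ := hf₀.mapTo.exists_iso_inverse
    have hmem : ∀ y ∈ img f P, autFun a⁻¹ y ∈ img f₀ P := fun y hy => by
      obtain ⟨x, hx, rfl⟩ := (hf.mem_img_iff le_rfl).mp hy
      rw [hfx x hx, autFun_inv_autFun a (hf₀.mapTo.mem hx)]
      exact mem_img_of_mem hx
    obtain ⟨k', hk', hk'x⟩ := Ezero.move hℋ (Subgroup.inv_mem _ ha) hf.img_le (hf₀.inverse hk) hmem
    refine ⟨a⁻¹, Subgroup.inv_mem _ ha, k', hk', fun y hy => ?_⟩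
    rw [← hk'x y hy]
    obtain ⟨x, hx, rfl⟩ := (hf.mem_img_iff le_rfl).mp hy
    rw [hfx x hx, autFun_inv_autFun a (hf₀.mapTo.mem hx), hk x hx, ← hfx x hx, hgf x hx]
  · intro Q hQ hIH β hβ
    rcases hQ with rfl | hQe
    · exact ⟨β, hβ, fun x => x, Ezero.refl le_rfl, fun x _ => rfl⟩
    have hQℋ := hℋ.essential Q hQe
    have hQn := hQe.2.1
    have hQS := hQn.1
    have := finite_of_le hQS
    have := finite_mulAut Q
    rcases eq_or_lt_of_le hQS with rfl | hlt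
    · exact ⟨β, hβ, fun x => x, Ezero.refl le_rfl, fun x _ => rfl⟩
    have hfa := isFullyAutomized_of_isFullyNormalized hS hF hQn
    obtain ⟨W, hW⟩ := hfa.2
    have hA := autInducedBy_le_ppP (F := F) hS hQS
    have hAG := autInducedBy_le_autGroup (F := F) hQS
    have hsyl : IsSylowIn p (autInducedBy S Q) (ppP F p Q) := by
      obtain ⟨D, hAD, hD⟩ := exists_isSylowIn hA (isPGroup_autInducedBy hS Q)
      rw [← ((isSylowIn_iff_exists hAG).mpr ⟨W, hW⟩).eq_of_le hAD (hD.1.trans ppP_le) hD.2.1] at hD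
      exact hD
    set B := (autInducedBy S Q).map (MulAut.conj β).toMonoidHom with hB
    obtain ⟨γ, hγ, hγB⟩ := hsyl.2.2 B (by
      rintro _ ⟨c, hc, rfl⟩; exact normal_ppP hQS hβ (hA hc))
      ((isPGroup_autInducedBy hS Q).map _)
    have hγβ : γ * β ∈ F.autGroup Q := Subgroup.mul_mem _ (ppP_le hγ) hβ
    have hm := mapTo_of_mem_autGroup hQS hγβ
    obtain ⟨g, hg, hgx⟩ := exists_extension (isReceptive_of_isFullyNormalized hS hF hQn) hm
      (img_autFun _) (Y := normalizerIn S Q) le_rfl (by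
      rintro _ ⟨c, hc, rfl⟩
      have hc' : c ∈ autInducedBy S Q := autInducedBy_mono normalizerIn_le Q hc
      have : MulAut.congr (isoEquiv hm (img_autFun _)) c = γ * (β * c * β⁻¹) * γ⁻¹ := by
        refine autFun_ext fun y hy => ?_
        obtain ⟨x, hx, rfl⟩ : ∃ x ∈ Q, autFun (γ * β) x = y :=
          ⟨_, autFun_mem _ hy, autFun_autFun_inv _ hy⟩
        rw [autFun_congr hm _ c hx, show γ * (β * c * β⁻¹) * γ⁻¹ = γ * β * c * (γ * β)⁻¹ by group,
          autFun_mul (γ * β * c) (γ * β)⁻¹ (autFun_mem (γ * β) hx), autFun_inv_autFun _ hx,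
          autFun_mul (γ * β) c hx]
      rw [MulEquiv.toMonoidHom_eq_coe, MonoidHom.coe_coe, this]
      exact hγB _ ⟨c, hc', rfl⟩)
    have hlt' : Nat.card Q < Nat.card (normalizerIn S Q) :=
      card_lt_of_lt (lt_normalizerIn hS hlt) normalizerIn_le
    obtain ⟨a, ha, g₀, hg₀, hgg⟩ := hIH _ g hlt' hg
    have hQN := le_normalizerIn (S := S) hQS
    have h1 : Ezero F p ℋ Q (autFun γ⁻¹) :=
      .base Q γ⁻¹ hQℋ hQS (Subgroup.inv_mem _ hγ) Q le_rfl _ fun _ _ => rfl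
    have hg₀' := hg₀.restrict hQN
    obtain ⟨k, hk, hkx⟩ := Ezero.move hℋ ha hg₀'.mapTo.img_le h1 (P := img g₀ Q) fun y hy => by
      obtain ⟨x, hx, rfl⟩ := (hg₀'.mapTo.mem_img_iff le_rfl).mp hy
      rw [← hgg x (hQN hx), hgx x hx]; exact autFun_mem _ hx
    refine ⟨a, ha, _, hg₀'.comp' hk fun x hx => mem_img_of_mem hx, fun x hx => ?_⟩
    rw [← hkx _ (mem_img_of_mem hx), ← hgg x (hQN hx), hgx x hx, autFun_mul _ _ hx,
      autFun_inv_autFun γ (autFun_mem β hx)]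

/-- All elements of `O^{p'}(Aut_F(P))` are generated. -/
theorem ezero_of_mem_ppP (hS : IsPGroup p S) (hF : F.IsSaturated p) (hℋ : IsFamily F p ℋ)
    (hP : P ≤ S) {γ : MulAut P} (hγ : γ ∈ ppP F p P) : Ezero F p ℋ P (autFun γ) := by
  have := finite_of_le hP
  have := finite_mulAut P
  have := finite_mulAut S
  obtain ⟨c, hc, rfl⟩ := hγ
  induction hc using Subgroup.closure_induction with
  | one => exact (Ezero.refl hP).congr_fun fun x hx => autFun_one hx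
  | mul x y _ _ hx hy =>
    exact (hy.comp' hx fun z hz => autFun_mem _ hz).congr_fun fun z hz => autFun_mul _ _ hz
  | inv x _ hx =>
    have h1 := hx.inverse (g := autFun ((F.autGroup P).subtype x)⁻¹)
      fun z hz => autFun_inv_autFun _ hz
    rwa [img_autFun] at h1
  | mem c hc =>
    obtain ⟨k, hk⟩ := hc
    obtain ⟨P', hPP', hP'n⟩ := exists_isFullyNormalized (F := F) hP
    obtain ⟨τ, hτ, hτP⟩ := isConj_iff.mp hPP'
    have hfa := isFullyAutomized_of_isFullyNormalized hS hF hP'n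
    have hP'S := hP'n.1
    have := finite_of_le hP'S
    have := finite_mulAut P'
    set γ' := MulAut.congr (isoEquiv hτ hτP) (c : MulAut P) with hγ'
    have hγ'm : γ' ∈ F.autGroup P' := (map_congr_autGroup hτ hτP).le ⟨_, c.2, rfl⟩
    have hp : IsPGroup p (Subgroup.zpowers γ') := by
      refine IsPGroup.of_card (n := k) ?_
      rw [Nat.card_zpowers, hγ', MulEquiv.orderOf_eq, Subgroup.orderOf_coe, hk]
    obtain ⟨δ, hδ, hδγ⟩ :=
      exists_conj_le_autInducedBy hfa (Subgroup.zpowers_le.mpr hγ'm) hp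
    obtain ⟨s, hs, hsx⟩ := mem_autInducedBy_iff_cj.mp (hδγ _ (Subgroup.mem_zpowers γ'))
    have hσ : MapTo F P (fun x => autFun δ (τ x)) :=
      hτ.comp (mapTo_of_mem_autGroup hP'S hδ) fun x hx => hτP ▸ mem_img_of_mem hx
    obtain ⟨a, ha, σ₀, hσ₀, hσx⟩ := frat_of_mapTo hS hF hℋ hσ
    obtain ⟨j, -, hj, -, -⟩ := hσ₀.mapTo.exists_iso_inverse
    set t := autFun a⁻¹ s with ht
    have htS : t ∈ S := autFun_mem _ hs
    have key : ∀ x ∈ P, cj t (σ₀ x) = σ₀ (autFun (c : MulAut P) x) := fun x hx => by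
      have hτx : τ x ∈ P' := hτP ▸ mem_img_of_mem hx
      have h1 := hsx _ (autFun_mem δ hτx)
      rw [autFun_mul _ _ (autFun_mem δ hτx), autFun_inv_autFun δ hτx, autFun_mul _ _ hτx, hγ',
        autFun_congr hτ hτP _ hx] at h1
      have hm := mapTo_of_mem_autGroup (le_refl S) ha
      refine hm.inj (S.mul_mem (S.mul_mem htS (hσ₀.mapTo.mem hx)) (S.inv_mem htS))
        (hσ₀.mapTo.mem (autFun_mem _ hx)) ?_
      rw [← hσx _ (autFun_mem _ hx), cj_apply, hm.map_conj htS (hσ₀.mapTo.mem hx), ← hσx x hx,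
        ht, autFun_autFun_inv a hs]
      exact h1.symm
    refine ((hσ₀.comp' (Ezero.cj _ t (cj t) hσ₀.mapTo.img_le htS fun _ _ => rfl)
      fun x hx => mem_img_of_mem hx).comp' (hσ₀.inverse hj) fun x hx => ?_).congr_fun
      fun x hx => ?_
    · show cj t (σ₀ x) ∈ _
      rw [key x hx]; exact mem_img_of_mem (autFun_mem _ hx)
    · show autFun (c : MulAut P) x = j (cj t (σ₀ x))
      rw [key x hx, hj _ (autFun_mem _ hx)]

/-! ### The subsystems attached to subgroups of `Aut_F(S)` -/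

/-- The elements of `Aut_F(S)` which agree with a generated map on a member of the family. -/
def aZero (F : FusionSystem S) (p : ℕ) (ℋ : Set (Subgroup Ω)) : Subgroup (MulAut S) :=
  Subgroup.closure {a | a ∈ F.autGroup S ∧ ∃ P ∈ ℋ, Ezero F p ℋ P (autFun a)}

omit [Finite S] [Fact p.Prime] in
theorem aZero_le : aZero F p ℋ ≤ F.autGroup S :=
  (Subgroup.closure_le _).mpr fun _ h => h.1

/-- The maps `α ∘ f₀` with `α ∈ H`. -/
def InH (F : FusionSystem S) (p : ℕ) (ℋ : Set (Subgroup Ω)) (H : Subgroup (MulAut S))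
    (P : Subgroup Ω) (f : Ω → Ω) : Prop :=
  ∃ a ∈ H, ∃ f₀, Ezero F p ℋ P f₀ ∧ ∀ x ∈ P, f x = autFun a (f₀ x)

/-- The subsystem of maps `α ∘ f₀`, `α ∈ H`. -/
def hSys (F : FusionSystem S) (p : ℕ) (ℋ : Set (Subgroup Ω)) (hℋ : IsFamily F p ℋ)
    (H : Subgroup (MulAut S)) (hH : H ≤ F.autGroup S) [Finite S] [Fact p.Prime] :
    FusionSystem S where
  Hom P := {φ | φ ∈ F.Hom P ∧ InH F p ℋ H P (ev φ)}
  le_of_mem h := F.le_of_mem h.1
  injective_of_mem h := F.injective_of_mem h.1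
  conj_mem {P g} hP hg := by
    refine ⟨F.conj_mem hP hg, 1, Subgroup.one_mem _, cj g, .cj P g _ hP hg fun _ _ => rfl,
      fun x hx => ?_⟩
    show _ = autFun 1 (g * x * g⁻¹)
    rw [ev_apply _ hx, autFun_one (S.mul_mem (S.mul_mem hg (hP hx)) (S.inv_mem hg))]
    rfl
  comp_mem {P Q φ ψ} := by
    rintro ⟨hφ, a, ha, f₀, hf₀, hfx⟩ ⟨hψ, b, hb, g₀, hg₀, hgx⟩ hh
    refine ⟨F.comp_mem hφ hψ hh, ?_⟩
    obtain ⟨g', hg', hg'x⟩ := Ezero.move hℋ (hH ha) hf₀.mapTo.img_le hg₀ (P := img f₀ P)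
      fun y hy => by
        obtain ⟨x, hx, rfl⟩ := (hf₀.mapTo.mem_img_iff le_rfl).mp hy
        rw [← hfx x hx, ev_apply _ hx]; exact hh ⟨x, hx⟩
    refine ⟨b * a, Subgroup.mul_mem _ hb ha, _, hf₀.comp' hg' fun x hx => mem_img_of_mem hx,
      fun x hx => ?_⟩
    rw [autFun_mul _ _ (hg'.mapTo.mem (mem_img_of_mem hx)), ← hg'x _ (mem_img_of_mem hx),
      ← hfx x hx, ← hgx _ (by rw [ev_apply _ hx]; exact hh ⟨x, hx⟩), ev_apply _ hx, ev_apply _ hx,
      ev_apply ψ (hh ⟨x, hx⟩)]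
    rfl
  inv_mem {P φ} := by
    rintro ⟨hφ, a, ha, f₀, hf₀, hfx⟩
    obtain ⟨ψ, hψ, hψφ⟩ := F.inv_mem hφ
    refine ⟨ψ, ⟨hψ, ?_⟩, hψφ⟩
    obtain ⟨k, -, hk, -, -⟩ := hf₀.mapTo.exists_iso_inverse
    have hmem : ∀ y ∈ φ.range, autFun a⁻¹ y ∈ img f₀ P := by
      rintro _ ⟨x, rfl⟩
      rw [← ev_coe φ x, hfx x x.2, autFun_inv_autFun a (hf₀.mapTo.mem x.2)]
      exact mem_img_of_mem x.2
    obtain ⟨k', hk', hk'x⟩ := Ezero.move hℋ (Subgroup.inv_mem _ (hH ha)) (F.le_of_mem hψ).1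
      (hf₀.inverse hk) hmem
    refine ⟨a⁻¹, Subgroup.inv_mem _ ha, k', hk', ?_⟩
    rintro _ ⟨x, rfl⟩
    rw [← hk'x _ ⟨x, rfl⟩, ev_apply ψ ⟨x, rfl⟩, hψφ, ← ev_coe φ x, hfx x x.2,
      autFun_inv_autFun a (hf₀.mapTo.mem x.2), hk x x.2]

section Sys

variable (hℋ : IsFamily F p ℋ) {H : Subgroup (MulAut S)} (hH : H ≤ F.autGroup S)

theorem mapTo_hSys_iff : MapTo (hSys F p ℋ hℋ H hH) P f ↔ MapTo F P f ∧ InH F p ℋ H P f := by
  constructor
  · rintro ⟨φ, ⟨hφ, a, ha, f₀, hf₀, hx⟩, hφf⟩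
    exact ⟨⟨φ, hφ, hφf⟩, a, ha, f₀, hf₀, fun x hxP => by
      rw [← hx x hxP, ev_apply φ hxP, hφf ⟨x, hxP⟩]⟩
  · rintro ⟨⟨φ, hφ, hφf⟩, a, ha, f₀, hf₀, hx⟩
    exact ⟨φ, ⟨hφ, a, ha, f₀, hf₀, fun x hxP => by
      rw [ev_apply φ hxP, hφf ⟨x, hxP⟩]; exact hx x hxP⟩, hφf⟩

theorem isSubsystemOf_hSys : (hSys F p ℋ hℋ H hH).IsSubsystemOf F := fun _ _ h => h.1

theorem mapTo_hSys_of_ezero (hf : Ezero F p ℋ P f) : MapTo (hSys F p ℋ hℋ H hH) P f :=
  (mapTo_hSys_iff hℋ hH).mpr ⟨hf.mapTo, 1, Subgroup.one_mem _, f, hf,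
    fun _ hx => (autFun_one (hf.mapTo.mem hx)).symm⟩

theorem mapTo_hSys_of_mem {a : MulAut S} (ha : a ∈ H) : MapTo (hSys F p ℋ hℋ H hH) S (autFun a) :=
  (mapTo_hSys_iff hℋ hH).mpr ⟨mapTo_of_mem_autGroup le_rfl (hH ha), a, ha, _, Ezero.refl le_rfl,
    fun _ _ => rfl⟩

/-- Every map of `F` is one of the subsystem followed by an element of `Aut_F(S)`. -/
theorem frattini_hSys (hS : IsPGroup p S) (hF : F.IsSaturated p) (hf : MapTo F P f) :
    ∃ a ∈ F.autGroup S, ∃ f₀, MapTo (hSys F p ℋ hℋ H hH) P f₀ ∧ ∀ x ∈ P, f x = autFun a (f₀ x) :=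
  let ⟨a, ha, f₀, hf₀, hx⟩ := frat_of_mapTo hS hF hℋ hf
  ⟨a, ha, f₀, mapTo_hSys_of_ezero hℋ hH hf₀, hx⟩

theorem ppP_le_hSys (hS : IsPGroup p S) (hF : F.IsSaturated p) (hP : P ≤ S) :
    ppP F p P ≤ (hSys F p ℋ hℋ H hH).autGroup P := fun _ hγ =>
  (mem_autGroup_iff hP).mpr (mapTo_hSys_of_ezero hℋ hH (ezero_of_mem_ppP hS hF hℋ hP hγ))

theorem hasPrimeToPIndex_hSys (hS : IsPGroup p S) (hF : F.IsSaturated p) :
    (hSys F p ℋ hℋ H hH).HasPrimeToPIndexIn F p :=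
  ⟨isSubsystemOf_hSys hℋ hH, fun _ hP => ppP_le_hSys hℋ hH hS hF hP⟩

theorem card_normalizerIn_img {a : MulAut S} (ha : a ∈ F.autGroup S) (hQ : Q ≤ S) :
    img (autFun a) (normalizerIn S Q) = normalizerIn S (img (autFun a) Q) := by
  have hm := mapTo_of_mem_autGroup (le_refl S) ha
  refine le_antisymm (img_le_of_forall fun z hz => hm.map_mem_normalizerIn hQ hz.1 hz) fun y hy => ?_
  have hm' := mapTo_of_mem_autGroup (le_refl S) (Subgroup.inv_mem _ ha)
  have h1 := hm'.map_mem_normalizerIn (hm.restrict hQ).img_le hy.1 hy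
  have he : img (autFun a⁻¹) (img (autFun a) Q) = Q := by
    rw [hm.img_img hQ]
    exact (img_congr fun x hx => autFun_inv_autFun a (hQ hx)).trans img_id
  rw [he] at h1
  rw [← autFun_autFun_inv a hy.1]
  exact mem_img_of_mem h1

theorem isCentric_hSys_iff (hS : IsPGroup p S) (hF : F.IsSaturated p) :
    (hSys F p ℋ hℋ H hH).IsCentric P ↔ F.IsCentric P := by
  have hsub := isSubsystemOf_hSys hℋ hH
  refine ⟨fun hc => ⟨hc.1, fun R hR z hz => ?_⟩,
    fun hc => ⟨hc.1, fun R hR => hc.2 R (IsSubsystemOf.isConj hsub hR)⟩⟩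
  obtain ⟨f, hf, rfl⟩ := isConj_iff.mp hR
  obtain ⟨a, ha, f₀, hf₀, hfx⟩ := frattini_hSys hℋ hH hS hF hf
  have hm' := mapTo_of_mem_autGroup (le_refl S) (Subgroup.inv_mem _ ha)
  have h1 := hm'.map_mem_centralizerIn hf.img_le hz.1 hz
  have he : img (autFun a⁻¹) (img f P) = img f₀ P := by
    rw [hf.img_img le_rfl]
    exact img_congr fun x hx => by rw [hfx x hx, autFun_inv_autFun a (hf₀.mem hx)]
  rw [he] at h1
  obtain ⟨x, hx, hxz⟩ := (hf₀.mem_img_iff le_rfl).mp (hc.2 _ hf₀.isConj h1)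
  rw [← autFun_autFun_inv a hz.1, ← hxz, ← hfx x hx]
  exact mem_img_of_mem hx

theorem isSaturated_hSys (hS : IsPGroup p S) (hF : F.IsSaturated p) (h0 : aZero F p ℋ ≤ H) :
    (hSys F p ℋ hℋ H hH).IsSaturated p := by
  set E := hSys F p ℋ hℋ H hH with hE
  have hsub := isSubsystemOf_hSys hℋ hH
  refine isSaturated_of_generated hS (ℋ := ℋ)
    (fun P hP Q hQ => hℋ.conj P hP Q (IsSubsystemOf.isConj hsub hQ)) ?_ ?_ ?_
  · intro P hP
    have hPS := (hℋ.centric P hP).1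
    obtain ⟨Q₁, hQ₁, hQ₁n⟩ := exists_isFullyNormalized (F := F) hPS
    obtain ⟨f, hf, hfQ⟩ := isConj_iff.mp hQ₁
    obtain ⟨a, ha, f₀, hf₀, hfx⟩ := frattini_hSys hℋ hH hS hF hf
    set Q := img f₀ P with hQd
    have hQF : F.IsConj P Q := (IsSubsystemOf.mapTo hsub hf₀).isConj
    have hQ : Q ∈ ℋ := hℋ.conj P hP Q hQF
    have hQS := hf₀.img_le
    have := finite_of_le hQS
    have := finite_mulAut Q
    have hQn : F.IsFullyNormalized Q := by
      refine ⟨hQS, fun R hR => ?_⟩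
      refine (hQ₁n.2 R (isConj_trans (isConj_trans (isConj_symm hQ₁) hQF) hR)).trans ?_
      have hQ₁e : Q₁ = img (autFun a) Q := by
        rw [← hfQ, hQd, hf₀.img_img le_rfl]; exact img_congr hfx
      rw [hQ₁e, ← card_normalizerIn_img ha hQS,
        ((mapTo_of_mem_autGroup (le_refl S) ha).restrict normalizerIn_le).card_img le_rfl]
    refine ⟨Q, hf₀.isConj, (isFullyAutomized_iff hS).mpr ⟨hQS, fun hdvd => ?_⟩,
      isReceptive_iff.mpr ⟨hQS, ?_⟩⟩
    · have h1 := ((isFullyAutomized_iff hS).mp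
        (isFullyAutomized_of_isFullyNormalized hS hF hQn)).2
      refine h1 (hdvd.trans ?_)
      rw [← Subgroup.relIndex_mul_relIndex (autInducedBy S Q) _ _
        (autInducedBy_le_autGroup hQS) (IsSubsystemOf.autGroup_le hsub Q)]
      exact dvd_mul_right _ _
    · intro R g hg hgQ
      have hgF := IsSubsystemOf.mapTo hsub hg
      obtain ⟨g', hg', hg'x⟩ :=
        (isReceptive_iff.mp (isReceptive_of_isFullyNormalized hS hF hQn)).2 R g hgF hgQ
      refine ⟨g', (mapTo_hSys_iff hℋ hH).mpr ⟨hg', ?_⟩, hg'x⟩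
      obtain ⟨b, hb, g₀, hg₀, hgx⟩ := frat_of_mapTo hS hF hℋ hg'
      obtain ⟨-, c, hc, k₀, hk₀, hkx⟩ := (mapTo_hSys_iff hℋ hH).mp hg
      have hRle : R ≤ extSub S hgF := le_extSub _
      have hg₀R := hg₀.restrict hRle
      obtain ⟨j, -, hj, -, -⟩ := hg₀R.mapTo.exists_iso_inverse
      have hmem : img g₀ R ∈ ℋ :=
        hℋ.conj Q hQ _ (isConj_trans (isConj_symm (hgQ ▸ hgF.isConj)) hg₀R.mapTo.isConj)
      have hcb : c⁻¹ * b ∈ H := by
        refine h0 (Subgroup.subset_closure ⟨Subgroup.mul_mem _ (Subgroup.inv_mem _ (hH hc)) hb,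
          img g₀ R, hmem, ((hg₀R.inverse hj).comp' hk₀ fun y hy => ?_).congr_fun fun y hy => ?_⟩)
        all_goals obtain ⟨x, hx, rfl⟩ := (hg₀R.mapTo.mem_img_iff le_rfl).mp hy
        · rw [hj x hx]; exact hx
        · show autFun (c⁻¹ * b) (g₀ x) = k₀ (j (g₀ x))
          rw [hj x hx, autFun_mul _ _ (hg₀R.mapTo.mem hx), ← hgx x (hRle hx), hg'x x hx, hkx x hx,
            autFun_inv_autFun c (hk₀.mapTo.mem hx)]
      refine ⟨b, ?_, g₀, hg₀, hgx⟩
      have := Subgroup.mul_mem _ hc hcb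
      rwa [mul_inv_cancel_left] at this
  · intro D hD P φ hφ
    have hbase : ∀ {P : Subgroup Ω} {f : Ω → Ω}, P ∈ ℋ → MapTo E P f → MapTo D P f :=
      fun hP ⟨φ, hφ, hφf⟩ => ⟨φ, hD _ hP hφ, hφf⟩
    have hzero : ∀ {P : Subgroup Ω} {f : Ω → Ω}, Ezero F p ℋ P f → MapTo D P f := by
      intro P f hf
      induction hf with
      | base Q α hQ hQS hα P hP g hg =>
        exact ((hbase hQ (mapTo_hSys_of_ezero hℋ hH
          (.base Q α hQ hQS hα Q le_rfl _ fun _ _ => rfl))).restrict hP).congr' hg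
      | cj P s g hP hs hg => exact (mapTo_cj hP hs).congr' hg
      | comp P f g h _ _ hh ih ih' =>
        exact (ih.comp ih' fun x hx => mem_img_of_mem hx).congr' hh
    obtain ⟨-, a, ha, f₀, hf₀, hfx⟩ := (mapTo_hSys_iff hℋ hH).mp (mapTo_ev hφ)
    refine mapTo_ev_iff.mp (((hzero hf₀).comp (hbase hℋ.top (mapTo_hSys_of_mem hℋ hH ha))
      fun x hx => hf₀.mapTo.mem hx).congr' hfx)
  · intro P hP hn
    have hPF := (isCentric_hSys_iff hℋ hH hS hF).mp hP
    obtain ⟨Q, hPQ, hne⟩ := hℋ.star P hPF hn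
    obtain ⟨α, ⟨hα, hαc⟩, hαI⟩ := SetLike.not_le_iff_exists.mp hne
    obtain ⟨f, hf, rfl⟩ := isConj_iff.mp hPQ
    obtain ⟨a, ha, f₀, hf₀, hfx⟩ := frattini_hSys hℋ hH hS hF hf
    have hQ₀S := hf₀.img_le
    have hm' := mapTo_of_mem_autGroup (le_refl S) (Subgroup.inv_mem _ ha)
    have hQS := hf.img_le
    have hr := hm'.restrict hQS
    have he : img (autFun a⁻¹) (img f P) = img f₀ P := by
      rw [hf.img_img le_rfl]
      exact img_congr fun x hx => by rw [hfx x hx, autFun_inv_autFun a (hf₀.mem hx)]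
    obtain ⟨y, hy, hyα⟩ := mem_autInducedBy_iff_cj.mp hα
    set α₀ := MulAut.congr (isoEquiv hr he) α with hα₀
    have hα₀S : α₀ ∈ autInducedBy S (img f₀ P) := by
      refine mem_autInducedBy_iff_cj.mpr ⟨autFun a⁻¹ y, autFun_mem _ hy, fun z hz => ?_⟩
      obtain ⟨x, hx, rfl⟩ := (hr.mem_img_iff le_rfl).mp (he.symm ▸ hz : z ∈ img _ (img f P))
      rw [hα₀, autFun_congr hr he α hx, hyα x hx, cj_apply, cj_apply, hm'.map_conj hy (hQS hx)]
    have := finite_of_le hQS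
    have := finite_of_le hQ₀S
    have := finite_mulAut ↥(img f P)
    have := finite_mulAut ↥(img f₀ P)
    refine ⟨img f₀ P, hf₀.isConj, fun hle => hαI ?_⟩
    have h1 := hle ⟨hα₀S, mem_pCore_transport (MulAut.congr (isoEquiv hr he)).symm
      (F.autGroup (img f₀ P)) (F.autGroup (img f P)) (E.autGroup (img f₀ P))
      (IsSubsystemOf.autGroup_le hsub _) ?_ (autInducedBy_le_autGroup hQ₀S hα₀S) ?_⟩
    · obtain ⟨z, hz, hzx⟩ :=
        mem_autInducedBy_iff_cj.mp ((inn_eq_autInducedBy _).le h1)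
      obtain ⟨x₀, hx₀, rfl⟩ := (hr.mem_img_iff le_rfl).mp (he.symm ▸ hz : z ∈ img _ (img f P))
      refine (inn_eq_autInducedBy _).ge (mem_autInducedBy_iff_cj.mpr ⟨x₀, hx₀, fun x hx => ?_⟩)
      refine hr.inj (autFun_mem α hx)
        ((img f P).mul_mem ((img f P).mul_mem hx₀ hx) ((img f P).inv_mem hx₀)) ?_
      rw [cj_apply, hr.map_conj hx₀ hx, ← cj_apply,
        ← hzx _ (he ▸ mem_img_of_mem (f := autFun a⁻¹) hx), hα₀, autFun_congr hr he α hx]
    · rw [← map_congr_autGroup hr he, Subgroup.map_map]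
      convert Subgroup.map_id (F.autGroup (img f P)) using 2
      ext b; simp
    · rw [hα₀, MulEquiv.symm_apply_apply]; exact hαc

end Sys

end Cfsg.Agent.Fusion
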