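import Cfsg.Agent.Lib.Fusion.PrimeIndex

/-!
`O^{p'}` of a saturated fusion system.
-/

set_option autoImplicit false

namespace Cfsg.Agent.Fusion

open Cfsg.FusionSystem (centralizerIn normalizerIn)

variable {Ω : Type*} [Group Ω] {S : Subgroup Ω} {F : FusionSystem S}
variable {P Q R : Subgroup Ω} {f g h : Ω → Ω} {p : ℕ} {ℋ : Set (Subgroup Ω)}
variable [Finite S] [Fact p.Prime]

/-- A saturated subsystem climbs from a centric subgroup to `S`. -/
theorem mapTo_top_of_centric' {E : FusionSystem S} (hS : IsPGroup p S) (hF : F.IsSaturated p)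
    (hE : E.IsSaturated p) (hEF : E.IsSubsystemOf F) (hf : MapTo F S f) (hR : F.IsCentric R)
    (hRE : MapTo E R f) : MapTo E S f := by
  induction hk : Nat.card S - Nat.card R using Nat.strong_induction_on generalizing R with
  | h k ih =>
  rcases eq_or_lt_of_le hR.1 with rfl | hlt
  · exact hRE
  set R' := img f R with hR'
  have hR'F : F.IsCentric R' := IsCentric.conj hR (hf.restrict hR.1).isConj
  have hR'E : E.IsCentric R' :=
    ⟨hR'F.1, fun Q hQ => hR'F.2 Q (IsSubsystemOf.isConj hEF hQ)⟩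
  obtain ⟨ψ, hψ, hψx⟩ := (isReceptive_iff.mp
    (isReceptive_of_isFullyCentralized hS hE (isFullyCentralized_of_isCentric hR'E))).2 R f hRE rfl
  set R₁ := normalizerIn S R with hR₁
  have hlt' : R < R₁ := lt_normalizerIn hS hlt
  have hR₁S : R₁ ≤ S := normalizerIn_le
  have hext : R₁ ≤ extSub S hRE := fun z hz =>
    ⟨hz, f z, hf.mem hz.1, fun x hx => hf.map_conj hz.1 (hR.1 hx)⟩
  have hψ₁ := hψ.restrict hext
  obtain ⟨z, hz, -, hzy⟩ := eq_conj_of_eqOn_centric hS hF hR hlt'.le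
    (IsSubsystemOf.mapTo hEF hψ₁) (hf.restrict hR₁S) hψx
  have hzR₁ := hlt'.le hz
  have hfE : MapTo E R₁ f :=
    ((mapTo_cj hR₁S (hR.1 hz)).comp hψ₁ fun y hy =>
      Subgroup.mul_mem _ (Subgroup.mul_mem _ hzR₁ hy) (Subgroup.inv_mem _ hzR₁)).congr'
      fun y hy => hzy y hy
  refine ih _ ?_ (isCentric_mono hR hlt'.le hR₁S) hfE rfl
  have h1 : Nat.card R < Nat.card R₁ := card_lt_of_lt hlt' hR₁S
  have h2 : Nat.card R₁ ≤ Nat.card S := Subgroup.card_le_of_le hR₁S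
  omega

omit [Finite S] [Fact p.Prime] in
theorem mapTo_of_ezero {T : Subgroup Ω} (D : FusionSystem T) (hST : S ≤ T)
    (hD : ∀ Q : Subgroup Ω, Q ∈ ℋ → Q ≤ S → ppP F p Q ≤ D.autGroup Q) (hf : Ezero F p ℋ P f) :
    MapTo D P f := by
  induction hf with
  | base Q α hQ hQS hα P hP g hg =>
    exact ((mapTo_of_mem_autGroup (hQS.trans hST) (hD Q hQ hQS hα)).restrict hP).congr' hg
  | cj P s g hP hs hg => exact (mapTo_cj (hP.trans hST) (hST hs)).congr' hg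
  | comp P f g h _ _ hh ih ih' =>
    exact (ih.comp ih' fun x hx => mem_img_of_mem hx).congr' hh

/-- The least subsystem of index prime to `p`. -/
theorem exists_isPPrimeResidual (hS : IsPGroup p S) (hF : F.IsSaturated p) :
    ∃ E : FusionSystem S, F.IsPPrimeResidual p E := by
  have hℋ : IsFamily F p {P : Subgroup Ω | F.IsCentric P} := isFamily_centric
  refine ⟨hSys F p _ hℋ (aZero F p _) aZero_le,
    isSaturated_hSys hℋ aZero_le hS hF le_rfl, hasPrimeToPIndex_hSys hℋ aZero_le hS hF,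
    fun D hD hDi P φ hφ => ?_⟩
  have hD0 : ∀ {P : Subgroup Ω} {f : Ω → Ω},
      Ezero F p {P : Subgroup Ω | F.IsCentric P} P f → MapTo D P f :=
    fun hf => mapTo_of_ezero D le_rfl (fun Q _ hQS => hDi.2 Q hQS) hf
  obtain ⟨-, a, ha, f₀, hf₀, hfx⟩ := (mapTo_hSys_iff hℋ aZero_le).mp (mapTo_ev hφ)
  have ha' : a ∈ D.autGroup S := by
    refine ((Subgroup.closure_le _).mpr ?_ : aZero F p _ ≤ D.autGroup S) ha
    rintro b ⟨hb, Q, hQ, hQb⟩
    exact (mem_autGroup_iff le_rfl).mpr (mapTo_top_of_centric' hS hF hD hDi.1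
      (mapTo_of_mem_autGroup le_rfl hb) hQ (hD0 hQb))
  exact mapTo_ev_iff.mp (((hD0 hf₀).comp (mapTo_of_mem_autGroup le_rfl ha')
    fun x hx => hf₀.mapTo.mem hx).congr' hfx)

/-- A subsystem containing `O^{p'}` of the automizers of the centric subgroups has index prime
to `p`. -/
theorem primeToPIndex_of_centric (hS : IsPGroup p S) (hF : F.IsSaturated p) (E : FusionSystem S)
    (hEF : E.IsSubsystemOf F) (h : ∀ P : Subgroup Ω, F.IsCentric P → ppP F p P ≤ E.autGroup P) :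
    E.HasPrimeToPIndexIn F p ∧
      (∀ (P : Subgroup Ω) (φ : P →* Ω), φ ∈ F.Hom P → ∃ α ∈ F.autGroup S, ∃ φ₀ ∈ E.Hom P,
        ∀ (x : P) (hx : φ₀ x ∈ S), φ x = ((α ⟨φ₀ x, hx⟩ : S) : Ω)) ∧
      ∀ P : Subgroup Ω, E.IsCentric P ↔ F.IsCentric P := by
  have hℋ : IsFamily F p {P : Subgroup Ω | F.IsCentric P} := isFamily_centric
  have hE0 : ∀ {P : Subgroup Ω} {f : Ω → Ω},
      Ezero F p {P : Subgroup Ω | F.IsCentric P} P f → MapTo E P f :=
    fun hf => mapTo_of_ezero E le_rfl (fun Q hQ _ => h Q hQ) hf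
  have hfrat : ∀ {P : Subgroup Ω} {f : Ω → Ω}, MapTo F P f → ∃ a ∈ F.autGroup S, ∃ f₀,
      MapTo E P f₀ ∧ ∀ x ∈ P, f x = autFun a (f₀ x) := fun hf =>
    let ⟨a, ha, f₀, hf₀, hx⟩ := frat_of_mapTo hS hF hℋ hf
    ⟨a, ha, f₀, hE0 hf₀, hx⟩
  refine ⟨⟨hEF, fun P hP γ hγ => (mem_autGroup_iff hP).mpr
    (hE0 (ezero_of_mem_ppP hS hF hℋ hP hγ))⟩, fun P φ hφ => ?_, fun P => ?_⟩
  · obtain ⟨a, ha, f₀, ⟨φ₀, hφ₀, hφ₀x⟩, hx⟩ := hfrat (mapTo_ev hφ)
    exact ⟨a, ha, φ₀, hφ₀, fun x hxS => by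
      rw [← autFun_apply a hxS, hφ₀x, ← hx x x.2, ev_coe]⟩
  · refine ⟨fun hc => ⟨hc.1, fun R hR z hz => ?_⟩,
      fun hc => ⟨hc.1, fun R hR => hc.2 R (IsSubsystemOf.isConj hEF hR)⟩⟩
    obtain ⟨f, hf, rfl⟩ := isConj_iff.mp hR
    obtain ⟨a, ha, f₀, hf₀, hfx⟩ := hfrat hf
    have hm' := mapTo_of_mem_autGroup (le_refl S) (Subgroup.inv_mem _ ha)
    have h1 := hm'.map_mem_centralizerIn hf.img_le hz.1 hz
    have he : img (autFun a⁻¹) (img f P) = img f₀ P := by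
      rw [hf.img_img le_rfl]
      exact img_congr fun x hx => by rw [hfx x hx, autFun_inv_autFun a (hf₀.mem hx)]
    rw [he] at h1
    obtain ⟨x, hx, hxz⟩ := (hf₀.mem_img_iff le_rfl).mp (hc.2 _ hf₀.isConj h1)
    rw [← autFun_autFun_inv a hz.1, ← hxz, ← hfx x hx]
    exact mem_img_of_mem hx

end Cfsg.Agent.Fusion
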