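import Cfsg.Agent.Lib.Fusion.NormalResidual
import Cfsg.Agent.Lib.Fusion.DirectFactor

/-!
A system is weakly normal in itself; the `p'`-residual is weakly normal.
-/

set_option autoImplicit false

namespace Cfsg.Agent.Fusion

variable {Ω : Type*} [Group Ω] {S : Subgroup Ω} {F E : FusionSystem S} {p : ℕ}
variable [Finite S] [Fact p.Prime]

theorem isWeaklyNormalIn_self (hF : F.IsSaturated p) : F.IsWeaklyNormalIn F p := by
  refine ⟨hF, hF, isInvariantIn_of_mapTo (fun P => Set.Subset.rfl)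
    ⟨le_rfl, fun R _ φ hφ x => (F.le_of_mem hφ).2 x⟩ (fun P f hP hf α hα => ?_)
    fun P f hP hf => ⟨1, Subgroup.one_mem _, f, hf, fun x hx => (autFun_one (hf.mem hx)).symm⟩⟩
  have ha := mapTo_of_mem_autGroup le_rfl hα
  obtain ⟨k, hk, hka, -, -⟩ := (ha.restrict hP).exists_iso_inverse
  have hkm : ∀ y ∈ img (autFun α) P, k y ∈ P := by
    intro y hy
    obtain ⟨x, hx, rfl⟩ := (ha.mem_img_iff hP).mp hy
    rw [hka x hx]; exact hx
  exact ⟨_, (hk.comp hf hkm).comp ha fun y hy => hf.mem (hkm y hy),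
    fun x hx => by rw [hka x hx]⟩

/-- The `p'`-residual is weakly normal. -/
theorem pPrimeResidual_isWeaklyNormalIn (hS : IsPGroup p S) (hF : F.IsSaturated p)
    (hE : F.IsPPrimeResidual p E) : E.IsWeaklyNormalIn F p := by
  have hℋ : IsFamily F p {P : Subgroup Ω | F.IsCentric P} := isFamily_centric
  set H := aZero F p {P : Subgroup Ω | F.IsCentric P} with hH
  have hle := hE.2.2 _ (isSaturated_hSys hℋ aZero_le hS hF le_rfl)
    (hasPrimeToPIndex_hSys hℋ aZero_le hS hF)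
  have hD0 : ∀ {P : Subgroup Ω} {f : Ω → Ω},
      Ezero F p {P : Subgroup Ω | F.IsCentric P} P f → MapTo E P f :=
    fun hf => mapTo_of_ezero E le_rfl (fun Q _ hQS => hE.2.1.2 Q hQS) hf
  have haE : H ≤ E.autGroup S := by
    refine (Subgroup.closure_le _).mpr ?_
    rintro b ⟨hb, Q, hQ, hQb⟩
    exact (mem_autGroup_iff le_rfl).mpr (mapTo_top_of_centric' hS hF hE.1 hE.2.1.1
      (mapTo_of_mem_autGroup le_rfl hb) hQ (hD0 hQb))
  have hge : ∀ {P : Subgroup Ω} {a : MulAut S} {f₀ f : Ω → Ω}, a ∈ H →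
      Ezero F p {P : Subgroup Ω | F.IsCentric P} P f₀ → (∀ x ∈ P, f x = autFun a (f₀ x)) →
      MapTo E P f := fun ha hf₀ hx => ((hD0 hf₀).comp (mapTo_of_mem_autGroup le_rfl (haE ha))
    fun x hx' => hf₀.mapTo.mem hx').congr' hx
  have hconj : ∀ {a : MulAut S}, a ∈ F.autGroup S → ∀ h ∈ H, a * h * a⁻¹ ∈ H := by
    intro a ha h hh
    rw [hH] at hh ⊢
    induction hh using Subgroup.closure_induction with
    | one => simp
    | mul x y _ _ hx hy =>
      rw [show a * (x * y) * a⁻¹ = a * x * a⁻¹ * (a * y * a⁻¹) by group]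
      exact Subgroup.mul_mem _ hx hy
    | inv x _ hx =>
      rw [show a * x⁻¹ * a⁻¹ = (a * x * a⁻¹)⁻¹ by group]
      exact Subgroup.inv_mem _ hx
    | mem b hb =>
      obtain ⟨hb, Q, hQ, hQb⟩ := hb
      refine Subgroup.subset_closure ⟨Subgroup.mul_mem _ (Subgroup.mul_mem _ ha hb)
        (Subgroup.inv_mem _ ha), _, hℋ.conj Q hQ _
          ((mapTo_of_mem_autGroup le_rfl ha).restrict hQ.1).isConj, ?_⟩
      refine (hQb.transport hℋ ha).congr_fun fun y hy => ?_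
      have hyS := ((mapTo_of_mem_autGroup (le_refl S) ha).restrict hQ.1).img_le hy
      rw [autFun_mul _ _ hyS, autFun_mul _ _ (autFun_mem _ hyS)]
  refine ⟨hE.1, hF, isInvariantIn_of_mapTo hE.2.1.1
    ⟨le_rfl, fun R _ φ hφ x => (F.le_of_mem hφ).2 x⟩ (fun P f hP hf α hα => ?_) fun P f hP hf => ?_⟩
  · obtain ⟨φ, hφ, hφf⟩ := id hf
    obtain ⟨-, a, ha, f₀, hf₀, hfx⟩ := (mapTo_hSys_iff hℋ aZero_le).mp ⟨φ, hle P hφ, hφf⟩
    refine ⟨fun y => autFun α (f (autFun α⁻¹ y)), hge (hconj hα a ha) (hf₀.transport hℋ hα)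
      (fun y hy => ?_), fun x hx => ?_⟩
    · obtain ⟨x, hx, rfl⟩ := ((mapTo_of_mem_autGroup le_rfl hα).mem_img_iff hP).mp hy
      have hm := hf₀.mapTo.mem hx
      rw [autFun_inv_autFun α (hP hx), hfx x hx, autFun_mul _ _ (autFun_mem _ hm),
        autFun_mul _ _ (autFun_mem _ (autFun_mem _ hm)), autFun_inv_autFun α hm]
    · show autFun α (f (autFun α⁻¹ (autFun α x))) = autFun α (f x)
      rw [autFun_inv_autFun α (hP hx)]
  · obtain ⟨a, ha, f₀, hf₀, hx⟩ := frat_of_mapTo hS hF hℋ hf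
    exact ⟨a, ha, f₀, hD0 hf₀, hx⟩

end Cfsg.Agent.Fusion
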