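import Cfsg.Agent.Lib.Fusion.NormalTwist

/-!
Normal subsystems of index prime to `p` over a normal subsystem: the assembled statement.
-/

set_option autoImplicit false

namespace Cfsg.Agent.Fusion

open Cfsg.FusionSystem (centralizerIn normalizerIn)

variable {Ω : Type*} [Group Ω] {S T : Subgroup Ω} {F : FusionSystem S} {E : FusionSystem T}
variable {P Q R : Subgroup Ω} {f g : Ω → Ω} {p : ℕ}
variable [Finite S] [Fact p.Prime] {K : Subgroup (MulAut T)}

omit [Finite S] [Fact p.Prime] in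
/-- The automorphisms of `S` restricting into `K` on `T`. -/
theorem exists_kerSub (hTS : T ≤ S) (hKle : K ≤ F.autGroup T) :
    ∃ H : Subgroup (MulAut S), ∀ a, a ∈ H ↔
      a ∈ F.autGroup S ∧ ∃ β ∈ K, ∀ t ∈ T, autFun a t = autFun β t := by
  refine ⟨{
    carrier := {a | a ∈ F.autGroup S ∧ ∃ β ∈ K, ∀ t ∈ T, autFun a t = autFun β t}
    one_mem' := ⟨Subgroup.one_mem _, 1, K.one_mem, fun t ht => by
      rw [autFun_one (hTS ht), autFun_one ht]⟩
    mul_mem' := ?_
    inv_mem' := ?_ }, fun _ => Iff.rfl⟩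
  · rintro a b ⟨ha, β, hβ, hax⟩ ⟨hb, γ, hγ, hbx⟩
    refine ⟨Subgroup.mul_mem _ ha hb, β * γ, K.mul_mem hβ hγ, fun t ht => ?_⟩
    rw [autFun_mul _ _ (hTS ht), autFun_mul _ _ ht, hbx t ht, hax _ (autFun_mem γ ht)]
  · rintro a ⟨ha, β, hβ, hax⟩
    refine ⟨Subgroup.inv_mem _ ha, β⁻¹, K.inv_mem hβ, fun t ht => ?_⟩
    have h1 := hax _ (autFun_mem β⁻¹ ht)
    rw [autFun_autFun_inv β ht] at h1
    conv_lhs => rw [← h1]
    exact autFun_inv_autFun a (hTS (autFun_mem β⁻¹ ht))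

/-- The subsystem cut out by `K`. -/
theorem exists_twisted (hS : IsPGroup p S) (hE : E.IsWeaklyNormalIn F p) (hK : TwistSub F p E K)
    (hne : ¬ F.autGroup T ≤ K) :
    ∃ F₀ : FusionSystem S, F₀.IsNormalIn F p ∧ ¬ (∀ P : Subgroup Ω, F₀.Hom P = F.Hom P) ∧
      E.IsSubsystemOf F₀ ∧
      (∀ α : MulAut ↥S, α ∈ F₀.autGroup S ↔
        α ∈ F.autGroup S ∧ ∃ β ∈ K, ∀ t ∈ T, autFun α t = autFun β t) ∧
      ∀ R : FusionSystem S, F.IsPPrimeResidual p R → R.IsSubsystemOf F₀ := by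
  obtain ⟨hEs, hF, hi⟩ := id hE
  have hsc := hi.2.1
  have hTS := hsc.1
  have := finite_of_le hTS
  have := finite_mulAut T
  have := finite_mulAut S
  have hℋ := isFamily_twist (p := p) hS hF hsc
  obtain ⟨H, hH⟩ := exists_kerSub hTS hK.le_aut
  have hHle : H ≤ F.autGroup S := fun a ha => ((hH a).mp ha).1
  have hres : ∀ {a : MulAut S}, a ∈ F.autGroup S →
      ∃ β ∈ F.autGroup T, ∀ t ∈ T, autFun a t = autFun β t := fun {a} ha => by
    have hm := (mapTo_of_mem_autGroup le_rfl ha).restrict hTS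
    have himg := StronglyClosed.img_eq hsc hm le_rfl
    exact ⟨autOf hm himg, autOf_mem _ _, fun t ht => (autFun_autOf hm himg ht).symm⟩
  have h0 : aZero F p (twistFamily F T) ≤ H := by
    refine (Subgroup.closure_le _).mpr ?_
    rintro a ⟨ha, P, hP, hPa⟩
    obtain ⟨β, hβ, e, he, hex⟩ := trivTwist_of_ezero hS hE hK hPa (P ⊓ T) inf_le_left hP.2
    obtain ⟨β₀, hβ₀, hax⟩ := hres ha
    have hβm := hK.le_aut hβ
    have h1 : β⁻¹ * β₀ ∈ K := twist_unique hS hE hK hP.2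
      (Subgroup.mul_mem _ (Subgroup.inv_mem _ hβm) hβ₀) (mapTo_id E inf_le_right) he fun x hx => by
        rw [autFun_mul _ _ (show x ∈ T from hx.2), ← hax x hx.2, hex x hx,
          autFun_inv_autFun β (he.mem hx)]
    refine (hH a).mpr ⟨ha, β₀, ?_, hax⟩
    have h2 := K.mul_mem hβ h1
    rwa [mul_inv_cancel_left] at h2
  set F₀ := hSys F p (twistFamily F T) hℋ H hHle with hF₀
  have hsub : F₀.IsSubsystemOf F := isSubsystemOf_hSys hℋ hHle
  have hsat : F₀.IsSaturated p := isSaturated_hSys hℋ hHle hS hF h0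
  have hconjH : ∀ a ∈ F.autGroup S, ∀ h ∈ H, a * h * a⁻¹ ∈ H := by
    intro a ha h hh
    obtain ⟨hhF, β, hβ, hhx⟩ := (hH h).mp hh
    obtain ⟨γ, hγ, hax⟩ := hres ha
    refine (hH _).mpr ⟨Subgroup.mul_mem _ (Subgroup.mul_mem _ ha hhF) (Subgroup.inv_mem _ ha),
      γ * β * γ⁻¹, hK.conj_mem γ hγ β hβ, fun t ht => ?_⟩
    have ht' := autFun_mem γ⁻¹ ht
    have hai : autFun a⁻¹ t = autFun γ⁻¹ t := by
      have h1 := hax _ ht'
      rw [autFun_autFun_inv γ ht] at h1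
      conv_lhs => rw [← h1]
      exact autFun_inv_autFun a (hTS ht')
    rw [autFun_mul _ _ (hTS ht), autFun_mul _ _ (autFun_mem a⁻¹ (hTS ht)), autFun_mul _ _ ht,
      autFun_mul _ _ ht', hai, hhx _ ht', hax _ (autFun_mem β ht')]
  have haut : ∀ α : MulAut ↥S, α ∈ F₀.autGroup S ↔ α ∈ H := by
    intro α
    rw [mem_autGroup_iff le_rfl]
    refine ⟨fun h => ?_, fun h => mapTo_hSys_of_mem hℋ hHle h⟩
    obtain ⟨hαm, a, ha, f₀, hf₀, hx⟩ := (mapTo_hSys_iff hℋ hHle).mp h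
    have hαF : α ∈ F.autGroup S := (mem_autGroup_iff le_rfl).mpr hαm
    have h1 : a⁻¹ * α ∈ H := h0 (Subgroup.subset_closure
      ⟨Subgroup.mul_mem _ (Subgroup.inv_mem _ (hHle ha)) hαF, S, hℋ.top,
        hf₀.congr_fun fun x hxS => by
          rw [autFun_mul _ _ hxS, hx x hxS, autFun_inv_autFun a (hf₀.mapTo.mem hxS)]⟩)
    have h2 := H.mul_mem ha h1
    rwa [mul_inv_cancel_left] at h2
  refine ⟨F₀, ⟨⟨hsat, hF, hsub, ?_, ?_, ?_⟩, ?_⟩, ?_, ?_, fun α => (haut α).trans (hH α),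
    fun R hR => hR.2.2 F₀ hsat (hasPrimeToPIndex_hSys hℋ hHle hS hF)⟩
  · refine stronglyClosed_iff.mpr ⟨le_rfl, fun R f _ hf x hx => hf.mem hx⟩
  · intro P hPS φ hφ a ha
    obtain ⟨-, h, hh, f₀, hf₀, hfx⟩ := (mapTo_hSys_iff hℋ hHle).mp (mapTo_ev hφ)
    have h1 := hf₀.transport hℋ ha
    have hm : MapTo F S (autFun a) := mapTo_of_mem_autGroup le_rfl ha
    have h2 : MapTo F₀ (img (autFun a) P)
        (fun y => autFun (a * h * a⁻¹) (autFun a (f₀ (autFun a⁻¹ y)))) :=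
      (mapTo_hSys_of_ezero hℋ hHle h1).comp (mapTo_hSys_of_mem hℋ hHle (hconjH a ha h hh))
        fun y hy => (mapTo_hSys_of_ezero hℋ hHle h1).mem hy
    have he : (P.subgroupOf S).map (S.subtype.comp a.toMonoidHom) = img (autFun a) P :=
      map_subgroupOf_eq_img (fun x => (autFun_coe a x).symm) hPS
    rw [← he] at h2
    obtain ⟨χ, hχ, hχx⟩ := h2
    refine ⟨χ, hχ, fun x hφx hax => ?_⟩
    have hxS : (x : Ω) ∈ S := hPS x.2
    rw [hχx, ← autFun_apply a hφx, ← ev_coe φ x, hfx x x.2]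
    show autFun (a * h * a⁻¹) (autFun a (f₀ (autFun a⁻¹ ((a ⟨x, hxS⟩ : S) : Ω)))) = _
    have hfS : f₀ x ∈ S := hf₀.mapTo.mem x.2
    rw [← autFun_apply a hxS, autFun_inv_autFun a hxS, autFun_mul _ _ (autFun_mem a hfS),
      autFun_inv_autFun a hfS, autFun_mul _ _ hfS]
  · intro P hPS φ hφ
    obtain ⟨a, ha, f₀, ⟨φ₀, hφ₀, hφ₀x⟩, hx⟩ := frattini_hSys hℋ hHle hS hF (mapTo_ev hφ)
    exact ⟨a, ha, φ₀, hφ₀, fun x hxS => by
      rw [← autFun_apply a hxS, hφ₀x, ← hx x x.2, ev_coe]⟩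
  · intro α hα
    have hαF : α ∈ F.autGroup S := hHle ((haut α).mp hα)
    have hm : MapTo F S (autFun α) := mapTo_of_mem_autGroup le_rfl hαF
    have hU : S ⊔ centralizerIn S S = S := sup_eq_left.mpr centralizerIn_le
    have hmU : MapTo F (S ⊔ centralizerIn S S) (autFun α) := hU.symm ▸ hm
    have himg : img (autFun α) (S ⊔ centralizerIn S S) = S ⊔ centralizerIn S S := by
      rw [hU]; exact img_autFun α
    refine ⟨autOf hmU himg, autOf_mem _ _, fun x => ?_, fun c hc => ?_⟩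
    · rw [← autFun_coe α x, ← autFun_autOf hmU himg (Subgroup.mem_sup_left x.2),
        autFun_apply _ (Subgroup.mem_sup_left x.2)]
      rfl
    · rw [← autFun_coe (autOf hmU himg) c, autFun_autOf hmU himg c.2]
      have hcS : (c : Ω) ∈ S := centralizerIn_le hc
      have h2 : autFun α (c : Ω) ∈ centralizerIn S S := by
        have h3 := hm.map_mem_centralizerIn le_rfl hcS hc
        rwa [img_autFun α] at h3
      exact ⟨S.mul_mem (S.inv_mem hcS) (autFun_mem α hcS),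
        Subgroup.mul_mem _ (Subgroup.inv_mem _ hc.2) h2.2⟩
  · intro hall
    apply hne
    intro β₀ hβ₀
    have hTn : F.IsFullyNormalized T := by
      refine ⟨hTS, fun R hR => ?_⟩
      have := finite_of_le (normalizerIn_le (S := S) (P := T))
      exact Subgroup.card_le_of_le (normalizerIn_le.trans fun s hs =>
        (mem_normalizerIn_of_forall hTS hs fun x hx => StronglyClosed.conj_mem hsc hs hx))
    have hfa := isFullyAutomized_of_isFullyNormalized hS hF hTn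
    obtain ⟨W, hW⟩ := hfa.2
    have hAK : autInducedBy S T ≤ K := fun c hc => by
      obtain ⟨i, hi'⟩ := isPGroup_autInducedBy hS T ⟨c, hc⟩
      exact hK.pow_mem c (autInducedBy_le_autGroup hTS hc) i (congrArg Subtype.val hi')
    have hAG := autInducedBy_le_autGroup (F := F) hTS
    have hsyl : IsSylowIn p (autInducedBy S T) K := by
      obtain ⟨D, hAD, hD⟩ := exists_isSylowIn hAK (isPGroup_autInducedBy hS T)
      rw [← ((isSylowIn_iff_exists hAG).mpr ⟨W, hW⟩).eq_of_le hAD (hD.1.trans hK.le_aut) hD.2.1]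
        at hD
      exact hD
    set B := (autInducedBy S T).map (MulAut.conj β₀).toMonoidHom with hB
    obtain ⟨γ, hγ, hγB⟩ := hsyl.2.2 B (by
      rintro _ ⟨c, hc, rfl⟩; exact hK.conj_mem β₀ hβ₀ c (hAK hc))
      ((isPGroup_autInducedBy hS T).map _)
    have hγβ : γ * β₀ ∈ F.autGroup T := Subgroup.mul_mem _ (hK.le_aut hγ) hβ₀
    have hm := mapTo_of_mem_autGroup hTS hγβ
    have hTNT : S ≤ normalizerIn S T := fun s hs =>
      mem_normalizerIn_of_forall hTS hs fun x hx => StronglyClosed.conj_mem hsc hs hx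
    obtain ⟨g, hg, hgx⟩ := exists_extension (isReceptive_of_isFullyNormalized hS hF hTn) hm
      (img_autFun _) (Y := S) hTNT (by
      rintro _ ⟨c, hc, rfl⟩
      have : MulAut.congr (isoEquiv hm (img_autFun _)) c = γ * (β₀ * c * β₀⁻¹) * γ⁻¹ := by
        refine autFun_ext fun y hy => ?_
        obtain ⟨x, hx, rfl⟩ : ∃ x ∈ T, autFun (γ * β₀) x = y :=
          ⟨_, autFun_mem _ hy, autFun_autFun_inv _ hy⟩
        rw [autFun_congr hm _ c hx,
          show γ * (β₀ * c * β₀⁻¹) * γ⁻¹ = γ * β₀ * c * (γ * β₀)⁻¹ by group,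
          autFun_mul (γ * β₀ * c) (γ * β₀)⁻¹ (autFun_mem (γ * β₀) hx), autFun_inv_autFun _ hx,
          autFun_mul (γ * β₀) c hx]
      rw [MulEquiv.toMonoidHom_eq_coe, MonoidHom.coe_coe, this]
      exact hγB _ ⟨c, hc, rfl⟩)
    have hgimg : img g S = S := img_eq_self_of_forall hg fun x hx => hg.mem hx
    have ha : autOf hg hgimg ∈ F₀.autGroup S := by
      have hA := autOf_mem hg hgimg
      rw [mem_autGroup_iff le_rfl] at hA ⊢
      obtain ⟨φ, hφ, hφx⟩ := hA
      exact ⟨φ, (hall S).symm ▸ hφ, hφx⟩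
    obtain ⟨-, β, hβ, hβx⟩ := (hH _).mp ((haut _).mp ha)
    have : β = γ * β₀ := autFun_ext fun t ht => by
      rw [← hβx t ht, autFun_autOf hg hgimg (hTS ht), hgx t ht]
    rw [this] at hβ
    have h2 := K.mul_mem (K.inv_mem hγ) hβ
    rwa [inv_mul_cancel_left] at h2
  · intro P φ hφ
    refine mapTo_ev_iff.mp (alperin_prop (hS.to_le hTS) hEs (fun P f => MapTo F₀ P f)
      (fun _ hC hfg => hC.congr' hfg) (fun hP hg => mapTo_cj (hP.trans hTS) (hTS hg))
      (fun _ _ hfQ hf hg => hf.comp hg hfQ) ?_ ?_ (mapTo_ev hφ))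
    · intro P f g _ _ hgf hfD
      obtain ⟨k, hk, hkf, -, -⟩ := hfD.exists_iso_inverse
      refine hk.congr' fun y hy => ?_
      obtain ⟨x, hx, rfl⟩ := (hfD.mem_img_iff le_rfl).mp hy
      rw [hkf x hx, hgf x hx]
    · intro Q hQ α hα
      have hQc : E.IsCentric Q := by
        rcases hQ with rfl | hQ
        · exact isCentric_top
        · exact hQ.1
      have hQT := hQc.1
      have hαE := mapTo_of_mem_autGroup hQT hα
      have hQHT : HT F T Q := by
        refine ⟨hQT, fun R hR z hz => ?_⟩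
        obtain ⟨f, hf, rfl⟩ := isConj_iff.mp hR
        obtain ⟨b, hb, e, he, hex⟩ := IsInvariantIn.frattini hi hQT hf
        have hb' := mapTo_of_mem_autGroup hTS (Subgroup.inv_mem _ hb)
        have hfT : img f Q ≤ T := img_le_of_forall fun x hx => by
          rw [hex x hx]; exact autFun_mem b (he.mem hx)
        have h1 := hb'.map_mem_centralizerIn hfT hz.1 ⟨hTS hz.1, hz.2⟩
        have he' : img (autFun b⁻¹) (img f Q) = img e Q := by
          rw [hf.img_img le_rfl]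
          exact img_congr fun x hx => by rw [hex x hx, autFun_inv_autFun b (he.mem hx)]
        rw [he'] at h1
        obtain ⟨x, hx, hxz⟩ := (he.mem_img_iff le_rfl).mp
          (hQc.2 _ he.isConj ⟨autFun_mem _ hz.1, h1.2⟩)
        rw [← autFun_autFun_inv b hz.1, ← hxz, ← hex x hx]
        exact mem_img_of_mem hx
      have hαF := IsSubsystemOf.mapTo hi.1 hαE
      obtain ⟨a, ha, f₀, hf₀, hx⟩ := frat_of_mapTo hS hF hℋ hαF
      obtain ⟨ν, hν, e, he, hex⟩ := trivTwist_of_ezero hS hE hK hf₀ Q le_rfl hQHT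
      obtain ⟨β₀, hβ₀, hax⟩ := hres ha
      have hνm := hK.le_aut hν
      have h1 : β₀ * ν ∈ K := twist_unique hS hE hK hQHT (Subgroup.mul_mem _ hβ₀ hνm) he hαE
        fun x hxQ => by
          rw [autFun_mul _ _ (he.mem hxQ), ← hex x hxQ, hx x hxQ, hax]
          rw [hex x hxQ]
          exact autFun_mem ν (he.mem hxQ)
      refine (mapTo_hSys_iff hℋ hHle).mpr ⟨hαF, a, (hH a).mpr ⟨ha, β₀, ?_, hax⟩, f₀, hf₀, hx⟩
      have h2 := K.mul_mem h1 (K.inv_mem hν)
      rwa [mul_inv_cancel_right] at h2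

end Cfsg.Agent.Fusion
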