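import Cfsg.Agent.Lib.Fusion.EssentialSmall

/-!
The action of automorphisms of a `p`-group on its Frattini quotient.
-/

set_option autoImplicit false

namespace Cfsg.Agent.Fusion

universe u

/-- The action on the Frattini quotient. -/
noncomputable def fratRep (W : Type u) [Group W] : MulAut W →* MulAut (W ⧸ frattini W) where
  toFun φ := QuotientGroup.congr (frattini W) (frattini W) φ (le_antisymm
    (Subgroup.map_le_iff_le_comap.mpr fun _ hx => mem_of_char (frattini W) φ hx) fun x hx =>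
      ⟨φ⁻¹ x, mem_of_char (frattini W) φ⁻¹ hx, MulAut.apply_inv_self _ _ _⟩)
  map_one' := MulEquiv.ext fun x => by
    obtain ⟨x, rfl⟩ := QuotientGroup.mk_surjective x
    rfl
  map_mul' a b := MulEquiv.ext fun x => by
    obtain ⟨x, rfl⟩ := QuotientGroup.mk_surjective x
    rfl

theorem mem_ker_fratRep {W : Type u} [Group W] {φ : MulAut W} :
    φ ∈ (fratRep W).ker ↔ ∀ v : W, φ v * v⁻¹ ∈ frattini W := by
  rw [MonoidHom.mem_ker, MulEquiv.ext_iff]
  constructor
  · intro h v
    have h1 : ((φ v : W) : W ⧸ frattini W) = (v : W ⧸ frattini W) := h (v : W ⧸ frattini W)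
    rw [← QuotientGroup.eq_one_iff, QuotientGroup.mk_mul, h1, QuotientGroup.mk_inv, mul_inv_cancel]
  · intro h q
    obtain ⟨v, rfl⟩ := QuotientGroup.mk_surjective q
    show ((φ v : W) : W ⧸ frattini W) = (v : W ⧸ frattini W)
    have h1 := (QuotientGroup.eq_one_iff _).mpr (h v)
    rwa [QuotientGroup.mk_mul, QuotientGroup.mk_inv, mul_inv_eq_one] at h1

variable {p : ℕ} [hp : Fact p.Prime]

theorem isPGroup_ker_fratRep {W : Type u} [Group W] [Finite W] (hW : IsPGroup p W) :
    IsPGroup p (fratRep W).ker := by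
  haveI := finite_mulAut W
  obtain ⟨n, hn⟩ := hW.exists_card_eq
  obtain ⟨r, -, hr⟩ := (Nat.dvd_prime_pow hp.out).mp (hn ▸ (frattini W).index_dvd_card)
  obtain ⟨t, -, ht⟩ := (Nat.dvd_prime_pow hp.out).mp
    (FGS.AutFrattini.card_stabilizer_dvd hn hr (fratRep W).ker fun α hα => mem_ker_fratRep.mp hα)
  exact IsPGroup.of_card ht

/-- An automorphism fixing a characteristic subgroup of index 2 in which the Frattini subgroup has
index 2 has square trivial on the Frattini quotient. -/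
theorem mul_self_mem_ker_fratRep {W : Type u} [Group W] [Finite W] (hW : IsPGroup 2 W)
    {N : Subgroup W} [hN : N.Characteristic] (hle : frattini W ≤ N) (hidx : N.index = 2)
    (hrel : (frattini W).relIndex N = 2) (φ : MulAut W) : φ * φ ∈ (fratRep W).ker := by
  haveI : Fact (Nat.Prime 2) := ⟨Nat.prime_two⟩
  have hiff : ∀ v, φ v ∈ N ↔ v ∈ N := fun v => ⟨fun h => by
    have := mem_of_char N φ⁻¹ h
    rwa [MulAut.inv_apply_self] at this, mem_of_char N φ⟩
  have hiffF : ∀ v, φ v ∈ frattini W ↔ v ∈ frattini W := fun v => ⟨fun h => by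
    have := mem_of_char (frattini W) φ⁻¹ h
    rwa [MulAut.inv_apply_self] at this, mem_of_char (frattini W) φ⟩
  have h1 : ∀ v, φ v * v⁻¹ ∈ N := fun v =>
    (Subgroup.mul_mem_iff_of_index_two hidx).mpr (by rw [inv_mem_iff]; exact hiff v)
  have h2 : ∀ v ∈ N, φ v * v⁻¹ ∈ frattini W := by
    intro v hv
    have h3 : (⟨φ v, (hiff v).mpr hv⟩ : N) * ⟨v, hv⟩⁻¹ ∈ (frattini W).subgroupOf N :=
      (Subgroup.mul_mem_iff_of_index_two hrel).mpr (by
        rw [inv_mem_iff, Subgroup.mem_subgroupOf, Subgroup.mem_subgroupOf]; exact hiffF v)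
    exact h3
  rw [mem_ker_fratRep]
  intro v
  rw [MulAut.mul_apply, show φ (φ v) * v⁻¹ = (φ (φ v * v⁻¹) * (φ v * v⁻¹)⁻¹) * (φ v * v⁻¹) ^ 2 *
      1 by rw [map_mul, map_inv, pow_two]; group]
  exact mul_mem (mul_mem (h2 _ (h1 v)) (Basics.pow_mem_frattini hW _)) (one_mem _)

end Cfsg.Agent.Fusion
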