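import Cfsg.Agent.Lib.Fusion.StableZJ
import Cfsg.Agent.Lib.Fusion.NormalCriteria
import Cfsg.Agent.Lib.Fusion.Centric

/-!
`p`-stable fusion systems of finite groups are constrained.
-/

set_option autoImplicit false
set_option linter.style.haveILetI false

namespace Cfsg.Agent.Fusion

open Subgroup Transfer
open Cfsg.FusionSystem (centralizerIn normalizerIn)
open scoped commutatorElement Pointwise

universe u

variable {G : Type u} [Group G] {p : ℕ} [Finite G] [hp : Fact p.Prime]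

/-- The fusion in `S` is realized in the normalizer of `Q`. -/
def Ctl (S Q : Subgroup G) : Prop :=
  ∀ (P : Subgroup G) (g : G), P ≤ S → (∀ x ∈ P, g * x * g⁻¹ ∈ S) →
    ∃ h ∈ normalizer (Q : Set G), ∀ x ∈ P, h * x * h⁻¹ = g * x * g⁻¹

omit hp in
theorem isNormal_gfs_of_ctl {S Q : Subgroup G} (hQ : Q ≤ S) (h : Ctl S Q) :
    (groupFusionSystem S).IsNormal Q := by
  refine isNormal_iff.mpr ⟨hQ, fun P f hf => ?_⟩
  obtain ⟨hP, g, hg⟩ := mapTo_gfs_iff.mp hf
  obtain ⟨k, hk, hkg⟩ := h P g hP fun x hx => (hg x hx).2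
  have hmapS : ∀ x ∈ P ⊔ Q, k * x * k⁻¹ ∈ S := by
    intro x hx
    have hle : P ⊔ Q ≤ S.comap (MulAut.conj k).toMonoidHom := by
      refine sup_le (fun y hy => ?_) fun y hy => hQ ((mem_normalizer_iff.mp hk y).mp hy)
      show k * y * k⁻¹ ∈ S
      rw [hkg y hy]; exact (hg y hy).2
    exact hle hx
  have hm := mapTo_gfs_cj (sup_le hP hQ) hmapS
  refine ⟨cj k, hm, fun x hx => by rw [cj_apply, hkg x hx, (hg x hx).1], ?_⟩
  exact img_eq_self_of_forall (hm.restrict le_sup_right) fun x hx =>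
    (mem_normalizer_iff.mp hk x).mp hx

omit hp in
theorem ctl_of_isNormal {S Q : Subgroup G} (h : (groupFusionSystem S).IsNormal Q) : Ctl S Q := by
  intro P g hP hg
  obtain ⟨f, hf, hfP, hfQ⟩ := (isNormal_iff.mp h).2 P _ (mapTo_gfs_cj hP hg)
  obtain ⟨-, k, hk⟩ := mapTo_gfs_iff.mp hf
  refine ⟨k, mem_normalizer_fintype fun x hx => ?_, fun x hx => ?_⟩
  · rw [← (hk x (mem_sup_right hx)).1]
    exact hfQ.le (mem_img_of_mem hx)
  · rw [← (hk x (mem_sup_left hx)).1, hfP x hx, cj_apply]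

omit hp in
/-- Automorphisms fixing `S` fix the core. -/
theorem core_map_le {S : Subgroup G} (α : MulAut G) (hα : S.map α.toMonoidHom = S) :
    (groupFusionSystem S).core.map α.toMonoidHom ≤ (groupFusionSystem S).core := by
  set Q := (groupFusionSystem S).core
  have hQ : (groupFusionSystem S).IsNormal Q := isNormal_core _
  refine le_core (isNormal_gfs_of_ctl ((map_mono hQ.1).trans hα.le) fun P g hP hg => ?_)
  have hinv : ∀ {y : G}, y ∈ S → α⁻¹ y ∈ S := fun {y} hy => by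
    rw [← hα] at hy
    obtain ⟨z, hz, rfl⟩ := hy
    simpa using hz
  obtain ⟨k, hk, hkg⟩ := ctl_of_isNormal hQ (P.map (α⁻¹ : MulAut G).toMonoidHom) (α⁻¹ g)
    (by rintro _ ⟨x, hx, rfl⟩; exact hinv (hP hx))
    (by
      rintro _ ⟨x, hx, rfl⟩
      show α⁻¹ g * α⁻¹ x * (α⁻¹ g)⁻¹ ∈ S
      rw [← map_inv, ← map_mul, ← map_mul]
      exact hinv (hg x hx))
  refine ⟨α k, ?_, fun x hx => ?_⟩
  · exact le_normalizer_map α.toMonoidHom ⟨k, hk, rfl⟩
  · have h1 := congrArg α (hkg (α⁻¹ x) ⟨x, hx, rfl⟩)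
    simpa using h1

theorem isConstrained_of_core {S : Sylow p G}
    (h : centralizerIn (S : Subgroup G) (groupFusionSystem (S : Subgroup G)).core ≤
      (groupFusionSystem (S : Subgroup G)).core) :
    (groupFusionSystem (S : Subgroup G)).IsConstrained p := by
  set Q := (groupFusionSystem (S : Subgroup G)).core
  have hQ : (groupFusionSystem (S : Subgroup G)).IsNormal Q := isNormal_core _
  refine ⟨isSaturated_gfs S, Q, hQ, isCentric_of_isFullyCentralized ⟨hQ.1, fun R hR => ?_⟩ h⟩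
  obtain ⟨f, hf, rfl⟩ := isConj_iff.mp hR
  rw [StronglyClosed.img_eq (IsNormal.stronglyClosed hQ) hf le_rfl]

/-- The core contains a centric subgroup when `W = Z(J(S))` is normal in `G`. -/
theorem centric_core_of_normal {S : Sylow p G} (W : Subgroup G) [hWn : W.Normal] (hW : W ≠ ⊥)
    (hWS : W ≤ (S : Subgroup G)) (hWab : ∀ a ∈ W, ∀ b ∈ W, Commute a b)
    (ih : ∀ (X : Type u) [Group X] [Finite X], Nat.card X < Nat.card G → StabP p X →
      ∀ T : Sylow p X, centralizerIn (T : Subgroup X) (groupFusionSystem (T : Subgroup X)).core ≤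
        (groupFusionSystem (T : Subgroup X)).core)
    (hst : StabP p G) (hp2 : p ≠ 2) :
    centralizerIn (S : Subgroup G) (groupFusionSystem (S : Subgroup G)).core ≤
      (groupFusionSystem (S : Subgroup G)).core := by
  classical
  set C := centralizer (W : Set G) with hC
  haveI hCn : C.Normal := by rw [hC]; infer_instance
  have hWC : W ≤ C := fun a ha => mem_centralizer_iff.mpr fun b hb => (hWab a ha b hb).eq.symm
  have hsyl := isSylIn_inf_of_le (ConjFunctor.isSylIn_top S) (le_top : C ≤ ⊤)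
    (le_normalizer_of_normal)
  let TC : Sylow p C := (hsyl.2.1.comap_subtype (K := C)).toSylow hsyl.2.2
  set T := (S : Subgroup G) ⊓ C with hT
  have hTC : ∀ x : C, x ∈ (TC : Subgroup C) ↔ (x : G) ∈ T := fun x => Iff.rfl
  set Z := W.subgroupOf C with hZ
  haveI : Z.Normal := inferInstanceAs (W.subgroupOf C).Normal
  set π := QuotientGroup.mk' Z
  have hZc : ∀ (z : C), ∀ a ∈ Z, Commute z a := fun z a ha =>
    Subtype.ext (mem_centralizer_iff.mp z.2 _ ha).symm
  have hcard : Nat.card (↥C ⧸ Z) < Nat.card G := by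
    have h1 := Subgroup.card_eq_card_quotient_mul_card_subgroup Z
    have h2 : 1 < Nat.card Z := by
      rw [Nat.card_congr (subgroupOfEquivOfLe hWC).toEquiv]
      haveI : Nontrivial W := (nontrivial_iff_ne_bot W).mpr hW
      exact Finite.one_lt_card
    have h3 : Nat.card (↥C ⧸ Z) < Nat.card C := by
      rw [h1]; exact lt_mul_of_one_lt_right Nat.card_pos h2
    exact h3.trans_le (Subgroup.card_le_card_group C)
  have hZp : IsPGroup p Z := (S.2.to_le hWS).of_equiv (subgroupOfEquivOfLe hWC).symm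
  set TB : Sylow p (↥C ⧸ Z) := TC.mapSurjective (QuotientGroup.mk'_surjective Z)
  have hTB : (TB : Subgroup (↥C ⧸ Z)) = (TC : Subgroup C).map π :=
    Sylow.coe_mapSurjective _ _
  have hcore := ih _ hcard ((hst.subgroup C).quot_central hp2 Z hZp fun z _ => hZc z) TB
  set QB := (groupFusionSystem (TB : Subgroup (↥C ⧸ Z))).core with hQB
  have hQBn : (groupFusionSystem (TB : Subgroup (↥C ⧸ Z))).IsNormal QB := isNormal_core _
  set Q := (QB.comap π).map C.subtype with hQdef
  have hQmem : ∀ x : C, (x : G) ∈ Q ↔ π x ∈ QB := fun x => by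
    refine ⟨?_, fun h => ⟨x, h, rfl⟩⟩
    rintro ⟨y, hy, hyx⟩
    have he : y = x := Subtype.ext hyx
    rw [← he]; exact hy
  have hTBmem : ∀ x : C, π x ∈ (TB : Subgroup (↥C ⧸ Z)) ↔ (x : G) ∈ T := fun x => by
    rw [hTB]
    refine ⟨?_, fun h => ⟨x, h, rfl⟩⟩
    rintro ⟨y, hy, hyx⟩
    have h1 : y⁻¹ * x ∈ Z := (QuotientGroup.eq (s := Z)).mp hyx
    have h2 : (x : G) = (y : G) * ((y⁻¹ * x : C) : G) := by simp
    rw [h2]
    exact T.mul_mem ((hTC y).mp hy) ⟨hWS h1, hWC h1⟩
  have hQT : Q ≤ T := by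
    rintro _ ⟨x, hx, rfl⟩
    exact (hTBmem x).mp (hQBn.1 hx)
  have hWQ : W ≤ Q := fun w hw => (hQmem ⟨w, hWC hw⟩).mpr (by
    rw [show π ⟨w, hWC hw⟩ = 1 from (QuotientGroup.eq_one_iff _).mpr hw]; exact QB.one_mem)
  have hQS : Q ≤ (S : Subgroup G) := hQT.trans inf_le_left
  -- centric
  have hcent : centralizerIn (S : Subgroup G) Q ≤ Q := by
    intro x hx
    obtain ⟨hxS, hxQ⟩ := mem_centralizerIn.mp hx
    have hxC : x ∈ C := mem_centralizer_iff.mpr fun w hw => hxQ w (hWQ hw)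
    refine (hQmem ⟨x, hxC⟩).mpr (hcore (mem_centralizerIn.mpr ⟨(hTBmem _).mpr ⟨hxS, hxC⟩, ?_⟩))
    intro y hy
    obtain ⟨y, rfl⟩ := QuotientGroup.mk'_surjective Z y
    show π y * π _ = π _ * π y
    rw [← map_mul, ← map_mul, show y * (⟨x, hxC⟩ : C) = ⟨x, hxC⟩ * y from
      Subtype.ext (hxQ _ ((hQmem y).mpr hy))]
  -- decomposition of an element
  have hfrat : ∀ g : G, ∃ c ∈ C, ∃ n : G, g = c * n ∧ T.map (MulAut.conj n).toMonoidHom = T := by
    intro g
    have h1 := Sylow.normalizer_sup_eq_top TC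
    have h2 : (TC : Subgroup C).map C.subtype = T := map_subgroupOf_eq_of_le inf_le_right
    rw [h2, sup_comm] at h1
    have h3 : g ∈ (C : Set G) * (normalizer (T : Set G) : Set G) := by
      rw [← normal_mul, h1]; trivial
    obtain ⟨c, hc, n, hn, rfl⟩ := Set.mem_mul.mp h3
    exact ⟨c, hc, n, rfl, mem_normalizer_iff_map_conj_eq.mp hn⟩
  -- `N(T)` acts on the quotient and fixes `Q`
  have haut : ∀ n : G, T.map (MulAut.conj n).toMonoidHom = T → ∃ α : MulAut (↥C ⧸ Z),
      (∀ x : C, α (π x) = π ⟨n * x * n⁻¹, hCn.conj_mem _ x.2 n⟩) ∧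
      ∀ y ∈ QB, α y ∈ QB := by
    intro n hn
    have hZn : Z.map (MulAut.conjNormal n : MulAut C).toMonoidHom = Z := by
      refine le_antisymm ?_ fun z hz => ⟨(MulAut.conjNormal n)⁻¹ z, ?_, by simp⟩
      · rintro _ ⟨z, hz, rfl⟩
        exact hWn.conj_mem _ hz n
      · show (((MulAut.conjNormal n)⁻¹ z : C) : G) ∈ W
        rw [← map_inv]
        exact hWn.conj_mem _ hz n⁻¹
    set α := QuotientGroup.congr Z Z (MulAut.conjNormal n : MulAut C) hZn
    have hαπ : ∀ x : C, α (π x) = π ⟨n * x * n⁻¹, hCn.conj_mem _ x.2 n⟩ := fun x => rfl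
    refine ⟨α, hαπ, fun y hy => core_map_le α ?_ ⟨y, hy, rfl⟩⟩
    refine le_antisymm ?_ fun y hy => ?_
    · rintro _ ⟨y, hy, rfl⟩
      obtain ⟨x, rfl⟩ := QuotientGroup.mk'_surjective Z y
      show α (π x) ∈ (TB : Subgroup (↥C ⧸ Z))
      rw [hαπ, hTBmem, ← hn]
      exact ⟨x, (hTBmem x).mp hy, rfl⟩
    · obtain ⟨x, rfl⟩ := QuotientGroup.mk'_surjective Z y
      have hxT := (hTBmem x).mp hy
      rw [← hn] at hxT
      obtain ⟨z, hz, hzx⟩ := hxT
      refine ⟨π ⟨z, hz.2⟩, (hTBmem _).mpr hz, (hαπ _).trans (congrArg π (Subtype.ext hzx))⟩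
  -- maps defined inside `Q` preserve the preimages of characteristic subgroups of `QB`
  have hchar : ∀ (Y : Subgroup QB) [Y.Characteristic], ∀ (g : G) (x : C),
      π x ∈ Y.map QB.subtype → g * (x : G) * g⁻¹ ∈ (S : Subgroup G) →
      π ⟨g * x * g⁻¹, hCn.conj_mem _ x.2 g⟩ ∈ Y.map QB.subtype := by
    intro Y _ g x hx hgx
    obtain ⟨c, hc, n, rfl, hn⟩ := hfrat g
    obtain ⟨α, hα, hαQ⟩ := haut n hn
    set x₁ : C := ⟨n * x * n⁻¹, hCn.conj_mem _ x.2 n⟩ with hx₁
    let σ : MulAut QB :=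
      { toFun := fun y => ⟨α (y : ↥C ⧸ Z), hαQ y y.2⟩
        invFun := fun y => ⟨α.symm (y : ↥C ⧸ Z), by
          have hsurj : ∀ y ∈ QB, ∃ z ∈ QB, α z = y := by
            have heq : QB.map α.toMonoidHom = QB := eq_of_le_of_card_ge
              (by rintro _ ⟨z, hz, rfl⟩; exact hαQ z hz)
              (Nat.card_congr (QB.equivMapOfInjective α.toMonoidHom α.injective).toEquiv).le
            intro y hy
            rw [← heq] at hy
            exact hy
          obtain ⟨z, hz, hzy⟩ := hsurj y y.2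
          rw [← hzy, MulEquiv.symm_apply_apply]; exact hz⟩
        left_inv := fun y => Subtype.ext (α.symm_apply_apply (y : ↥C ⧸ Z))
        right_inv := fun y => Subtype.ext (α.apply_symm_apply (y : ↥C ⧸ Z))
        map_mul' := fun y z => Subtype.ext (map_mul α (y : ↥C ⧸ Z) z) }
    obtain ⟨y, hy, hyx⟩ := hx
    have h1 : π x₁ ∈ Y.map QB.subtype :=
      ⟨σ y, characteristic_iff_le_comap.mp inferInstance σ hy,
        (congrArg α hyx).trans (hα x)⟩
    have hx₁Q : π x₁ ∈ QB := map_subtype_le _ h1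
    have hcx : c * (x₁ : G) * c⁻¹ ∈ T := by
      refine ⟨?_, hCn.conj_mem _ x₁.2 c⟩
      show c * (n * x * n⁻¹) * c⁻¹ ∈ (S : Subgroup G)
      rwa [show c * (n * (x : G) * n⁻¹) * c⁻¹ = c * n * x * (c * n)⁻¹ by group]
    set cC : C := ⟨c, hc⟩
    have heq : π ⟨c * n * x * (c * n)⁻¹, hCn.conj_mem _ x.2 _⟩ = π cC * π x₁ * (π cC)⁻¹ := by
      rw [← map_inv, ← map_mul, ← map_mul]
      congr 1
      exact Subtype.ext (show c * n * x * (c * n)⁻¹ = c * (n * x * n⁻¹) * c⁻¹ by group)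
    rw [heq]
    obtain ⟨k, hk, hkc⟩ := ctl_of_isNormal hQBn (zpowers (π x₁)) (π cC)
      (zpowers_le.mpr (hQBn.1 hx₁Q)) (by
        rintro _ ⟨i, rfl⟩
        show π cC * π x₁ ^ i * (π cC)⁻¹ ∈ (TB : Subgroup (↥C ⧸ Z))
        rw [← conj_zpow, ← map_inv, ← map_mul, ← map_mul]
        exact Subgroup.zpow_mem _ ((hTBmem _).mpr hcx) i)
    rw [← hkc _ (mem_zpowers _)]
    obtain ⟨y', hy', hyx'⟩ := h1
    exact ⟨QB.normalizerMonoidHom ⟨k, hk⟩ y',
      characteristic_iff_le_comap.mp inferInstance (QB.normalizerMonoidHom ⟨k, hk⟩) hy',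
      by rw [← hyx']; rfl⟩
  have hsc : (groupFusionSystem (S : Subgroup G)).StronglyClosed Q := by
    refine stronglyClosed_iff.mpr ⟨hQS, fun R f hR hf x hx => ?_⟩
    obtain ⟨-, g, hg⟩ := mapTo_gfs_iff.mp hf
    obtain ⟨h1, h2⟩ := hg x hx
    obtain ⟨x, hx', rfl⟩ := hR hx
    rw [h1]
    have h3 := hchar ⊤ g x ⟨⟨π x, hx'⟩, mem_top _, rfl⟩ h2
    exact (hQmem ⟨_, _⟩).mpr (map_subtype_le _ h3)
  -- the series
  haveI : IsPGroup p QB := TB.2.to_le hQBn.1 |> fun h => h
  haveI := (TB.2.to_le hQBn.1).isNilpotent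
  obtain ⟨m, hm⟩ := (inferInstance : Group.IsNilpotent QB).nilpotent'
  let L : ℕ → Subgroup G := fun i =>
    (((Subgroup.upperCentralSeries QB i).map QB.subtype).comap π).map C.subtype
  have hLQ : ∀ i, L i ≤ Q := by
    intro i
    rintro _ ⟨x, hx, rfl⟩
    obtain ⟨y, -, he⟩ := hx
    exact ⟨x, (show π x ∈ QB from he ▸ y.2), rfl⟩
  have hL0 : L 0 ≤ W := by
    rintro _ ⟨x, hx, rfl⟩
    rw [SetLike.mem_coe, mem_comap, Subgroup.upperCentralSeries_zero, Subgroup.map_bot, mem_bot] at hx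
    exact (QuotientGroup.eq_one_iff x).mp hx
  have hLm : L m = Q := by
    show (((Subgroup.upperCentralSeries QB m).map QB.subtype).comap π).map C.subtype = Q
    rw [hm, ← MonoidHom.range_eq_map, range_subtype]
  let c : Fin (m + 2) → Subgroup G := fun i => if (i : ℕ) = 0 then ⊥ else L ((i : ℕ) - 1)
  have hWL : ∀ i, W ≤ L i := fun i w hw => ⟨⟨w, hWC hw⟩, by
    rw [SetLike.mem_coe, mem_comap, show π ⟨w, hWC hw⟩ = 1 from (QuotientGroup.eq_one_iff _).mpr hw]
    exact one_mem _, rfl⟩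
  have hc0 : ∀ i : Fin (m + 2), (i : ℕ) = 0 → c i = ⊥ := fun i h => if_pos h
  have hc1 : ∀ i : Fin (m + 2), (i : ℕ) ≠ 0 → c i = L ((i : ℕ) - 1) := fun i h => if_neg h
  have hnormal : (groupFusionSystem (S : Subgroup G)).IsNormal Q := by
    refine isNormal_of_series S.2 (isSaturated_gfs S) hsc c ?_ ?_ ?_ ?_ ?_
    · simp [c]
    · simpa [c] using hLm
    · intro i j hij
      by_cases hi : (i : ℕ) = 0
      · rw [hc0 i hi]; exact bot_le
      · have hj : (j : ℕ) ≠ 0 := fun hj => hi (Nat.le_zero.mp (hj ▸ hij))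
        rw [hc1 i hi, hc1 j hj]
        exact map_mono (comap_mono (map_mono (Subgroup.upperCentralSeries_mono QB (Nat.sub_le_sub_right hij 1))))
    · intro i x hx k hk
      have hsucc : c i.succ = L (i : ℕ) := by simp [c]
      rw [hsucc] at hx
      by_cases hi : (i : ℕ) = 0
      · have hcast : c i.castSucc = ⊥ := hc0 _ (by simpa using hi)
        rw [hcast, mem_bot]
        rw [hi] at hx
        have hxW := hL0 hx
        have hkC : k ∈ C := (hQT hk).2
        rw [← mem_centralizer_iff.mp hkC x hxW, mul_inv_cancel_right, inv_mul_cancel]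
      · have hcast : c i.castSucc = L ((i : ℕ) - 1) := hc1 _ (by simpa using hi)
        rw [hcast]
        obtain ⟨x, hx', rfl⟩ := hx
        obtain ⟨k, hk', rfl⟩ := hk
        refine ⟨x⁻¹ * (k * x * k⁻¹), ?_, by simp⟩
        obtain ⟨y, hy, hyx⟩ := hx'
        have hy' : y⁻¹ ∈ Subgroup.upperCentralSeries QB ((i : ℕ) - 1 + 1) := by
          rw [Nat.sub_add_cancel (Nat.one_le_iff_ne_zero.mpr hi)]
          exact inv_mem hy
        refine ⟨⁅y⁻¹, (⟨π k, hk'⟩ : QB)⁆, Subgroup.mem_upperCentralSeries_succ_iff.mp hy' _, ?_⟩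
        show ((⁅y⁻¹, (⟨π k, hk'⟩ : QB)⁆ : QB) : ↥C ⧸ Z) = π (x⁻¹ * (k * x * k⁻¹))
        simp only [commutatorElement_def, Subgroup.coe_mul, Subgroup.coe_inv, inv_inv]
        rw [show (y : ↥C ⧸ Z) = π x from hyx]
        simp [mul_assoc]
    · intro i
      have hle : c i.castSucc ≤ Q := by
        show (if ((i.castSucc : Fin (m + 2)) : ℕ) = 0 then ⊥ else L _) ≤ Q
        split_ifs
        · exact bot_le
        · exact hLQ _
      refine ⟨hle.trans hQS, fun φ hφ => ?_⟩
      haveI := finite_of_le (hle.trans hQS)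
      refine eq_of_le_of_card_ge ?_ (le_of_eq (Nat.card_congr (MonoidHom.ofInjective
        ((groupFusionSystem (S : Subgroup G)).injective_of_mem hφ)).toEquiv))
      rintro _ ⟨⟨x, hx⟩, rfl⟩
      rw [← ev_coe φ ⟨x, hx⟩]
      obtain ⟨-, g, hg⟩ := mapTo_gfs_iff.mp (mapTo_ev hφ)
      show ev φ x ∈ c i.castSucc
      obtain ⟨h1, h2⟩ := hg x hx
      rw [h1]
      by_cases hi : (i : ℕ) = 0
      · have hcast : c i.castSucc = ⊥ := hc0 _ (by simpa using hi)
        rw [hcast, mem_bot] at hx ⊢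
        rw [hx]; simp
      · have hcast : c i.castSucc = L ((i : ℕ) - 1) := hc1 _ (by simpa using hi)
        rw [hcast] at hx ⊢
        obtain ⟨x, hx', rfl⟩ := hx
        exact ⟨_, hchar _ g x hx' h2, rfl⟩
  refine le_trans ?_ ((hcent.trans (le_core hnormal)))
  intro x hx
  obtain ⟨hxS, hxQ⟩ := mem_centralizerIn.mp hx
  exact mem_centralizerIn.mpr ⟨hxS, fun y hy => hxQ y (le_core hnormal hy)⟩

theorem centric_core_of_stable (hp2 : p ≠ 2) : ∀ (n : ℕ) (X : Type u) [Group X] [Finite X],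
    Nat.card X = n → StabP p X → ∀ S : Sylow p X,
      centralizerIn (S : Subgroup X) (groupFusionSystem (S : Subgroup X)).core ≤
        (groupFusionSystem (S : Subgroup X)).core := by
  intro n
  induction n using Nat.strong_induction_on with
  | _ n ih =>
    intro X _ _ hn hst S
    subst hn
    by_cases hS1 : (S : Subgroup X) = ⊥
    · intro x hx
      have := (mem_centralizerIn.mp hx).1
      rw [hS1, mem_bot] at this
      rw [this]; exact Subgroup.one_mem _
    set W := ZJAb 0 (S : Subgroup X) with hWdef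
    have hW : W ≠ ⊥ := ZJAb_ne_bot (Or.inl rfl) S.2 hS1
    have hWS : W ≤ (S : Subgroup X) := ZJAb_le _
    have hgood := goodZJ_of_stabP hp2 _ X le_rfl hst S (S : Subgroup X)
      ⟨le_rfl, fun d hd g hg => hg⟩
    set H := normalizer (W : Set X) with hH
    by_cases hHtop : H = ⊤
    · haveI : W.Normal := normalizer_eq_top_iff.mp hHtop
      refine centric_core_of_normal W hW hWS ?_ (fun Y _ _ hY h T => ih _ hY Y rfl h T) hst hp2
      exact fun a ha b hb => ZJAb_commute ha hb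
    have hSH : (S : Subgroup X) ≤ H :=
      le_normalizer.trans (normalizer_le_normalizer_ZJAb (S : Subgroup X))
    have hcard : Nat.card H < Nat.card X :=
      (Subgroup.card_le_card_group H).lt_of_ne fun e => hHtop (eq_top_of_card_eq H e)
    set SH : Sylow p H := S.subtype hSH
    have hcore := ih _ hcard H rfl (hst.subgroup H) SH
    set QH := (groupFusionSystem (SH : Subgroup H)).core with hQH
    have hQHn : (groupFusionSystem (SH : Subgroup H)).IsNormal QH := isNormal_core _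
    have hQS : QH.map H.subtype ≤ (S : Subgroup X) := by
      rintro _ ⟨x, hx, rfl⟩
      exact hQHn.1 hx
    have hnormal : (groupFusionSystem (S : Subgroup X)).IsNormal (QH.map H.subtype) := by
      refine isNormal_gfs_of_ctl hQS fun P g hP hg => ?_
      obtain ⟨k, hk, hkg⟩ := hgood P g hP (by rintro _ ⟨x, hx, rfl⟩; exact hg x hx)
      obtain ⟨l, hl, hlk⟩ := ctl_of_isNormal hQHn (P.subgroupOf H) ⟨k, hk⟩ (fun x hx => hP hx)
        (fun x hx => by
          show k * (x : X) * k⁻¹ ∈ (S : Subgroup X)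
          rw [hkg (x : X) hx]; exact hg (x : X) hx)
      refine ⟨l, le_normalizer_map H.subtype ⟨l, hl, rfl⟩, fun x hx => ?_⟩
      have h1 := congrArg Subtype.val (hlk ⟨x, hSH (hP hx)⟩ hx)
      rw [← hkg x hx]
      exact h1
    intro x hx
    obtain ⟨hxS, hxQ⟩ := mem_centralizerIn.mp hx
    refine le_core hnormal ⟨⟨x, hSH hxS⟩, hcore (mem_centralizerIn.mpr ⟨hxS, fun y hy =>
      Subtype.ext (hxQ y (le_core hnormal ⟨y, hy, rfl⟩))⟩), rfl⟩

theorem isConstrained_of_stable (hp2 : p ≠ 2) (S : Sylow p G) (h : StabP p G) :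
    (groupFusionSystem (S : Subgroup G)).IsConstrained p :=
  isConstrained_of_core (centric_core_of_stable hp2 _ G rfl h S)

end Cfsg.Agent.Fusion
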