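import Cfsg.Agent.Lib.Fusion.NormalSubgroupSystem
import Cfsg.Agent.Lib.Fusion.Invariant
import Cfsg.Agent.Lib.Fusion.NormalCriteria
import Cfsg.Agent.Lib.Fusion.InnerCriteria
import Cfsg.Agent.Lib.Fusion.StableConstrained
import Cfsg.Agent.Lib.Transfer.Residual
import Cfsg.Agent.Lib.Invol.TransferPow
import Cfsg.Agent.Lib.ConjFunctor.Sections

/-!
Normal subsystems of the fusion system of a constrained group come from normal subgroups.
-/

set_option autoImplicit false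
set_option linter.style.haveILetI false

namespace Cfsg.Agent.Fusion

open Cfsg.FusionSystem (centralizerIn normalizerIn)

universe u

section General

variable {Ω : Type u} [Group Ω] {S T R P : Subgroup Ω} {F : FusionSystem S} {p : ℕ}

theorem pow_card_eq_one_of_fix (hR : R ≤ P) {δ : MulAut P} (hfix : ∀ r ∈ R, autFun δ r = r)
    (h : ∀ x ∈ P, x⁻¹ * autFun δ x ∈ R) : δ ^ Nat.card R = 1 := by
  refine autFun_ext fun x hx => ?_
  set z := x⁻¹ * autFun δ x with hz
  have hzR : z ∈ R := h x hx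
  have hdx : autFun δ x = x * z := by rw [hz]; group
  clear_value z
  have hpow : ∀ k : ℕ, autFun (δ ^ k) x = x * z ^ k := by
    intro k
    induction k with
    | zero => rw [pow_zero, pow_zero, mul_one, autFun_one hx]
    | succ k ih =>
      rw [pow_succ' δ, autFun_mul _ _ hx, ih, autFun_apply δ (P.mul_mem hx (P.pow_mem (hR hzR) k)),
        show (⟨x * z ^ k, P.mul_mem hx (P.pow_mem (hR hzR) k)⟩ : P) =
          ⟨x, hx⟩ * ⟨z ^ k, P.pow_mem (hR hzR) k⟩ from rfl, map_mul, Subgroup.coe_mul,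
        ← autFun_apply δ hx, ← autFun_apply δ (P.pow_mem (hR hzR) k),
        hfix _ (R.pow_mem hzR k), hdx, pow_succ', mul_assoc]
  rw [hpow, autFun_one hx]
  have h1 := congrArg Subtype.val (pow_card_eq_one' (x := (⟨z, hzR⟩ : R)))
  simp only [SubmonoidClass.coe_pow, OneMemClass.coe_one] at h1
  rw [h1, mul_one]

variable [Finite S] [Fact p.Prime]

/-- Two subsystems over `T` with a common normal centric subgroup `R` and, on it, the same
automorphisms, the second one being invariant: the first lies in the second. -/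
theorem le_of_common_normal {E₁ E₂ : FusionSystem T} (hS : IsPGroup p S) (hTS : T ≤ S)
    (h₁ : E₁.IsSaturated p) (h₂ : E₂.IsSaturated p)
    (hs₁ : E₁.IsSubsystemOf F) (hs₂ : E₂.IsSubsystemOf F)
    (hn₂ : ∀ P ≤ T, ((E₂.autGroup P).subgroupOf (F.autGroup P)).Normal)
    (hR₁ : E₁.IsNormal R) (hR₂ : E₂.IsFullyNormalized R) (hRc₂ : E₂.IsCentric R)
    (hA : E₁.autGroup R ≤ E₂.autGroup R) {P : Subgroup Ω} {f : Ω → Ω} (hf : MapTo E₁ P f) :
    MapTo E₂ P f := by
  haveI := finite_of_le hTS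
  have hTp := hS.to_le hTS
  refine alperin hTp h₁ E₂ (fun P hP => ?_) P f hf
  have hPT : P ≤ T := by
    rcases hP with rfl | h
    · exact le_rfl
    · exact h.1.1
  have hfn : E₁.IsFullyNormalized P := by
    rcases hP with rfl | h
    · exact isFullyNormalized_top
    · exact h.2.1
  obtain ⟨hRP, hinv⟩ := le_and_invariant_of_isNormal hTp hR₁ P hP
  haveI := finite_of_le hPT
  haveI := finite_of_le hR₂.1
  haveI := finite_mulAut P
  intro α hα
  obtain ⟨a, b, -, -, hab, ⟨k, hk⟩, hb⟩ :=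
    Transfer.exists_pPart_mul (p := p) (⟨α, hα⟩ : E₁.autGroup P)
  have hab' : (a : MulAut P) * (b : MulAut P) = α := congrArg Subtype.val hab
  rw [← hab']
  refine Subgroup.mul_mem _ ?_ ?_
  · refine mem_of_pow_eq_one_of_normal hTp (isFullyAutomized_of_isFullyNormalized hTp h₁ hfn)
      ⟨fun β hβ γ => ?_⟩ (autInducedBy_le_autGroup hPT) a.2 (k := k) ?_
    · exact Subgroup.mem_subgroupOf.mpr (Subgroup.mem_subgroupOf.mp ((hn₂ P hPT).conj_mem
        ⟨β, IsSubsystemOf.autGroup_le hs₁ P β.2⟩ hβ ⟨γ, IsSubsystemOf.autGroup_le hs₁ P γ.2⟩))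
    · rw [← SubgroupClass.coe_pow, orderOf_dvd_iff_pow_eq_one.mp hk]; rfl
  set f := autFun (b : MulAut P)
  have hm : MapTo E₁ P f := mapTo_of_mem_autGroup hPT b.2
  have hmR := hm.restrict hRP
  have himgR : img f R = R := img_eq_self_of_forall hmR fun x hx => hinv _ b.2 x hx
  have hf2 : MapTo E₂ R f :=
    (mapTo_of_mem_autGroup hR₂.1 (hA (autOf_mem hmR himgR))).congr'
      fun x hx => (autFun_autOf hmR himgR hx).symm
  obtain ⟨g, hg, hgf⟩ :=
    (isReceptive_iff.mp (isReceptive_of_isFullyNormalized hTp h₂ hR₂)).2 R f hf2 himgR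
  have hRn : ∀ {x : Ω}, x ∈ P → ∀ r ∈ R, x * r * x⁻¹ ∈ R := fun hx r hr =>
    (Subgroup.mem_normalizer_iff.mp (IsNormal.le_normalizer hR₁ (hPT hx)) r).mp hr
  have hg' : MapTo E₂ P g := hg.restrict fun x hx =>
    ⟨⟨hPT hx, IsNormal.le_normalizer hR₁ (hPT hx)⟩, f x, hm.mem hx,
      fun r hr => hm.map_conj hx (hRP hr)⟩
  have hw : ∀ x ∈ P, (g x)⁻¹ * f x ∈ R := by
    intro x hx
    refine centralizerIn_le_of_isCentric hRc₂ (mem_centralizerIn.mpr
      ⟨T.mul_mem (T.inv_mem (hg'.mem hx)) (hm.mem hx), fun r hr => ?_⟩)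
    obtain ⟨r₀, hr₀, rfl⟩ := (hmR.mem_img_iff le_rfl).mp (himgR.ge hr)
    have h1 := hgf _ (hRn hx r₀ hr₀)
    rw [hg'.map_conj hx (hRP hr₀), hm.map_conj hx (hRP hr₀), hgf r₀ hr₀] at h1
    calc f r₀ * ((g x)⁻¹ * f x) = (g x)⁻¹ * (g x * f r₀ * (g x)⁻¹) * f x := by group
      _ = (g x)⁻¹ * f x * f r₀ := by rw [h1]; group
  have hgP : ∀ x ∈ P, g x ∈ P := fun x hx => by
    have h1 := P.mul_mem (autFun_mem (b : MulAut P) hx) (P.inv_mem (hRP (hw x hx)))
    rwa [show f x * ((g x)⁻¹ * f x)⁻¹ = g x by group] at h1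
  have himgP : img g P = P := img_eq_self_of_forall hg' hgP
  set γ := autOf hg' himgP with hγdef
  have hγ : γ ∈ E₂.autGroup P := autOf_mem hg' himgP
  set δ := γ⁻¹ * (b : MulAut P) with hδdef
  have hδF : δ ∈ F.autGroup P := Subgroup.mul_mem _ (Subgroup.inv_mem _ (IsSubsystemOf.autGroup_le hs₂ P hγ))
    (IsSubsystemOf.autGroup_le hs₁ P b.2)
  have hgδ : ∀ x ∈ P, g (autFun δ x) = f x := fun x hx => by
    rw [← autFun_autOf hg' himgP (autFun_mem δ hx), ← autFun_mul _ _ hx, hδdef,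
      mul_inv_cancel_left]
  have hfix : ∀ r ∈ R, autFun δ r = r := fun r hr =>
    hg'.inj (autFun_mem δ (hRP hr)) (hRP hr) ((hgδ r (hRP hr)).trans (hgf r hr).symm)
  have hδR : ∀ x ∈ P, x⁻¹ * autFun δ x ∈ R := by
    intro x hx
    have hxP := P.mul_mem (P.inv_mem hx) (autFun_mem δ hx)
    refine (hg'.apply_mem_img_iff hRP hxP).mp ?_
    rw [show img g R = R from (img_congr hgf).trans himgR,
      hg'.map_mul (P.inv_mem hx) (autFun_mem δ hx), hg'.map_inv hx, hgδ x hx]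
    exact hw x hx
  obtain ⟨e, he⟩ := IsPGroup.iff_card.mp ((hTp.to_le hR₂.1))
  have hδpow := pow_card_eq_one_of_fix hRP hfix hδR
  rw [he] at hδpow
  set A := F.autGroup P
  set K := (E₂.autGroup P).subgroupOf A
  haveI : K.Normal := hn₂ P hPT
  set b' : A := ⟨b, IsSubsystemOf.autGroup_le hs₁ P b.2⟩ with hb'
  have hb1 : QuotientGroup.mk' K b' = 1 := by
    refine Transfer.eq_one_of_pow_of_coprime (p := p) ⟨e, orderOf_dvd_of_pow_eq_one ?_⟩
      (Nat.Coprime.coprime_dvd_left ((orderOf_map_dvd _ _).trans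
        (dvd_of_eq ((Subgroup.orderOf_coe b').symm.trans (Subgroup.orderOf_coe b)))) hb)
    have h1 : QuotientGroup.mk' K b' = QuotientGroup.mk' K ⟨δ, hδF⟩ := by
      have hbγ : b' = ⟨γ, IsSubsystemOf.autGroup_le hs₂ P hγ⟩ * ⟨δ, hδF⟩ :=
        Subtype.ext (by show (b : MulAut P) = γ * δ; rw [hδdef, mul_inv_cancel_left])
      rw [hbγ, map_mul, show QuotientGroup.mk' K ⟨γ, IsSubsystemOf.autGroup_le hs₂ P hγ⟩ = 1 from
        (QuotientGroup.eq_one_iff _).mpr hγ, one_mul]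
    rw [h1, ← map_pow, show (⟨δ, hδF⟩ : A) ^ p ^ e = 1 from Subtype.ext hδpow, map_one]
  exact (QuotientGroup.eq_one_iff (N := K) b').mp hb1

/-- The trace of a normal subgroup in a saturated subsystem over a normal subgroup is normal. -/
theorem isNormal_inf_of_subsystem {E : FusionSystem T} {Q : Subgroup Ω} (hS : IsPGroup p S)
    (hTS : T ≤ S) (hQ : F.IsNormal Q) (hE : E.IsSaturated p) (hs : E.IsSubsystemOf F) :
    E.IsNormal (Q ⊓ T) := by
  haveI := finite_of_le hTS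
  obtain ⟨n, h0, hn, hmono, hnorm, hcomm⟩ := exists_normal_series hS hQ
  refine isNormal_of_stronglyClosed_series (hS.to_le hTS) hE
    (fun i : Fin (n + 1) => ucs Q i ⊓ T) ?_ ?_
    (fun a b hab => inf_le_inf_right T (hmono hab))
    (fun i => ?_)
    (fun i x hx k hk => ⟨hcomm i x hx.1 k hk.1,
      T.mul_mem (T.inv_mem hx.2) (T.mul_mem (T.mul_mem hk.2 hx.2) (T.inv_mem hk.2))⟩)
  · simp [h0]
  · simp [hn]
  · exact stronglyClosed_iff.mpr ⟨inf_le_right, fun _ _ hR hf x hx =>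
      ⟨StronglyClosed.map_mem (IsNormal.stronglyClosed (hnorm _)) (IsSubsystemOf.mapTo hs hf) hx
        (hR hx).1, hf.mem hx⟩⟩

end General

section Group

variable {G : Type u} [Group G] [Finite G] {p : ℕ} [hp : Fact p.Prime]

theorem pResidual_map_subtype_le {D H : Subgroup G}
    (h : ∀ x ∈ D, (orderOf x).Coprime p → x ∈ H) : (pResidual p D).map D.subtype ≤ H := by
  rw [pResidual, MonoidHom.map_closure, Subgroup.closure_le]
  rintro _ ⟨x, hx, rfl⟩
  exact h x x.2 ((Subgroup.orderOf_coe x).symm ▸ hx)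

/-- A subgroup is generated by a Sylow subgroup and its elements of order prime to `p`. -/
theorem exists_residual_mul {D U H : Subgroup G} (hU : IsSylowIn p U D)
    (h : ∀ x ∈ D, (orderOf x).Coprime p → x ∈ H) {d : G} (hd : d ∈ D) :
    ∃ o ∈ H, ∃ s ∈ U, o * s = d := by
  obtain ⟨P, hP⟩ := (isSylowIn_iff_exists hU.1).mp hU
  haveI := Transfer.pResidual_normal D p
  have htop := Transfer.pResidual_sup_sylow P
  obtain ⟨o, ho, s, hs, hos⟩ := Subgroup.mem_sup_of_normal_left.mp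
    (htop.ge (Subgroup.mem_top (⟨d, hd⟩ : D)))
  refine ⟨o, pResidual_map_subtype_le h ⟨o, ho, rfl⟩, s, ?_, congrArg Subtype.val hos⟩
  rw [hP] at hs
  exact Subgroup.mem_subgroupOf.mp hs

theorem inf_eq_of_isSylowIn {S : Sylow p G} {H T : Subgroup G} (hTH : T ≤ H)
    (hTS : T ≤ (S : Subgroup G)) (hT : IsSylowIn p T H) : (S : Subgroup G) ⊓ H = T :=
  (hT.eq_of_le (le_inf hTS hTH) inf_le_right (S.2.to_le inf_le_left)).symm

/-- The fusion system of a normal subgroup, over its Sylow subgroup, as data. -/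
theorem fsSub_data {S : Sylow p G} {H T : Subgroup G} [H.Normal] (hTH : T ≤ H)
    (hT : (S : Subgroup G) ⊓ H = T) :
    (fusionSystemOfSubgroup H T hTH).IsWeaklyNormalIn (groupFusionSystem (S : Subgroup G)) p := by
  subst hT
  exact (isNormalIn_fsSub S H).1

/-- A normal subsystem of the fusion system of a constrained group is that of a normal subgroup. -/
theorem exists_normal_of_isNormalIn {S : Sylow p G}
    (hG : Subgroup.centralizer ((pCore p G : Subgroup G) : Set G) ≤ pCore p G) {T : Subgroup G}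
    (hTS : T ≤ (S : Subgroup G)) {E : FusionSystem T}
    (hE : E.IsNormalIn (groupFusionSystem (S : Subgroup G)) p) :
    ∃ H : Subgroup G, (∃ hTH : T ≤ H, H.Normal ∧ IsSylowIn p T H ∧
        ∀ P : Subgroup G, E.Hom P = (fusionSystemOfSubgroup H T hTH).Hom P) ∧
      ∀ H' : Subgroup G, (∃ hTH' : T ≤ H', H'.Normal ∧ IsSylowIn p T H' ∧
        ∀ P : Subgroup G, E.Hom P = (fusionSystemOfSubgroup H' T hTH').Hom P) → H' = H := by
  classical
  set Sg := (S : Subgroup G) with hSg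
  set F := groupFusionSystem Sg with hFdef
  have hSp : IsPGroup p Sg := S.2
  have hFs : F.IsSaturated p := isSaturated_gfs S
  obtain ⟨⟨hEs, -, hEi⟩, hext⟩ := hE
  have hTp : IsPGroup p T := hSp.to_le hTS
  -- the core of the group
  set Q := pCore p G with hQdef
  haveI hQn : Q.Normal := by
    refine ⟨fun x hx g => ?_⟩
    have hle : Q ≤ Q.comap (MulAut.conj g).toMonoidHom := by
      refine sSup_le fun N hN y hy => ?_
      exact (le_sSup hN : N ≤ Q) (hN.1.conj_mem y hy g)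
    exact hle hx
  have hQp : IsPGroup p Q := isPGroup_pCore p G
  have hQS : Q ≤ Sg := Cfsg.Agent.ConjFunctor.pCore_le_sylow S
  have hQF : F.IsNormal Q := isNormal_gfs_of_ctl hQS fun P g _ _ =>
    ⟨g, by rw [Subgroup.normalizer_eq_top]; exact Subgroup.mem_top g, fun _ _ => rfl⟩
  -- strong closure of `T`
  have hTg : ∀ (g x : G), x ∈ T → g * x * g⁻¹ ∈ Sg → g * x * g⁻¹ ∈ T := by
    intro g x hx hgx
    have hm : MapTo F (Subgroup.zpowers x) (cj g) :=
      mapTo_gfs_cj (Subgroup.zpowers_le.mpr (hTS hx)) fun y hy => by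
        obtain ⟨k, rfl⟩ := Subgroup.mem_zpowers_iff.mp hy
        rw [← conj_zpow]
        exact Subgroup.zpow_mem _ hgx k
    exact (stronglyClosed_iff.mp hEi.2.1).2 _ _ (Subgroup.zpowers_le.mpr hx) hm x
      (Subgroup.mem_zpowers x)
  set R := Q ⊓ T with hRdef
  have hRT : R ≤ T := inf_le_right
  have hRQ : R ≤ Q := inf_le_left
  have hRS : R ≤ Sg := hRT.trans hTS
  haveI hRn : R.Normal := ⟨fun x hx g =>
    ⟨hQn.conj_mem x hx.1 g, hTg g x hx.2 (hQS (hQn.conj_mem x hx.1 g))⟩⟩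
  haveI := finite_of_le hRT
  haveI := finite_mulAut R
  set cR : G →* MulAut R := MulAut.conjNormal with hcR
  have hcR_ap : ∀ (g : G) {x : G}, x ∈ R → autFun (cR g) x = g * x * g⁻¹ := fun g x hx => by
    rw [autFun_apply _ hx]; exact MulAut.conjNormal_apply g ⟨x, hx⟩
  have hcR_eq : ∀ {g : G} {α : MulAut R}, (∀ x ∈ R, autFun α x = g * x * g⁻¹) → cR g = α :=
    fun h => autFun_ext fun x hx => (hcR_ap _ hx).trans (h x hx).symm
  have hFR : ∀ g : G, cR g ∈ F.autGroup R := fun g => by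
    rw [hFdef, autGroup_gfs hRS, mem_autInducedBy_iff_cj]
    exact ⟨g, Subgroup.mem_top g, fun x hx => hcR_ap g hx⟩
  have hFR' : ∀ α ∈ F.autGroup R, ∃ g, cR g = α := fun α hα => by
    rw [hFdef, autGroup_gfs hRS, mem_autInducedBy_iff_cj] at hα
    obtain ⟨g, -, hg⟩ := hα
    exact ⟨g, hcR_eq hg⟩
  -- the elements centralizing `Q / R`
  set CQ : Subgroup G := (Subgroup.centralizer
    ((Q.map (QuotientGroup.mk' R) : Subgroup (G ⧸ R)) : Set (G ⧸ R))).comap (QuotientGroup.mk' R)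
    with hCQdef
  haveI : (Q.map (QuotientGroup.mk' R)).Normal :=
    hQn.map _ (QuotientGroup.mk'_surjective R)
  haveI hCQn : CQ.Normal := Subgroup.normal_comap _
  have hCQ : ∀ {g : G}, g ∈ CQ ↔ ∀ q ∈ Q, q⁻¹ * (g * q * g⁻¹) ∈ R := by
    intro g
    rw [hCQdef, Subgroup.mem_comap, Subgroup.mem_centralizer_iff]
    constructor
    · intro h q hq
      apply QuotientGroup.eq.mp
      have h1 := h (QuotientGroup.mk' R q) ⟨q, hq, rfl⟩
      simp only [QuotientGroup.mk'_apply] at h1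
      simp only [QuotientGroup.mk_mul, QuotientGroup.mk_inv]
      rw [← h1, mul_inv_cancel_right]
    · rintro h _ ⟨q, hq, rfl⟩
      have h1 : ((q : G) : G ⧸ R) = ((g * q * g⁻¹ : G) : G ⧸ R) := QuotientGroup.eq.mpr (h q hq)
      simp only [QuotientGroup.mk'_apply]
      conv_lhs => rw [h1, ← QuotientGroup.mk_mul, inv_mul_cancel_right]
      rw [QuotientGroup.mk_mul]
  -- stabilizer of `Q ≥ R ≥ 1`
  have hNQ : ∀ d ∈ CQ, (∀ r ∈ R, d * r * d⁻¹ = r) → d ∈ Q := by
    set N := CQ ⊓ cR.ker with hN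
    have hNp : IsPGroup p N := by
      rintro ⟨d, hdC, hdk⟩
      have hfix : ∀ r ∈ R, d * r * d⁻¹ = r := fun r hr => by
        rw [← hcR_ap d hr, MonoidHom.mem_ker.mp hdk, autFun_one hr]
      obtain ⟨e, he⟩ := IsPGroup.iff_card.mp (hTp.to_le hRT)
      have hcent : d ^ p ^ e ∈ Subgroup.centralizer (Q : Set G) := by
        refine Subgroup.mem_centralizer_iff.mpr fun q hq => ?_
        set z := q⁻¹ * (d * q * d⁻¹) with hz
        have hzR : z ∈ R := hCQ.mp hdC q hq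
        have hpow : ∀ k : ℕ, d ^ k * q * (d ^ k)⁻¹ = q * z ^ k := by
          intro k
          induction k with
          | zero => simp
          | succ k ih =>
            calc d ^ (k + 1) * q * (d ^ (k + 1))⁻¹
                = d * (d ^ k * q * (d ^ k)⁻¹) * d⁻¹ := by rw [pow_succ']; group
              _ = (d * q * d⁻¹) * (d * z ^ k * d⁻¹) := by rw [ih]; group
              _ = q * z * z ^ k := by rw [hfix _ (R.pow_mem hzR k), hz]; group
              _ = q * z ^ (k + 1) := by rw [mul_assoc, ← pow_succ']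
        have h1 := congrArg Subtype.val (pow_card_eq_one' (x := (⟨z, hzR⟩ : R)))
        simp only [SubmonoidClass.coe_pow, OneMemClass.coe_one, he] at h1
        have h2 := hpow (p ^ e)
        rw [h1, mul_one] at h2
        exact (mul_inv_eq_iff_eq_mul.mp h2).symm
      obtain ⟨m, hm⟩ := hQp ⟨d ^ p ^ e, hG hcent⟩
      refine ⟨e + m, Subtype.ext ?_⟩
      show d ^ p ^ (e + m) = 1
      rw [pow_add, pow_mul]
      exact congrArg Subtype.val hm
    haveI : N.Normal := inferInstance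
    intro d hd hfix
    refine (le_sSup ⟨inferInstance, hNp⟩ : N ≤ Q) ⟨hd, MonoidHom.mem_ker.mpr ?_⟩
    exact hcR_eq fun r hr => by rw [autFun_one hr, hfix r hr]
  -- `R` is centric and normal in saturated subsystems over `T`
  have hTN : T ≤ Subgroup.normalizer (R : Set G) := by
    rw [Subgroup.normalizer_eq_top]; exact le_top
  have hTCQ : T ≤ CQ := fun t ht => hCQ.mpr fun q hq =>
    ⟨Q.mul_mem (Q.inv_mem hq) (hQn.conj_mem q hq t), by
      rw [show q⁻¹ * (t * q * t⁻¹) = (q⁻¹ * t * q) * t⁻¹ by group]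
      refine T.mul_mem ?_ (T.inv_mem ht)
      simpa using StronglyClosed.conj_mem hEi.2.1 (Sg.inv_mem (hQS hq)) ht⟩
  have hcentR : centralizerIn T R ≤ R := fun c hc => ⟨hNQ c (hTCQ hc.1) fun r hr => by
    rw [← (mem_centralizerIn.mp hc).2 r hr, mul_inv_cancel_right], hc.1⟩
  have hRc : ∀ {E' : FusionSystem T}, E'.IsSubsystemOf F → E'.IsCentric R := by
    intro E' hs
    refine ⟨hRT, fun X hX => ?_⟩
    obtain ⟨f, hf, rfl⟩ := isConj_iff.mp hX
    obtain ⟨-, g, hg⟩ := mapTo_gfs_iff.mp (IsSubsystemOf.mapTo hs hf)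
    rw [img_eq_self_of_forall hf fun x hx => (hg x hx).1 ▸ hRn.conj_mem x hx g]
    exact hcentR
  have hRfn : ∀ (E' : FusionSystem T), E'.IsFullyNormalized R := fun E' =>
    isFullyNormalized_of_normal hRT hTN
  haveI : Finite T := finite_of_le hTS
  -- the automorphisms of `R` in `E`
  set A := E.autGroup R with hAdef
  have hAF : A ≤ F.autGroup R := IsSubsystemOf.autGroup_le hEi.1 R
  have hAn : (A.subgroupOf (F.autGroup R)).Normal := IsInvariantIn.normal_autGroup hEi hRT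
  have hAconj : ∀ (g : G) {α : MulAut R}, α ∈ A → cR g * α * (cR g)⁻¹ ∈ A := fun g α hα =>
    Subgroup.mem_subgroupOf.mp (hAn.conj_mem ⟨α, hAF hα⟩ hα ⟨cR g, hFR g⟩)
  set M := A.comap cR with hMdef
  haveI hMn : M.Normal := ⟨fun m hm g => by
    rw [hMdef, Subgroup.mem_comap, map_mul, map_mul, map_inv]
    exact hAconj g hm⟩
  set D := M ⊓ CQ with hDdef
  haveI hDn : D.Normal := inferInstance
  have hTA : ∀ t ∈ T, cR t ∈ autInducedBy T R := fun t ht =>
    mem_autInducedBy_iff_cj.mpr ⟨t, ht, fun x hx => hcR_ap t hx⟩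
  have hTD : T ≤ D := fun t ht => ⟨autInducedBy_le_autGroup hRT (hTA t ht), hTCQ ht⟩
  set I := D.map cR with hIdef
  have hIA : I ≤ A := by
    rintro _ ⟨d, hd, rfl⟩
    exact hd.1
  have hTI : autInducedBy T R ≤ I := by
    intro α hα
    obtain ⟨t, ht, htx⟩ := mem_autInducedBy_iff_cj.mp hα
    exact ⟨t, hTD ht, hcR_eq htx⟩
  obtain ⟨-, Rs, hRs⟩ := isFullyAutomized_of_isFullyNormalized hTp hEs (hRfn E)
  -- every element of `A` is induced in `D`
  have hsurj : A ≤ I := by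
    set Nn := I.subgroupOf A with hNn
    haveI hNnn : Nn.Normal := ⟨fun β hβ γ => by
      obtain ⟨d, hd, hdβ⟩ := hβ
      obtain ⟨g, hg⟩ := hFR' (γ : MulAut R) (hAF γ.2)
      exact ⟨g * d * g⁻¹, hDn.conj_mem d hd g, by
        rw [map_mul, map_mul, map_inv, hdβ, hg]; rfl⟩⟩
    have hRN : (Rs : Subgroup A) ≤ Nn := by
      rw [hRs]; exact Subgroup.comap_mono hTI
    suffices h : Subgroup.normalizer ((Rs : Subgroup A) : Set A) ≤ Nn by
      intro α hα
      have htop := Sylow.normalizer_sup_eq_top' Rs hRN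
      exact Subgroup.mem_subgroupOf.mp
        ((sup_le h le_rfl : _ ≤ Nn) (htop.ge (Subgroup.mem_top (⟨α, hα⟩ : A))))
    intro n hn
    -- extend to `T`
    have hnm : MapTo E R (autFun (n : MulAut R)) := mapTo_of_mem_autGroup hRT n.2
    obtain ⟨g, hg, hgn⟩ := (isReceptive_iff.mp (isReceptive_of_isFullyNormalized hTp hEs (hRfn E))).2
      R _ hnm (img_autFun _)
    have hext' : T ≤ extSub T hnm := by
      intro k hk
      have hkA : cR k ∈ A := autInducedBy_le_autGroup hRT (hTA k hk)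
      have hkR : (⟨cR k, hkA⟩ : A) ∈ (Rs : Subgroup A) := by
        rw [hRs]; exact hTA k hk
      have h1 := (Subgroup.mem_normalizer_iff.mp hn _).mp hkR
      rw [hRs] at h1
      obtain ⟨h, hh, hx'⟩ := mem_autInducedBy_iff_cj.mp (Subgroup.mem_subgroupOf.mp h1)
      refine ⟨⟨hk, hTN hk⟩, h, hh, fun x hx => ?_⟩
      have h2 := hx' _ (autFun_mem (n : MulAut R) hx)
      simp only [Subgroup.coe_mul, Subgroup.coe_inv] at h2
      rw [autFun_mul _ _ (autFun_mem _ hx), autFun_inv_autFun _ hx, autFun_mul _ _ hx,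
        hcR_ap k hx, cj_apply] at h2
      exact h2
    have hgT := hg.restrict hext'
    set α := autOf hgT (img_eq_self_of_forall hgT fun x hx => hgT.mem hx) with hαdef
    have hαE : α ∈ E.autGroup T := autOf_mem hgT _
    set U := T ⊔ centralizerIn Sg T with hUdef
    obtain ⟨β, hβ, hβT, hβc⟩ := hext α hαE
    have hUS : U ≤ Sg := sup_le hTS centralizerIn_le
    rw [hFdef, autGroup_gfs hUS, mem_autInducedBy_iff_cj] at hβ
    obtain ⟨g₀, -, hg₀⟩ := hβ
    have hg₀T : ∀ t ∈ T, g₀ * t * g₀⁻¹ = autFun α t := fun t ht => by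
      have h1 := hg₀ t ((le_sup_left : T ≤ U) ht)
      rw [cj_apply, autFun_apply β ((le_sup_left : T ≤ U) ht)] at h1
      rw [← h1, autFun_apply α ht]
      exact hβT ⟨t, ht⟩
    have hg₀n : cR g₀ = n := hcR_eq fun x hx => by
      rw [hg₀T x (hRT hx), hαdef, autFun_autOf hgT _ (hRT hx), hgn x hx]
    have hU : ∀ u ∈ U, u⁻¹ * (g₀ * u * g₀⁻¹) ∈ T := by
      have hgen : ∀ u ∈ U, u ∈ Sg ∧ u⁻¹ * (g₀ * u * g₀⁻¹) ∈ T := by
        intro u hu
        rw [hUdef, Subgroup.sup_eq_closure] at hu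
        induction hu using Subgroup.closure_induction with
        | mem z hz =>
          rcases hz with hz | hz
          · refine ⟨hTS hz, T.mul_mem (T.inv_mem hz) ?_⟩
            rw [hg₀T z hz]
            exact autFun_mem α hz
          · refine ⟨centralizerIn_le hz, ?_⟩
            have hzU := (le_sup_right : centralizerIn Sg T ≤ U) hz
            have h1 := hβc ⟨z, hzU⟩ hz
            rw [← autFun_apply β hzU, hg₀ z hzU] at h1
            exact h1.1
        | one => exact ⟨Sg.one_mem, by simp [T.one_mem]⟩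
        | mul a b _ _ ha hb =>
          refine ⟨Sg.mul_mem ha.1 hb.1, ?_⟩
          rw [show (a * b)⁻¹ * (g₀ * (a * b) * g₀⁻¹) =
            b⁻¹ * (a⁻¹ * (g₀ * a * g₀⁻¹)) * b⁻¹⁻¹ * (b⁻¹ * (g₀ * b * g₀⁻¹)) by group]
          exact T.mul_mem (StronglyClosed.conj_mem hEi.2.1 (Sg.inv_mem hb.1) ha.2) hb.2
        | inv a _ ha =>
          refine ⟨Sg.inv_mem ha.1, ?_⟩
          rw [show a⁻¹⁻¹ * (g₀ * a⁻¹ * g₀⁻¹) = a * (a⁻¹ * (g₀ * a * g₀⁻¹))⁻¹ * a⁻¹ by group]
          exact StronglyClosed.conj_mem hEi.2.1 ha.1 (T.inv_mem ha.2)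
      exact fun u hu => (hgen u hu).2
    have hy : ∀ q ∈ Q, q⁻¹ * (g₀ * q * g₀⁻¹) ∈ U := by
      intro q hq
      set y := q⁻¹ * (g₀ * q * g₀⁻¹) with hydef
      have hyS : y ∈ Sg := hQS (Q.mul_mem (Q.inv_mem hq) (hQn.conj_mem q hq g₀))
      have hTn : Sg ≤ Subgroup.normalizer (T : Set G) := StronglyClosed.le_normalizer hEi.2.1
      obtain ⟨σ, hσ⟩ := exists_conjAut (hTn (hQS hq))
      have hσF : σ ∈ F.autGroup T :=
        autInducedBy_le_autGroup hTS (mem_autInducedBy_iff_cj.mpr ⟨q, hQS hq, hσ⟩)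
      set ν := σ⁻¹ * α * σ * α⁻¹ with hνdef
      have hνE : ν ∈ E.autGroup T := by
        refine Subgroup.mul_mem _ ?_ (Subgroup.inv_mem _ hαE)
        have := (IsInvariantIn.normal_autGroup hEi le_rfl).conj_mem
          ⟨α, IsSubsystemOf.autGroup_le hEi.1 T hαE⟩ hαE ⟨σ⁻¹, Subgroup.inv_mem _ hσF⟩
        simpa using Subgroup.mem_subgroupOf.mp this
      have hνy : ∀ t ∈ T, autFun ν t = cj y t := by
        intro t ht
        obtain ⟨t₀, ht₀, hα₀⟩ : ∃ t₀ ∈ T, autFun α t₀ = t :=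
          ⟨_, autFun_mem _ ht, autFun_autFun_inv α ht⟩
        have hσinv : ∀ x ∈ T, autFun σ⁻¹ x = q⁻¹ * x * q := fun x hx => by
          have h1 := hσ _ (autFun_mem σ⁻¹ hx)
          rw [autFun_autFun_inv σ hx, cj_apply] at h1
          conv_rhs => rw [h1]
          group
        rw [hνdef, autFun_mul _ _ ht, ← hα₀, autFun_inv_autFun α ht₀, autFun_mul _ _ ht₀,
          autFun_mul _ _ (autFun_mem σ ht₀), hσinv _ (autFun_mem α (autFun_mem σ ht₀)),
          ← hg₀T _ (autFun_mem σ ht₀), hσ t₀ ht₀, ← hg₀T t₀ ht₀, cj_apply, cj_apply, hydef]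
        group
      obtain ⟨k, hk⟩ := isPGroup_autInducedBy hSp T
        ⟨ν, mem_autInducedBy_iff_cj.mpr ⟨y, hyS, hνy⟩⟩
      have hνI : ν ∈ Inn T :=
        mem_of_pow_eq_one_of_normal hTp (isFullyAutomized_of_isFullyNormalized hTp hEs
          isFullyNormalized_top) (normal_inn_subgroupOf E T) (autInducedBy_self_eq_inn).le hνE
          (k := k) (congrArg Subtype.val hk)
      rw [inn_eq_autInducedBy, mem_autInducedBy_iff_cj] at hνI
      obtain ⟨t, ht, htx⟩ := hνI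
      have hc : t⁻¹ * y ∈ centralizerIn Sg T := mem_centralizerIn.mpr
        ⟨Sg.mul_mem (Sg.inv_mem (hTS ht)) hyS, fun x hx => by
          have h1 := (hνy x hx).symm.trans (htx x hx)
          rw [cj_apply, cj_apply] at h1
          calc x * (t⁻¹ * y) = t⁻¹ * (t * x * t⁻¹) * y := by group
            _ = t⁻¹ * y * x := by rw [← h1]; group⟩
      have h2 := U.mul_mem (Subgroup.mem_sup_left ht) (Subgroup.mem_sup_right hc)
      rwa [mul_inv_cancel_left] at h2
    obtain ⟨e, he⟩ := IsPGroup.iff_card.mp hQp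
    have hgD : g₀ ^ p ^ e ∈ D := by
      refine ⟨?_, hCQ.mpr fun q hq => ?_⟩
      · show cR (g₀ ^ p ^ e) ∈ A
        rw [map_pow, hg₀n]
        exact Subgroup.pow_mem _ n.2 _
      · set y := q⁻¹ * (g₀ * q * g₀⁻¹) with hydef
        have hyQ : y ∈ Q := Q.mul_mem (Q.inv_mem hq) (hQn.conj_mem q hq g₀)
        have hyR : y⁻¹ * (g₀ * y * g₀⁻¹) ∈ R :=
          ⟨Q.mul_mem (Q.inv_mem hyQ) (hQn.conj_mem y hyQ g₀), hU y (hy q hq)⟩
        apply QuotientGroup.eq.mp
        have hgy : (g₀ : G ⧸ R) * y * (g₀ : G ⧸ R)⁻¹ = y := by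
          rw [← QuotientGroup.mk_inv, ← QuotientGroup.mk_mul, ← QuotientGroup.mk_mul]
          exact (QuotientGroup.eq.mpr hyR).symm
        have hgq : (g₀ : G ⧸ R) * q * (g₀ : G ⧸ R)⁻¹ = (q : G ⧸ R) * y := by
          rw [← QuotientGroup.mk_inv, ← QuotientGroup.mk_mul, ← QuotientGroup.mk_mul,
            ← QuotientGroup.mk_mul, hydef]
          congr 1
          group
        have hpow : ∀ k : ℕ, (g₀ : G ⧸ R) ^ k * q * ((g₀ : G ⧸ R) ^ k)⁻¹ =
            (q : G ⧸ R) * (y : G ⧸ R) ^ k := by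
          intro k
          induction k with
          | zero => simp
          | succ k ih =>
            calc (g₀ : G ⧸ R) ^ (k + 1) * q * ((g₀ : G ⧸ R) ^ (k + 1))⁻¹
                = (g₀ : G ⧸ R) * ((g₀ : G ⧸ R) ^ k * q * ((g₀ : G ⧸ R) ^ k)⁻¹) *
                    (g₀ : G ⧸ R)⁻¹ := by rw [pow_succ']; group
              _ = ((g₀ : G ⧸ R) * q * (g₀ : G ⧸ R)⁻¹) *
                    ((g₀ : G ⧸ R) * y * (g₀ : G ⧸ R)⁻¹) ^ k := by rw [ih, conj_pow]; group
              _ = (q : G ⧸ R) * (y : G ⧸ R) ^ (k + 1) := by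
                  rw [hgq, hgy, mul_assoc, ← pow_succ']
        have h1 := hpow (p ^ e)
        have hy1 : (y : G ⧸ R) ^ p ^ e = 1 := by
          have h3 := congrArg Subtype.val (pow_card_eq_one' (x := (⟨y, hyQ⟩ : Q)))
          simp only [SubmonoidClass.coe_pow, OneMemClass.coe_one, he] at h3
          rw [← QuotientGroup.mk_pow, h3, QuotientGroup.mk_one]
        rw [hy1, mul_one, ← QuotientGroup.mk_pow] at h1
        simp only [QuotientGroup.mk_mul, QuotientGroup.mk_inv]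
        exact h1.symm
    have hpowN : n ^ p ^ e ∈ Nn :=
      Subgroup.mem_subgroupOf.mpr ⟨_, hgD, by rw [map_pow, hg₀n, SubgroupClass.coe_pow]⟩
    have hcop : (Nn.index).Coprime p :=
      (hp.out.coprime_iff_not_dvd.mpr fun h =>
        Rs.not_dvd_index (h.trans (Subgroup.index_dvd_of_le hRN))).symm
    have h1 : QuotientGroup.mk' Nn n = 1 := by
      refine Transfer.eq_one_of_pow_of_coprime (p := p) ⟨e, orderOf_dvd_of_pow_eq_one ?_⟩
        (Nat.Coprime.coprime_dvd_left ?_ hcop)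
      · rw [← map_pow]; exact (QuotientGroup.eq_one_iff _).mpr hpowN
      · rw [Subgroup.index_eq_card]; exact orderOf_dvd_natCard _
    exact (QuotientGroup.eq_one_iff _).mp h1
  -- the Sylow subgroup of `D`
  obtain ⟨TD, hTDsyl⟩ := exists_sylow_inf S D
  set SD := Sg ⊓ D with hSDdef
  have hSD : IsSylowIn p SD D := (isSylowIn_iff_exists inf_le_right).mpr ⟨TD, hTDsyl⟩
  have hdec : ∀ s ∈ SD, ∃ t ∈ T, t⁻¹ * s ∈ Q ∧ ∀ r ∈ R, t⁻¹ * s * r * (t⁻¹ * s)⁻¹ = r := by
    intro s hs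
    set J := (SD.map cR).subgroupOf A with hJ
    have hJle : SD.map cR ≤ A := (Subgroup.map_mono inf_le_right).trans hIA
    have hJp : IsPGroup p J :=
      ((hSp.to_le inf_le_left).map cR).of_equiv (Subgroup.subgroupOfEquivOfLe hJle).symm
    have hJR : (Rs : Subgroup A) ≤ J := by
      rw [hRs]
      intro α hα
      obtain ⟨t, ht, htx⟩ := mem_autInducedBy_iff_cj.mp (Subgroup.mem_subgroupOf.mp hα)
      exact ⟨t, ⟨hTS ht, hTD ht⟩, hcR_eq htx⟩
    have h1 : (⟨cR s, hJle ⟨s, hs, rfl⟩⟩ : A) ∈ (Rs : Subgroup A) :=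
      (Rs.is_maximal' hJp hJR).le ⟨s, hs, rfl⟩
    rw [hRs] at h1
    obtain ⟨t, ht, htx⟩ := mem_autInducedBy_iff_cj.mp (Subgroup.mem_subgroupOf.mp h1)
    have hfix : ∀ r ∈ R, t⁻¹ * s * r * (t⁻¹ * s)⁻¹ = r := fun r hr => by
      have h2 := htx r hr
      rw [hcR_ap s hr, cj_apply] at h2
      calc t⁻¹ * s * r * (t⁻¹ * s)⁻¹ = t⁻¹ * (s * r * s⁻¹) * t := by group
        _ = r := by rw [h2]; group
    exact ⟨t, ht, hNQ _ (CQ.mul_mem (CQ.inv_mem (hTD ht).2) hs.2.2) hfix, hfix⟩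
  -- the subgroup `H`
  set H := Subgroup.closure ((T : Set G) ∪ {x | x ∈ D ∧ (orderOf x).Coprime p}) with hHdef
  have hTH : T ≤ H := fun t ht => Subgroup.subset_closure (Or.inl ht)
  have hHD : H ≤ D := (Subgroup.closure_le _).mpr
    (Set.union_subset hTD fun x hx => hx.1)
  have hcopH : ∀ x ∈ D, (orderOf x).Coprime p → x ∈ H := fun x hx hc =>
    Subgroup.subset_closure (Or.inr ⟨hx, hc⟩)
  have hTD_conj : ∀ d ∈ D, ∀ y ∈ T, d * y * d⁻¹ ∈ H := by
    intro d hd y hy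
    obtain ⟨o, ho, s, hs, rfl⟩ := exists_residual_mul hSD hcopH hd
    rw [show o * s * y * (o * s)⁻¹ = o * (s * y * s⁻¹) * o⁻¹ by group]
    exact H.mul_mem (H.mul_mem ho (hTH (StronglyClosed.conj_mem hEi.2.1 hs.1 hy))) (H.inv_mem ho)
  haveI hHn : H.Normal := by
    refine ⟨fun x hx g => ?_⟩
    have hle : H ≤ H.comap (MulAut.conj g).toMonoidHom := by
      rw [hHdef, Subgroup.closure_le]
      rintro z (hz | ⟨hzD, hzc⟩)
      · show g * z * g⁻¹ ∈ H
        obtain ⟨d, hd, hdk⟩ := hSD.2.2 (SD.map (MulAut.conj g).toMonoidHom)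
          (by rintro _ ⟨w, hw, rfl⟩; exact hDn.conj_mem w hw.2 g)
          ((hSp.to_le inf_le_left).map _)
        have h1 : d * (g * z * g⁻¹) * d⁻¹ ∈ SD := hdk _ ⟨z, ⟨hTS hz, hTD hz⟩, rfl⟩
        have h2 := hTg (d * g) z hz (by
          rw [show d * g * z * (d * g)⁻¹ = d * (g * z * g⁻¹) * d⁻¹ by group]; exact h1.1)
        have h3 := hTD_conj d⁻¹ (D.inv_mem hd) _ h2
        rwa [show d⁻¹ * (d * g * z * (d * g)⁻¹) * d⁻¹⁻¹ = g * z * g⁻¹ by group] at h3
      · refine hcopH _ (hDn.conj_mem z hzD g) ?_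
        rwa [show (MulAut.conj g).toMonoidHom z = (MulAut.conj g) z from rfl, MulEquiv.orderOf_eq]
    exact hle hx
  -- the transfer
  have hSH : Sg ⊓ H = T := by
    refine le_antisymm ?_ (le_inf hTS hTH)
    set P0 : Subgroup D := SD.subgroupOf D with hP0
    set T0 : Subgroup P0 := T.comap (D.subtype.comp P0.subtype) with hT0
    haveI : T0.Normal := ⟨fun x hx g => by
      show ((g : D) : G) * ((x : D) : G) * ((g : D) : G)⁻¹ ∈ T
      exact StronglyClosed.conj_mem hEi.2.1 (Subgroup.mem_subgroupOf.mp g.2).1 hx⟩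
    have hrep : ∀ a : P0, ∃ q : P0, ((q : D) : G) ∈ Q ∧
        (QuotientGroup.mk a : P0 ⧸ T0) = QuotientGroup.mk q := by
      intro a
      obtain ⟨t, ht, htq, -⟩ := hdec _ (Subgroup.mem_subgroupOf.mp a.2)
      have hmem : t⁻¹ * ((a : D) : G) ∈ SD :=
        SD.mul_mem (SD.inv_mem ⟨hTS ht, hTD ht⟩) (Subgroup.mem_subgroupOf.mp a.2)
      refine ⟨⟨⟨_, hmem.2⟩, Subgroup.mem_subgroupOf.mpr hmem⟩, htq, QuotientGroup.eq.mpr ?_⟩
      show ((a : D) : G)⁻¹ * (t⁻¹ * ((a : D) : G)) ∈ T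
      have h1 := StronglyClosed.conj_mem hEi.2.1
        (Sg.inv_mem (Subgroup.mem_subgroupOf.mp a.2).1) (T.inv_mem ht)
      rwa [inv_inv, mul_assoc] at h1
    have hcomm : ∀ a b : P0 ⧸ T0, a * b = b * a := by
      intro a b
      obtain ⟨a, rfl⟩ := QuotientGroup.mk_surjective a
      obtain ⟨b, rfl⟩ := QuotientGroup.mk_surjective b
      obtain ⟨q, hq, hqa⟩ := hrep a
      obtain ⟨q', hq', hqb⟩ := hrep b
      rw [hqa, hqb, ← QuotientGroup.mk_mul, ← QuotientGroup.mk_mul, QuotientGroup.eq]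
      show (((q : D) : G) * ((q' : D) : G))⁻¹ * (((q' : D) : G) * ((q : D) : G)) ∈ T
      have h1 := (hCQ.mp (CQ.inv_mem (q : D).2.2) _ hq').2
      rw [inv_inv] at h1
      rwa [show (((q : D) : G) * ((q' : D) : G))⁻¹ * (((q' : D) : G) * ((q : D) : G)) =
        ((q' : D) : G)⁻¹ * (((q : D) : G)⁻¹ * ((q' : D) : G) * ((q : D) : G)) by group]
    letI : CommGroup (P0 ⧸ T0) := { (inferInstance : Group (P0 ⧸ T0)) with mul_comm := hcomm }
    let φ : P0 →* P0 ⧸ T0 := QuotientGroup.mk' T0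
    let V : D →* P0 ⧸ T0 := MonoidHom.transfer φ
    have hVT : ∀ x : P0, ((x : D) : G) ∈ T → V x = 1 := fun x hx => by
      have h1 : ∀ y : P0, ((y : D) : G) ∈ T → φ y = 1 := fun y hy => (QuotientGroup.eq_one_iff y).mpr hy
      show MonoidHom.transfer φ (x : D) = 1
      rw [Invol.transfer_eq_pow_of_powers φ x fun g k hc => ?_, h1 x hx, one_pow]
      rw [h1 (x ^ k) (T.pow_mem hx k), h1]
      have hS' : ((g : D) : G)⁻¹ * ((x : D) : G) ^ k * (g : D) ∈ Sg :=
        (Subgroup.mem_subgroupOf.mp hc).1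
      have h2 := hTg ((g : D) : G)⁻¹ (((x : D) : G) ^ k) (T.pow_mem hx k) (by rwa [inv_inv])
      rwa [inv_inv] at h2
    have hVQ : ∀ x : P0, ((x : D) : G) ∈ Q → V x = φ x ^ P0.index := fun x hx => by
      refine Invol.transfer_eq_pow_of_powers φ x fun g k hc => ?_
      refine QuotientGroup.eq.mpr ?_
      show (((g : D) : G)⁻¹ * ((x : D) : G) ^ k * (g : D))⁻¹ * ((x : D) : G) ^ k ∈ T
      have h1 := (hCQ.mp (CQ.inv_mem g.2.2) _ (Q.pow_mem hx k)).2
      rw [inv_inv] at h1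
      convert T.inv_mem h1 using 1
      group
    have hA0 : IsPGroup p (P0 ⧸ T0) := (((hSp.to_le inf_le_left).of_equiv
      (Subgroup.subgroupOfEquivOfLe (inf_le_right : SD ≤ D)).symm)).to_quotient T0
    have hker : H ≤ V.ker.map D.subtype := by
      rw [hHdef, Subgroup.closure_le]
      rintro z (hz | ⟨hzD, hzc⟩)
      · exact ⟨⟨z, hTD hz⟩, hVT ⟨⟨z, hTD hz⟩, Subgroup.mem_subgroupOf.mpr ⟨hTS hz, hTD hz⟩⟩ hz, rfl⟩
      · refine ⟨⟨z, hzD⟩, ?_, rfl⟩
        exact Transfer.pResidual_le_ker V hA0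
          (Transfer.mem_pResidual_of_coprime (by rwa [← Subgroup.orderOf_coe]))
    rintro s ⟨hsS, hsH⟩
    obtain ⟨t, ht, htq, -⟩ := hdec s ⟨hsS, hHD hsH⟩
    have hqH : t⁻¹ * s ∈ H := H.mul_mem (H.inv_mem (hTH ht)) hsH
    have hqS : t⁻¹ * s ∈ SD := ⟨Sg.mul_mem (Sg.inv_mem (hTS ht)) hsS, hHD hqH⟩
    obtain ⟨⟨z, hzD⟩, hzker, hzeq⟩ := hker hqH
    simp only [Subgroup.coe_subtype] at hzeq
    subst hzeq
    set q : P0 := ⟨⟨t⁻¹ * s, hzD⟩, Subgroup.mem_subgroupOf.mpr hqS⟩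
    have h1 := hVQ q htq
    rw [show V (q : D) = 1 from MonoidHom.mem_ker.mp hzker] at h1
    have hidx : P0.index.Coprime p := by
      rw [← hTDsyl]
      exact (hp.out.coprime_iff_not_dvd.mpr TD.not_dvd_index).symm
    have h2 : φ q = 1 := Transfer.eq_one_of_pow_of_coprime
      (isPGroup_iff_orderOf_dvd_pow.mp hA0 _)
      (Nat.Coprime.coprime_dvd_left (orderOf_dvd_of_pow_eq_one h1.symm) hidx)
    have h3 : t⁻¹ * s ∈ T := (QuotientGroup.eq_one_iff q).mp h2
    have h4 := T.mul_mem ht h3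
    rwa [mul_inv_cancel_left] at h4
  have hTHsyl : IsSylowIn p T H := by
    obtain ⟨TH, hTH'⟩ := exists_sylow_inf S H
    exact (isSylowIn_iff_exists hTH).mpr ⟨TH, by rw [hTH', hSH]⟩
  set EH := fusionSystemOfSubgroup H T hTH with hEH
  obtain ⟨hEHs, -, hEHi⟩ := fsSub_data hTH hSH
  -- the same automorphisms on `R`
  have hAH : EH.autGroup R = A := by
    refine le_antisymm (fun α hα => ?_) fun α hα => ?_
    · obtain ⟨-, h, hh, hhx⟩ := mapTo_fsSub_iff.mp (mapTo_of_mem_autGroup hRT hα)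
      rw [← hcR_eq (g := h) fun x hx => (hhx x hx).1]
      exact (hHD hh).1
    · obtain ⟨d, hd, rfl⟩ := hsurj hα
      obtain ⟨o, ho, s, hs, rfl⟩ := exists_residual_mul hSD hcopH hd
      obtain ⟨t, ht, -, htfix⟩ := hdec s hs
      have hfixed : ∀ r ∈ R, s * r * s⁻¹ = t * r * t⁻¹ := fun r hr => by
        have h1 := htfix r hr
        calc s * r * s⁻¹ = t * ((t⁻¹ * s) * r * (t⁻¹ * s)⁻¹) * t⁻¹ := by group
          _ = t * r * t⁻¹ := by rw [h1]
      refine (mem_autGroup_iff hRT).mpr (mapTo_fsSub_iff.mpr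
        ⟨hRT, o * t, H.mul_mem ho (hTH ht), fun x hx => ⟨?_, hRT (hRn.conj_mem x hx _)⟩⟩)
      rw [hcR_ap _ hx, show o * s * x * (o * s)⁻¹ = o * (s * x * s⁻¹) * o⁻¹ by group, hfixed x hx]
      group
  have hEeq : ∀ P : Subgroup G, E.Hom P = EH.Hom P := by
    intro P
    ext φ
    rw [← mapTo_ev_iff (F := E), ← mapTo_ev_iff (F := EH)]
    constructor
    · exact fun h => le_of_common_normal hSp hTS hEs hEHs hEi.1 hEHi.1
        (fun X hX => IsInvariantIn.normal_autGroup hEHi hX)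
        (isNormal_inf_of_subsystem hSp hTS hQF hEs hEi.1) (hRfn EH) (hRc hEHi.1) hAH.ge h
    · exact fun h => le_of_common_normal hSp hTS hEHs hEs hEHi.1 hEi.1
        (fun X hX => IsInvariantIn.normal_autGroup hEi hX)
        (isNormal_inf_of_subsystem hSp hTS hQF hEHs hEHi.1) (hRfn E) (hRc hEi.1) hAH.le h
  refine ⟨H, ⟨hTH, hHn, hTHsyl, hEeq⟩, ?_⟩
  rintro H' ⟨hTH', hH'n, hT', hH'eq⟩
  haveI := hH'n
  have hSH' : Sg ⊓ H' = T := inf_eq_of_isSylowIn hTH' hTS hT'
  have hH'A : ∀ h ∈ H', cR h ∈ A := fun h hh => by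
    refine (mem_autGroup_iff hRT).mpr ?_
    obtain ⟨φ, hφ, hφx⟩ := (mapTo_fsSub_iff (hTH := hTH')).mpr
      ⟨hRT, h, hh, fun x hx => ⟨hcR_ap h hx, hRT (hRn.conj_mem x hx h)⟩⟩
    exact ⟨φ, (hH'eq R).ge hφ, hφx⟩
  have hH'D : H' ≤ D := fun h hh => ⟨hH'A h hh, hCQ.mpr fun q hq => by
    refine ⟨Q.mul_mem (Q.inv_mem hq) (hQn.conj_mem q hq h), hSH'.le ⟨?_, ?_⟩⟩
    · exact hQS (Q.mul_mem (Q.inv_mem hq) (hQn.conj_mem q hq h))
    · rw [show q⁻¹ * (h * q * h⁻¹) = (q⁻¹ * h * q⁻¹⁻¹) * h⁻¹ by group]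
      exact H'.mul_mem (hH'n.conj_mem h hh q⁻¹) (H'.inv_mem hh)⟩
  refine le_antisymm (fun h hh => ?_) ?_
  · obtain ⟨o, ho, s, hs, rfl⟩ :=
      exists_residual_mul hT' (fun x hx hc => hcopH x (hH'D hx) hc) hh
    exact H.mul_mem ho (hTH hs)
  · rw [hHdef, Subgroup.closure_le]
    rintro x (hx | ⟨hxD, hxc⟩)
    · exact hTH' hx
    obtain ⟨φ, hφ, hφx⟩ := mapTo_of_mem_autGroup hRT (hxD.1 : cR x ∈ A)
    obtain ⟨-, h, hh, hhx⟩ := (mapTo_fsSub_iff (hTH := hTH')).mp ⟨φ, (hH'eq R).le hφ, hφx⟩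
    have hq : h⁻¹ * x ∈ Q := hNQ _ (CQ.mul_mem (CQ.inv_mem (hH'D hh).2) hxD.2) fun r hr => by
      have h1 := (hhx r hr).1
      rw [hcR_ap x hr] at h1
      calc h⁻¹ * x * r * (h⁻¹ * x)⁻¹ = h⁻¹ * (x * r * x⁻¹) * h := by group
        _ = r := by rw [h1]; group
    refine (QuotientGroup.eq_one_iff x).mp ?_
    have h1 : (x : G ⧸ H') = ((h⁻¹ * x : G) : G ⧸ H') := by
      rw [QuotientGroup.mk_mul, QuotientGroup.mk_inv, (QuotientGroup.eq_one_iff h).mpr hh]
      simp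
    obtain ⟨m, hm⟩ := hQp ⟨_, hq⟩
    refine Transfer.eq_one_of_pow_of_coprime (p := p) ⟨m, orderOf_dvd_of_pow_eq_one ?_⟩
      (Nat.Coprime.coprime_dvd_left (orderOf_map_dvd (QuotientGroup.mk' H') x) hxc)
    rw [h1, ← QuotientGroup.mk_pow, show (h⁻¹ * x) ^ p ^ m = 1 from congrArg Subtype.val hm,
      QuotientGroup.mk_one]

end Group

end Cfsg.Agent.Fusion
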