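import Cfsg.Agent.Lib.Fusion.PrimeIndexMain

/-!
Normal subsystems of index prime to `p` detected on a normal subsystem.
-/

set_option autoImplicit false

namespace Cfsg.Agent.Fusion

open Cfsg.FusionSystem (centralizerIn normalizerIn)

variable {Ω : Type*} [Group Ω] {S T : Subgroup Ω} {F : FusionSystem S} {E : FusionSystem T}
variable {P Q R : Subgroup Ω} {f g h : Ω → Ω} {p : ℕ}

/-- `R ≤ T` all of whose `F`-conjugates are self-centralizing in `T`. -/
def HT (F : FusionSystem S) (T R : Subgroup Ω) : Prop :=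
  R ≤ T ∧ ∀ R' : Subgroup Ω, F.IsConj R R' → centralizerIn T R' ≤ R'

theorem HT.mono (hR : HT F T R) {R' : Subgroup Ω} (h : R ≤ R') (h' : R' ≤ T) : HT F T R' := by
  refine ⟨h', fun Q hQ => ?_⟩
  obtain ⟨f, hf, rfl⟩ := isConj_iff.mp hQ
  exact (centralizerIn_anti (img_mono h)).trans
    ((hR.2 _ (hf.restrict h).isConj).trans (img_mono h))

theorem HT.img (hsc : F.StronglyClosed T) (hR : HT F T R) (hf : MapTo F R f) :
    HT F T (Cfsg.Agent.Fusion.img f R) :=
  ⟨img_le_of_forall fun _ hx => StronglyClosed.map_mem hsc hf hx (hR.1 hx),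
    fun _ hQ => hR.2 _ (isConj_trans hf.isConj hQ)⟩

/-- The family on which the twist is defined. -/
def twistFamily (F : FusionSystem S) (T : Subgroup Ω) : Set (Subgroup Ω) :=
  {P | F.IsCentric P ∧ HT F T (P ⊓ T)}

variable [Finite S] [Fact p.Prime]

theorem HT.top (hsc : F.StronglyClosed T) : HT F T T := by
  refine ⟨le_rfl, fun Q hQ => ?_⟩
  obtain ⟨f, hf, rfl⟩ := isConj_iff.mp hQ
  rw [StronglyClosed.img_eq hsc hf le_rfl]
  exact centralizerIn_le

theorem img_inf_eq (hsc : F.StronglyClosed T) (hf : MapTo F P f) :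
    img f (P ⊓ T) = img f P ⊓ T := by
  refine le_antisymm (img_le_of_forall fun x hx =>
    ⟨mem_img_of_mem hx.1, StronglyClosed.map_mem hsc hf hx.1 hx.2⟩) ?_
  rintro y ⟨hy, hyT⟩
  obtain ⟨k, hk, hkf, -, -⟩ := hf.exists_iso_inverse
  obtain ⟨x, hx, rfl⟩ := (hf.mem_img_iff le_rfl).mp hy
  have hxT := StronglyClosed.map_mem hsc hk (mem_img_of_mem hx) hyT
  rw [hkf x hx] at hxT
  exact mem_img_of_mem ⟨hx, hxT⟩

/-- Outside the family there is a nontrivial element of `Out_S ⊓ O_p(Out_F)`. -/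
theorem exists_conj_star (hS : IsPGroup p S) (hF : F.IsSaturated p) (hsc : F.StronglyClosed T)
    (hP : F.IsCentric P) (hn : ¬ HT F T (P ⊓ T)) : ∃ Q, F.IsConj P Q ∧
      ¬ (autInducedBy S Q ⊓ (pCore p ↥(F.autGroup Q)).map (F.autGroup Q).subtype ≤ Inn Q) := by
  have hTS := hsc.1
  have hPS := hP.1
  have := finite_of_le hTS
  simp only [HT, not_and, not_forall] at hn
  obtain ⟨R, hR, hCR⟩ := hn inf_le_right
  obtain ⟨Rs, hRs, hRsn⟩ := exists_isFullyNormalized (F := F) (inf_le_left.trans hPS : P ⊓ T ≤ S)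
  have hfa := isFullyAutomized_of_isFullyNormalized hS hF hRsn
  have hrec := isReceptive_of_isFullyNormalized hS hF hRsn
  obtain ⟨τ, hτ, hτR⟩ :=
    exists_map_normalizerIn hS hfa hrec (isConj_trans (isConj_symm hR) hRs)
  obtain ⟨τ', hτ', hτ'R⟩ := exists_map_normalizerIn hS hfa hrec hRs
  have hPN : P ≤ normalizerIn S (P ⊓ T) := fun x hx => by
    have := finite_of_le (inf_le_left.trans hPS : P ⊓ T ≤ S)
    exact mem_normalizerIn_of_forall (inf_le_left.trans hPS) (hPS hx) fun y hy =>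
      ⟨P.mul_mem (P.mul_mem hx hy.1) (P.inv_mem hx),
        StronglyClosed.conj_mem hsc (hPS hx) hy.2⟩
  set Q := img τ' P with hQ
  have hPQ : F.IsConj P Q := (hτ'.restrict hPN).isConj
  have hQS : Q ≤ S := isConj_le_right hPQ
  have := finite_of_le hQS
  have := finite_mulAut Q
  have hQT : Q ⊓ T = Rs := by
    rw [hQ, ← img_inf_eq hsc (hτ'.restrict hPN)]
    exact hτ'R
  obtain ⟨c₀, hc₀, hc₀R⟩ := SetLike.not_le_iff_exists.mp hCR
  have hRN := le_normalizerIn (S := S) (isConj_le_right hR)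
  have hc₀S : c₀ ∈ centralizerIn S R := ⟨hTS hc₀.1, hc₀.2⟩
  have hc₀N : c₀ ∈ normalizerIn S R := centralizerIn_le_normalizerIn hc₀S
  set C := centralizerIn T Rs with hC
  have hCQ : ¬ C ≤ Q := by
    intro hle
    have h1 : τ c₀ ∈ C := ⟨StronglyClosed.map_mem hsc hτ hc₀N hc₀.1,
      (hτR ▸ hτ.map_mem_centralizerIn hRN hc₀N hc₀S).2⟩
    have h2 : τ c₀ ∈ Q ⊓ T := ⟨hle h1, h1.1⟩
    rw [hQT, ← hτR, hτ.apply_mem_img_iff hRN hc₀N] at h2
    exact hc₀R h2
  have hCS : C ≤ S := centralizerIn_le.trans hTS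
  have := finite_of_le hCS
  have hQRs : ∀ q ∈ Q, ∀ x ∈ Rs, q * x * q⁻¹ ∈ Rs := fun q hq x hx => by
    rw [← hQT] at hx ⊢
    exact ⟨Q.mul_mem (Q.mul_mem hq hx.1) (Q.inv_mem hq),
      StronglyClosed.conj_mem hsc (hQS hq) hx.2⟩
  have hQC : Q ≤ Subgroup.normalizer (C : Set Ω) := fun q hq =>
    mem_normalizer_of_forall fun y hy => by
      refine mem_centralizerIn.mpr ⟨StronglyClosed.conj_mem hsc (hQS hq) hy.1, fun x hx => ?_⟩
      have h1 := (mem_centralizerIn.mp hy).2 _ (hQRs q⁻¹ (Q.inv_mem hq) x hx)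
      calc x * (q * y * q⁻¹) = q * (q⁻¹ * x * q⁻¹⁻¹ * y) * q⁻¹ := by group
        _ = q * y * q⁻¹ * x := by rw [h1]; group
  obtain ⟨c, hc, hcQ, hcN⟩ := exists_mem_normalizer_not_mem hS hQS hCS hQC hCQ
  obtain ⟨α, hα⟩ := exists_conjAut (P := Q) hcN.2
  have hαS : α ∈ autInducedBy S Q := mem_autInducedBy_iff_cj.mpr ⟨c, hcN.1, hα⟩
  refine ⟨Q, hPQ, fun hle => hcQ (mem_of_cj_mem_inn (hP.2 Q hPQ) hcN.1 hα (hle ⟨hαS, ?_⟩) hQS)⟩
  -- the automorphisms stabilizing the series `1 ≤ Q ⊓ T ≤ Q`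
  have hRsQ : Rs ≤ Q := hQT ▸ inf_le_left
  let K : Subgroup (F.autGroup Q) :=
    { carrier := {a | (∀ x ∈ Rs, autFun (a : MulAut Q) x = x) ∧
        ∀ q ∈ Q, q⁻¹ * autFun (a : MulAut Q) q ∈ Rs}
      one_mem' := ⟨fun x hx => autFun_one (hRsQ hx), fun q hq => by
        rw [Subgroup.coe_one, autFun_one hq, inv_mul_cancel]; exact Rs.one_mem⟩
      mul_mem' := by
        rintro a b ⟨ha, ha'⟩ ⟨hb, hb'⟩
        refine ⟨fun x hx => ?_, fun q hq => ?_⟩
        · rw [Subgroup.coe_mul, autFun_mul _ _ (hRsQ hx), hb x hx, ha x hx]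
        · rw [Subgroup.coe_mul, autFun_mul _ _ hq,
            show q⁻¹ * autFun (a : MulAut Q) (autFun (b : MulAut Q) q) =
              (q⁻¹ * autFun (b : MulAut Q) q) * ((autFun (b : MulAut Q) q)⁻¹ *
                autFun (a : MulAut Q) (autFun (b : MulAut Q) q)) by group]
          exact Rs.mul_mem (hb' q hq) (ha' _ (autFun_mem _ hq))
      inv_mem' := by
        rintro a ⟨ha, ha'⟩
        refine ⟨fun x hx => ?_, fun q hq => ?_⟩
        · conv_lhs => rw [← ha x hx]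
          exact autFun_inv_autFun _ (hRsQ hx)
        · have h1 := Rs.inv_mem (ha' _ (autFun_mem (a : MulAut Q)⁻¹ hq))
          rw [autFun_autFun_inv _ hq, mul_inv_rev, inv_inv] at h1
          exact h1 }
  have hKp : IsPGroup p K := by
    have := finite_of_le (hRsQ.trans hQS)
    rintro ⟨⟨a, haF⟩, ha, ha'⟩
    obtain ⟨b, hb⟩ := IsPGroup.iff_card.mp (hS.to_le (hRsQ.trans hQS))
    refine ⟨b, Subtype.ext (Subtype.ext ?_)⟩
    show a ^ p ^ b = 1
    refine autFun_ext fun q hq => ?_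
    set z := q⁻¹ * autFun a q with hzd
    have hz : z ∈ Rs := ha' q hq
    have hqz : autFun a q = q * z := by rw [hzd]; group
    have hpow : ∀ n : ℕ, autFun (a ^ n) q = q * z ^ n := by
      intro n
      induction n with
      | zero => simp [autFun_one hq]
      | succ n ih =>
        rw [pow_succ', autFun_mul _ _ hq, ih,
          (mapTo_of_mem_autGroup hQS haF).map_mul hq (Q.pow_mem (hRsQ hz) n), hqz,
          ha _ (Rs.pow_mem hz n), pow_succ', mul_assoc]
    rw [hpow, autFun_one hq, ← hb]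
    have : (⟨z, hz⟩ : Rs) ^ Nat.card Rs = 1 := pow_card_eq_one'
    have h6 : z ^ Nat.card Rs = 1 := congrArg Subtype.val this
    rw [h6, mul_one]
  have hKn : K.Normal := by
    refine ⟨fun a ⟨ha, ha'⟩ b => ?_⟩
    have hbm := mapTo_of_mem_autGroup hQS b.2
    have hbR : ∀ (b : F.autGroup Q), ∀ x ∈ Rs, autFun (b : MulAut Q) x ∈ Rs := fun b x hx => by
      rw [← hQT] at hx ⊢
      exact ⟨autFun_mem _ hx.1,
        StronglyClosed.map_mem hsc (mapTo_of_mem_autGroup hQS b.2) hx.1 hx.2⟩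
    refine ⟨fun x hx => ?_, fun q hq => ?_⟩
    · rw [Subgroup.coe_mul, Subgroup.coe_mul, autFun_mul _ _ (hRsQ hx), autFun_mul _ _
        (autFun_mem _ (hRsQ hx)), ha _ (hbR b⁻¹ x hx), Subgroup.coe_inv,
        autFun_autFun_inv _ (hRsQ hx)]
    · have hq' : autFun (b : MulAut Q)⁻¹ q ∈ Q := autFun_mem _ hq
      rw [Subgroup.coe_mul, Subgroup.coe_mul, Subgroup.coe_inv, autFun_mul _ _ hq,
        autFun_mul _ _ hq']
      nth_rewrite 1 [← autFun_autFun_inv (b : MulAut Q) hq]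
      rw [← hbm.map_inv hq', ← hbm.map_mul (Q.inv_mem hq') (autFun_mem _ hq')]
      exact hbR b _ (ha' _ hq')
  refine ⟨⟨α, autInducedBy_le_autGroup hQS hαS⟩, le_pCore hKn hKp ⟨fun x hx => ?_, fun q hq => ?_⟩,
    rfl⟩
  · show autFun α x = x
    rw [hα x (hRsQ hx), cj_apply, ← (mem_centralizerIn.mp hc).2 x hx]
    group
  · show q⁻¹ * autFun α q ∈ Rs
    rw [hα q hq, ← hQT]
    refine ⟨Q.mul_mem (Q.inv_mem hq) (by rw [← hα q hq]; exact autFun_mem α hq), ?_⟩
    rw [cj_apply, show q⁻¹ * (c * q * c⁻¹) = (q⁻¹ * c * q) * c⁻¹ by group]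
    refine T.mul_mem ?_ (T.inv_mem hc.1)
    simpa using StronglyClosed.conj_mem hsc (S.inv_mem (hQS hq)) hc.1

theorem isFamily_twist (hS : IsPGroup p S) (hF : F.IsSaturated p) (hsc : F.StronglyClosed T) :
    IsFamily F p (twistFamily F T) where
  conj P hP Q hQ := by
    refine ⟨IsCentric.conj hP.1 hQ, ?_⟩
    obtain ⟨f, hf, rfl⟩ := isConj_iff.mp hQ
    rw [← img_inf_eq hsc hf]
    exact HT.img hsc hP.2 (hf.restrict inf_le_left)
  centric P hP := hP.1
  top := ⟨isCentric_top, by rw [inf_eq_right.mpr hsc.1]; exact HT.top hsc⟩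
  essential P hP := by
    refine ⟨hP.1, by_contra fun hn => ?_⟩
    obtain ⟨Q, hQ, hne⟩ := exists_conj_star (p := p) hS hF hsc hP.1 hn
    refine hne fun α ⟨hαS, hαc⟩ => ?_
    obtain ⟨f, hf, rfl⟩ := isConj_iff.mp hQ
    have hPS := hP.1.1
    have hQS := hf.img_le
    have := finite_of_le hPS
    have := finite_of_le hQS
    have := finite_mulAut P
    have := finite_mulAut ↥(img f P)
    set e := MulAut.congr (isoEquiv hf rfl) with he
    have hmap := map_congr_autGroup hf rfl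
    obtain ⟨α₀, rfl⟩ : ∃ α₀, e α₀ = α := e.surjective α
    have hα₀ : α₀ ∈ F.autGroup P := by
      obtain ⟨β, hβ, hβe⟩ := hmap.ge (autInducedBy_le_autGroup hQS hαS)
      exact e.injective hβe ▸ hβ
    have h1 : α₀ ∈ Inn P := (isRadical_of_isEssential hS hP).2 ▸
      mem_pCore_transport e (F.autGroup P) (F.autGroup (img f P)) _ le_rfl hmap hα₀ hαc
    obtain ⟨x, hx, hxα⟩ := mem_autInducedBy_iff_cj.mp ((inn_eq_autInducedBy P).le h1)
    refine (inn_eq_autInducedBy _).ge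
      (mem_autInducedBy_iff_cj.mpr ⟨f x, mem_img_of_mem hx, fun y hy => ?_⟩)
    obtain ⟨z, hz, rfl⟩ := (hf.mem_img_iff le_rfl).mp hy
    rw [he, autFun_congr hf rfl α₀ hz, hxα z hz, cj_apply, hf.map_conj hx hz, cj_apply]
  star P hP hn := exists_conj_star hS hF hsc hP fun h => hn ⟨hP, h⟩

/-! ### The twist -/

/-- Hypotheses on a subgroup of `Aut_F(T)` allowing the twist. -/
structure TwistSub (F : FusionSystem S) (p : ℕ) (E : FusionSystem T) (K : Subgroup (MulAut T)) :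
    Prop where
  le_aut : K ≤ F.autGroup T
  conj_mem : ∀ a ∈ F.autGroup T, ∀ k ∈ K, a * k * a⁻¹ ∈ K
  pow_mem : ∀ a ∈ F.autGroup T, ∀ k : ℕ, a ^ p ^ k = 1 → a ∈ K
  aut_le : E.autGroup T ≤ K

variable {K : Subgroup (MulAut T)} (hS : IsPGroup p S) (hE : E.IsWeaklyNormalIn F p)
  (hK : TwistSub F p E K)

omit [Finite S] [Fact p.Prime] in
theorem IsInvariantIn.moveRight (hi : E.IsInvariantIn F) {a : MulAut T} (ha : a ∈ F.autGroup T)
    (hPT : P ≤ T) (hg : MapTo E Q g) (hPQ : ∀ x ∈ P, autFun a x ∈ Q) :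
    ∃ g', MapTo E P g' ∧ ∀ x ∈ P, g (autFun a x) = autFun a (g' x) := by
  have ham : MapTo F T (autFun a) := mapTo_of_mem_autGroup hi.2.1.1 ha
  obtain ⟨k, hk, hkx⟩ := IsInvariantIn.transport hi ((img_le_of_forall hPQ).trans hg.le)
    (hg.restrict (img_le_of_forall hPQ)) (Subgroup.inv_mem _ ha)
  have he : img (autFun a⁻¹) (img (autFun a) P) = P := by
    rw [ham.img_img hPT]
    exact (img_congr fun x hx => autFun_inv_autFun a (hPT hx)).trans img_id
  refine ⟨k, he ▸ hk, fun x hx => ?_⟩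
  have h1 := hkx _ (mem_img_of_mem hx)
  rw [autFun_inv_autFun a (hPT hx)] at h1
  rw [h1, autFun_autFun_inv a (hg.mem (hPQ x hx))]

include hS hE hK in
/-- Automorphisms of `p`-power order decompose with trivial twist. -/
theorem exists_twist_of_pow {γ : MulAut R} (hR : R ≤ T) (hγ : γ ∈ F.autGroup R) {k : ℕ}
    (hγk : γ ^ p ^ k = 1) :
    ∃ ν ∈ K, ∃ e, MapTo E R e ∧ ∀ x ∈ R, autFun γ x = autFun ν (e x) := by
  obtain ⟨hEs, hF, hi⟩ := hE
  have hTS := hi.2.1.1
  have hRS := hR.trans hTS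
  have := finite_of_le hTS
  have := finite_mulAut T
  have := finite_of_le hRS
  have := finite_mulAut R
  obtain ⟨Rs, hRRs, hRsn⟩ := exists_isFullyNormalized (F := F) hRS
  obtain ⟨ρ, hρ, rfl⟩ := isConj_iff.mp hRRs
  have hfa := isFullyAutomized_of_isFullyNormalized hS hF hRsn
  have hRsS := hRsn.1
  have := finite_of_le hRsS
  have := finite_mulAut ↥(img ρ R)
  set γ' := MulAut.congr (isoEquiv hρ rfl) γ with hγ'
  have hγ'm : γ' ∈ F.autGroup (img ρ R) := (map_congr_autGroup hρ rfl).le ⟨γ, hγ, rfl⟩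
  have hp : IsPGroup p (Subgroup.zpowers γ') := by
    obtain ⟨i, -, hi'⟩ := (Nat.dvd_prime_pow Fact.out).mp (orderOf_dvd_of_pow_eq_one hγk)
    refine IsPGroup.of_card (n := i) ?_
    rw [Nat.card_zpowers, hγ', MulEquiv.orderOf_eq, hi']
  obtain ⟨δ, hδ, hδγ⟩ := exists_conj_le_autInducedBy hfa (Subgroup.zpowers_le.mpr hγ'm) hp
  obtain ⟨s, hs, hsx⟩ := mem_autInducedBy_iff_cj.mp (hδγ _ (Subgroup.mem_zpowers γ'))
  have hσ : MapTo F R (fun x => autFun δ (ρ x)) :=
    hρ.comp (mapTo_of_mem_autGroup hRsS hδ) fun x hx => mem_img_of_mem hx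
  obtain ⟨a, ha, σ₀, hσ₀, hσx⟩ := IsInvariantIn.frattini hi hR hσ
  obtain ⟨j, hj, hjσ, -, -⟩ := hσ₀.exists_iso_inverse
  have hcs : MapTo F T (cj s) := mapTo_cj hTS hs
  have hTimg : img (cj s) T = T := StronglyClosed.img_eq hi.2.1 hcs le_rfl
  set ν' := autOf hcs hTimg with hν'
  have hν'm : ν' ∈ F.autGroup T := autOf_mem _ _
  obtain ⟨i, hi''⟩ := hS ⟨s, hs⟩
  have hν'K : ν' ∈ K := by
    refine hK.pow_mem ν' hν'm i (autFun_ext fun x hx => ?_)
    have : ∀ n : ℕ, autFun (ν' ^ n) x = cj (s ^ n) x := by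
      intro n
      induction n with
      | zero => simp [autFun_one hx]
      | succ n ih => rw [pow_succ', autFun_mul _ _ hx, hν', autFun_autOf _ _ (autFun_mem _ hx),
          ← hν', ih, pow_succ', cj_mul]
    have hsi : s ^ p ^ i = 1 := congrArg Subtype.val hi''
    rw [this, hsi, cj_one, autFun_one hx]
  set ν := a⁻¹ * ν' * a⁻¹⁻¹ with hν
  have hνK : ν ∈ K := hK.conj_mem _ (Subgroup.inv_mem _ ha) ν' hν'K
  have hνm := hK.le_aut hνK
  have key : ∀ x ∈ R, autFun ν (σ₀ x) = σ₀ (autFun γ x) := by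
    intro x hx
    have hρx : ρ x ∈ img ρ R := mem_img_of_mem hx
    have h1 := hsx _ (autFun_mem δ hρx)
    rw [autFun_mul _ _ (autFun_mem δ hρx), autFun_inv_autFun δ hρx, autFun_mul _ _ hρx, hγ',
      autFun_congr hρ rfl γ hx, hσx _ (autFun_mem γ hx), hσx x hx] at h1
    have hσT : σ₀ x ∈ T := hσ₀.mem hx
    rw [hν, inv_inv, autFun_mul _ _ hσT, autFun_mul _ _ (autFun_mem a hσT), hν',
      autFun_autOf hcs hTimg (autFun_mem a hσT), ← h1, autFun_inv_autFun a (hσ₀.mem (autFun_mem γ hx))]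
  have hσ₀R : img σ₀ R ≤ T := hσ₀.img_le
  obtain ⟨j', hj', hj'x⟩ := IsInvariantIn.moveRight hi hνm hσ₀R hj fun y hy => by
    obtain ⟨x, hx, rfl⟩ := (hσ₀.mem_img_iff le_rfl).mp hy
    rw [key x hx]; exact mem_img_of_mem (autFun_mem γ hx)
  refine ⟨ν, hνK, _, hσ₀.comp hj' fun x hx => mem_img_of_mem hx, fun x hx => ?_⟩
  rw [← hj'x _ (mem_img_of_mem hx), key x hx, hjσ _ (autFun_mem γ hx)]

include hS hE hK in
/-- The twist is well defined. -/
theorem mem_of_mapTo : ∀ (R : Subgroup Ω), HT F T R → ∀ β ∈ F.autGroup T,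
    MapTo E R (autFun β) → β ∈ K := by
  intro R
  induction hk : Nat.card T - Nat.card R using Nat.strong_induction_on generalizing R with
  | h n ih =>
  intro hR β hβ hβE
  obtain ⟨hEs, hF, hi⟩ := id hE
  have hTS := hi.2.1.1
  have := finite_of_le hTS
  have := finite_mulAut T
  rcases eq_or_lt_of_le hR.1 with rfl | hlt
  · exact hK.aut_le ((mem_autGroup_iff le_rfl).mpr hβE)
  have hβm := mapTo_of_mem_autGroup hTS hβ
  set R' := img (autFun β) R with hR'
  have hR'E : E.IsCentric R' := ⟨hβE.img_le, fun Q hQ =>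
    (HT.img hi.2.1 hR (hβm.restrict hR.1)).2 Q (IsSubsystemOf.isConj hi.1 hQ)⟩
  obtain ⟨g, hg, hgx⟩ := (isReceptive_iff.mp
    (isReceptive_of_isFullyCentralized (hS.to_le hTS) hEs
      (isFullyCentralized_of_isCentric hR'E))).2 R _ hβE rfl
  set R₁ := normalizerIn T R with hR₁
  have hlt' : R < R₁ := lt_normalizerIn (hS.to_le hTS) hlt
  have hR₁T : R₁ ≤ T := normalizerIn_le
  have hext : R₁ ≤ extSub T hβE := fun z hz =>
    ⟨hz, autFun β z, autFun_mem β hz.1, fun x hx => hβm.map_conj hz.1 (hR.1 hx)⟩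
  have hg₁ := hg.restrict hext
  have hgR₁ : img g R₁ = img (autFun β) R₁ := by
    have := finite_of_le (hg₁.img_le.trans hTS)
    have := finite_of_le ((hβm.restrict hR₁T).img_le)
    refine Subgroup.eq_of_le_of_card_ge (img_le_of_forall fun z hz => ?_)
      (by rw [hg₁.card_img le_rfl, hβm.card_img hR₁T])
    have hgR : img g R = R' := img_congr hgx
    have h1 := hg₁.map_mem_normalizerIn hlt'.le hz hz
    rw [hgR] at h1
    have hm' := mapTo_of_mem_autGroup hTS (Subgroup.inv_mem _ hβ)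
    have hR'T : R' ≤ T := hβE.img_le
    have hback : img (autFun β⁻¹) R' = R := by
      rw [hR', hβm.img_img hR.1]
      exact (img_congr fun x hx => autFun_inv_autFun β (hR.1 hx)).trans img_id
    have h2 : autFun β⁻¹ (g z) ∈ normalizerIn S (img (autFun β⁻¹) R') :=
      hm'.map_mem_normalizerIn hR'T h1.1 ⟨hTS h1.1, h1.2⟩
    rw [hback] at h2
    rw [← autFun_autFun_inv β h1.1]
    exact mem_img_of_mem ⟨autFun_mem _ h1.1, h2.2⟩
  -- `u` fixes `R`
  have hgm : ∀ x ∈ R₁, g x ∈ img (autFun β) R₁ := fun x hx => hgR₁.le (mem_img_of_mem hx)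
  obtain ⟨k, hkm, hkg, -, -⟩ := hg₁.exists_iso_inverse
  rw [hgR₁] at hkm
  have hu : MapTo F R₁ (fun x => k (autFun β x)) :=
    (hβm.restrict hR₁T).comp (IsSubsystemOf.mapTo hi.1 hkm) fun x hx => mem_img_of_mem hx
  have hR₁S := hR₁T.trans hTS
  have := finite_of_le hR₁S
  have := finite_mulAut R₁
  have hkimg : ∀ x ∈ R₁, k (autFun β x) ∈ R₁ := fun x hx => by
    obtain ⟨z, hz, hzx⟩ :=
      (hg₁.mem_img_iff le_rfl).mp (hgR₁.ge (mem_img_of_mem (f := autFun β) hx))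
    rw [← hzx, hkg z hz]; exact hz
  have huimg : img (fun x => k (autFun β x)) R₁ = R₁ := img_eq_self_of_forall hu hkimg
  set u := autOf hu huimg with hud
  have hfix : ∀ x ∈ R, autFun u x = x := fun x hx => by
    rw [hud, autFun_autOf hu huimg (hlt'.le hx)]
    show k (autFun β x) = x
    rw [← hgx x hx, hkg x (hlt'.le hx)]
  have hupow : u ^ Nat.card R = 1 := by
    refine pow_eq_one_of_fix (S := T) hR₁T hlt'.le ?_
      (fun x hx a ha => (Subgroup.mem_normalizer_iff.mp hx.2 a).mp ha) hfix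
    exact hR.2 R (isConj_refl (hR.1.trans hTS))
  have := finite_of_le (hR.1.trans hTS)
  obtain ⟨b, hb⟩ := IsPGroup.iff_card.mp (hS.to_le (hR.1.trans hTS))
  obtain ⟨ν, hν, e, he, hex⟩ :=
    exists_twist_of_pow hS hE hK hR₁T (autOf_mem hu huimg) (γ := u) (k := b) (hb ▸ hupow)
  have hνm := hK.le_aut hν
  obtain ⟨g', hg', hg'x⟩ := IsInvariantIn.moveRight hi hνm he.img_le hg₁ (P := img e R₁)
    fun y hy => by
      obtain ⟨x, hx, rfl⟩ := (he.mem_img_iff le_rfl).mp hy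
      rw [← hex x hx]; exact autFun_mem u hx
  have hnew : MapTo E R₁ (autFun (ν⁻¹ * β)) := by
    refine (he.comp hg' fun x hx => mem_img_of_mem hx).congr' fun x hx => ?_
    have hgu : g (autFun u x) = autFun β x := by
      rw [hud, autFun_autOf hu huimg hx]
      show g (k (autFun β x)) = _
      obtain ⟨z, hz, hzx⟩ :=
        (hg₁.mem_img_iff le_rfl).mp (hgR₁.ge (mem_img_of_mem (f := autFun β) hx))
      rw [← hzx, hkg z hz]
    rw [autFun_mul _ _ (hR₁T hx), ← hgu, hex x hx, hg'x _ (mem_img_of_mem hx),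
      autFun_inv_autFun ν (hg'.mem (mem_img_of_mem hx))]
  have h1 := ih _ (by
      have := card_lt_of_lt hlt' hR₁S
      have := Subgroup.card_le_of_le (K := T) hR₁T
      omega) R₁ rfl (HT.mono hR hlt'.le hR₁T) (ν⁻¹ * β)
    (Subgroup.mul_mem _ (Subgroup.inv_mem _ hνm) hβ) hnew
  have := K.mul_mem hν h1
  rwa [mul_inv_cancel_left] at this

/-- On the subgroups of `P` in the domain of the twist, the twist is trivial. -/
def TrivTwist (F : FusionSystem S) (E : FusionSystem T) (K : Subgroup (MulAut T)) (P : Subgroup Ω)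
    (f : Ω → Ω) : Prop :=
  ∀ R, R ≤ P → HT F T R → ∃ β ∈ K, ∃ e, MapTo E R e ∧ ∀ x ∈ R, f x = autFun β (e x)

include hS hE hK in
theorem twist_unique {β : MulAut T} (hR : HT F T R) (hβ : β ∈ F.autGroup T) {e e' : Ω → Ω}
    (he : MapTo E R e) (he' : MapTo E R e') (h : ∀ x ∈ R, autFun β (e x) = e' x) : β ∈ K := by
  obtain ⟨k, hk, hke, -, -⟩ := he.exists_iso_inverse
  have hkm : ∀ y ∈ img e R, k y ∈ R := fun y hy => by
    obtain ⟨x, hx, rfl⟩ := (he.mem_img_iff le_rfl).mp hy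
    rw [hke x hx]; exact hx
  refine mem_of_mapTo hS hE hK _
    (HT.img hE.2.2.2.1 hR (IsSubsystemOf.mapTo hE.2.2.1 he)) β hβ
    ((hk.comp he' hkm).congr' fun y hy => ?_)
  obtain ⟨x, hx, rfl⟩ := (he.mem_img_iff le_rfl).mp hy
  rw [hke x hx]; exact h x hx

omit [Finite S] [Fact p.Prime] in
theorem trivTwist_comp (hi : E.IsInvariantIn F) (hKle : K ≤ F.autGroup T) (hf : MapTo F P f)
    (hgQ : ∀ x ∈ P, f x ∈ Q) (h1 : TrivTwist F E K P f) (h2 : TrivTwist F E K Q g) :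
    TrivTwist F E K P (fun x => g (f x)) := by
  intro R hRP hR
  obtain ⟨β, hβ, e, he, hex⟩ := h1 R hRP hR
  obtain ⟨β', hβ', e', he', he'x⟩ := h2 (img f R)
    (img_le_of_forall fun x hx => hgQ x (hRP hx)) (HT.img hi.2.1 hR (hf.restrict hRP))
  obtain ⟨e'', he'', he''x⟩ := IsInvariantIn.moveRight hi (hKle hβ) he.img_le he' (P := img e R)
    fun y hy => by
      obtain ⟨x, hx, rfl⟩ := (he.mem_img_iff le_rfl).mp hy
      rw [← hex x hx]; exact mem_img_of_mem hx
  refine ⟨β' * β, K.mul_mem hβ' hβ, _, he.comp he'' fun x hx => mem_img_of_mem hx, fun x hx => ?_⟩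
  show g (f x) = _
  rw [he'x _ (mem_img_of_mem hx), hex x hx, he''x _ (mem_img_of_mem hx),
    autFun_mul _ _ (he''.mem (mem_img_of_mem hx))]

include hS hE hK in
theorem trivTwist_pow (hQS : Q ≤ S) {γ : MulAut Q} (hγ : γ ∈ F.autGroup Q) {k : ℕ}
    (hγk : γ ^ p ^ k = 1) : TrivTwist F E K Q (autFun γ) := by
  intro R hRQ hR
  have hsc := hE.2.2.2.1
  have hm := (mapTo_of_mem_autGroup hQS hγ).restrict (inf_le_left : Q ⊓ T ≤ Q)
  have := finite_of_le (inf_le_left.trans hQS : Q ⊓ T ≤ S)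
  have himg : img (autFun γ) (Q ⊓ T) = Q ⊓ T := img_eq_self_of_forall hm fun x hx =>
    ⟨autFun_mem γ hx.1, StronglyClosed.map_mem hsc hm hx hx.2⟩
  have hpow : ∀ n : ℕ, ∀ x ∈ Q ⊓ T, autFun ((autOf hm himg) ^ n) x = autFun (γ ^ n) x := by
    intro n
    induction n with
    | zero => intro x hx; simp [autFun_one hx, autFun_one (show x ∈ Q from hx.1)]
    | succ n ih =>
      intro x hx
      rw [pow_succ', pow_succ', autFun_mul _ _ hx, autFun_mul _ _ (show x ∈ Q from hx.1),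
        ← ih x hx, autFun_autOf hm himg (autFun_mem _ hx)]
  obtain ⟨ν, hν, e, he, hex⟩ := exists_twist_of_pow hS hE hK inf_le_right (autOf_mem hm himg)
    (k := k) (autFun_ext fun x hx => by
      rw [hpow _ x hx, hγk, autFun_one (show x ∈ Q from hx.1), autFun_one hx])
  have hR' : R ≤ Q ⊓ T := le_inf hRQ hR.1
  exact ⟨ν, hν, e, he.restrict hR', fun x hx => by
    rw [← hex x (hR' hx), autFun_autOf hm himg (hR' hx)]⟩

include hS hE hK in
theorem trivTwist_of_ezero {ℋ : Set (Subgroup Ω)} (hf : Ezero F p ℋ P f) :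
    TrivTwist F E K P f := by
  have hi := hE.2.2
  induction hf with
  | base Q α hQ hQS hα P hP g hg =>
    have := finite_of_le hQS
    have := finite_mulAut Q
    suffices h : TrivTwist F E K Q (autFun α) from fun R hR hRT =>
      let ⟨β, hβ, e, he, hx⟩ := h R (hR.trans hP) hRT
      ⟨β, hβ, e, he, fun x hxR => (hg x (hR hxR)).trans (hx x hxR)⟩
    obtain ⟨a, ha, rfl⟩ := hα
    have hpow : ∀ b : F.autGroup Q, (∃ k : ℕ, orderOf b = p ^ k) →
        TrivTwist F E K Q (autFun (b : MulAut Q)) := fun b ⟨k, hk⟩ =>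
      trivTwist_pow hS hE hK hQS b.2 (k := k)
        (orderOf_dvd_iff_pow_eq_one.mp (by rw [Subgroup.orderOf_coe, hk]))
    clear hg
    induction ha using Subgroup.closure_induction'' with
    | mem b hb => exact hpow b hb
    | inv_mem b hb =>
      obtain ⟨k, hk⟩ := hb
      exact hpow b⁻¹ ⟨k, by rw [orderOf_inv, hk]⟩
    | one =>
      intro R hR hRT
      exact ⟨1, K.one_mem, fun x => x, mapTo_id E hRT.1, fun x hx => by
        rw [map_one, autFun_one (hR hx), autFun_one (hRT.1 hx)]⟩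
    | mul x y _ _ hx hy =>
      intro R hR hRT
      obtain ⟨β, hβ, e, he, hex⟩ := trivTwist_comp hi hK.le_aut
        (mapTo_of_mem_autGroup hQS y.2) (fun z hz => autFun_mem _ hz) hy hx R hR hRT
      exact ⟨β, hβ, e, he, fun z hz => by
        rw [← hex z hz, map_mul, autFun_mul _ _ (hR hz)]; rfl⟩
  | cj P s g hP hs hg =>
    intro R hR hRT
    have hTS := hi.2.1.1
    have hcs : MapTo F T (cj s) := mapTo_cj hTS hs
    have hTimg : img (cj s) T = T := StronglyClosed.img_eq hi.2.1 hcs le_rfl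
    refine ⟨autOf hcs hTimg, ?_, fun x => x, mapTo_id E hRT.1, fun x hx => by
      rw [hg x (hR hx), autFun_autOf hcs hTimg (hRT.1 hx)]⟩
    have := finite_of_le hTS
    obtain ⟨i, hi'⟩ := hS ⟨s, hs⟩
    refine hK.pow_mem _ (autOf_mem _ _) i (autFun_ext fun x hx => ?_)
    have : ∀ n : ℕ, autFun ((autOf hcs hTimg) ^ n) x = cj (s ^ n) x := by
      intro n
      induction n with
      | zero => simp [autFun_one hx]
      | succ n ih => rw [pow_succ', autFun_mul _ _ hx, autFun_autOf _ _ (autFun_mem _ hx),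
          ih, pow_succ', cj_mul]
    have hsi : s ^ p ^ i = 1 := congrArg Subtype.val hi'
    rw [this, hsi, cj_one, autFun_one hx]
  | comp P f g h hf hg hh ih ih' =>
    intro R hR hRT
    obtain ⟨β, hβ, e, he, hex⟩ := trivTwist_comp hi hK.le_aut hf.mapTo
      (fun x hx => mem_img_of_mem hx) ih ih' R hR hRT
    exact ⟨β, hβ, e, he, fun x hx => (hh x (hR hx)).trans (hex x hx)⟩

end Cfsg.Agent.Fusion
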