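import Cfsg.Agent.Lib.Fusion.RankTwoEssential

/-!
Actions of the automizer of an essential subgroup on a section of order `p ^ 2`.
-/

set_option autoImplicit false
set_option linter.style.haveILetI false

namespace Cfsg.Agent.Fusion

variable {p : ℕ} [hp : Fact p.Prime]

/-- An automorphism of `p`-power order is trivial on a group of order `p`. -/
theorem eq_self_of_pow_of_card {W : Type*} [Group W] (hW : Nat.card W = p) {ψ : MulAut W} {k : ℕ}
    (hψ : ψ ^ p ^ k = 1) (w : W) : ψ w = w := by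
  haveI : IsCyclic W := isCyclic_of_prime_card hW
  haveI : Finite W := Nat.finite_of_card_ne_zero (hW ▸ hp.out.ne_zero)
  by_cases hw : w = 1
  · rw [hw, map_one]
  have hwo : orderOf w = p := orderOf_eq_prime (by rw [← hW]; exact pow_card_eq_one') hw
  obtain ⟨m, hm⟩ := (mem_powers_iff_mem_zpowers.mpr (by
    rw [Subgroup.eq_top_of_card_eq (Subgroup.zpowers w) (by rw [Nat.card_zpowers, hwo, hW])]
    trivial : ψ w ∈ Subgroup.zpowers w) : ψ w ∈ Submonoid.powers w)
  have hiter : ∀ n : ℕ, (ψ ^ n) w = w ^ m ^ n := by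
    intro n
    induction n with
    | zero => simp
    | succ n ih =>
      rw [pow_succ', MulAut.mul_apply, ih, map_pow, ← hm, ← pow_mul, ← pow_succ']
  have h1 : w ^ m ^ p ^ k = w ^ 1 := by rw [← hiter, hψ, pow_one]; rfl
  rw [pow_eq_pow_iff_modEq, hwo, ← ZMod.natCast_eq_natCast_iff, Nat.cast_pow,
    ZMod.pow_card_pow, Nat.cast_one] at h1
  rw [← hm]
  conv_rhs => rw [← pow_one w]
  refine pow_eq_pow_iff_modEq.mpr ?_
  rw [hwo, ← ZMod.natCast_eq_natCast_iff, h1, Nat.cast_one]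

theorem exists_fixed_of_pGroup {V : Type*} [Group V] [Finite V] (hV : IsPGroup p V) [Nontrivial V]
    {C : Subgroup (MulAut V)} (hC : IsPGroup p C) : ∃ x : V, x ≠ 1 ∧ ∀ c ∈ C, c x = x := by
  haveI := finite_mulAut V
  obtain ⟨n, hn⟩ := hV.exists_card_eq
  have hn0 : n ≠ 0 := by
    rintro rfl
    exact (Finite.one_lt_card_iff_nontrivial.mpr ‹_›).ne' (hn.trans (pow_zero p))
  obtain ⟨x, hx, hne⟩ := hC.exists_fixed_point_of_prime_dvd_card_of_fixed_point V
    (hn ▸ dvd_pow_self p hn0) (a := (1 : V)) (fun g => map_one (g : MulAut V))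
  exact ⟨x, fun h => hne h.symm, fun c hc => hx ⟨c, hc⟩⟩

universe u

variable {Ω : Type u} [Group Ω] {S : Subgroup Ω} [Finite S] {F : FusionSystem S} {P : Subgroup Ω}

/-- A normal `p`-subgroup of the automizer of an essential subgroup is inner. -/
theorem mem_inn_of_normal_pGroup (hS : IsPGroup p S) (hP : F.IsEssential p P)
    {N : Subgroup (F.autGroup P)} (hN : N.Normal) (hNp : IsPGroup p N) {α : F.autGroup P}
    (hα : α ∈ N) : (α : MulAut P) ∈ Inn P :=
  (isRadical_of_isEssential hS hP).2.le ⟨α, le_pCore hN hNp hα, rfl⟩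

/-- The automizer of an essential subgroup has an element of `p`-power order which is not inner. -/
theorem exists_pElt_not_inn (hS : IsPGroup p S) (hP : F.IsEssential p P) :
    ∃ c : F.autGroup P, (∃ k, c ^ p ^ k = 1) ∧ (c : MulAut P) ∉ Inn P := by
  obtain ⟨hc, -, hn, Y, hY⟩ := hP
  haveI := finite_of_le hc.1
  haveI := finite_mulAut P
  obtain ⟨q, hq⟩ := exists_prime_orderOf_dvd_card'
    (G := F.autGroup P ⧸ (Inn P).subgroupOf (F.autGroup P)) p
    (hY.1.trans dvd_rfl)
  obtain ⟨a, rfl⟩ := QuotientGroup.mk'_surjective _ q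
  obtain ⟨e, m, hm, hem⟩ :=
    Nat.exists_eq_pow_mul_and_not_dvd (orderOf_pos a).ne' p hp.out.ne_one
  refine ⟨a ^ m, ⟨e, by rw [← pow_mul, mul_comm, ← hem, pow_orderOf_eq_one]⟩, fun hin => hm ?_⟩
  have h1 : QuotientGroup.mk' ((Inn P).subgroupOf (F.autGroup P)) a ^ m = 1 := by
    rw [← map_pow]
    exact (QuotientGroup.eq_one_iff _).mpr hin
  rw [← hq]
  exact orderOf_dvd_of_pow_eq_one h1

variable {V : Type*} [Group V]

/-- The action on a section of order `p` has to be trivial, so cannot detect. -/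
theorem frame_false_of_card_prime (hS : IsPGroup p S) (hP : F.IsEssential p P)
    (ρ : F.autGroup P →* MulAut V) (hcard : Nat.card V = p) (hker : IsPGroup p ρ.ker) : False := by
  obtain ⟨c, ⟨k, hk⟩, hc⟩ := exists_pElt_not_inn hS hP
  refine hc (mem_inn_of_normal_pGroup hS hP inferInstance hker ?_)
  refine MulEquiv.ext fun v => ?_
  exact eq_self_of_pow_of_card hcard (by rw [← map_pow, hk, map_one]) v

variable (hcomm : IsMulCommutative V) (hexp : ∀ v : V, v ^ p = 1) (hcard : Nat.card V = p ^ 2)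

include hcomm hexp hcard

/-- There is no invariant line. -/
theorem frame_no_line (hS : IsPGroup p S) (hP : F.IsEssential p P)
    (ρ : F.autGroup P →* MulAut V) (hker : IsPGroup p ρ.ker) {W : Subgroup V}
    (hW : ∀ (a : F.autGroup P), ∀ w ∈ W, ρ a w ∈ W) : W = ⊥ ∨ W = ⊤ := by
  haveI := finite_of_le hP.1.1
  haveI := finite_mulAut P
  haveI : Finite V := Nat.finite_of_card_ne_zero (by rw [hcard]; exact pow_ne_zero 2 hp.out.ne_zero)
  by_contra hne
  push Not at hne
  haveI := hcomm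
  have hc : ∀ u v : V, u * v = v * u := hcomm.is_comm.comm
  haveI hWn : W.Normal := ⟨fun n hn g => by rw [hc g n, mul_inv_cancel_right]; exact hn⟩
  have hWp : Nat.card W = p := by
    obtain ⟨m, hm, hmW⟩ := (Nat.dvd_prime_pow hp.out).mp (hcard ▸ Subgroup.card_subgroup_dvd_card W)
    interval_cases m
    · exact absurd (Subgroup.card_eq_one.mp (hmW.trans (pow_zero p))) hne.1
    · rw [hmW, pow_one]
    · exact absurd (Subgroup.eq_top_of_card_eq W (hmW.trans hcard.symm)) hne.2
  have hQp : Nat.card (V ⧸ W) = p := by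
    have h := Subgroup.card_eq_card_quotient_mul_card_subgroup W
    rw [hcard, hWp, pow_two] at h
    exact (Nat.eq_of_mul_eq_mul_right hp.out.pos h).symm
  let K : Subgroup (F.autGroup P) :=
    { carrier := {a | (∀ w ∈ W, ρ a w = w) ∧ ∀ v, v⁻¹ * ρ a v ∈ W}
      one_mem' := ⟨fun w _ => by rw [map_one]; rfl, fun v => by
        rw [map_one, MulAut.one_apply, inv_mul_cancel]; exact W.one_mem⟩
      mul_mem' := fun {a b} ha hb => ⟨fun w hw => by
          rw [map_mul, MulAut.mul_apply, hb.1 w hw, ha.1 w hw], fun v => by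
          rw [map_mul, MulAut.mul_apply, show v⁻¹ * ρ a (ρ b v) =
            (v⁻¹ * ρ b v) * ((ρ b v)⁻¹ * ρ a (ρ b v)) by group]
          exact W.mul_mem (hb.2 v) (ha.2 _)⟩
      inv_mem' := fun {a} ha => ⟨fun w hw => by
          rw [map_inv]
          exact (MulEquiv.symm_apply_eq (ρ a)).mpr (ha.1 w hw).symm, fun v => by
          have h := W.inv_mem (ha.2 ((ρ a)⁻¹ v))
          rw [MulAut.apply_inv_self] at h
          rw [map_inv]
          simpa using h⟩ }
  have hKn : K.Normal := ⟨fun a ha g => by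
    have e : ∀ v, ρ (g * a * g⁻¹) v = ρ g (ρ a ((ρ g)⁻¹ v)) := fun v => by
      rw [map_mul, map_mul, map_inv]; rfl
    refine ⟨fun w hw => ?_, fun v => ?_⟩
    · have h1 : (ρ g)⁻¹ w ∈ W := map_inv ρ g ▸ hW g⁻¹ w hw
      rw [e, ha.1 _ h1, MulAut.apply_inv_self]
    · have h1 := hW g _ (ha.2 ((ρ g)⁻¹ v))
      rw [map_mul (ρ g), map_inv (ρ g), MulAut.apply_inv_self] at h1
      rw [e]
      exact h1⟩
  have hKp : IsPGroup p K := fun a => by
    obtain ⟨ha1, ha2⟩ := a.2
    have hit : ∀ (n : ℕ) (v : V), (ρ (a : F.autGroup P) ^ n) v = v * (v⁻¹ * ρ a v) ^ n := by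
      intro n v
      induction n with
      | zero => simp
      | succ n ih =>
        rw [pow_succ' (ρ (a : F.autGroup P)), MulAut.mul_apply, ih, map_mul, map_pow,
          ha1 _ (ha2 v), pow_succ', ← mul_assoc, mul_inv_cancel_left]
    have h1 : (a : F.autGroup P) ^ p ∈ ρ.ker := by
      rw [MonoidHom.mem_ker, map_pow]
      refine MulEquiv.ext fun v => ?_
      rw [hit, hexp, mul_one]
      rfl
    obtain ⟨k, hk⟩ := hker ⟨_, h1⟩
    refine ⟨k + 1, Subtype.ext ?_⟩
    have hk' : ((a : F.autGroup P) ^ p) ^ p ^ k = 1 := congrArg Subtype.val hk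
    rw [← pow_mul, ← pow_succ'] at hk'
    exact hk'
  obtain ⟨c, ⟨k, hk⟩, hcI⟩ := exists_pElt_not_inn hS hP
  refine hcI (mem_inn_of_normal_pGroup hS hP hKn hKp ?_)
  have hρ : ρ c ^ p ^ k = 1 := by rw [← map_pow, hk, map_one]
  refine ⟨fun w hw => ?_, fun v => ?_⟩
  · let r : MulAut W :=
      { toFun := fun x => ⟨ρ c x, hW c x x.2⟩
        invFun := fun x => ⟨(ρ c)⁻¹ x, map_inv ρ c ▸ hW c⁻¹ x x.2⟩
        left_inv := fun x => Subtype.ext (MulAut.inv_apply_self _ _ _)
        right_inv := fun x => Subtype.ext (MulAut.apply_inv_self _ _ _)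
        map_mul' := fun x y => Subtype.ext (map_mul _ _ _) }
    have hr : ∀ (n : ℕ) (x : W), ((r ^ n) x : V) = (ρ c ^ n) x := by
      intro n
      induction n with
      | zero => intro x; rfl
      | succ n ih =>
        intro x
        rw [pow_succ', pow_succ', MulAut.mul_apply, MulAut.mul_apply, ← ih]
        rfl
    exact congrArg Subtype.val (eq_self_of_pow_of_card hWp (k := k)
      (ψ := r) (MulEquiv.ext fun x => Subtype.ext (by rw [hr, hρ]; rfl)) ⟨w, hw⟩)
  · have hmap : W.map (ρ c : V →* V) = W := by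
      refine le_antisymm ?_ fun w hw => ⟨(ρ c)⁻¹ w, map_inv ρ c ▸ hW c⁻¹ w hw, ?_⟩
      · rintro _ ⟨w, hw, rfl⟩
        exact hW c w hw
      · exact MulAut.apply_inv_self _ _ _
    let r : MulAut (V ⧸ W) := QuotientGroup.congr W W (ρ c) hmap
    have hr : ∀ (n : ℕ) (x : V),
        (r ^ n) (QuotientGroup.mk x) = QuotientGroup.mk ((ρ c ^ n) x) := by
      intro n
      induction n with
      | zero => intro x; rfl
      | succ n ih =>
        intro x
        rw [pow_succ', pow_succ', MulAut.mul_apply, MulAut.mul_apply, ih]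
        rfl
    have := eq_self_of_pow_of_card hQp (k := k) (ψ := r) (MulEquiv.ext fun x => by
      obtain ⟨x, rfl⟩ := QuotientGroup.mk_surjective x
      rw [hr, hρ]
      rfl) (QuotientGroup.mk v)
    exact QuotientGroup.eq.mp this.symm

/-- The inner automorphisms are the kernel of the action. -/
theorem frame_inn_iff (hS : IsPGroup p S) (hP : F.IsEssential p P)
    (ρ : F.autGroup P →* MulAut V) (hker : IsPGroup p ρ.ker) (a : F.autGroup P) :
    ρ a = 1 ↔ (a : MulAut P) ∈ Inn P := by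
  haveI := finite_of_le hP.1.1
  haveI := finite_mulAut P
  haveI : Finite V := Nat.finite_of_card_ne_zero (by rw [hcard]; exact pow_ne_zero 2 hp.out.ne_zero)
  haveI : Nontrivial V := Finite.one_lt_card_iff_nontrivial.mp (by
    rw [hcard]; exact Nat.one_lt_pow two_ne_zero hp.out.one_lt)
  refine ⟨fun h => mem_inn_of_normal_pGroup hS hP inferInstance hker h, fun ha => ?_⟩
  obtain ⟨hn, -⟩ := hP.2.2
  set M := (Inn P).subgroupOf (F.autGroup P)
  have hMp : IsPGroup p (M.map ρ) := IsPGroup.map ((isPGroup_inn (hS.to_le hP.1.1)).comap_of_injective _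
    (Subgroup.subtype_injective _)) ρ
  obtain ⟨x, hx, hfix⟩ := exists_fixed_of_pGroup (IsPGroup.of_card hcard) hMp
  let W : Subgroup V :=
    { carrier := {v | ∀ m ∈ M, ρ m v = v}
      one_mem' := fun m _ => map_one _
      mul_mem' := fun hu hv m hm => by rw [map_mul, hu m hm, hv m hm]
      inv_mem' := fun hu m hm => by rw [map_inv, hu m hm] }
  have hWinv : ∀ (g : F.autGroup P), ∀ w ∈ W, ρ g w ∈ W := fun g w hw m hm => by
    have h1 := hw _ (hn.conj_mem m hm g⁻¹)
    rw [inv_inv, map_mul, map_mul, map_inv, MulAut.mul_apply, MulAut.mul_apply] at h1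
    have h2 := congrArg (ρ g) h1
    rwa [MulAut.apply_inv_self] at h2
  rcases frame_no_line hcomm hexp hcard hS hP ρ hker hWinv with h | h
  · exact absurd (Subgroup.mem_bot.mp (h ▸ (fun m hm => hfix _ ⟨m, hm, rfl⟩ : x ∈ W))) hx
  · exact MulEquiv.ext fun v => (h ▸ Subgroup.mem_top v : v ∈ W) a ha

/-- Some element of the automizer acts with order `p`. -/
theorem exists_frame_elt (hS : IsPGroup p S) (hP : F.IsEssential p P)
    (ρ : F.autGroup P →* MulAut V) (hker : IsPGroup p ρ.ker) :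
    ∃ a : F.autGroup P, ρ a ^ p = 1 ∧ ρ a ≠ 1 := by
  haveI : Finite V := Nat.finite_of_card_ne_zero (by rw [hcard]; exact pow_ne_zero 2 hp.out.ne_zero)
  haveI := finite_mulAut V
  obtain ⟨c, ⟨k, hk⟩, hcI⟩ := exists_pElt_not_inn hS hP
  have h1 : ρ c ≠ 1 := fun h => hcI ((frame_inn_iff hcomm hexp hcard hS hP ρ hker c).mp h)
  obtain ⟨i, -, hi⟩ := (Nat.dvd_prime_pow hp.out).mp
    (orderOf_dvd_of_pow_eq_one (x := ρ c) (n := p ^ k) (by rw [← map_pow, hk, map_one]))
  cases i with
  | zero => exact absurd (orderOf_eq_one_iff.mp (hi.trans (pow_zero p))) h1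
  | succ i =>
    refine ⟨c ^ p ^ i, ?_, ?_⟩
    · rw [map_pow, ← pow_mul, ← pow_succ, ← hi, pow_orderOf_eq_one]
    · rw [map_pow]
      exact pow_ne_one_of_lt_orderOf (pow_ne_zero i hp.out.ne_zero)
        (hi ▸ Nat.pow_lt_pow_succ hp.out.one_lt)

/-- Coordinates given by an element acting with order `p` and a second one. -/
theorem exists_frame_pair (hS : IsPGroup p S) (hP : F.IsEssential p P)
    (ρ : F.autGroup P →* MulAut V) (hker : IsPGroup p ρ.ker) {a : F.autGroup P}
    (hap : ρ a ^ p = 1) (ha : ρ a ≠ 1) :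
    ∃ (x y : V) (u l : F.autGroup P), x ≠ 1 ∧ y ∉ Subgroup.zpowers x ∧
      u ∈ Subgroup.zpowers a ∧ ρ a x = x ∧
      ρ u x = x ∧ ρ u y = x * y ∧ ρ l y = y ∧ ρ l x = x * y := by
  haveI := finite_of_le hP.1.1
  haveI := finite_mulAut P
  haveI : Finite V := Nat.finite_of_card_ne_zero (by rw [hcard]; exact pow_ne_zero 2 hp.out.ne_zero)
  haveI : Nontrivial V := Finite.one_lt_card_iff_nontrivial.mp (by
    rw [hcard]; exact Nat.one_lt_pow two_ne_zero hp.out.one_lt)
  have hc : ∀ s t : V, s * t = t * s := hcomm.is_comm.comm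
  have hfix : ∀ c : MulAut V, c ^ p = 1 → ∃ x : V, x ≠ 1 ∧ c x = x := by
    intro c hc'
    have hC : IsPGroup p (Subgroup.zpowers c) := by
      obtain ⟨i, -, hi⟩ := (Nat.dvd_prime_pow hp.out).mp
        (orderOf_dvd_of_pow_eq_one (n := p ^ 1) (by rwa [pow_one]))
      exact IsPGroup.of_card (n := i) ((Nat.card_zpowers c).trans hi)
    obtain ⟨x, hx, h⟩ := exists_fixed_of_pGroup (IsPGroup.of_card hcard) hC
    exact ⟨x, hx, h c (Subgroup.mem_zpowers c)⟩
  obtain ⟨x, hx, hax⟩ := hfix _ hap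
  have hxo : orderOf x = p := orderOf_eq_prime (hexp x) hx
  -- some conjugate of `a` moves `x`
  obtain ⟨g, hgx⟩ : ∃ g : F.autGroup P, ρ g x ∉ Subgroup.zpowers x := by
    by_contra hno
    push Not at hno
    rcases frame_no_line hcomm hexp hcard hS hP ρ hker (W := Subgroup.zpowers x) (fun g w hw => by
      obtain ⟨i, rfl⟩ := Subgroup.mem_zpowers_iff.mp hw
      rw [map_zpow]
      exact Subgroup.zpow_mem _ (hno g) i) with h | h
    · exact hx (Subgroup.zpowers_eq_bot.mp h)
    · have := congrArg (fun T : Subgroup V => Nat.card T) h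
      simp only [Nat.card_zpowers, hxo, Subgroup.card_top, hcard, pow_two] at this
      exact hp.out.one_lt.ne' (Nat.eq_of_mul_eq_mul_left hp.out.pos ((mul_one p).trans this)).symm
  set y := ρ g x
  set b := g * a * g⁻¹
  have hby : ρ b y = y := by
    show ρ (g * a * g⁻¹) (ρ g x) = ρ g x
    rw [map_mul, map_mul, map_inv, MulAut.mul_apply, MulAut.mul_apply, MulAut.inv_apply_self, hax]
  have hbp : ρ b ^ p = 1 := by
    rw [← map_pow, conj_pow, map_mul, map_mul, map_pow, hap, mul_one, map_inv, mul_inv_cancel]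
  have hb : ρ b ≠ 1 := fun h => ha (by
    rw [map_mul, map_mul, map_inv, mul_inv_eq_one, mul_eq_left] at h
    exact h)
  have hy : y ≠ 1 := fun h => hgx (h ▸ Subgroup.one_mem _)
  have hxy : x ∉ Subgroup.zpowers y := by
    intro h
    have := Subgroup.eq_of_le_of_card_ge (Subgroup.zpowers_le.mpr h) (by
      rw [Nat.card_zpowers, Nat.card_zpowers, hxo, orderOf_eq_prime (hexp y) hy])
    exact hgx (this.ge (Subgroup.mem_zpowers y))
  obtain ⟨i, hi, hay⟩ := exists_shift hcomm hexp hcard hap ha hx hax hgx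
  obtain ⟨j, hj, hbx⟩ := exists_shift hcomm hexp hcard hbp hb hy hby hxy
  have hcop : ∀ {n : ℕ}, ¬ p ∣ n → ∃ m : ℕ, ∀ z : V, z ^ (n * m) = z := by
    intro n hn
    obtain ⟨m, hm⟩ : ∃ m : ℕ, n * m ≡ 1 [MOD p] := by
      refine ⟨((n : ZMod p)⁻¹).val, ?_⟩
      rw [← ZMod.natCast_eq_natCast_iff, Nat.cast_mul, ZMod.natCast_zmod_val, Nat.cast_one,
        mul_inv_cancel₀]
      rwa [Ne, ZMod.natCast_eq_zero_iff]
    exact ⟨m, fun z => (pow_eq_pow_iff_modEq.mpr
      (hm.of_dvd (orderOf_dvd_of_pow_eq_one (hexp z)))).trans (pow_one z)⟩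
  have hit : ∀ {c : MulAut V} {s t : V} {i : ℕ}, c s = s → c t = s ^ i * t →
      ∀ n : ℕ, (c ^ n) s = s ∧ (c ^ n) t = s ^ (i * n) * t := by
    intro c s t i h1 h2 n
    induction n with
    | zero => simp
    | succ n ih =>
      refine ⟨by rw [pow_succ', MulAut.mul_apply, ih.1, h1], ?_⟩
      rw [pow_succ', MulAut.mul_apply, ih.2, map_mul, map_pow, h1, h2, ← mul_assoc, ← pow_add]
      congr 2
  obtain ⟨m, hm⟩ := hcop hi
  obtain ⟨n, hn⟩ := hcop hj
  refine ⟨x, y, a ^ m, b ^ n, hx, hgx, Subgroup.pow_mem _ (Subgroup.mem_zpowers a) m, hax,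
    ?_, ?_, ?_, ?_⟩
  · rw [map_pow]; exact (hit hax hay m).1
  · rw [map_pow, (hit hax hay m).2, hm]
  · rw [map_pow]; exact (hit hby hbx n).1
  · rw [map_pow, (hit hby hbx n).2, hn, hc]

omit hcard in
/-- Products of shifts give the diagonal maps of determinant one. -/
theorem exists_frame_torus {A : Subgroup (MulAut V)} {u l : MulAut V} (hu : u ∈ A) (hl : l ∈ A)
    {x y : V} (hux : u x = x) (huy : u y = x * y) (hly : l y = y) (hlx : l x = x * y)
    {c d : ℕ} (hcd : c * d ≡ 1 [MOD p]) :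
    ∃ t ∈ A, t x = x ^ c ∧ t y = y ^ d := by
  have hc : ∀ s t : V, s * t = t * s := hcomm.is_comm.comm
  have hmod : ∀ (z : V) {i j : ℕ}, i ≡ j [MOD p] → z ^ i = z ^ j := fun z i j h =>
    pow_eq_pow_iff_modEq.mpr (h.of_dvd (orderOf_dvd_of_pow_eq_one (hexp z)))
  have hitu : ∀ n : ℕ, (u ^ n) x = x ∧ (u ^ n) y = x ^ n * y := by
    intro n
    induction n with
    | zero => simp
    | succ n ih =>
      refine ⟨by rw [pow_succ', MulAut.mul_apply, ih.1, hux], ?_⟩
      rw [pow_succ', MulAut.mul_apply, ih.2, map_mul, map_pow, hux, huy, pow_succ, mul_assoc]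
  have hitl : ∀ n : ℕ, (l ^ n) y = y ∧ (l ^ n) x = x * y ^ n := by
    intro n
    induction n with
    | zero => simp
    | succ n ih =>
      refine ⟨by rw [pow_succ', MulAut.mul_apply, ih.1, hly], ?_⟩
      rw [pow_succ', MulAut.mul_apply, ih.2, map_mul, map_pow, hlx, hly, pow_succ', mul_assoc]
  have hp1 := hp.out.one_lt
  obtain ⟨c', rfl⟩ : ∃ c', c = c' + 1 := Nat.exists_eq_succ_of_ne_zero fun h => by
    rw [h, zero_mul] at hcd
    have := (Nat.modEq_iff_dvd' (zero_le_one)).mp hcd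
    exact hp1.ne' (Nat.dvd_one.mp this)
  obtain ⟨d', rfl⟩ : ∃ d', d = d' + 1 := Nat.exists_eq_succ_of_ne_zero fun h => by
    rw [h, mul_zero] at hcd
    have := (Nat.modEq_iff_dvd' (zero_le_one)).mp hcd
    exact hp1.ne' (Nat.dvd_one.mp this)
  set n := (d' + 1) * (p - 1)
  have hnz : ∀ z : V, z ^ n * z ^ (d' + 1) = 1 := fun z => by
    rw [← pow_add, show n + (d' + 1) = (d' + 1) * (p - 1 + 1) by ring,
      Nat.sub_add_cancel hp1.le, mul_comm, pow_mul, hexp, one_pow]
  refine ⟨l ^ d' * u * l ^ c' * u ^ n, A.mul_mem (A.mul_mem (A.mul_mem (A.pow_mem hl _) hu)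
    (A.pow_mem hl _)) (A.pow_mem hu _), ?_, ?_⟩
  · rw [MulAut.mul_apply, MulAut.mul_apply, MulAut.mul_apply, (hitu n).1, (hitl c').2, map_mul,
      map_pow, hux, huy, hc x y, (show Commute y x from hc y x).mul_pow, hc (y ^ c') (x ^ c'),
      ← mul_assoc, ← pow_succ', map_mul, map_pow, map_pow, (hitl d').1, (hitl d').2,
      (show Commute x (y ^ d') from hc _ _).mul_pow, mul_assoc, ← pow_mul, ← pow_add]
    rw [show y ^ (d' * (c' + 1) + c') = 1 from ?_, mul_one]
    refine mul_left_cancel (a := y) ?_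
    rw [← pow_succ', mul_one]
    conv_rhs => rw [← pow_one y]
    refine hmod y ?_
    rwa [show d' * (c' + 1) + c' + 1 = (c' + 1) * (d' + 1) by ring]
  · have e1 : (l ^ c') (x ^ n * y) = x ^ n * y ^ (c' * n + 1) := by
      rw [map_mul, map_pow, (hitl c').1, (hitl c').2,
        (show Commute x (y ^ c') from hc _ _).mul_pow, ← pow_mul, mul_assoc, ← pow_succ]
    have e2 : y ^ (c' * n + 1) = y ^ (d' + 1) := by
      refine hmod y ?_
      rw [← ZMod.natCast_eq_natCast_iff] at hcd ⊢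
      have hn0 : (n : ZMod p) = -((d' + 1 : ℕ) : ZMod p) := by
        rw [show n = (d' + 1) * (p - 1) from rfl, Nat.cast_mul, Nat.cast_sub hp1.le,
          ZMod.natCast_self, zero_sub, Nat.cast_one, mul_neg, mul_one]
      push_cast at hcd hn0 ⊢
      rw [hn0]
      linear_combination (-1 : ZMod p) * hcd
    rw [MulAut.mul_apply, MulAut.mul_apply, MulAut.mul_apply, (hitu n).2, e1, e2, map_mul,
      map_pow, map_pow, hux, huy, (show Commute x y from hc x y).mul_pow, ← mul_assoc, hnz,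
      one_mul, map_pow, (hitl d').1]

/-- The automizer contains the inversion of the section. -/
theorem exists_frame_neg (hS : IsPGroup p S) (hP : F.IsEssential p P)
    (ρ : F.autGroup P →* MulAut V) (hker : IsPGroup p ρ.ker) (hp2 : p ≠ 2) :
    ∃ c : F.autGroup P, (orderOf c).Coprime p ∧ ∀ v, ρ c v = v⁻¹ := by
  haveI := finite_of_le hP.1.1
  haveI := finite_mulAut P
  obtain ⟨a, hap, ha⟩ := exists_frame_elt hcomm hexp hcard hS hP ρ hker
  obtain ⟨x, y, u, l, hx, hy, -, -, hux, huy, hly, hlx⟩ :=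
    exists_frame_pair hcomm hexp hcard hS hP ρ hker hap ha
  have hp1 := hp.out.one_lt
  have hinv : ∀ z : V, z ^ (p - 1) = z⁻¹ := fun z => by
    rw [eq_inv_iff_mul_eq_one, ← pow_succ, Nat.sub_add_cancel hp1.le, hexp]
  obtain ⟨t, ⟨t₀, rfl⟩, htx, hty⟩ := exists_frame_torus hcomm hexp (A := ρ.range) ⟨u, rfl⟩
    ⟨l, rfl⟩ hux huy hly hlx (c := p - 1) (d := p - 1) (by
      rw [← ZMod.natCast_eq_natCast_iff, Nat.cast_mul, Nat.cast_sub hp1.le]; simp)
  rw [hinv] at htx hty
  have hc : ∀ s t : V, s * t = t * s := hcomm.is_comm.comm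
  haveI : Finite V := Nat.finite_of_card_ne_zero (by rw [hcard]; exact pow_ne_zero 2 hp.out.ne_zero)
  have hall : ∀ v, ρ t₀ v = v⁻¹ := by
    intro v
    have htop : Subgroup.zpowers x ⊔ Subgroup.zpowers y = ⊤ := by
      refine Subgroup.eq_top_of_card_eq _ ?_
      obtain ⟨m, hm, he⟩ := (Nat.dvd_prime_pow hp.out).mp
        (hcard ▸ Subgroup.card_subgroup_dvd_card (Subgroup.zpowers x ⊔ Subgroup.zpowers y))
      have h1 : p < p ^ m := by
        rw [← he]
        refine lt_of_eq_of_lt ((Nat.card_zpowers x).trans (orderOf_eq_prime (hexp x) hx)).symm ?_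
        refine lt_of_le_of_ne (Subgroup.card_le_of_le le_sup_left) fun h => hy ?_
        exact (Subgroup.eq_of_le_of_card_ge le_sup_left h.ge).ge
          (Subgroup.mem_sup_right (Subgroup.mem_zpowers y))
      have h2 : 1 < m := (Nat.pow_lt_pow_iff_right hp.out.one_lt).mp (by rwa [pow_one])
      rw [he, hcard, show m = 2 by omega]
    let W : Subgroup V :=
      { carrier := {w | ρ t₀ w = w⁻¹}
        one_mem' := by simp
        mul_mem' := fun {s t} hs ht => by
          show ρ t₀ (s * t) = (s * t)⁻¹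
          rw [map_mul, hs, ht, mul_inv_rev, hc]
        inv_mem' := fun {s} hs => by
          show ρ t₀ s⁻¹ = s⁻¹⁻¹
          rw [map_inv, hs] }
    exact (sup_le (Subgroup.zpowers_le.mpr (show x ∈ W from htx)) (Subgroup.zpowers_le.mpr (show y ∈ W from hty)))
      (htop.ge (Subgroup.mem_top v))
  -- pass to a power of order prime to `p`
  obtain ⟨e, m, hm, hem⟩ :=
    Nat.exists_eq_pow_mul_and_not_dvd (orderOf_pos t₀).ne' p hp.out.ne_one
  refine ⟨t₀ ^ p ^ e, Nat.Coprime.coprime_dvd_left (orderOf_dvd_of_pow_eq_one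
    (n := m) (by rw [← pow_mul, ← hem, pow_orderOf_eq_one]))
    ((hp.out.coprime_iff_not_dvd.mpr hm).symm), fun v => ?_⟩
  have hodd : Odd (p ^ e) := (hp.out.odd_of_ne_two hp2).pow
  obtain ⟨q, hq⟩ := hodd
  rw [map_pow, hq, pow_succ, pow_mul, MulAut.mul_apply, hall]
  have h2 : ρ t₀ ^ 2 = 1 := MulEquiv.ext fun w => by
    rw [pow_two, MulAut.mul_apply, hall, hall, inv_inv]; rfl
  rw [h2, one_pow]
  rfl

end Cfsg.Agent.Fusion
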