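import Cfsg.Agent.Lib.Fusion.MetacyclicTwo
import Cfsg.Agent.Lib.Fusion.FrattiniAction
import Cfsg.Agent.Lib.Fusion.NormalCriteria
import Cfsg.Agent.Lib.Fusion.EssentialFrame

/-!
A metacyclic strongly closed 2-subgroup not of maximal class is normal.
-/

set_option autoImplicit false

namespace Cfsg.Agent.Fusion

open Cfsg.FusionSystem (centralizerIn normalizerIn)

universe u

variable {Ω : Type u} [Group Ω] {S : Subgroup Ω} {F : FusionSystem S}

/-- Restriction of the automizer of `R` to the intersection with a strongly closed subgroup. -/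
noncomputable def resInter {R P : Subgroup Ω} (hR : R ≤ S) (hP : F.StronglyClosed P) :
    F.autGroup R →* MulAut (R.subgroupOf P) where
  toFun b :=
    { toFun := fun v => ⟨⟨autFun (b : MulAut R) ((v : P) : Ω),
          StronglyClosed.map_mem hP (mapTo_of_mem_autGroup hR b.2) v.2 v.1.2⟩, autFun_mem _ v.2⟩
      invFun := fun v => ⟨⟨autFun (b : MulAut R)⁻¹ ((v : P) : Ω),
          StronglyClosed.map_mem hP (mapTo_of_mem_autGroup hR (Subgroup.inv_mem _ b.2)) v.2 v.1.2⟩,
          autFun_mem _ v.2⟩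
      left_inv := fun v => Subtype.ext (Subtype.ext (autFun_inv_autFun _ v.2))
      right_inv := fun v => Subtype.ext (Subtype.ext (autFun_autFun_inv _ v.2))
      map_mul' := fun v w => Subtype.ext (Subtype.ext
        ((mapTo_of_mem_autGroup hR b.2).map_mul v.2 w.2)) }
  map_one' := MulEquiv.ext fun v => Subtype.ext (Subtype.ext (autFun_one v.2))
  map_mul' a b := MulEquiv.ext fun v => Subtype.ext (Subtype.ext
    (autFun_mul (a : MulAut R) (b : MulAut R) v.2))

variable [Finite S] [Fact (Nat.Prime 2)]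

theorem le_of_isEssential_of_metacyclic (hS : IsPGroup 2 S) {P R : Subgroup Ω}
    (hP : F.StronglyClosed P) (hm : Cfsg.IsMetacyclic P)
    (hmc : ¬ Nonempty (Invol.MaxClassTwo.MCData P)) (hR : F.IsEssential 2 R) : P ≤ R := by
  by_contra hPR
  obtain ⟨A, hAn, hAc, hAq⟩ := hm
  haveI := hAn
  have hRS := hR.1.1
  have hPS := hP.1
  haveI := finite_of_le hRS
  haveI := finite_of_le hPS
  haveI := finite_mulAut R
  have hPp : IsPGroup 2 P := hS.to_le hPS
  obtain ⟨k, hkP, hkR, hkN⟩ := exists_mem_normalizer_not_mem hS hRS hPS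
    (hRS.trans (StronglyClosed.le_normalizer hP)) hPR
  have hkS : k ∈ S := hPS hkP
  set k' : P := ⟨k, hkP⟩
  set W := R.subgroupOf P
  have ctx : MetaCtx A W k' :=
    ⟨hPp, hAc, hAq, fun x hx => (Subgroup.mem_normalizer_iff.mp hkN.2 _).mp hx⟩
  have hWp : IsPGroup 2 W := hPp.to_subgroup W
  set res := resInter (F := F) hRS hP
  -- the automorphisms centralizing `R / R ∩ P`
  let M : Subgroup (F.autGroup R) :=
    { carrier := {b | ∀ r ∈ R, r⁻¹ * autFun (b : MulAut R) r ∈ P}
      one_mem' := fun r hr => by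
        rw [Subgroup.coe_one, autFun_one hr, inv_mul_cancel]; exact P.one_mem
      mul_mem' := fun {a b} ha hb r hr => by
        rw [Subgroup.coe_mul, autFun_mul _ _ hr,
          show r⁻¹ * autFun (a : MulAut R) (autFun (b : MulAut R) r) =
            (r⁻¹ * autFun (b : MulAut R) r) * ((autFun (b : MulAut R) r)⁻¹ *
              autFun (a : MulAut R) (autFun (b : MulAut R) r)) by group]
        exact P.mul_mem (hb r hr) (ha _ (autFun_mem _ hr))
      inv_mem' := fun {a} ha r hr => by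
        rw [Subgroup.coe_inv]
        have h1 := P.inv_mem (ha _ (autFun_mem (a : MulAut R)⁻¹ hr))
        rwa [autFun_autFun_inv _ hr, mul_inv_rev, inv_inv] at h1 }
  have hMn : M.Normal := ⟨fun b hb a r hr => by
    have h2 := mapTo_of_mem_autGroup hRS a.2
    have hr' : autFun (a : MulAut R)⁻¹ r ∈ R := autFun_mem _ hr
    have h1 := StronglyClosed.map_mem hP h2
      (R.mul_mem (R.inv_mem hr') (autFun_mem (b : MulAut R) hr')) (hb _ hr')
    rw [h2.map_mul (R.inv_mem hr') (autFun_mem _ hr'), h2.map_inv hr', autFun_autFun_inv _ hr]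
      at h1
    rw [Subgroup.coe_mul, Subgroup.coe_mul, Subgroup.coe_inv, autFun_mul _ _ hr, autFun_mul _ _ hr']
    exact h1⟩
  set K := M ⊓ ((fratRep W).comp res).ker with hK
  haveI := hMn
  have hKn : K.Normal := inferInstance
  have hKp : IsPGroup 2 K := by
    rintro ⟨b, hb⟩
    obtain ⟨a, m, hm, hbm⟩ :=
      Nat.exists_eq_pow_mul_and_not_dvd (orderOf_pos b).ne' 2 (by norm_num)
    refine ⟨a, Subtype.ext ?_⟩
    show b ^ 2 ^ a = 1
    set c := b ^ 2 ^ a with hc
    have hcK : c ∈ K := K.pow_mem hb _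
    have hcm : c ^ m = 1 := by rw [hc, ← pow_mul, ← hbm, pow_orderOf_eq_one]
    have hres : res c = 1 := by
      obtain ⟨t, ht⟩ := (isPGroup_ker_fratRep hWp) ⟨res c, hcK.2⟩
      have h1 : res c ^ 2 ^ t = 1 := congrArg Subtype.val ht
      have h2 : res c ^ m = 1 := by rw [← map_pow, hcm, map_one]
      rw [← orderOf_eq_one_iff]
      exact Nat.eq_one_of_dvd_coprimes
        (Nat.Coprime.pow_left t ((Nat.Prime.coprime_iff_not_dvd Nat.prime_two).mpr hm))
        (orderOf_dvd_of_pow_eq_one h1) (orderOf_dvd_of_pow_eq_one h2)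
    have hfix : ∀ v ∈ P, v ∈ R → autFun (c : MulAut R) v = v := fun v hv hvR =>
      congrArg (fun x : W => ((x : P) : Ω)) (DFunLike.congr_fun hres (⟨⟨v, hv⟩, hvR⟩ : W))
    refine Subtype.ext (autFun_ext fun r hr => ?_)
    rw [Subgroup.coe_one, autFun_one hr]
    set d := r⁻¹ * autFun (c : MulAut R) r with hd
    have hdP : d ∈ P := hcK.1 r hr
    have hdR : d ∈ R := R.mul_mem (R.inv_mem hr) (autFun_mem _ hr)
    have hiter : ∀ n : ℕ, autFun ((c ^ n : F.autGroup R) : MulAut R) r = r * d ^ n := by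
      intro n
      induction n with
      | zero => rw [pow_zero, Subgroup.coe_one, autFun_one hr, pow_zero, mul_one]
      | succ n ih =>
        rw [pow_succ', Subgroup.coe_mul, autFun_mul _ _ hr, ih,
          (mapTo_of_mem_autGroup hRS c.2).map_mul hr (R.pow_mem hdR n),
          hfix _ (P.pow_mem hdP n) (R.pow_mem hdR n),
          show autFun (c : MulAut R) r = r * d by rw [hd, mul_inv_cancel_left], pow_succ', mul_assoc]
    have h1 := hiter m
    rw [hcm, Subgroup.coe_one, autFun_one hr, left_eq_mul] at h1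
    obtain ⟨t, ht⟩ := hPp ⟨d, hdP⟩
    have ht' : d ^ 2 ^ t = 1 := congrArg Subtype.val ht
    have hd1 : d = 1 := orderOf_eq_one_iff.mp <| Nat.eq_one_of_dvd_coprimes
      (Nat.Coprime.pow_left t ((Nat.Prime.coprime_iff_not_dvd Nat.prime_two).mpr hm))
      (orderOf_dvd_of_pow_eq_one ht') (orderOf_dvd_of_pow_eq_one h1)
    rw [hd] at hd1
    exact (inv_mul_eq_one.mp hd1).symm
  -- conjugation by `k`
  obtain ⟨γ, hγ⟩ := exists_conjAut hkN.2
  have hγA : γ ∈ F.autGroup R :=
    autInducedBy_le_autGroup hRS (mem_autInducedBy_iff_cj.mpr ⟨k, hkS, hγ⟩)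
  set g : F.autGroup R := ⟨γ, hγA⟩
  have hgM : g ∈ M := fun r hr => by
    show r⁻¹ * autFun γ r ∈ P
    rw [hγ r hr, cj_apply, show r⁻¹ * (k * r * k⁻¹) = (r⁻¹ * k * r⁻¹⁻¹) * k⁻¹ by group]
    exact P.mul_mem (StronglyClosed.conj_mem hP (S.inv_mem (hRS hr)) hkP) (P.inv_mem hkP)
  have hginn : (g : MulAut R) ∉ Inn R := fun h =>
    hkR (mem_of_cj_mem_inn (centralizerIn_le_of_isCentric hR.1) hkS hγ h hRS)
  have hresg : ∀ v : W, ((res g v : W) : P) = k' * (v : P) * k'⁻¹ := fun v =>
    Subtype.ext ((hγ _ v.2).trans (cj_apply _ _))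
  have hmove : ∃ v ∈ W, k' * v * k'⁻¹ * v⁻¹ ∉ MetaCtx.frat W := by
    by_contra hne
    push Not at hne
    refine hginn (mem_inn_of_normal_pGroup hS hR hKn hKp ⟨hgM, mem_ker_fratRep.mpr fun v => ?_⟩)
    obtain ⟨z, hz, hzv⟩ := hne v v.2
    have : z = res g v * v⁻¹ := Subtype.ext (hzv.trans (by
      rw [← hresg]; rfl))
    exact this ▸ hz
  have hk2 : k' * k' ∈ W := by
    show k * k ∈ R
    have hg2 : g * g ∈ K := by
      refine ⟨M.mul_mem hgM hgM, mem_ker_fratRep.mpr fun v => ?_⟩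
      obtain ⟨z, hz, hzv⟩ := ctx.conj_sq v.2
      have : z = res (g * g) v * v⁻¹ := Subtype.ext (hzv.trans (by
        rw [map_mul, MulAut.mul_apply, Subgroup.coe_mul, hresg, hresg, Subgroup.coe_inv]; group))
      exact this ▸ hz
    refine mem_of_cj_mem_inn (centralizerIn_le_of_isCentric hR.1) (S.mul_mem hkS hkS)
      (α := γ * γ) (fun x hx => ?_) (mem_inn_of_normal_pGroup hS hR hKn hKp hg2) hRS
    rw [autFun_mul _ _ hx, hγ _ (autFun_mem _ hx), hγ x hx, cj_apply, cj_apply, cj_apply]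
    group
  refine hmc (ctx.mcData hk2 hmove fun N hN hle => ?_)
  by_contra hne
  push Not at hne
  have hcard : (frattini W).index ≤ 4 := ctx.card_quot_le_four
  have hidx1 : N.index ≠ 1 := fun h => hne.2 (Subgroup.index_eq_one.mp h)
  have hrel1 : (frattini W).relIndex N ≠ 1 := fun h =>
    hne.1 (le_antisymm (Subgroup.relIndex_eq_one.mp h) hle)
  have hprod := Subgroup.relIndex_mul_index hle
  have h0 : N.index ≠ 0 := Subgroup.index_ne_zero_of_finite
  have h0' : (frattini W).relIndex N ≠ 0 := fun h => Subgroup.index_ne_zero_of_finite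
    (H := frattini W) (by rw [← hprod, h, zero_mul])
  have h22 : N.index = 2 ∧ (frattini W).relIndex N = 2 := by
    have h1 : 2 ≤ N.index := by omega
    have h2 : 2 ≤ (frattini W).relIndex N := by omega
    constructor <;> nlinarith
  have hMp : IsPGroup 2 M := by
    rintro ⟨b, hb⟩
    have hb2 : b * b ∈ K := by
      refine ⟨M.mul_mem hb hb, ?_⟩
      show (fratRep W) (res (b * b)) = 1
      rw [map_mul]
      exact mul_self_mem_ker_fratRep hWp hle h22.1 h22.2 (res b)
    obtain ⟨t, ht⟩ := hKp ⟨b * b, hb2⟩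
    refine ⟨t + 1, Subtype.ext ?_⟩
    show b ^ 2 ^ (t + 1) = 1
    rw [pow_succ', pow_mul, pow_two]
    exact congrArg Subtype.val ht
  exact hginn (mem_inn_of_normal_pGroup hS hR hMn hMp hgM)

theorem isNormal_of_metacyclic_two (hS : IsPGroup 2 S) (hF : F.IsSaturated 2) {P : Subgroup Ω}
    (hP : F.StronglyClosed P) (hm : Cfsg.IsMetacyclic P)
    (hd : ¬ ∃ m : ℕ, Nonempty (P ≃* DihedralGroup m))
    (hq : ¬ ∃ m : ℕ, Nonempty (P ≃* QuaternionGroup m))
    (hsd : ¬ Cfsg.IsQuasiDihedral P) : F.IsNormal P := by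
  haveI := finite_of_le hP.1
  refine isNormal_of_stronglyClosed hS hF hP fun R hR =>
    le_of_isEssential_of_metacyclic hS hP hm ?_ hR
  rintro ⟨D⟩
  rcases Invol.MaxClassTwo.iso_cases D with h | h | h
  · exact hd ⟨_, h⟩
  · exact hq ⟨_, h⟩
  · exact hsd h

end Cfsg.Agent.Fusion
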