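import Mathlib.GroupTheory.GroupAction.Quotient
import Mathlib.GroupTheory.GroupAction.Basic
import Mathlib.Data.Set.Card
import Mathlib.GroupTheory.Index
import Mathlib.Algebra.Group.Subgroup.Finite

/-!
Burnside's theorem on marks: two finite sets with an action of a group are isomorphic when
every subgroup fixes the same number of points in both.
-/

set_option autoImplicit false

namespace Cfsg.Agent.Fusion

open MulAction

variable {G X Y : Type*} [Group G] [Finite G] [MulAction G X] [MulAction G Y] [Finite X] [Finite Y]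

omit [Finite G] in
private theorem ncard_split {Z : Type*} [MulAction G Z] [Finite Z] (C O : Set Z) (hO : O ⊆ C)
    (H : Subgroup G) : {z ∈ C | H ≤ stabilizer G z}.ncard =
      {z ∈ C \ O | H ≤ stabilizer G z}.ncard + {z ∈ O | H ≤ stabilizer G z}.ncard := by
  rw [← Set.ncard_union_eq]
  · congr 1
    ext z
    simp only [Set.mem_ofPred_eq, Set.mem_union, Set.mem_sdiff]
    constructor
    · rintro ⟨h1, h2⟩
      by_cases h : z ∈ O
      · exact Or.inr ⟨h, h2⟩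
      · exact Or.inl ⟨⟨h1, h⟩, h2⟩
    · rintro (⟨⟨h1, -⟩, h2⟩ | ⟨h1, h2⟩)
      exacts [⟨h1, h2⟩, ⟨hO h1, h2⟩]
  · rw [Set.disjoint_left]
    exact fun z h1 h2 => h1.1.2 h2.1

private theorem marks_aux (n : ℕ) : ∀ (A : Set X) (B : Set Y), A.ncard = n →
    (∀ g : G, ∀ x ∈ A, g • x ∈ A) → (∀ g : G, ∀ y ∈ B, g • y ∈ B) →
    (∀ H : Subgroup G, {x ∈ A | H ≤ stabilizer G x}.ncard =
      {y ∈ B | H ≤ stabilizer G y}.ncard) →
    A = ∅ ∧ B = ∅ ∨ ∃ e : X → Y, Set.BijOn e A B ∧ ∀ g : G, ∀ x ∈ A, e (g • x) = g • e x := by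
  classical
  induction n using Nat.strong_induction_on with
  | h n ih =>
  intro A B hn hA hB hAB
  rcases A.eq_empty_or_nonempty with rfl | hne
  · refine Or.inl ⟨rfl, ?_⟩
    have := hAB ⊥
    simp only [bot_le, and_true, Set.mem_empty_iff_false, Set.ofPred_false, Set.ncard_empty,
      Set.ofPred_mem_eq] at this
    exact (Set.ncard_eq_zero).mp this.symm
  obtain ⟨x, hx, hmax'⟩ :=
    (Set.toFinite A).exists_maximalFor (fun x => Nat.card (stabilizer G x)) A hne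
  have hmax : ∀ z ∈ A, Nat.card (stabilizer G z) ≤ Nat.card (stabilizer G x) := fun z hz =>
    (le_total _ _).elim id (fun h => hmax' hz h)
  obtain ⟨y, hy, hxy⟩ : {y ∈ B | stabilizer G x ≤ stabilizer G y}.Nonempty :=
    (Set.ncard_pos).mp (hAB _ ▸ (Set.ncard_pos).mpr ⟨x, hx, le_rfl⟩)
  obtain ⟨x', hx', hyx'⟩ : {z ∈ A | stabilizer G y ≤ stabilizer G z}.Nonempty :=
    (Set.ncard_pos).mp ((hAB _).symm ▸ (Set.ncard_pos).mpr ⟨y, hy, le_rfl⟩)
  have heq : stabilizer G x = stabilizer G y :=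
    Subgroup.eq_of_le_of_card_ge hxy ((Subgroup.card_le_of_le hyx').trans (hmax x' hx'))
  have hgg : ∀ g h : G, g • x = h • x ↔ g • y = h • y := fun g h => by
    rw [eq_comm, ← inv_smul_eq_iff, smul_smul, ← mem_stabilizer_iff, heq, mem_stabilizer_iff,
      ← smul_smul, inv_smul_eq_iff, eq_comm]
  set e₀ : X → Y := fun z => if h : z ∈ orbit G x then Classical.choose h • y else y with he₀
  have he₀g : ∀ g : G, e₀ (g • x) = g • y := fun g => by
    have h : g • x ∈ orbit G x := ⟨g, rfl⟩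
    simp only [he₀, dif_pos h]
    exact (hgg _ _).mp (Classical.choose_spec h)
  have hOA : orbit G x ⊆ A := by rintro _ ⟨g, rfl⟩; exact hA g x hx
  have hOB : orbit G y ⊆ B := by rintro _ ⟨g, rfl⟩; exact hB g y hy
  have hst : ∀ g : G, stabilizer G (g • x) = stabilizer G (g • y) := fun g => by
    rw [stabilizer_smul_eq_stabilizer_map_conj, stabilizer_smul_eq_stabilizer_map_conj, heq]
  have hcount : ∀ H : Subgroup G,
      {z ∈ orbit G x | H ≤ stabilizer G z}.ncard = {w ∈ orbit G y | H ≤ stabilizer G w}.ncard := by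
    intro H
    refine Set.ncard_congr (fun z _ => e₀ z) ?_ ?_ ?_
    · rintro _ ⟨⟨g, rfl⟩, hz⟩
      show e₀ (g • x) ∈ orbit G y ∧ H ≤ stabilizer G (e₀ (g • x))
      rw [he₀g]
      exact ⟨⟨g, rfl⟩, hst g ▸ hz⟩
    · rintro _ _ ⟨⟨g, rfl⟩, -⟩ ⟨⟨h, rfl⟩, -⟩ he
      change e₀ (g • x) = e₀ (h • x) at he
      rw [he₀g, he₀g] at he
      exact (hgg g h).mpr he
    · rintro _ ⟨⟨g, rfl⟩, hw⟩
      exact ⟨g • x, ⟨⟨g, rfl⟩, (hst g).symm ▸ hw⟩, he₀g g⟩
  have hlt : (A \ orbit G x).ncard < n := hn ▸ Set.ncard_lt_ncard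
    ⟨fun _ h => h.1, fun h => (h hx).2 (mem_orbit_self x)⟩ (Set.toFinite A)
  have hAB' : ∀ H : Subgroup G, {z ∈ A \ orbit G x | H ≤ stabilizer G z}.ncard =
      {w ∈ B \ orbit G y | H ≤ stabilizer G w}.ncard := fun H => by
    have h1 := ncard_split A _ hOA H
    have h2 := ncard_split B _ hOB H
    have h3 := hcount H
    have h4 := hAB H
    omega
  have hA' : ∀ g : G, ∀ z ∈ A \ orbit G x, g • z ∈ A \ orbit G x := fun g z hz =>
    ⟨hA g z hz.1, fun h => hz.2 (by simpa using mem_orbit_of_mem_orbit g⁻¹ h)⟩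
  have hB' : ∀ g : G, ∀ z ∈ B \ orbit G y, g • z ∈ B \ orbit G y := fun g z hz =>
    ⟨hB g z hz.1, fun h => hz.2 (by simpa using mem_orbit_of_mem_orbit g⁻¹ h)⟩
  obtain ⟨e', he'bij, he'eq⟩ : ∃ e' : X → Y, Set.BijOn e' (A \ orbit G x) (B \ orbit G y) ∧
      ∀ g : G, ∀ z ∈ A \ orbit G x, e' (g • z) = g • e' z := by
    rcases ih _ hlt _ _ rfl hA' hB' hAB' with ⟨h1, h2⟩ | h
    · refine ⟨e₀, ?_, fun g z hz => absurd (h1 ▸ hz) (Set.notMem_empty z)⟩
      rw [h1, h2]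
      exact Set.bijOn_empty _
    · exact h
  refine Or.inr ⟨fun z => if z ∈ orbit G x then e₀ z else e' z, ?_, ?_⟩
  · refine ⟨fun z hz => ?_, fun z₁ hz₁ z₂ hz₂ he => ?_, fun w hw => ?_⟩
    · dsimp only
      split_ifs with h
      · obtain ⟨g, rfl⟩ := h
        show e₀ (g • x) ∈ B
        rw [he₀g]; exact hB g y hy
      · exact (he'bij.mapsTo ⟨hz, h⟩).1
    · dsimp only at he
      split_ifs at he with h₁ h₂ h₂
      · obtain ⟨g, rfl⟩ := h₁
        obtain ⟨k, rfl⟩ := h₂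
        change e₀ (g • x) = e₀ (k • x) at he
        rw [he₀g, he₀g] at he
        exact (hgg g k).mpr he
      · obtain ⟨g, rfl⟩ := h₁
        change e₀ (g • x) = _ at he
        rw [he₀g] at he
        exact absurd (he ▸ ⟨g, rfl⟩ : e' z₂ ∈ orbit G y) (he'bij.mapsTo ⟨hz₂, h₂⟩).2
      · obtain ⟨g, rfl⟩ := h₂
        change _ = e₀ (g • x) at he
        rw [he₀g] at he
        exact absurd (he.symm ▸ ⟨g, rfl⟩ : e' z₁ ∈ orbit G y) (he'bij.mapsTo ⟨hz₁, h₁⟩).2
      · exact he'bij.injOn ⟨hz₁, h₁⟩ ⟨hz₂, h₂⟩ he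
    · by_cases h : w ∈ orbit G y
      · obtain ⟨g, rfl⟩ := h
        refine ⟨g • x, hA g x hx, ?_⟩
        dsimp only
        rw [if_pos ⟨g, rfl⟩, he₀g]
      · obtain ⟨z, hz, rfl⟩ := he'bij.surjOn ⟨hw, h⟩
        exact ⟨z, hz.1, if_neg hz.2⟩
  · intro g z hz
    dsimp only
    by_cases h : z ∈ orbit G x
    · obtain ⟨k, rfl⟩ := h
      rw [if_pos (mem_orbit_of_mem_orbit g ⟨k, rfl⟩), if_pos ⟨k, rfl⟩, smul_smul]
      show e₀ ((g * k) • x) = g • e₀ (k • x)
      rw [he₀g, he₀g, smul_smul]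
    · rw [if_neg (hA' g z ⟨hz, h⟩).2, if_neg h, he'eq g z ⟨hz, h⟩]

/-- Burnside: finite `G`-sets with the same marks are isomorphic. -/
theorem exists_equiv_of_card_fixed
    (h : ∀ H : Subgroup G, Nat.card {x : X // H ≤ stabilizer G x} =
      Nat.card {y : Y // H ≤ stabilizer G y}) :
    ∃ e : X ≃ Y, ∀ (g : G) (x : X), e (g • x) = g • e x := by
  have h' : ∀ H : Subgroup G, {x ∈ (Set.univ : Set X) | H ≤ stabilizer G x}.ncard =
      {y ∈ (Set.univ : Set Y) | H ≤ stabilizer G y}.ncard := fun H => by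
    simp only [Set.mem_univ, true_and]
    rw [← Nat.card_coe_set_eq, ← Nat.card_coe_set_eq]
    exact h H
  rcases marks_aux _ Set.univ Set.univ rfl (fun _ _ _ => trivial) (fun _ _ _ => trivial) h' with
    ⟨hX, hY⟩ | ⟨e, he, hge⟩
  · have : IsEmpty X := Set.univ_eq_empty_iff.mp hX
    have : IsEmpty Y := Set.univ_eq_empty_iff.mp hY
    exact ⟨Equiv.equivOfIsEmpty X Y, fun _ x => isEmptyElim x⟩
  · exact ⟨Equiv.ofBijective e (Set.bijOn_univ.mp he), fun g x => hge g x trivial⟩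

end Cfsg.Agent.Fusion
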