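import Cfsg.Agent.Lib.Fusion.ModelExistence
import Cfsg.Agent.Lib.Fusion.ModelBasic
import Cfsg.Agent.Lib.Fusion.Marks

/-!
The model theorem, uniqueness and rigidity.
-/

set_option autoImplicit false

namespace Cfsg.Agent.Fusion

open Cfsg.FusionSystem (centralizerIn normalizerIn imageAlong preimageAlong)

universe u v w

variable {Ω : Type u} [Group Ω] {S : Subgroup Ω} {F : FusionSystem S} {P Q : Subgroup Ω}
variable {G : Type v} [Group G] {ι : S →* G} {p : ℕ} [Fact p.Prime]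

/-- The two sided action of `S` on a group receiving it. -/
@[reducible] def modelAct (ι : S →* G) : MulAction (S × S) G where
  smul q x := ι q.1 * x * (ι q.2)⁻¹
  one_smul x := by
    show ι 1 * x * (ι 1)⁻¹ = x
    simp
  mul_smul a b x := by
    show ι (a.1 * b.1) * x * (ι (a.2 * b.2))⁻¹ = ι a.1 * (ι b.1 * x * (ι b.2)⁻¹) * (ι a.2)⁻¹
    simp [mul_assoc]

theorem modelAct_smul (ι : S →* G) (a b : S) (x : G) :
    letI := modelAct ι
    ((a, b) : S × S) • x = ι a * x * (ι b)⁻¹ := rfl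

theorem modelAct_lm (ι : S →* G) (a : S) (x : G) :
    letI := modelAct ι
    lm a x = ι a * x := by
  show ι a * x * (ι 1)⁻¹ = _
  simp

theorem modelAct_rm (ι : S →* G) (x : G) (b : S) :
    letI := modelAct ι
    rm x b = x * ι b := by
  show ι 1 * x * (ι b⁻¹)⁻¹ = _
  simp

namespace IsModel

variable (h : F.IsModel p G ι) [Finite S]
include h

/-- The action of a model on a normal subgroup. -/
theorem exists_conjHom (hQn : F.IsNormal Q) :
    ∃ κ : G →* MulAut Q, (∀ g (w : Q), th ι (κ g w : Ω) = g * th ι w * g⁻¹) ∧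
      (∀ g, κ g ∈ F.autGroup Q) ∧ ∀ β ∈ F.autGroup Q, ∃ g, κ g = β := by
  have hQS := hQn.1
  have := finite_of_le hQS
  have hmap : ∀ g : G, ∃ (f : Ω → Ω), MapTo F Q f ∧ img f Q = Q ∧
      ∀ x ∈ Q, th ι (f x) = g * th ι x * g⁻¹ := by
    intro g
    obtain ⟨f, hf, hfg⟩ := IsRealizedBy.exists_mapTo h.2.1 hQS g fun x hx => by
      obtain ⟨y, -, hyg⟩ := conj_mem h hQn g hx
      exact hyg ▸ th_mem_range ι y
    exact ⟨f, hf, StronglyClosed.img_eq (IsNormal.stronglyClosed hQn) hf le_rfl, hfg⟩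
  choose f hf himg hfg using hmap
  have hk : ∀ g (w : Q), th ι (autOf (hf g) (himg g) w : Ω) = g * th ι w * g⁻¹ :=
    fun g w => hfg g w w.2
  refine ⟨MonoidHom.mk' (fun g => autOf (hf g) (himg g)) fun a b => MulEquiv.ext fun w =>
    Subtype.ext (th_inj h.2.1.1 (hQS (autOf (hf (a * b)) (himg (a * b)) w).2)
      (hQS ((autOf (hf a) (himg a) * autOf (hf b) (himg b)) w).2) ?_), hk,
    fun g => autOf_mem _ _, fun β hβ => ?_⟩
  · rw [MulAut.mul_apply, hk, hk, hk]
    group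
  · obtain ⟨g, hg⟩ := IsRealizedBy.exists_conj h.2.1 (mapTo_of_mem_autGroup hQS hβ)
    refine ⟨g, MulEquiv.ext fun w => Subtype.ext (th_inj h.2.1.1 (hQS (autOf _ _ w).2)
      (hQS (β w).2) ?_)⟩
    show th ι (autOf (hf g) (himg g) w : Ω) = _
    rw [hk, ← hg w w.2, autFun_coe]

/-- The model is a biset with all the properties needed to build a model. -/
theorem modelData (hQn : F.IsNormal Q) (hQc : F.IsCentric Q) :
    letI := modelAct ι
    ModelData F p Q G := by
  have := h.1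
  refine @ModelData.mk Ω _ S F p Q G (modelAct ι) hQn hQc (fun b x hb => ?_) (fun x => ?_)
    (fun P f hf _ => ?_) ?_
  · have h1 : ι 1 * x * (ι b)⁻¹ = x := hb
    rw [_root_.map_one, one_mul, mul_eq_left, inv_eq_one] at h1
    exact h.2.1.1 (h1.trans (_root_.map_one ι).symm)
  · let P : Subgroup Ω :=
      ((ι.range.comap (MulAut.conj x⁻¹).toMonoidHom).comap ι).map S.subtype
    obtain ⟨f, hf, hfx⟩ := IsRealizedBy.exists_mapTo h.2.1 (P := P) (Subgroup.map_subtype_le _) x⁻¹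
      (by
        rintro _ ⟨s, hs, rfl⟩
        show x⁻¹ * th ι (s : Ω) * x⁻¹⁻¹ ∈ ι.range
        rw [th_coe]
        exact hs)
    refine ⟨P, f, hf, fun a b hab => ?_⟩
    have h1 : ι a * x * (ι b)⁻¹ = x := hab
    rw [mul_inv_eq_iff_eq_mul] at h1
    have h2 : x⁻¹ * ι a * x⁻¹⁻¹ = ι b := by rw [inv_inv, mul_assoc, h1, inv_mul_cancel_left]
    have haP : (a : Ω) ∈ P := ⟨a, ⟨b, h2.symm⟩, rfl⟩
    refine ⟨haP, th_inj h.2.1.1 (hf.mem haP) b.2 ?_⟩
    rw [hfx a haP, th_coe, th_coe, h2]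
  · obtain ⟨g, hg⟩ := IsRealizedBy.exists_conj h.2.1 hf
    refine ⟨Equiv.mulLeft g, fun x b => ?_, fun a ha x => ?_⟩
    · rw [modelAct_rm, modelAct_rm]
      exact (mul_assoc _ _ _).symm
    · rw [modelAct_lm, modelAct_lm]
      show g * (ι ⟨a, hf.le ha⟩ * x) = ι ⟨f a, hf.mem ha⟩ * (g * x)
      rw [← th_apply ι (hf.le ha), ← th_apply ι (hf.mem ha), hg a ha]
      group
  · obtain ⟨T, hT⟩ := h.2.2.1
    refine ⟨(T : Subgroup G).index, T.not_dvd_index, ?_⟩
    rw [Nat.card_congr (MonoidHom.ofInjective h.2.1.1).toEquiv, ← hT,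
      Subgroup.index_mul_card]

/-- The order of the centralizer of a subgroup, read inside the system. -/
theorem card_centralizer (hQn : F.IsNormal Q) (hQc : F.IsCentric Q) (hP : P ≤ S) :
    Nat.card {g : G // ∀ x ∈ P, g * th ι x = th ι x * g} =
      Nat.card {β : MulAut Q // ∃ f, MapTo F (P ⊔ Q) f ∧ (∀ x ∈ P, f x = x) ∧
        ∀ w : Q, f w = β w} *
      Nat.card {z : Ω // z ∈ Q ∧ (∀ x ∈ Q, z * x = x * z) ∧ ∀ x ∈ P, z * x = x * z} := by
  have := h.1
  have hQS := hQn.1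
  obtain ⟨κ, hκ, hκF, -⟩ := exists_conjHom h hQn
  let C : Subgroup G := Subgroup.centralizer ((imageAlong ι P : Subgroup G) : Set G)
  have hC : ∀ g : G, g ∈ C ↔ ∀ x ∈ P, g * th ι x = th ι x * g := by
    intro g
    rw [Subgroup.mem_centralizer_iff]
    refine ⟨fun h' x hx => (h' _ (th_mem_imageAlong hP hx)).symm, fun h' y hy => ?_⟩
    obtain ⟨x, hx, rfl⟩ := (mem_imageAlong hP).mp hy
    exact (h' x hx).symm
  let μ : C →* MulAut Q := κ.comp C.subtype
  rw [show Nat.card {g : G // ∀ x ∈ P, g * th ι x = th ι x * g} = Nat.card C from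
      Nat.card_congr (Equiv.subtypeEquivRight fun g => (hC g).symm),
    Subgroup.card_eq_card_quotient_mul_card_subgroup μ.ker,
    Nat.card_congr (QuotientGroup.quotientKerEquivRange μ).toEquiv]
  congr 1
  · refine Nat.card_congr (Equiv.subtypeEquivRight fun β => ⟨?_, ?_⟩)
    · rintro ⟨⟨g, hg⟩, rfl⟩
      have hsup : ∀ x ∈ P ⊔ Q, g * th ι x * g⁻¹ ∈ ι.range := by
        let K : Subgroup S := (ι.range.comap (MulAut.conj g).toMonoidHom).comap ι
        have hle : P ⊔ Q ≤ K.map S.subtype := by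
          refine sup_le (fun x hx => ⟨⟨x, hP hx⟩, ?_, rfl⟩) fun x hx => ⟨⟨x, hQS hx⟩, ?_, rfl⟩
          · show g * ι ⟨x, hP hx⟩ * g⁻¹ ∈ ι.range
            rw [← th_apply ι (hP hx), (hC g).mp hg x hx, mul_inv_cancel_right]
            exact th_mem_range ι x
          · show g * ι ⟨x, hQS hx⟩ * g⁻¹ ∈ ι.range
            rw [← th_apply ι (hQS hx), ← hκ g ⟨x, hx⟩]
            exact th_mem_range ι _
        intro x hx
        obtain ⟨s, hs, rfl⟩ := hle hx
        exact (th_coe ι s).symm ▸ hs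
      obtain ⟨f, hf, hfg⟩ := IsRealizedBy.exists_mapTo h.2.1 (sup_le hP hQS) g hsup
      refine ⟨f, hf, fun x hx => th_inj h.2.1.1 (hf.mem (Subgroup.mem_sup_left hx)) (hP hx) ?_,
        fun w => th_inj h.2.1.1 (hf.mem (Subgroup.mem_sup_right w.2)) (hQS (κ g w).2) ?_⟩
      · rw [hfg x (Subgroup.mem_sup_left hx), (hC g).mp hg x hx, mul_inv_cancel_right]
      · show _ = th ι (κ g w : Ω)
        rw [hfg _ (Subgroup.mem_sup_right w.2), hκ]
    · rintro ⟨f, hf, hfP, hfQ⟩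
      obtain ⟨g, hg⟩ := IsRealizedBy.exists_conj h.2.1 hf
      have hgC : g ∈ C := (hC g).mpr fun x hx => by
        have h1 := hg x (Subgroup.mem_sup_left hx)
        rw [hfP x hx] at h1
        conv_rhs => rw [h1]
        group
      refine ⟨⟨g, hgC⟩, MulEquiv.ext fun w => Subtype.ext
        (th_inj h.2.1.1 (hQS (κ g w).2) (hQS (β w).2) ?_)⟩
      show th ι (κ g w : Ω) = _
      rw [hκ, ← hg _ (Subgroup.mem_sup_right w.2), hfQ]
  · refine Nat.card_congr (Equiv.ofBijective (fun z : {z : Ω // z ∈ Q ∧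
      (∀ x ∈ Q, z * x = x * z) ∧ ∀ x ∈ P, z * x = x * z} =>
      (⟨⟨th ι z.1, (hC _).mpr fun x hx => ?_⟩, ?_⟩ : μ.ker)) ⟨?_, ?_⟩).symm
    · rw [← th_mul ι (hQS z.2.1) (hP hx), ← th_mul ι (hP hx) (hQS z.2.1), z.2.2.2 x hx]
    · refine MulEquiv.ext fun w => Subtype.ext (th_inj h.2.1.1 (hQS (κ (th ι z.1) w).2)
        (hQS w.2) ?_)
      show th ι (κ (th ι z.1) w : Ω) = th ι (w : Ω)
      rw [hκ, ← th_mul ι (hQS z.2.1) (hQS w.2), z.2.2.1 w w.2, th_mul ι (hQS w.2) (hQS z.2.1),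
        mul_inv_cancel_right]
    · intro a b hab
      exact Subtype.ext (th_inj h.2.1.1 (hQS a.2.1) (hQS b.2.1)
        (congrArg (fun k : μ.ker => ((k : C) : G)) hab))
    · rintro ⟨⟨g, hg⟩, hker⟩
      obtain ⟨z, hzQ, hzc, rfl⟩ := centralizer_eq h hQn hQc (c := g) fun x hx => by
        have h1 := hκ g ⟨x, hx⟩
        rw [show κ g = 1 from hker, MulAut.one_apply] at h1
        conv_rhs => rw [h1]
        group
      refine ⟨⟨z, hzQ, hzc, fun x hx => th_inj h.2.1.1 (S.mul_mem (hQS hzQ) (hP hx))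
        (S.mul_mem (hP hx) (hQS hzQ)) ?_⟩, rfl⟩
      rw [th_mul ι (hQS hzQ) (hP hx), th_mul ι (hP hx) (hQS hzQ)]
      exact (hC _).mp hg x hx

end IsModel

omit [Fact p.Prime] in
theorem modelAct_fixed_iff (ι : S →* G) (U : Subgroup (S × S)) (x : G) :
    letI := modelAct ι
    U ≤ MulAction.stabilizer (S × S) x ↔ ∀ a b : S, (a, b) ∈ U → ι a * x = x * ι b := by
  refine ⟨fun hU a b hab => mul_inv_eq_iff_eq_mul.mp (hU hab), fun hU => ?_⟩
  rintro ⟨a, b⟩ hab
  exact mul_inv_eq_iff_eq_mul.mpr (hU a b hab)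

/-- The fixed points of a subgroup, given one of them. -/
theorem card_fixed_eq (ι : S →* G) (U : Subgroup (S × S)) (x : G)
    (hx : ∀ a b : S, (a, b) ∈ U → ι a * x = x * ι b) :
    Nat.card {y : G // ∀ a b : S, (a, b) ∈ U → ι a * y = y * ι b} =
      Nat.card {g : G // ∀ z ∈ (U.map (MonoidHom.fst S S)).map S.subtype,
        g * th ι z = th ι z * g} := by
  refine Nat.card_congr ((Equiv.mulRight x⁻¹).subtypeEquiv fun y => ⟨fun hy => ?_, fun hy => ?_⟩)
  · rintro _ ⟨_, ⟨⟨a, b⟩, hab, rfl⟩, rfl⟩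
    show y * x⁻¹ * th ι (a : Ω) = th ι (a : Ω) * (y * x⁻¹)
    rw [th_coe, ← mul_assoc (ι a), hy a b hab]
    have h1 := hx a b hab
    calc y * x⁻¹ * ι a = y * x⁻¹ * (ι a * x) * x⁻¹ := by group
      _ = _ := by rw [h1]; group
  · intro a b hab
    have h1 := hy (a : Ω) ⟨a, ⟨(a, b), hab, rfl⟩, rfl⟩
    have h2 := hx a b hab
    have h3 : y * x⁻¹ * ι a = ι a * (y * x⁻¹) := by rwa [th_coe] at h1
    calc ι a * y = ι a * (y * x⁻¹) * x := by group
      _ = y * x⁻¹ * (ι a * x) := by rw [← h3]; group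
      _ = _ := by rw [h2]; group

/-- A subgroup fixing a point in one realization fixes a point in any other. -/
theorem exists_fixed_of_fixed {H : Type w} [Group H] {ι' : S →* H} (h : F.IsRealizedBy ι)
    (h' : F.IsRealizedBy ι') (U : Subgroup (S × S)) (x : G)
    (hx : ∀ a b : S, (a, b) ∈ U → ι a * x = x * ι b) :
    ∃ y : H, ∀ a b : S, (a, b) ∈ U → ι' a * y = y * ι' b := by
  set P := (U.map (MonoidHom.fst S S)).map S.subtype with hP
  obtain ⟨f, hf, hfx⟩ := IsRealizedBy.exists_mapTo h (P := P) (Subgroup.map_subtype_le _) x⁻¹ (by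
    rintro _ ⟨_, ⟨⟨a, b⟩, hab, rfl⟩, rfl⟩
    show x⁻¹ * th ι (a : Ω) * x⁻¹⁻¹ ∈ ι.range
    rw [th_coe, inv_inv, mul_assoc, hx a b hab, inv_mul_cancel_left]
    exact ⟨b, rfl⟩)
  obtain ⟨g, hg⟩ := IsRealizedBy.exists_conj h' hf
  refine ⟨g⁻¹, fun a b hab => ?_⟩
  have haP : (a : Ω) ∈ P := ⟨a, ⟨(a, b), hab, rfl⟩, rfl⟩
  have h1 : f a = b := th_inj h.1 (hf.mem haP) b.2 (by
    rw [hfx a haP, th_coe, th_coe, inv_inv, mul_assoc, hx a b hab, inv_mul_cancel_left])
  have h2 := hg a haP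
  rw [h1, th_coe, th_coe] at h2
  rw [h2]
  group

/-- Two models are isomorphic bisets. -/
theorem IsModel.exists_biset_equiv [Finite S] {H : Type w} [Group H] {ι' : S →* H}
    (h : F.IsModel p G ι) (h' : F.IsModel p H ι') (hQn : F.IsNormal Q) (hQc : F.IsCentric Q) :
    ∃ e : G ≃ H, ∀ (a b : S) (x : G), e (ι a * x * (ι b)⁻¹) = ι' a * e x * (ι' b)⁻¹ := by
  classical
  have := h.1
  have := h'.1
  let A₁ := modelAct ι
  let A₂ := modelAct ι'
  obtain ⟨e, he⟩ := exists_equiv_of_card_fixed (G := S × S) (X := G) (Y := H) fun U => by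
    rw [Nat.card_congr (Equiv.subtypeEquivRight fun x => modelAct_fixed_iff ι U x),
      Nat.card_congr (Equiv.subtypeEquivRight fun x => modelAct_fixed_iff ι' U x)]
    by_cases hx : ∃ x, ∀ a b : S, (a, b) ∈ U → ι a * x = x * ι b
    · obtain ⟨x, hx⟩ := hx
      obtain ⟨y, hy⟩ := exists_fixed_of_fixed h.2.1 h'.2.1 U x hx
      rw [card_fixed_eq ι U x hx, card_fixed_eq ι' U y hy,
        IsModel.card_centralizer h hQn hQc (Subgroup.map_subtype_le _),
        IsModel.card_centralizer h' hQn hQc (Subgroup.map_subtype_le _)]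
    · have hy : ¬ ∃ y, ∀ a b : S, (a, b) ∈ U → ι' a * y = y * ι' b := fun ⟨y, hy⟩ =>
        hx (exists_fixed_of_fixed h'.2.1 h.2.1 U y hy)
      rw [not_exists] at hx hy
      have := Subtype.isEmpty_of_false hx
      have := Subtype.isEmpty_of_false hy
      rw [Nat.card_of_isEmpty, Nat.card_of_isEmpty]
  exact ⟨e, fun a b x => he (a, b) x⟩

/-- A model maps isomorphically onto the model built on any biset isomorphic to it. -/
theorem IsModel.exists_iso_bisetModel [Finite S] {X : Type w} [MulAction (S × S) X] [Finite X]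
    (hQn : F.IsNormal Q) {D : ModelData F p Q X} (h : F.IsModel p G ι) (e : G ≃ X)
    (he : ∀ (a b : S) (x : G), e (ι a * x * (ι b)⁻¹) = ((a, b) : S × S) • e x)
    {M : Type*} [Group M] {j : S →* M} {π : D.twistGrp →* M} (hM : IsBisetModel F p D j π) :
    ∃ φ : G ≃* M, ∀ s, φ (ι s) = j s := by
  have hQS := hQn.1
  obtain ⟨κ, hκ, hκF, hκsurj⟩ := IsModel.exists_conjHom h hQn
  have hel : ∀ (a : S) (x : G), e (ι a * x) = lm a (e x) := fun a x => by
    rw [lm, ← he a 1 x, _root_.map_one, inv_one, mul_one]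
  have her : ∀ (b : S) (x : G), e (x * ι b) = rm (e x) b := fun b x => by
    rw [rm, ← he 1 b⁻¹ x, _root_.map_one, one_mul, _root_.map_inv, inv_inv]
  have hmem : ∀ g : G, D.Twist (κ g) (e.symm.trans ((Equiv.mulLeft g).trans e)) := by
    intro g
    refine ⟨hκF g, fun x b => ?_, fun w x => ?_⟩
    · obtain ⟨y, rfl⟩ := e.surjective x
      simp only [Equiv.trans_apply, Equiv.symm_apply_apply, ← her, Equiv.coe_mulLeft, mul_assoc]
    · obtain ⟨y, rfl⟩ := e.surjective x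
      simp only [Equiv.trans_apply, Equiv.symm_apply_apply, ← hel, Equiv.coe_mulLeft]
      congr 1
      have h1 := hκ g w
      rw [th_apply ι (hQS (κ g w).2), th_apply ι (hQS w.2)] at h1
      show g * (ι ⟨w, hQS w.2⟩ * y) = ι ⟨(κ g w : Ω), hQS (κ g w).2⟩ * (g * y)
      rw [h1]
      group
  let θ : G →* D.twistGrp := MonoidHom.mk' (fun g => ⟨(κ g, _), hmem g⟩) fun a b =>
    Subtype.ext (Prod.ext (_root_.map_mul κ a b) (Equiv.ext fun x => by
      obtain ⟨y, rfl⟩ := e.surjective x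
      simp [mul_assoc]))
  have hθι : ∀ s : S, π (θ (ι s)) = j s := by
    intro s
    refine hM.lift s _ (Equiv.ext fun x => ?_) fun w => ?_
    · obtain ⟨y, rfl⟩ := e.surjective x
      show e (ι s * e.symm (e y)) = lm s (e y)
      rw [e.symm_apply_apply, hel]
    · refine Subtype.ext (th_inj h.2.1.1 (hQS (κ (ι s) w).2)
        (S.mul_mem (S.mul_mem s.2 (hQS w.2)) (S.inv_mem s.2)) ?_)
      show th ι (κ (ι s) w : Ω) = th ι ((s : Ω) * w * (s : Ω)⁻¹)
      rw [hκ, th_conj ι s.2 (hQS w.2), th_coe]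
  have hinj : Function.Injective (π.comp θ) := by
    rw [← MonoidHom.ker_eq_bot_iff, eq_bot_iff]
    intro g hg
    obtain ⟨z, hzQ, -, rfl⟩ := IsModel.centralizer_eq h hQn D.centric (c := g) fun x hx => by
      have h1 := hκ g ⟨x, hx⟩
      rw [show κ g = 1 from hM.fst (θ g) hg, MulAut.one_apply] at h1
      conv_rhs => rw [h1]
      group
    rw [th_apply ι (hQS hzQ)] at hg ⊢
    rw [Subgroup.mem_bot, hM.realized.1 ((hθι _).symm.trans (hg.trans (_root_.map_one j).symm)),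
      _root_.map_one]
  have hsurj : Function.Surjective (π.comp θ) := by
    intro m
    obtain ⟨u, rfl⟩ := hM.surj m
    obtain ⟨g, hg⟩ := hκsurj _ u.2.1
    have hfst : ((u * (θ g)⁻¹ : D.twistGrp) : MulAut Q × Equiv.Perm X).1 = 1 := by
      show (u : MulAut Q × Equiv.Perm X).1 * (κ g)⁻¹ = 1
      rw [hg, mul_inv_cancel]
    have hcomm : ∀ w : Q, π (u * (θ g)⁻¹) * j (D.inc w) = j (D.inc w) * π (u * (θ g)⁻¹) := by
      intro w
      rw [← hθι, ← _root_.map_mul, ← _root_.map_mul]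
      refine congrArg π (Subtype.ext (Prod.ext ?_ (Equiv.ext fun x => ?_)))
      · show _ * κ (ι (D.inc w)) = κ (ι (D.inc w)) * _
        rw [hfst, one_mul, mul_one]
      · have h2 := (u * (θ g)⁻¹).2.2.2 w x
        rw [hfst, MulAut.one_apply] at h2
        have h3 : ∀ y : X, ((θ (ι (D.inc w)) : D.twistGrp) : MulAut Q × Equiv.Perm X).2 y =
            lm (D.inc w) y := fun y => by
          obtain ⟨y', rfl⟩ := e.surjective y
          show e (ι (D.inc w) * e.symm (e y')) = _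
          rw [e.symm_apply_apply, hel]
        show _ = ((θ (ι (D.inc w)) : D.twistGrp) : MulAut Q × Equiv.Perm X).2
          (((u * (θ g)⁻¹ : D.twistGrp) : MulAut Q × Equiv.Perm X).2 x)
        rw [h3, ← h2, ← h3]
        rfl
    obtain ⟨z, hz⟩ := hM.centralizer _ hcomm
    rw [← hθι, _root_.map_mul, _root_.map_inv, mul_inv_eq_iff_eq_mul, ← _root_.map_mul,
      ← _root_.map_mul] at hz
    exact ⟨_, hz.symm⟩
  exact ⟨MulEquiv.ofBijective (π.comp θ) ⟨hinj, hsurj⟩, hθι⟩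

/-- Uniqueness of models. -/
theorem IsModel.exists_iso [Finite S] {H : Type w} [Group H] {ι' : S →* H}
    (h : F.IsModel p G ι) (h' : F.IsModel p H ι') :
    ∃ φ : G ≃* H, ∀ s, φ (ι s) = ι' s := by
  have := h.1
  have := h'.1
  have hQn := IsModel.isNormal_core_preimage h
  have hQc := IsModel.isCentric_core_preimage h
  let A₂ := modelAct ι'
  obtain ⟨M, _, _, j, π, hM⟩ := exists_bisetModel (IsModel.isPGroup h) (IsModel.isSaturated h)
    (IsModel.modelData h' hQn hQc)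
  obtain ⟨e, he⟩ := IsModel.exists_biset_equiv h h' hQn hQc
  obtain ⟨φ, hφ⟩ := IsModel.exists_iso_bisetModel hQn h e (fun a b x => he a b x) hM
  obtain ⟨ψ, hψ⟩ := IsModel.exists_iso_bisetModel hQn h' (Equiv.refl H) (fun a b x => rfl) hM
  refine ⟨φ.trans ψ.symm, fun s => ?_⟩
  rw [MulEquiv.trans_apply, hφ, ← hψ, MulEquiv.symm_apply_apply]

end Cfsg.Agent.Fusion
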