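import Mathlib
import Cfsg.Prelude.Def_FusionReduction
import Cfsg.Agent.Lib.Fusion.ImageSaturation
import Cfsg.Agent.Lib.Fusion.NormalizerModel
import Cfsg.Agent.Lib.Fusion.ModelExistence
import Cfsg.Agent.Lib.Fusion.ModelUniqueness
import Cfsg.Agent.Lib.SL2Dickson.Stability

/-!
# Quotients of a fusion system

Existence of the quotient by a strongly closed subgroup, preimages of centric, fully normalized
and normal subgroups, and the models of the quotient by a central subgroup.
-/

set_option autoImplicit false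
set_option linter.style.haveILetI false

namespace Cfsg.Agent.Fusion

open Cfsg.FusionSystem (centralizerIn normalizerIn imageAlong preimageAlong)

universe u v w

variable {Ω : Type u} [Group Ω] {S : Subgroup Ω} {F : FusionSystem S}
variable {Ω' : Type w} [Group Ω'] {S' : Subgroup Ω'} {E : FusionSystem S'} {θ : S →* Ω'}
variable {P' Q' : Subgroup Ω'} {P Q Z : Subgroup Ω} {f : Ω → Ω} {p : ℕ}

/-- The quotient by a strongly closed subgroup. -/
theorem exists_quotient [Finite S] [Fact p.Prime] (hS : IsPGroup p S) (hF : F.IsSaturated p)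
    (hZ : F.StronglyClosed Z) :
    ∃ (Ω' : Type u) (_ : Group Ω') (S' : Subgroup Ω') (θ : S →* Ω') (E : FusionSystem S'),
      F.IsSurjectiveMorphism E θ ∧ kerIn θ = Z ∧ E.IsSaturated p ∧ Finite S' ∧ IsPGroup p S' ∧
        (Z ≠ ⊥ → Nat.card S' < Nat.card S) := by
  have hnorm : (Z.subgroupOf S).Normal :=
    ⟨fun n hn g => StronglyClosed.conj_mem hZ g.2 hn⟩
  set θ := QuotientGroup.mk' (Z.subgroupOf S) with hθ
  have hk : kerIn θ = Z := by
    rw [kerIn, hθ, QuotientGroup.ker_mk', Subgroup.map_subgroupOf_eq_of_le hZ.1]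
  have hr : θ.range = ⊤ := MonoidHom.range_eq_top.mpr (QuotientGroup.mk'_surjective _)
  have hsc : F.StronglyClosed (kerIn θ) := hk.symm ▸ hZ
  have hmor := IsFactorSystem.isSurjectiveMorphism hS hF hsc
    (isFactorSystem_factorSys F θ hr hsc)
  refine ⟨_, inferInstance, ⊤, θ, factorSys F θ hr hsc, hmor, hk,
    isSaturated_image hS hF hmor, inferInstance, (hS.to_quotient _).to_subgroup ⊤, fun hne => ?_⟩
  rw [Nat.card_congr Subgroup.topEquiv.toEquiv]
  have h1 : 1 < Nat.card (Z.subgroupOf S) := by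
    rw [Nat.card_congr (Subgroup.subgroupOfEquivOfLe hZ.1).toEquiv]
    have := finite_of_le hZ.1
    exact (Subgroup.one_lt_card_iff_ne_bot _).mpr hne
  rw [Subgroup.card_eq_card_quotient_mul_card_subgroup (Z.subgroupOf S)]
  exact lt_mul_of_one_lt_right Nat.card_pos h1

theorem stronglyClosed_preimage (h : F.IsSurjectiveMorphism E θ) (hN : E.StronglyClosed Q') :
    F.StronglyClosed (preimageAlong θ Q') := by
  refine stronglyClosed_iff.mpr ⟨preimageAlong_le, fun R f hR hf x hx => ?_⟩
  obtain ⟨f', hf', hff⟩ := IsMorphism.exists_map h.1 hf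
  refine mem_preimageAlong.mpr ⟨hf.mem hx, ?_⟩
  rw [← hff x hx]
  exact StronglyClosed.map_mem hN hf' (th_mem_imageAlong hf.le hx)
    (mem_preimageAlong.mp (hR hx)).2

theorem preimageAlong_normalizerIn (h : F.IsSurjectiveMorphism E θ) (hQ' : Q' ≤ S') :
    preimageAlong θ (normalizerIn S' Q') = normalizerIn S (preimageAlong θ Q') := by
  have hr := h.2.1
  ext x
  constructor
  · intro hx
    obtain ⟨hxS, hx'⟩ := mem_preimageAlong.mp hx
    refine ⟨hxS, Subgroup.mem_normalizer_iff.mpr fun y => ?_⟩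
    constructor
    · intro hy
      obtain ⟨hyS, hy'⟩ := mem_preimageAlong.mp hy
      refine mem_preimageAlong.mpr ⟨S.mul_mem (S.mul_mem hxS hyS) (S.inv_mem hxS), ?_⟩
      rw [th_conj θ hxS hyS]
      exact (Subgroup.mem_normalizer_iff.mp hx'.2 _).mp hy'
    · intro hy
      obtain ⟨hcS, hc⟩ := mem_preimageAlong.mp hy
      have hyS : y ∈ S := by
        have := S.mul_mem (S.mul_mem (S.inv_mem hxS) hcS) hxS
        simpa [mul_assoc] using this
      refine mem_preimageAlong.mpr ⟨hyS, ?_⟩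
      rw [th_conj θ hxS hyS] at hc
      exact (Subgroup.mem_normalizer_iff.mp hx'.2 _).mpr hc
  · rintro ⟨hxS, hxN⟩
    refine mem_preimageAlong.mpr ⟨hxS, hr ▸ th_mem_range θ x, Subgroup.mem_normalizer_iff.mpr
      fun y => ⟨fun hy => ?_, fun hy => ?_⟩⟩
    · obtain ⟨z, hz, rfl⟩ := exists_preimage (hr.symm ▸ hQ' : Q' ≤ θ.range) hy
      rw [← th_conj θ hxS (preimageAlong_le hz)]
      exact (mem_preimageAlong.mp ((Subgroup.mem_normalizer_iff.mp hxN z).mp hz)).2
    · obtain ⟨z, hz, hzy⟩ := exists_preimage (hr.symm ▸ hQ' : Q' ≤ θ.range) hy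
      have hz2 := (Subgroup.mem_normalizer_iff.mp (Subgroup.inv_mem _ hxN) z).mp hz
      obtain ⟨-, hz'⟩ := mem_preimageAlong.mp hz2
      rw [th_conj θ (S.inv_mem hxS) (preimageAlong_le hz), th_inv θ hxS, hzy, inv_inv] at hz'
      simpa [mul_assoc] using hz'

theorem card_preimageAlong [Finite S] (h : F.IsSurjectiveMorphism E θ) (hQ' : Q' ≤ S') :
    Nat.card (preimageAlong θ Q') = Nat.card (kerIn θ) * Nat.card Q' := by
  let ψ : ↥(Q'.comap θ) →* Q' :=
    (θ.comp (Q'.comap θ).subtype).codRestrict Q' fun x => x.2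
  have hψ : Function.Surjective ψ := by
    rintro ⟨y, hy⟩
    obtain ⟨s, rfl⟩ : y ∈ θ.range := h.2.1.symm ▸ hQ' hy
    exact ⟨⟨s, hy⟩, rfl⟩
  have hker : ψ.ker = θ.ker.subgroupOf (Q'.comap θ) := by
    ext x
    exact ⟨fun hx => congrArg Subtype.val (MonoidHom.mem_ker.mp hx),
      fun hx => MonoidHom.mem_ker.mpr (Subtype.ext hx)⟩
  rw [preimageAlong, kerIn, Subgroup.card_map_of_injective S.subtype_injective,
    Subgroup.card_map_of_injective S.subtype_injective,
    Subgroup.card_eq_card_quotient_mul_card_subgroup ψ.ker,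
    Nat.card_congr (QuotientGroup.quotientKerEquivOfSurjective ψ hψ).toEquiv, hker,
    Nat.card_congr (Subgroup.subgroupOfEquivOfLe fun x (hx : x ∈ θ.ker) => (show θ x ∈ Q' by
      rw [MonoidHom.mem_ker.mp hx]; exact Q'.one_mem)).toEquiv, mul_comm]

theorem img_preimage [Finite S] (h : F.IsSurjectiveMorphism E θ)
    (hf : MapTo F (preimageAlong θ Q') f) :
    img f (preimageAlong θ Q') =
      preimageAlong θ (imageAlong θ (img f (preimageAlong θ Q'))) :=
  (preimageAlong_imageAlong hf.img_le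
    (StronglyClosed.le_img (IsMorphism.stronglyClosed_kerIn h.1) hf kerIn_le_preimageAlong)).symm

theorem isConj_image (h : F.IsSurjectiveMorphism E θ) (hQ' : Q' ≤ S')
    (hf : MapTo F (preimageAlong θ Q') f) :
    E.IsConj Q' (imageAlong θ (img f (preimageAlong θ Q'))) := by
  obtain ⟨f', hf', hff⟩ := IsMorphism.exists_map h.1 hf
  have himg := img_induced hf hf' hff
  rw [imageAlong_preimageAlong (h.2.1.symm ▸ hQ')] at hf' himg
  exact isConj_iff.mpr ⟨f', hf', himg⟩

theorem isCentric_preimage [Finite S] (h : F.IsSurjectiveMorphism E θ) (hQ : E.IsCentric Q') :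
    F.IsCentric (preimageAlong θ Q') := by
  refine ⟨preimageAlong_le, fun T hT => ?_⟩
  obtain ⟨f, hf, rfl⟩ := isConj_iff.mp hT
  set R := img f (preimageAlong θ Q')
  have hRS : R ≤ S := hf.img_le
  intro x hx
  obtain ⟨hxS, hxc⟩ := mem_centralizerIn.mp hx
  have h1 : th θ x ∈ imageAlong θ R := hQ.2 _ (isConj_image h hQ.1 hf) (mem_centralizerIn.mpr
    ⟨h.2.1 ▸ th_mem_range θ x, fun y hy => by
      obtain ⟨z, hz, rfl⟩ := (mem_imageAlong hRS).mp hy
      rw [← th_mul θ (hRS hz) hxS, ← th_mul θ hxS (hRS hz), hxc z hz]⟩)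
  exact (img_preimage h hf).ge (mem_preimageAlong.mpr ⟨hxS, h1⟩)

theorem isFullyNormalized_preimage [Finite S] (h : F.IsSurjectiveMorphism E θ)
    (hQ : E.IsFullyNormalized Q') : F.IsFullyNormalized (preimageAlong θ Q') := by
  refine ⟨preimageAlong_le, fun T hT => ?_⟩
  obtain ⟨f, hf, rfl⟩ := isConj_iff.mp hT
  set R' := imageAlong θ (img f (preimageAlong θ Q'))
  have hR' : R' ≤ S' := h.2.1 ▸ imageAlong_le_range
  rw [img_preimage h hf, ← preimageAlong_normalizerIn h hQ.1, ← preimageAlong_normalizerIn h hR',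
    card_preimageAlong h (Cfsg.Agent.Fusion.normalizerIn_le (S := S') (P := Q')),
    card_preimageAlong h (Cfsg.Agent.Fusion.normalizerIn_le (S := S') (P := R'))]
  exact Nat.mul_le_mul_left _ (hQ.2 _ (isConj_image h hQ.1 hf))

/-- A map defined at a central element fixes it. -/
theorem IsCentral.apply_eq (hZ : F.IsCentral Z) (hf : MapTo F P f) {z : Ω} (hz : z ∈ Z)
    (hzP : z ∈ P) : f z = z := by
  obtain ⟨g, -, hgf, hgZ⟩ := (isCentral_iff.mp hZ).2 P f hf
  rw [← hgf z hzP]
  exact hgZ z hz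

/-- Normal subgroups of a quotient by a central subgroup have normal preimages. -/
theorem isNormal_preimage [Finite S] [Fact p.Prime] (hS : IsPGroup p S) (hF : F.IsSaturated p)
    [Finite S'] (hS' : IsPGroup p S')
    (h : F.IsSurjectiveMorphism E θ) (hZ : F.IsCentral (kerIn θ)) (hN : E.IsNormal Q') :
    F.IsNormal (preimageAlong θ Q') := by
  obtain ⟨n, h0, hn, hmono, hnorm, hcomm⟩ := exists_normal_series hS' hN
  set c : Fin (n + 1 + 1) → Subgroup Ω := fun j =>
    if (j : ℕ) = 0 then ⊥ else preimageAlong θ (ucs Q' ((j : ℕ) - 1)) with hc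
  have hmonoP : ∀ a b : Subgroup Ω', a ≤ b → preimageAlong θ a ≤ preimageAlong θ b :=
    fun a b hab x hx => mem_preimageAlong.mpr
      ⟨(mem_preimageAlong.mp hx).1, hab (mem_preimageAlong.mp hx).2⟩
  refine isNormal_of_stronglyClosed_series hS hF c ?_ ?_ ?_ (fun i => ?_) (fun i x hx k hk => ?_)
  · simp [hc]
  · simp [hc, hn]
  · intro a b hab
    simp only [hc]
    split_ifs with ha hb hb
    · exact le_rfl
    · exact bot_le
    · exact absurd (Fin.le_def.mp hab) (by omega)
    · exact hmonoP _ _ (hmono (Nat.sub_le_sub_right (Fin.le_def.mp hab) 1))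
  · simp only [hc, Fin.val_succ, Nat.add_one_sub_one, if_neg (Nat.succ_ne_zero _)]
    exact stronglyClosed_preimage h (IsNormal.stronglyClosed (hnorm _))
  · simp only [hc, Fin.val_succ, Nat.add_one_sub_one, if_neg (Nat.succ_ne_zero _)] at hx
    obtain ⟨hkS, hk'⟩ := mem_preimageAlong.mp hk
    obtain ⟨hxS, hx'⟩ := mem_preimageAlong.mp hx
    by_cases hi : (i : ℕ) = 0
    · simp only [hc, Fin.coe_castSucc, if_pos hi]
      rw [hi, h0, Subgroup.mem_bot] at hx'
      have := IsCentral.apply_eq hZ (mapTo_cj (le_refl S) hkS) (mem_kerIn.mpr ⟨hxS, hx'⟩) hxS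
      rw [cj_apply] at this
      rw [this, inv_mul_cancel]
      exact Subgroup.one_mem _
    · simp only [hc, Fin.coe_castSucc, if_neg hi]
      obtain ⟨j, hj⟩ : ∃ j, (i : ℕ) = j + 1 := ⟨(i : ℕ) - 1, by omega⟩
      rw [hj, Nat.add_one_sub_one]
      rw [hj] at hx'
      have hcS : k * x * k⁻¹ ∈ S := S.mul_mem (S.mul_mem hkS hxS) (S.inv_mem hkS)
      refine mem_preimageAlong.mpr ⟨S.mul_mem (S.inv_mem hxS) hcS, ?_⟩
      rw [th_mul θ (S.inv_mem hxS) hcS, th_inv θ hxS, th_conj θ hkS hxS]
      exact hcomm j _ hx' _ hk'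

/-- Section-freeness passes to quotients by central subgroups. -/
theorem isSectionFree_quotient [Finite S] [Fact p.Prime] (hS : IsPGroup p S)
    (hF : F.IsSaturated p) (h : F.IsSurjectiveMorphism E θ) (hZ : F.IsCentral (kerIn θ))
    {H : Type v} [Group H] (hH : F.IsSectionFree p H) : E.IsSectionFree p H := by
  intro Q' hQn hQc N' hN' L _ ι' hL hinv
  have hr := h.2.1
  have hQ'S : Q' ≤ S' := hQn.1
  set Q := preimageAlong θ Q' with hQdef
  have hQS : Q ≤ S := preimageAlong_le
  have hTdef : preimageAlong θ (normalizerIn S' Q') = normalizerIn S Q :=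
    preimageAlong_normalizerIn h hQ'S
  have hQn' := isFullyNormalized_preimage h hQn
  have hQc' := isCentric_preimage h hQc
  have hT' : normalizerIn S' Q' ≤ θ.range := hr.symm ▸ normalizerIn_le
  haveI : Finite (normalizerIn S Q) := finite_of_le normalizerIn_le
  haveI : Finite S' := hr ▸ Finite.of_surjective θ.rangeRestrict θ.rangeRestrict_surjective
  haveI : Finite (normalizerIn S' Q') := finite_of_le normalizerIn_le
  have hN := isNormalizerSystem_nSys F hQS
  obtain ⟨G, _, ι, hmod⟩ := exists_model (hS.to_le normalizerIn_le)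
    (isConstrained_normalizerSystem hS hF hQn' hQc' hN)
  haveI := hmod.1
  have hQnorm := isNormal_normalizerSystem hQS hN
  have hQT : Q ≤ normalizerIn S Q := le_normalizerIn hQS
  have hZQ : kerIn θ ≤ Q := kerIn_le_preimageAlong
  set K := imageAlong ι (kerIn θ) with hKdef
  have hKc : ∀ k ∈ K, ∀ a : G, a * k = k * a := by
    intro k hk a
    obtain ⟨z, hz, rfl⟩ := (mem_imageAlong (hZQ.trans hQT)).mp hk
    obtain ⟨f, hf, hfa⟩ := IsRealizedBy.exists_mapTo hmod.2.1 hQT a fun y hy => by
      obtain ⟨w, -, hwy⟩ := IsModel.conj_mem hmod hQnorm a hy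
      rw [← hwy]
      exact th_mem_range ι w
    obtain ⟨-, -, g, hg, hgf, -⟩ := (mapTo_nSys_iff hN).mp hf
    have h1 := hfa z (hZQ hz)
    rw [← hgf z (hZQ hz), IsCentral.apply_eq hZ hg hz (Subgroup.mem_sup_left (hZQ hz))] at h1
    exact mul_inv_eq_iff_eq_mul.mp h1.symm
  haveI hKn : K.Normal := ⟨fun k hk a => by rwa [hKc k hk a, mul_inv_cancel_right]⟩
  set π := QuotientGroup.mk' K
  -- the map from the Sylow subgroup downstairs
  let θT : ↥(normalizerIn S Q) →* ↥(normalizerIn S' Q') :=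
    (θ.comp (Subgroup.inclusion normalizerIn_le)).codRestrict _ fun t => by
      obtain ⟨h1, h2⟩ := mem_preimageAlong.mp (hTdef.symm.le t.2)
      rw [th_apply θ h1] at h2
      exact h2
  have hθT : ∀ t : ↥(normalizerIn S Q), ((θT t : ↥(normalizerIn S' Q')) : Ω') = th θ (t : Ω) :=
    fun t => (th_apply θ (normalizerIn_le t.2)).symm
  have hθTs : Function.Surjective θT := by
    rintro ⟨y, hy⟩
    obtain ⟨x, hx, rfl⟩ := exists_preimage hT' hy
    exact ⟨⟨x, hTdef ▸ hx⟩, Subtype.ext (hθT _)⟩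
  have hker : θT.ker ≤ (π.comp ι).ker := by
    intro t ht
    rw [MonoidHom.mem_ker] at ht ⊢
    refine (QuotientGroup.eq_one_iff _).mpr ?_
    rw [show ι t = th ι (t : Ω) from (th_coe ι t).symm]
    refine th_mem_imageAlong (hZQ.trans hQT) (mem_kerIn.mpr ⟨normalizerIn_le t.2, ?_⟩)
    rw [← hθT t, ht]
    rfl
  let ι₁ : ↥(normalizerIn S' Q') →* G ⧸ K :=
    θT.liftOfRightInverse _ (Function.rightInverse_surjInv hθTs) ⟨π.comp ι, hker⟩
  have hι₁ : ∀ t, ι₁ (θT t) = π (ι t) := fun t =>
    θT.liftOfRightInverse_comp_apply _ (Function.rightInverse_surjInv hθTs) ⟨π.comp ι, hker⟩ t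
  have hth : ∀ x ∈ normalizerIn S Q, th ι₁ (th θ x) = π (th ι x) := fun x hx => by
    rw [th_apply ι hx, ← hι₁, ← hθT ⟨x, hx⟩, th_coe]
  have hinj : Function.Injective ι₁ := by
    rw [injective_iff_map_eq_one]
    intro y hy
    obtain ⟨t, rfl⟩ := hθTs y
    rw [hι₁] at hy
    obtain ⟨z, hz, hzt⟩ := (mem_imageAlong (hZQ.trans hQT)).mp ((QuotientGroup.eq_one_iff _).mp hy)
    have hzt' : (⟨z, hQT (hZQ hz)⟩ : ↥(normalizerIn S Q)) = t :=
      hmod.2.1.1 (by rw [← hzt, th_apply ι (hQT (hZQ hz))])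
    exact Subtype.ext (by rw [hθT, ← hzt']; exact (mem_kerIn.mp hz).2)
  have hrange : ι₁.range = ι.range.map π := by
    ext y
    constructor
    · rintro ⟨w, rfl⟩
      obtain ⟨t, rfl⟩ := hθTs w
      exact ⟨_, ⟨t, rfl⟩, (hι₁ t).symm⟩
    · rintro ⟨_, ⟨t, rfl⟩, rfl⟩
      exact ⟨θT t, hι₁ t⟩
  have hpre : ∀ P' : Subgroup Ω', P' ≤ normalizerIn S' Q' →
      preimageAlong θ P' ≤ normalizerIn S Q := fun P' hP' x hx => hTdef ▸ mem_preimageAlong.mpr
        ⟨(mem_preimageAlong.mp hx).1, hP' (mem_preimageAlong.mp hx).2⟩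
  have hmodel : N'.IsModel p (G ⧸ K) ι₁ := by
    refine ⟨inferInstance, ⟨hinj, fun P' hP' φ hφ => ?_⟩, ?_, ?_⟩
    · have hP'r : P' ≤ θ.range := hP'.trans hT'
      constructor
      · intro hmem
        obtain ⟨-, -, g, hg, hgφ, hgQ⟩ := (mapTo_nSys_iff hN').mp (mapTo_ev hmem)
        obtain ⟨hle, f, hf, hfg⟩ := IsSurjectiveMorphism.exists_lift h hg
        have hmono : ∀ A : Subgroup Ω', A ≤ P' ⊔ Q' →
            preimageAlong θ A ≤ preimageAlong θ (P' ⊔ Q') := fun A hA x hx =>
          mem_preimageAlong.mpr ⟨(mem_preimageAlong.mp hx).1, hA (mem_preimageAlong.mp hx).2⟩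
        have hPf := hf.restrict (hmono P' le_sup_left)
        have hfT : ∀ x ∈ preimageAlong θ P', f x ∈ normalizerIn S Q := fun x hx => by
          rw [← hTdef]
          refine mem_preimageAlong.mpr ⟨hPf.mem hx, ?_⟩
          rw [← hfg x (hmono P' le_sup_left hx), hgφ _ (mem_preimageAlong.mp hx).2,
            ev_apply φ (mem_preimageAlong.mp hx).2]
          exact hφ _
        have hsup : preimageAlong θ P' ⊔ Q ≤ preimageAlong θ (P' ⊔ Q') :=
          sup_le (hmono _ le_sup_left) (hmono _ le_sup_right)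
        have hfQ : ∀ x ∈ Q, f x ∈ Q := fun x hx => mem_preimageAlong.mpr
          ⟨hf.mem (hmono _ le_sup_right hx), by
            rw [← hfg x (hmono _ le_sup_right hx)]
            exact hgQ.le (mem_img_of_mem (mem_preimageAlong.mp hx).2)⟩
        haveI := finite_of_le hQS
        have hfN : MapTo (nSys F hQS) (preimageAlong θ P') f := (mapTo_nSys_iff hN).mpr
          ⟨hpre P' hP', hfT, f, hf.restrict hsup, fun _ _ => rfl,
            img_eq_self_of_forall (hf.restrict (hmono _ le_sup_right)) hfQ⟩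
        obtain ⟨a, ha⟩ := IsRealizedBy.exists_conj hmod.2.1 hfN
        refine ⟨π a, fun y => ?_⟩
        obtain ⟨x, hx, hxy⟩ := exists_preimage hP'r y.2
        have hfx : th θ (f x) = φ y := by
          rw [← hfg x (hmono P' le_sup_left hx), hxy, hgφ _ y.2, ev_coe]
        rw [← th_apply ι₁ (hφ y), ← hfx, hth _ (hfT x hx), ha x hx, map_mul, map_mul, map_inv,
          ← hth x (hpre P' hP' hx), hxy, th_apply ι₁ (hP' y.2)]
      · rintro ⟨a', ha'⟩
        obtain ⟨a, rfl⟩ := QuotientGroup.mk'_surjective K a'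
        obtain ⟨f, hf, hfa⟩ := IsRealizedBy.exists_mapTo hmod.2.1 (hpre P' hP') a fun x hx => by
          have hx' := (mem_preimageAlong.mp hx).2
          have e := ha' ⟨th θ x, hx'⟩
          rw [← th_apply ι₁ (hP' hx'), hth x (hpre P' hP' hx), ← map_inv, ← map_mul,
            ← map_mul] at e
          obtain ⟨t, ht⟩ := hθTs ⟨φ ⟨th θ x, hx'⟩, hφ _⟩
          rw [← ht, hι₁] at e
          obtain ⟨k, hk, hkk⟩ : ∃ k ∈ K, ι t * k = a * th ι x * a⁻¹ :=
            ⟨(ι t)⁻¹ * (a * th ι x * a⁻¹), QuotientGroup.eq.mp e, mul_inv_cancel_left _ _⟩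
          rw [← hkk]
          exact Subgroup.mul_mem _ ⟨t, rfl⟩ (imageAlong_le_range hk)
        obtain ⟨-, hfT, g, hg, hgf, hgQ⟩ := (mapTo_nSys_iff hN).mp hf
        obtain ⟨g', hg', hgg⟩ := IsMorphism.exists_map h.1 hg
        have hle : P' ⊔ Q' ≤ imageAlong θ (preimageAlong θ P' ⊔ Q) := by
          refine sup_le (fun y hy => ?_) (fun y hy => ?_)
          · obtain ⟨x, hx, rfl⟩ := exists_preimage hP'r hy
            exact th_mem_imageAlong hg.le (Subgroup.mem_sup_left hx)
          · obtain ⟨x, hx, rfl⟩ := exists_preimage (hr.symm ▸ hQ'S : Q' ≤ θ.range) hy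
            exact th_mem_imageAlong hg.le (Subgroup.mem_sup_right hx)
        have hval : ∀ y : P', g' y = φ y := by
          intro y
          obtain ⟨x, hx, hxy⟩ := exists_preimage hP'r y.2
          have e := ha' y
          rw [← th_apply ι₁ (hP' y.2), ← hxy, hth x (hpre P' hP' hx), ← map_inv, ← map_mul,
            ← map_mul, ← hfa x hx, ← hth _ (hfT x hx)] at e
          have hfx' : th θ (f x) ∈ normalizerIn S' Q' :=
            (mem_preimageAlong.mp (hTdef.symm ▸ hfT x hx)).2
          rw [th_apply ι₁ hfx'] at e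
          rw [← hxy, hgg x (Subgroup.mem_sup_left hx), hgf x hx]
          exact (congrArg Subtype.val (hinj e)).symm
        haveI := finite_of_le hQ'S
        refine ((mapTo_nSys_iff hN').mpr ⟨hP', fun y hy => ev_apply φ hy ▸ hφ _, g',
          hg'.restrict hle, fun y hy => (hval ⟨y, hy⟩).trans (ev_apply φ hy).symm, ?_⟩).hom_mem
          fun y => (ev_coe φ y).symm
        refine img_eq_self_of_forall ((hg'.restrict hle).restrict le_sup_right) fun y hy => ?_
        obtain ⟨x, hx, rfl⟩ := exists_preimage (hr.symm ▸ hQ'S : Q' ≤ θ.range) hy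
        rw [hgg x (Subgroup.mem_sup_right hx)]
        exact (mem_preimageAlong.mp (hgQ.le (mem_img_of_mem hx))).2
    · obtain ⟨T, hT⟩ := hmod.2.2.1
      exact ⟨T.mapSurjective (QuotientGroup.mk'_surjective K),
        by rw [Sylow.coe_mapSurjective, hT, hrange]⟩
    · set O := Cfsg.pCore p G with hO
      haveI : O.Normal := normal_pCore p G
      have hOp : IsPGroup p O := isPGroup_pCore p G
      have hKp : IsPGroup p K := by
        refine IsPGroup.map ?_ ι
        exact ((hS.to_le (hZQ.trans hQS)).of_equiv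
          (Subgroup.subgroupOfEquivOfLe (hZQ.trans hQT)).symm)
      have hOle : O.map π ≤ Cfsg.pCore p (G ⧸ K) :=
        le_pCore (Subgroup.Normal.map inferInstance π (QuotientGroup.mk'_surjective K)) (hOp.map π)
      refine (Subgroup.centralizer_le hOle).trans ?_
      haveI : (O.map π).Normal :=
        Subgroup.Normal.map inferInstance π (QuotientGroup.mk'_surjective K)
      refine le_pCore Subgroup.normal_centralizer ?_
      intro ⟨c', hc'⟩
      obtain ⟨c, rfl⟩ := QuotientGroup.mk'_surjective K c'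
      obtain ⟨e, he⟩ := IsPGroup.iff_card.mp hKp
      have hcO : c ^ p ^ e ∈ O := by
        refine hmod.2.2.2 (Subgroup.mem_centralizer_iff.mpr fun o ho => ?_)
        have h1 := Subgroup.mem_centralizer_iff.mp hc' (π o) ⟨o, ho, rfl⟩
        rw [← map_mul, ← map_mul] at h1
        have h2 : (o * c)⁻¹ * (c * o) ∈ K := QuotientGroup.eq.mp h1
        set k := (o * c)⁻¹ * (c * o) with hk
        have hco : c * o = o * c * k := by rw [hk]; group
        have hpow : ∀ m : ℕ, c ^ m * o = o * c ^ m * k ^ m := by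
          intro m
          induction m with
          | zero => simp
          | succ m ih =>
            have hcomm : ∀ w : G, k * w = w * k := fun w => (hKc k h2 w).symm
            calc c ^ (m + 1) * o = c ^ m * (c * o) := by rw [pow_succ, mul_assoc]
              _ = c ^ m * o * (c * k) := by rw [hco]; group
              _ = o * c ^ m * (k ^ m * c) * k := by rw [ih]; group
              _ = o * c ^ (m + 1) * k ^ (m + 1) := by
                rw [((show Commute k c from hcomm c).pow_left m).eq]; group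
        have h3 := hpow (p ^ e)
        have hk1 : k ^ p ^ e = 1 := by
          rw [← he]
          have h5 := congrArg Subtype.val (pow_card_eq_one' (x := (⟨k, h2⟩ : K)))
          rwa [SubmonoidClass.coe_pow, OneMemClass.coe_one] at h5
        rw [hk1, mul_one] at h3
        exact h3.symm
      obtain ⟨d, hd⟩ := hOp ⟨_, hcO⟩
      refine ⟨e + d, Subtype.ext ?_⟩
      show π c ^ p ^ (e + d) = 1
      rw [← map_pow, pow_add, pow_mul]
      have := congrArg Subtype.val hd
      simp only [SubmonoidClass.coe_pow, OneMemClass.coe_one] at this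
      rw [this, map_one]
  obtain ⟨φ, -⟩ := IsModel.exists_iso hL hmodel
  have hKinv : Cfsg.Involves H (G ⧸ K) :=
    SL2Dickson.involves_trans (M := (⊤ : Subgroup (G ⧸ K)))
      (φ.symm.toMonoidHom.comp (⊤ : Subgroup (G ⧸ K)).subtype)
      (fun y => ⟨⟨φ y, trivial⟩, φ.symm_apply_apply y⟩) hinv
  exact hH Q hQn' hQc' _ hN G ι hmod (SL2Dickson.involves_of_quotient K hKinv)

end Cfsg.Agent.Fusion
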