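import Cfsg.Agent.Lib.Fusion.Saturation
import Cfsg.Agent.Lib.Fusion.Normal
import Cfsg.Agent.Lib.Fusion.Group

/-!
The system of maps extending to a fixed subgroup `Q` by automorphisms in a given group `K` is
saturated when every conjugate of `Q` can be moved back to `Q` by a map defined on its
`K`-normalizer. Normalizer and centralizer systems are the two extreme cases.
-/

set_option autoImplicit false

namespace Cfsg.Agent.Fusion

open Cfsg.FusionSystem (centralizerIn normalizerIn)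

universe u

variable {Ω : Type u} [Group Ω] {S : Subgroup Ω} {F : FusionSystem S}
variable {A P Q R R' : Subgroup Ω} {K : Subgroup (MulAut Q)} {f g h : Ω → Ω} {p : ℕ}

/-- `g` acts on `Q` as an element of `K`. -/
def InK (K : Subgroup (MulAut Q)) (g : Ω → Ω) : Prop := ∃ k ∈ K, ∀ x ∈ Q, g x = autFun k x

theorem InK.mem (hg : InK K g) {x : Ω} (hx : x ∈ Q) : g x ∈ Q := by
  obtain ⟨k, -, hk⟩ := hg
  exact (hk x hx).symm ▸ autFun_mem k hx

theorem InK.congr' (hg : InK K g) (h : ∀ x ∈ Q, f x = g x) : InK K f := by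
  obtain ⟨k, hk, hkg⟩ := hg
  exact ⟨k, hk, fun x hx => (h x hx).trans (hkg x hx)⟩

theorem InK.comp (hf : InK K f) (hg : InK K g) : InK K fun x => g (f x) := by
  obtain ⟨k, hk, hkf⟩ := hf
  obtain ⟨l, hl, hlg⟩ := hg
  refine ⟨l * k, K.mul_mem hl hk, fun x hx => ?_⟩
  show g (f x) = _
  rw [hkf x hx, hlg _ (autFun_mem k hx), autFun_mul l k hx]

theorem InK.inverse (hf : InK K f) (hg : ∀ x ∈ Q, g (f x) = x) : InK K g := by
  obtain ⟨k, hk, hkf⟩ := hf
  refine ⟨k⁻¹, K.inv_mem hk, fun x hx => ?_⟩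
  have h1 := hg _ (autFun_mem k⁻¹ hx)
  rwa [hkf _ (autFun_mem k⁻¹ hx), autFun_autFun_inv k hx] at h1

theorem inK_id : InK K fun x => x := ⟨1, K.one_mem, fun _ hx => (autFun_one hx).symm⟩

theorem InK.img_eq (hg : InK K g) : img g Q = Q := by
  obtain ⟨k, -, hk⟩ := hg
  rw [img_congr hk, img_autFun]

/-- The elements of `S` acting on the image of `Q` under `f` as `K` does, read along `f`. -/
def kNorm (S : Subgroup Ω) {Q : Subgroup Ω} (K : Subgroup (MulAut Q)) (f : Ω → Ω) :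
    Subgroup Ω where
  carrier := {x | x ∈ S ∧ ∃ k ∈ K, ∀ q ∈ Q, x * f q * x⁻¹ = f (autFun k q)}
  one_mem' := ⟨S.one_mem, 1, K.one_mem, fun q hq => by simp [autFun_one hq]⟩
  mul_mem' := by
    rintro a b ⟨ha, k, hk, hka⟩ ⟨hb, l, hl, hlb⟩
    refine ⟨S.mul_mem ha hb, k * l, K.mul_mem hk hl, fun q hq => ?_⟩
    rw [autFun_mul k l hq, ← hka _ (autFun_mem l hq), ← hlb q hq]
    group
  inv_mem' := by
    rintro a ⟨ha, k, hk, hka⟩
    refine ⟨S.inv_mem ha, k⁻¹, K.inv_mem hk, fun q hq => ?_⟩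
    have h1 := hka _ (autFun_mem k⁻¹ hq)
    rw [autFun_autFun_inv k hq] at h1
    rw [← h1]
    group

theorem mem_kNorm_id {x : Ω} : x ∈ kNorm S K id ↔ x ∈ S ∧ InK K (cj x) :=
  Iff.rfl

/-- Automorphisms of `R` fixing `P` and acting on `Q` as `K` does. -/
def kAut (hPR : P ≤ R) (hQR : Q ≤ R) (K : Subgroup (MulAut Q)) : Subgroup (MulAut R) where
  carrier := {α | (∀ x ∈ P, autFun α x ∈ P) ∧ (∀ x ∈ P, autFun α⁻¹ x ∈ P) ∧ InK K (autFun α)}
  one_mem' := ⟨fun x hx => (autFun_one (hPR hx)).symm ▸ hx,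
    fun x hx => by rw [inv_one, autFun_one (hPR hx)]; exact hx,
    inK_id.congr' fun x hx => autFun_one (hQR hx)⟩
  mul_mem' := by
    rintro a b ⟨ha, ha', hak⟩ ⟨hb, hb', hbk⟩
    refine ⟨fun x hx => ?_, fun x hx => ?_,
      (hbk.comp hak).congr' fun x hx => autFun_mul a b (hQR hx)⟩
    · rw [autFun_mul a b (hPR hx)]; exact ha _ (hb x hx)
    · rw [mul_inv_rev, autFun_mul _ _ (hPR hx)]; exact hb' _ (ha' x hx)
  inv_mem' := by
    rintro a ⟨ha, ha', hak⟩
    refine ⟨ha', by rwa [inv_inv], ?_⟩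
    exact hak.inverse fun x hx => autFun_inv_autFun a (hQR hx)

theorem mem_kAut {hPR : P ≤ R} {hQR : Q ≤ R} {α : MulAut R} : α ∈ kAut hPR hQR K ↔
    (∀ x ∈ P, autFun α x ∈ P) ∧ (∀ x ∈ P, autFun α⁻¹ x ∈ P) ∧ InK K (autFun α) :=
  Iff.rfl

theorem mapTo_autFun_congr (hh : MapTo F R h) (hR : img h R = R') (α : MulAut R) {y : Ω}
    (hy : y ∈ R) : autFun (MulAut.congr (isoEquiv hh hR) α) (h y) = h (autFun α y) :=
  autFun_congr hh hR α hy

/-- Transport of `kAut` along a map acting on `Q` as `K` does. -/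
theorem congr_mem_kAut_iff (hPR : P ≤ R) (hQR : Q ≤ R) (hh : MapTo F R h) (hR : img h R = R')
    (hhK : InK K h) (hP' : img h P ≤ R') (hQR' : Q ≤ R') {α : MulAut R} :
    MulAut.congr (isoEquiv hh hR) α ∈ kAut hP' hQR' K ↔ α ∈ kAut hPR hQR K := by
  set e := MulAut.congr (isoEquiv hh hR) with he
  have key : ∀ (β : MulAut R) (y : Ω), y ∈ R → autFun (e β) (h y) = h (autFun β y) :=
    fun β y hy => mapTo_autFun_congr hh hR β hy
  obtain ⟨k, hk, hhk⟩ := id hhK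
  have hP1 : ∀ β : MulAut R, (∀ x ∈ img h P, autFun (e β) x ∈ img h P) ↔
      ∀ x ∈ P, autFun β x ∈ P := by
    intro β
    refine ⟨fun h1 x hx => ?_, fun h1 y hy => ?_⟩
    · exact (hh.apply_mem_img_iff hPR (autFun_mem β (hPR hx))).mp
        (key β x (hPR hx) ▸ h1 _ (mem_img_of_mem hx))
    · obtain ⟨x, hx, rfl⟩ := (hh.mem_img_iff hPR).mp hy
      rw [key β x (hPR hx)]
      exact mem_img_of_mem (h1 x hx)
  refine and_congr (hP1 α) (and_congr ?_ ⟨fun h1 => ?_, fun h1 => ?_⟩)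
  · rw [← _root_.map_inv]
    exact hP1 α⁻¹
  · -- from `e α` to `α`
    obtain ⟨l, hl, hlx⟩ := h1
    refine ⟨k⁻¹ * l * k, K.mul_mem (K.mul_mem (K.inv_mem hk) hl) hk, fun q hq => ?_⟩
    refine hh.inj (autFun_mem α (hQR hq)) (hQR (autFun_mem _ hq)) ?_
    rw [← key α q (hQR hq), hlx _ (hhK.mem hq), hhk q hq, hhk _ (autFun_mem _ hq),
      ← autFun_mul _ _ hq, ← autFun_mul _ _ hq]
    congr 1
    group
  · obtain ⟨l, hl, hlx⟩ := h1
    refine ⟨k * l * k⁻¹, K.mul_mem (K.mul_mem hk hl) (K.inv_mem hk), fun q hq => ?_⟩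
    have hq' : autFun k⁻¹ q ∈ Q := autFun_mem _ hq
    have h2 := key α _ (hQR hq')
    rw [hhk _ hq', autFun_autFun_inv k hq, hlx _ hq', hhk _ (autFun_mem l hq')] at h2
    rw [h2, autFun_mul _ _ hq, autFun_mul _ _ (autFun_mem _ hq)]

/-- Restriction of a member of `kAut` to the fixed subgroup. -/
theorem exists_resHom [Finite R] (hPR : P ≤ R) (hQR : Q ≤ R) :
    ∃ r : kAut hPR hQR K →* MulAut P,
      ∀ (α : kAut hPR hQR K), ∀ x ∈ P, autFun (r α) x = autFun (α : MulAut R) x := by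
  have hex : ∀ α : kAut hPR hQR K, ∃ β : MulAut P,
      ∀ x ∈ P, autFun β x = autFun (α : MulAut R) x := by
    intro α
    refine ⟨{ toFun := fun x => ⟨autFun (α : MulAut R) x, α.2.1 x x.2⟩
              invFun := fun x => ⟨autFun (α : MulAut R)⁻¹ x, α.2.2.1 x x.2⟩
              left_inv := fun x => Subtype.ext (autFun_inv_autFun _ (hPR x.2))
              right_inv := fun x => Subtype.ext (autFun_autFun_inv _ (hPR x.2))
              map_mul' := fun a b => Subtype.ext ?_ }, fun x hx => ?_⟩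
    · show autFun (α : MulAut R) ((a : Ω) * b) = autFun (α : MulAut R) a * autFun (α : MulAut R) b
      rw [autFun_apply _ (hPR a.2), autFun_apply _ (hPR b.2),
        autFun_apply _ (R.mul_mem (hPR a.2) (hPR b.2))]
      exact congrArg Subtype.val (_root_.map_mul (α : MulAut R) ⟨a, hPR a.2⟩ ⟨b, hPR b.2⟩)
    · rw [autFun_apply _ hx]
      rfl
  choose r hr using hex
  refine ⟨MonoidHom.mk' r fun a b => autFun_ext fun x hx => ?_, hr⟩
  rw [hr _ x hx, autFun_mul _ _ hx, hr b x hx, hr a _ (b.2.1 x hx), Subgroup.coe_mul,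
    autFun_mul _ _ (hPR hx)]

theorem relIndex_map_dvd {G H : Type*} [Group G] [Group H] (r : G →* H) {A B : Subgroup G}
    (hAB : A ≤ B) : (A.map r).relIndex (B.map r) ∣ A.relIndex B := by
  let r' : B →* B.map r := r.subgroupMap B
  have h : (A.map r).subgroupOf (B.map r) = (A.subgroupOf B).map r' := by
    ext ⟨y, hy⟩
    constructor
    · rintro ⟨a, ha, hay⟩
      exact ⟨⟨a, hAB ha⟩, ha, Subtype.ext hay⟩
    · rintro ⟨⟨a, hb⟩, ha, hay⟩
      exact ⟨a, ha, congrArg Subtype.val hay⟩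
  unfold Subgroup.relIndex
  rw [h]
  exact Subgroup.index_map_dvd _ (r.subgroupMap_surjective B)

/-- A subgroup whose image is Sylow among the `K`-automorphisms: the representative. -/
theorem exists_good_conj [Finite S] [Fact p.Prime] (hS : IsPGroup p S) (hF : F.IsSaturated p)
    (hrec : ∀ f, MapTo F Q f →
      ∃ ψ, MapTo F (kNorm S K f ⊔ img f Q) ψ ∧ InK K fun q => ψ (f q))
    (hQ : Q ≤ S) (hP : P ≤ kNorm S K id) :
    ∃ h, MapTo F (P ⊔ Q) h ∧ InK K h ∧ (∀ x ∈ P, h x ∈ kNorm S K id) ∧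
      F.IsFullyCentralized (img h (P ⊔ Q)) ∧
      ∀ (hPR : img h P ≤ img h (P ⊔ Q)) (hQR : Q ≤ img h (P ⊔ Q)),
        ∃ X : Subgroup (MulAut (img h (P ⊔ Q))),
          X ≤ autInducedBy S (img h (P ⊔ Q)) ⊓ kAut hPR hQR K ∧ IsPGroup p X ∧
          ¬ p ∣ X.relIndex (F.autGroup (img h (P ⊔ Q)) ⊓ kAut hPR hQR K) := by
  have hPS : P ≤ S := fun x hx => (hP hx).1
  set R := P ⊔ Q with hRdef
  have hPR : P ≤ R := le_sup_left
  have hQR : Q ≤ R := le_sup_right
  have hRS : R ≤ S := sup_le hPS hQ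
  have := finite_of_le hRS
  have := finite_mulAut R
  set G := F.autGroup R ⊓ kAut hPR hQR K with hG
  obtain ⟨R0, hRR0, hR0⟩ := exists_isFullyNormalized (F := F) hRS
  obtain ⟨φ, hφ, hφR⟩ := isConj_iff.mp hRR0
  -- a Sylow subgroup of the `K`-automorphisms of `R`
  obtain ⟨AG⟩ := (inferInstance : Nonempty (Sylow p G))
  set AR : Subgroup (MulAut R) := (AG : Subgroup G).map G.subtype with hAR
  have hARG : AR ≤ G := Subgroup.map_subtype_le _
  have hARp : IsPGroup p AR := AG.isPGroup'.map _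
  have hARi : ¬ p ∣ AR.relIndex G := by
    rw [hAR, Subgroup.relIndex, Subgroup.subgroupOf,
      Subgroup.comap_map_eq_self_of_injective G.subtype_injective]
    exact AG.not_dvd_index
  obtain ⟨β, hβ, hβA⟩ := exists_conj_le_autInducedBy (Q := R0) (p := p)
    (isFullyAutomized_of_isFullyNormalized hS hF hR0)
    (A := AR.map (MulAut.congr (isoEquiv hφ hφR)).toMonoidHom)
    (le_of_le_of_eq (Subgroup.map_mono (hARG.trans inf_le_left)) (map_congr_autGroup hφ hφR))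
    (hARp.map _)
  let φ' : Ω → Ω := fun x => autFun β (φ x)
  have hφm : ∀ x ∈ R, φ x ∈ R0 := fun x hx => hφR ▸ mem_img_of_mem hx
  have hφ' : MapTo F R φ' := hφ.comp (mapTo_of_mem_autGroup hR0.1 hβ) hφm
  have hφ'R : img φ' R = R0 := by rw [← hφ.img_img le_rfl, hφR, img_autFun]
  have hAconj : ∀ α ∈ AR, ∃ s ∈ S, ∀ x ∈ R, φ' (autFun α x) = s * φ' x * s⁻¹ := by
    intro α hα
    obtain ⟨s, hs, hsx⟩ := mem_autInducedBy_iff_cj.mp
      (hβA _ (Subgroup.mem_map_of_mem _ hα))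
    refine ⟨s, hs, fun x hx => ?_⟩
    have h1 := hsx (φ' x) (autFun_mem β (hφm x hx))
    show autFun β (φ (autFun α x)) = _
    rw [MulEquiv.toMonoidHom_eq_coe, MonoidHom.coe_coe,
      autFun_mul _ _ (autFun_mem β (hφm x hx)),
      autFun_inv_autFun β (hφm x hx), autFun_mul _ _ (hφm x hx),
      autFun_congr hφ hφR α hx] at h1
    exact h1
  -- moving `Q` back
  obtain ⟨ψ, hψ, hψK⟩ := hrec φ' (hφ'.restrict hQR)
  have hPN : ∀ x ∈ P, φ' x ∈ kNorm S K φ' := by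
    intro x hx
    obtain ⟨-, k, hk, hkx⟩ := hP hx
    refine ⟨hφ'.mem (hPR hx), k, hk, fun q hq => ?_⟩
    rw [← hφ'.map_conj (hPR hx) (hQR hq), show x * q * x⁻¹ = autFun k q from hkx q hq]
  have hdom : img φ' R ≤ kNorm S K φ' ⊔ img φ' Q := by
    rw [hRdef, hφ'.img_sup hPR hQR]
    exact sup_le_sup_right (img_le_of_forall hPN) _
  have hRN : ∀ x ∈ R, φ' x ∈ kNorm S K φ' ⊔ img φ' Q := fun x hx => hdom (mem_img_of_mem hx)
  -- values of `ψ`
  have hval : ∀ y ∈ kNorm S K φ', ψ y ∈ kNorm S K id := by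
    intro y hy
    have hy' := (le_sup_left : _ ≤ kNorm S K φ' ⊔ img φ' Q) hy
    obtain ⟨-, k, hk, hky⟩ := hy
    obtain ⟨χ, hχ, hχψ⟩ := hψK
    replace hχψ : ∀ x ∈ Q, ψ (φ' x) = autFun χ x := hχψ
    refine mem_kNorm_id.mpr ⟨hψ.mem hy', χ * k * χ⁻¹,
      K.mul_mem (K.mul_mem hχ hk) (K.inv_mem hχ), fun q hq => ?_⟩
    have hq' := autFun_mem χ⁻¹ hq
    have h1 := hψ.map_conj hy' (hRN _ (hQR hq'))
    rw [hky _ hq', hχψ _ (autFun_mem k hq'), hχψ _ hq', autFun_autFun_inv χ hq] at h1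
    rw [cj_apply, ← h1, autFun_mul _ _ hq, autFun_mul _ _ (autFun_mem _ hq)]
  let h : Ω → Ω := fun x => ψ (φ' x)
  have hh : MapTo F R h := hφ'.comp hψ hRN
  have hhK : InK K h := hψK
  refine ⟨h, hh, hhK, fun x hx => hval _ (hPN x hx), ⟨hh.img_le, fun T hT => ?_⟩, ?_⟩
  · -- fully centralized
    have hTR : F.IsConj R0 T :=
      isConj_trans (isConj_symm hRR0) (isConj_trans hh.isConj hT)
    have hR0c := (isFullyCentralized_of_isFullyNormalized hS hF hR0).2 T hTR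
    refine hR0c.trans ?_
    have hsub : centralizerIn S R0 ≤ kNorm S K φ' := by
      intro y hy
      obtain ⟨hyS, hyc⟩ := mem_centralizerIn.mp hy
      refine ⟨hyS, 1, K.one_mem, fun q hq => ?_⟩
      rw [autFun_one hq, ← hyc _ (hφ'R ▸ mem_img_of_mem (hQR hq)), mul_inv_cancel_right]
    rw [← hψ.card_img (hsub.trans le_sup_left)]
    have := finite_of_le (centralizerIn_le (S := S) (P := img h R))
    refine Subgroup.card_le_of_le (img_le_of_forall fun y hy => ?_)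
    refine mem_centralizerIn.mpr ⟨hψ.mem ((hsub.trans le_sup_left) hy), fun z hz => ?_⟩
    obtain ⟨x, hx, rfl⟩ := (hh.mem_img_iff le_rfl).mp hz
    show ψ (φ' x) * ψ y = ψ y * ψ (φ' x)
    rw [← hψ.map_mul (hRN x hx) ((hsub.trans le_sup_left) hy),
      ← hψ.map_mul ((hsub.trans le_sup_left) hy) (hRN x hx),
      (mem_centralizerIn.mp hy).2 _ (hφ'R ▸ mem_img_of_mem hx)]
  · intro hP2 hQ2
    set e := MulAut.congr (isoEquiv hh (rfl : img h R = img h R)) with he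
    refine ⟨AR.map e.toMonoidHom, ?_, hARp.map _, ?_⟩
    · rintro _ ⟨α, hα, rfl⟩
      have hαk : α ∈ kAut hPR hQR K := (hARG hα).2
      refine ⟨?_, (congr_mem_kAut_iff hPR hQR hh rfl hhK hP2 hQ2).mpr hαk⟩
      obtain ⟨s, hs, hsx⟩ := hAconj α hα
      have hsN : s ∈ kNorm S K φ' := by
        obtain ⟨k, hk, hkx⟩ := hαk.2.2
        exact ⟨hs, k, hk, fun q hq => by rw [← hsx q (hQR hq), hkx q hq]⟩
      have hs' := (le_sup_left : _ ≤ kNorm S K φ' ⊔ img φ' Q) hsN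
      refine mem_autInducedBy_iff_cj.mpr ⟨ψ s, hψ.mem hs', fun y hy => ?_⟩
      obtain ⟨x, hx, rfl⟩ := (hh.mem_img_iff le_rfl).mp hy
      rw [MulEquiv.toMonoidHom_eq_coe, MonoidHom.coe_coe, mapTo_autFun_congr hh rfl α hx]
      show ψ (φ' (autFun α x)) = ψ s * ψ (φ' x) * (ψ s)⁻¹
      rw [hsx x hx, hψ.map_conj hs' (hRN x hx)]
    · have hGe : G.map e.toMonoidHom = F.autGroup (img h R) ⊓ kAut hP2 hQ2 K := by
        rw [hG, Subgroup.map_inf _ _ _ e.injective, map_congr_autGroup hh rfl]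
        congr 1
        ext β
        obtain ⟨α, rfl⟩ := e.surjective β
        refine ⟨fun ⟨α', hα', hαe⟩ => ?_, fun hβ => ?_⟩
        · rw [← hαe]
          exact (congr_mem_kAut_iff hPR hQR hh rfl hhK hP2 hQ2).mpr hα'
        · exact ⟨α, (congr_mem_kAut_iff hPR hQR hh rfl hhK hP2 hQ2).mp hβ, rfl⟩
      rw [← hGe, Subgroup.relIndex_map_map_of_injective _ _ e.injective]
      exact hARi

/-- Saturation of the system of maps extending by `K` on `Q`. -/
theorem isSaturated_kSys [Finite S] [Fact p.Prime] (hS : IsPGroup p S) (hF : F.IsSaturated p)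
    (hQ : Q ≤ S) (hrec : ∀ f, MapTo F Q f →
      ∃ ψ, MapTo F (kNorm S K f ⊔ img f Q) ψ ∧ InK K fun q => ψ (f q))
    {T : Subgroup Ω} (hT : T = kNorm S K id) {E : FusionSystem T}
    (hE : ∀ P f, MapTo E P f ↔ P ≤ T ∧ (∀ x ∈ P, f x ∈ T) ∧
      ∃ g, MapTo F (P ⊔ Q) g ∧ (∀ x ∈ P, g x = f x) ∧ InK K g) :
    E.IsSaturated p := by
  have hTS : T ≤ S := hT ▸ fun x hx => hx.1
  have := finite_of_le hTS
  have hTp : IsPGroup p T := hS.to_le hTS
  intro P hPT
  obtain ⟨h, hh, hhK, hhP, hc, hX⟩ := exists_good_conj hS hF hrec hQ (hT ▸ hPT)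
  rw [← hT] at hhP
  have hhE : MapTo E P h :=
    (hE P h).mpr ⟨hPT, hhP, h, hh, fun _ _ => rfl, hhK⟩
  refine ⟨img h P, isConj_iff.mpr ⟨h, hhE, rfl⟩, ?_⟩
  generalize hPP : img h P = P₂
  set R₂ := img h (P ⊔ Q) with hR₂
  have hR₂eq : R₂ = P₂ ⊔ Q := by rw [hR₂, hh.img_sup le_sup_left le_sup_right, hhK.img_eq, hPP]
  have hP₂R : P₂ ≤ R₂ := hR₂eq ▸ le_sup_left
  have hQR₂ : Q ≤ R₂ := hR₂eq ▸ le_sup_right
  subst hPP
  obtain ⟨X, hXle, hXp, hXi⟩ := hX hP₂R hQR₂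
  set P₂ := img h P with hP₂
  have hP₂T : P₂ ≤ T := img_le_of_forall hhP
  have hR₂S : R₂ ≤ S := hh.img_le
  have := finite_of_le hR₂S
  have := finite_mulAut R₂
  have := finite_of_le hP₂T
  have := finite_mulAut P₂
  obtain ⟨r, hr⟩ := exists_resHom (K := K) hP₂R hQR₂
  have hrec₂ := isReceptive_iff.mp (isReceptive_of_isFullyCentralized hS hF hc)
  -- members of `X` restrict to inner maps of `T`
  have hrX : ∀ (α : kAut hP₂R hQR₂ K), (α : MulAut R₂) ∈ autInducedBy S R₂ →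
      r α ∈ autInducedBy T P₂ := by
    intro α hα
    obtain ⟨y, hy, hyα⟩ := mem_autInducedBy_iff_cj.mp hα
    refine mem_autInducedBy_iff_cj.mpr ⟨y, ?_, fun x hx => ?_⟩
    · rw [hT]
      exact mem_kNorm_id.mpr ⟨hy, α.2.2.2.congr' fun q hq => (hyα q (hQR₂ hq)).symm⟩
    · rw [hr α x hx, hyα x (hP₂R hx)]
  -- every automorphism in `E` lifts
  have hlift : ∀ β ∈ E.autGroup P₂, ∃ α : kAut hP₂R hQR₂ K,
      (α : MulAut R₂) ∈ F.autGroup R₂ ∧ r α = β := by
    intro β hβ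
    obtain ⟨-, -, g, hg, hgβ, hgK⟩ := (hE _ _).mp (mapTo_of_mem_autGroup hP₂T hβ)
    rw [← hR₂eq] at hg
    have himgP : img g P₂ = P₂ := by rw [img_congr hgβ, img_autFun]
    have himg : img g R₂ = R₂ := by
      conv_rhs => rw [hR₂eq]
      conv_lhs => rw [hR₂eq]
      rw [(hR₂eq ▸ hg : MapTo F (P₂ ⊔ Q) g).img_sup le_sup_left le_sup_right, hgK.img_eq, himgP]
    have hα : autOf hg himg ∈ kAut hP₂R hQR₂ K := by
      refine ⟨fun x hx => ?_, fun x hx => ?_, hgK.congr' fun x hx => autFun_autOf hg himg (hQR₂ hx)⟩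
      · rw [autFun_autOf hg himg (hP₂R hx), hgβ x hx]; exact autFun_mem β hx
      · have h1 : autFun (autOf hg himg) (autFun β⁻¹ x) = x := by
          rw [autFun_autOf hg himg (hP₂R (autFun_mem _ hx)), hgβ _ (autFun_mem _ hx),
            autFun_autFun_inv β hx]
        rw [← h1, autFun_inv_autFun _ (hP₂R (autFun_mem _ hx))]
        exact autFun_mem _ hx
    refine ⟨⟨_, hα⟩, autOf_mem hg himg, autFun_ext fun x hx => ?_⟩
    rw [hr _ x hx]
    exact (autFun_autOf hg himg (hP₂R hx)).trans (hgβ x hx)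
  refine ⟨?_, ?_⟩
  · -- fully automized
    refine (isFullyAutomized_iff hTp).mpr ⟨hP₂T, fun hdvd => hXi ?_⟩
    set G₂ := F.autGroup R₂ ⊓ kAut hP₂R hQR₂ K with hG₂
    have hXG : X ≤ G₂ := le_inf (hXle.trans inf_le_left |>.trans (autInducedBy_le_autGroup hR₂S))
      (hXle.trans inf_le_right)
    have hG₂k : G₂ ≤ kAut hP₂R hQR₂ K := inf_le_right
    have hXk : X ≤ kAut hP₂R hQR₂ K := hXle.trans inf_le_right
    have hmap1 : (X.subgroupOf (kAut hP₂R hQR₂ K)).map r ≤ autInducedBy T P₂ := by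
      rintro _ ⟨α, hα, rfl⟩
      exact hrX α (hXle hα).1
    have hmap2 : E.autGroup P₂ ≤ (G₂.subgroupOf (kAut hP₂R hQR₂ K)).map r := by
      intro β hβ
      obtain ⟨α, hα, rfl⟩ := hlift β hβ
      exact ⟨α, ⟨hα, α.2⟩, rfl⟩
    have h1 : (autInducedBy T P₂).relIndex (E.autGroup P₂) ∣
        ((X.subgroupOf (kAut hP₂R hQR₂ K)).map r).relIndex
          ((G₂.subgroupOf (kAut hP₂R hQR₂ K)).map r) := by
      have hle : (G₂.subgroupOf (kAut hP₂R hQR₂ K)).map r ≤ E.autGroup P₂ := by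
        rintro _ ⟨α, ⟨hαF, hαk⟩, rfl⟩
        refine (mem_autGroup_iff hP₂T).mpr ((hE _ _).mpr ⟨hP₂T,
          fun x hx => hP₂T (autFun_mem _ hx), autFun (α : MulAut R₂),
          hR₂eq ▸ mapTo_of_mem_autGroup hR₂S hαF, fun x hx => (hr α x hx).symm, hαk.2.2⟩)
      rw [le_antisymm hle hmap2]
      exact Subgroup.relIndex_dvd_of_le_left _ hmap1
    refine (hdvd.trans h1).trans ?_
    rw [← Subgroup.relIndex_subgroupOf hG₂k]
    exact relIndex_map_dvd r (Subgroup.comap_mono hXG)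
  · -- receptive
    refine isReceptive_iff.mpr ⟨hP₂T, fun A θ hθ hθimg => ?_⟩
    obtain ⟨hAT, hθT, g, hg, hgθ, hgK⟩ := (hE A θ).mp hθ
    have hAQ : Q ≤ A ⊔ Q := le_sup_right
    have hgR : img g (A ⊔ Q) = R₂ := by
      rw [hg.img_sup le_sup_left le_sup_right, hgK.img_eq, img_congr hgθ, hθimg, hR₂eq]
    set D := extSub T hθ with hD
    have hDT : D ≤ T := (extSub_le hθ).trans normalizerIn_le
    set B := (autInducedBy D (A ⊔ Q)).map (MulAut.congr (isoEquiv hg hgR)).toMonoidHom with hB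
    have := finite_of_le hg.le
    have hBmem : ∀ x ∈ D, ∃ σ : MulAut (A ⊔ Q : Subgroup Ω), σ ∈ autInducedBy D (A ⊔ Q) ∧
        (∀ z ∈ A ⊔ Q, autFun σ z = cj x z) := by
      intro x hx
      have hxA := (extSub_le hθ hx).2
      have hxQ : ∀ z ∈ Q, x * z * x⁻¹ ∈ Q := fun z hz =>
        (mem_kNorm_id.mp (hT ▸ hDT hx)).2.mem hz
      have hn : x ∈ Subgroup.normalizer ((A ⊔ Q : Subgroup Ω) : Set Ω) := by
        refine mem_normalizer_of_forall fun z hz => ?_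
        have hle : A ⊔ Q ≤ (A ⊔ Q).comap (MulAut.conj x).toMonoidHom := sup_le
          (fun z hz => Subgroup.mem_sup_left ((Subgroup.mem_normalizer_iff.mp hxA z).mp hz))
          (fun z hz => Subgroup.mem_sup_right (hxQ z hz))
        exact hle hz
      refine ⟨(A ⊔ Q).normalizerMonoidHom ⟨x, hn⟩, ?_, fun z hz => by rw [autFun_apply _ hz]; rfl⟩
      exact mem_autInducedBy_iff.mpr ⟨x, hx, fun _ => rfl⟩
    -- the automorphisms in `B`
    set W := (F.autGroup R₂ ⊓ kAut hP₂R hQR₂ K) with hW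
    have hBW : ∀ b ∈ B, b ∈ W ∧ ∀ hb : b ∈ kAut hP₂R hQR₂ K, r ⟨b, hb⟩ ∈ autInducedBy T P₂ := by
      rintro _ ⟨σ, hσ, rfl⟩
      obtain ⟨x, hx, hxσ⟩ := mem_autInducedBy_iff_cj.mp hσ
      have hxT := hDT hx
      obtain ⟨hxA, y, hy, hyθ⟩ := hx
      have hxk := (mem_kNorm_id.mp (hT ▸ hxT)).2
      have hσA : σ ∈ kAut (le_sup_left : A ≤ A ⊔ Q) hAQ K := by
        refine ⟨fun z hz => ?_, fun z hz => ?_, hxk.congr' fun z hz => hxσ z (hAQ hz)⟩
        · rw [hxσ z (Subgroup.mem_sup_left hz)]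
          exact (Subgroup.mem_normalizer_iff.mp hxA.2 z).mp hz
        · have hz' : x⁻¹ * z * x ∈ A := by
            have := (Subgroup.mem_normalizer_iff.mp (Subgroup.inv_mem _ hxA.2) z).mp hz
            rwa [inv_inv] at this
          have h1 : autFun σ (x⁻¹ * z * x) = z := by
            rw [hxσ _ (Subgroup.mem_sup_left hz'), cj_apply]; group
          rw [← h1, autFun_inv_autFun σ (Subgroup.mem_sup_left hz')]
          exact hz'
      have hgP : img g A = P₂ := by rw [img_congr hgθ, hθimg]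
      refine ⟨⟨(map_congr_autGroup hg hgR).le (Subgroup.mem_map_of_mem _
        (autInducedBy_le_autGroup hg.le (autInducedBy_mono (hDT.trans hTS) _ hσ))), ?_⟩,
        fun hb => mem_autInducedBy_iff_cj.mpr ⟨y, hy, fun z hz => ?_⟩⟩
      · have h2 := (congr_mem_kAut_iff (K := K) (le_sup_left : A ≤ A ⊔ Q) hAQ hg hgR hgK
          (hgP.le.trans hP₂R) hQR₂).mpr hσA
        simp only [hgP] at h2
        exact h2
      · rw [hr _ z hz]
        obtain ⟨a, ha, rfl⟩ := (hθ.mem_img_iff le_rfl).mp (hθimg ▸ hz : z ∈ img θ A)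
        show autFun (MulAut.congr (isoEquiv hg hgR) σ) (θ a) = _
        rw [← hgθ a ha, autFun_congr hg hgR σ (Subgroup.mem_sup_left ha),
          hxσ a (Subgroup.mem_sup_left ha), cj_apply,
          hgθ _ ((Subgroup.mem_normalizer_iff.mp hxA.2 a).mp ha), hyθ a ha, cj_apply, hgθ a ha]
    -- the preimage of the inner automorphisms
    set W₀ := ((autInducedBy T P₂).comap r).map (kAut hP₂R hQR₂ K).subtype ⊓ F.autGroup R₂
      with hW₀
    have hW₀mem : ∀ b, b ∈ W₀ ↔ b ∈ F.autGroup R₂ ∧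
        ∃ hb : b ∈ kAut hP₂R hQR₂ K, r ⟨b, hb⟩ ∈ autInducedBy T P₂ := by
      intro b
      constructor
      · rintro ⟨⟨⟨b, hb⟩, hbi, rfl⟩, hbF⟩
        exact ⟨hbF, hb, hbi⟩
      · rintro ⟨hbF, hb, hbi⟩
        exact ⟨⟨⟨b, hb⟩, hbi, rfl⟩, hbF⟩
    have hXW : X ≤ W₀ := fun b hb => (hW₀mem b).mpr
      ⟨autInducedBy_le_autGroup hR₂S (hXle hb).1, (hXle hb).2, hrX ⟨b, (hXle hb).2⟩ (hXle hb).1⟩
    have hXsyl : IsSylowIn p X W₀ := by
      refine (isSylowIn_iff_exists hXW).mpr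
        ⟨(hXp.of_equiv (Subgroup.subgroupOfEquivOfLe hXW).symm).toSylow fun hd => hXi ?_, rfl⟩
      refine dvd_trans hd ?_
      exact Dvd.intro _ (Subgroup.relIndex_mul_relIndex X W₀ _ hXW
        fun b hb => ⟨((hW₀mem b).mp hb).1, ((hW₀mem b).mp hb).2.1⟩)
    obtain ⟨w, hw, hwB⟩ := hXsyl.2.2 B (fun b hb => by
        obtain ⟨hbW, hbr⟩ := hBW b hb
        exact (hW₀mem b).mpr ⟨hbW.1, hbW.2, hbr hbW.2⟩)
      ((isPGroup_autInducedBy (hS.to_le (hDT.trans hTS)) _).map _)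
    obtain ⟨hwF, hwk, hwr⟩ := (hW₀mem w).mp hw
    obtain ⟨y, hy, hyw⟩ := mem_autInducedBy_iff_cj.mp hwr
    have hyS : y ∈ S := hTS hy
    have hyk := (mem_kNorm_id.mp (hT ▸ hy)).2
    -- conjugation by `y` on `R₂`
    have hyP : ∀ z ∈ P₂, y * z * y⁻¹ ∈ P₂ := fun z hz => by
      have h1 := hyw z hz
      rw [cj_apply] at h1
      exact h1 ▸ autFun_mem _ hz
    have hyn : y ∈ Subgroup.normalizer (R₂ : Set Ω) := by
      refine mem_normalizer_of_forall fun z hz => ?_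
      have hle : R₂ ≤ R₂.comap (MulAut.conj y).toMonoidHom := by
        conv_lhs => rw [hR₂eq]
        exact sup_le (fun z hz => hP₂R (hyP z hz)) (fun z hz => hQR₂ (hyk.mem hz))
      exact hle hz
    set σ := R₂.normalizerMonoidHom ⟨y, hyn⟩ with hσ
    have hσcj : ∀ z ∈ R₂, autFun σ z = cj y z := fun z hz => by rw [autFun_apply _ hz]; rfl
    have hσS : σ ∈ autInducedBy S R₂ := mem_autInducedBy_iff.mpr ⟨y, hyS, fun _ => rfl⟩
    set κ := σ⁻¹ * w with hκ
    have hκF : κ ∈ F.autGroup R₂ :=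
      Subgroup.mul_mem _ (Subgroup.inv_mem _ (autInducedBy_le_autGroup hR₂S hσS)) hwF
    have hκP : ∀ z ∈ P₂, autFun κ z = z := fun z hz => by
      rw [hκ, autFun_mul _ _ (hP₂R hz), show autFun w z = autFun σ z from ?_,
        autFun_inv_autFun σ (hP₂R hz)]
      rw [← hr ⟨w, hwk⟩ z hz, hyw z hz, hσcj z (hP₂R hz)]
    have hκK : InK K (autFun κ) := by
      refine InK.congr' (InK.comp hwk.2.2 ((hyk.congr' fun q hq => hσcj q (hQR₂ hq)).inverse
        (g := autFun σ⁻¹) fun q hq => autFun_inv_autFun σ (hQR₂ hq)))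
        fun q hq => autFun_mul _ _ (hQR₂ hq)
    -- extend
    let g' : Ω → Ω := fun z => autFun κ (g z)
    have hg' : MapTo F (A ⊔ Q) g' :=
      hg.comp (mapTo_of_mem_autGroup hR₂S hκF) fun z hz => hgR ▸ mem_img_of_mem hz
    have hg'R : img g' (A ⊔ Q) = R₂ := by rw [← hg.img_img le_rfl, hgR, img_autFun]
    have hg'A : ∀ a ∈ A, g' a = θ a := fun a ha => by
      show autFun κ (g a) = θ a
      rw [hgθ a ha, hκP _ (hθimg ▸ mem_img_of_mem ha)]
    have hg'K : InK K g' := hgK.comp hκK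
    obtain ⟨k', hk', hk'g⟩ := id hg'K
    obtain ⟨η, hη, hηg⟩ := hrec₂.2 _ g' hg' hg'R
    have hDext : D ≤ extSub S hg' := by
      intro x hx
      obtain ⟨σx, hσx, hσxz⟩ := hBmem x hx
      have h1 := hwB _ (Subgroup.mem_map_of_mem _ hσx)
      have h2 : κ * (MulAut.congr (isoEquiv hg hgR) σx) * κ⁻¹ ∈ autInducedBy S R₂ := by
        have h3 := (autInducedBy S R₂).mul_mem ((autInducedBy S R₂).mul_mem
          ((autInducedBy S R₂).inv_mem hσS) (hXle h1).1) hσS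
        rw [hκ, mul_inv_rev, inv_inv]
        simpa [mul_assoc] using h3
      obtain ⟨s, hs, hsz⟩ := mem_autInducedBy_iff_cj.mp h2
      refine ⟨mem_normalizerIn_of_forall hg.le (hTS (hDT hx)) fun z hz => ?_, s, hs,
        fun z hz => ?_⟩
      · rw [← cj_apply, ← hσxz z hz]
        exact autFun_mem σx hz
      · have hgz : g z ∈ R₂ := hgR ▸ mem_img_of_mem hz
        have h4 := hsz (g' z) (autFun_mem κ hgz)
        rw [cj_apply, autFun_mul _ _ (autFun_mem κ hgz), autFun_inv_autFun κ hgz,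
          autFun_mul _ _ hgz, autFun_congr hg hgR σx hz, hσxz z hz] at h4
        exact h4
    refine ⟨η, (hE D η).mpr ⟨hDT, fun x hx => ?_, η,
      hη.restrict (sup_le hDext (hAQ.trans (le_extSub hg'))), fun _ _ => rfl,
      hg'K.congr' fun q hq => hηg q (hAQ hq)⟩, fun a ha => by
        rw [hηg a (Subgroup.mem_sup_left ha), hg'A a ha]⟩
    rw [hT]
    obtain ⟨k, hk, hkx⟩ := (mem_kNorm_id.mp (hT ▸ hDT hx)).2
    refine mem_kNorm_id.mpr ⟨hη.mem (hDext hx), k' * k * k'⁻¹,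
      K.mul_mem (K.mul_mem hk' hk) (K.inv_mem hk'), fun q hq => ?_⟩
    have hq' := autFun_mem k'⁻¹ hq
    have hq'' : autFun k'⁻¹ q ∈ extSub S hg' := le_extSub hg' (hAQ hq')
    have h5 := hη.map_conj (hDext hx) hq''
    rw [← cj_apply x, hkx _ hq', hηg _ (hAQ hq'), hηg _ (hAQ (autFun_mem k hq')),
      hk'g _ hq', hk'g _ (autFun_mem k hq'), autFun_autFun_inv k' hq] at h5
    rw [cj_apply, ← h5, autFun_mul _ _ hq, autFun_mul _ _ hq']

end Cfsg.Agent.Fusion
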