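import Mathlib
import Cfsg.Agent.Lib.Fusion.Alperin
import Cfsg.Agent.Lib.Fusion.Normal

/-!
# Control by a characteristic functor from local control

If, in the normalizer of every nontrivial fully normalized subgroup `U`, a property of maps follows
from the property of the maps normalizing `W(N_S(U))`, then it holds for all maps as soon as it
holds for the maps normalizing `W(S)`. Also: a count of maps, used to compare subsystems.
-/

set_option autoImplicit false

namespace Cfsg.Agent.Fusion

open Cfsg.FusionSystem (centralizerIn normalizerIn)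

variable {Ω : Type*} [Group Ω] {S : Subgroup Ω} {F : FusionSystem S}
variable {P Q R U : Subgroup Ω} {f g : Ω → Ω} {p : ℕ}

/-- The number of maps of a system. -/
noncomputable def mapsCard (F : FusionSystem S) : ℕ :=
  Nat.card {x : Σ P : {Q : Subgroup Ω // Q ≤ S}, (↥P.1 → ↥S) //
    ∃ f, MapTo F x.1.1 f ∧ ∀ y, ((x.2 y : ↥S) : Ω) = f y}

theorem mapsCard_lt [Finite S] {E : FusionSystem S}
    (hle : ∀ (P : Subgroup Ω) (f : Ω → Ω), MapTo E P f → MapTo F P f) (hf : MapTo F P f)
    (hn : ¬ MapTo E P f) : mapsCard E < mapsCard F := by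
  have := finite_subgroups_le (S := S)
  have : ∀ P : {Q : Subgroup Ω // Q ≤ S}, Finite (↥P.1 → ↥S) := fun P => by
    have := finite_of_le P.2
    infer_instance
  unfold mapsCard
  refine lt_of_le_of_ne ?_ fun he => hn ?_
  · exact Nat.card_le_card_of_injective
      (fun x => ⟨x.1, let ⟨g, hg, hgy⟩ := x.2; ⟨g, hle _ g hg, hgy⟩⟩)
      fun a b hab => Subtype.ext (congrArg Subtype.val hab :)
  · have hbij := (Nat.bijective_iff_injective_and_card
      (fun x : {x : Σ P : {Q : Subgroup Ω // Q ≤ S}, (↥P.1 → ↥S) //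
          ∃ f, MapTo E x.1.1 f ∧ ∀ y, ((x.2 y : ↥S) : Ω) = f y} =>
        (⟨x.1, let ⟨g, hg, hgy⟩ := x.2; ⟨g, hle _ g hg, hgy⟩⟩ :
          {x : Σ P : {Q : Subgroup Ω // Q ≤ S}, (↥P.1 → ↥S) //
          ∃ f, MapTo F x.1.1 f ∧ ∀ y, ((x.2 y : ↥S) : Ω) = f y}))).mpr
      ⟨fun a b hab => Subtype.ext (congrArg Subtype.val hab :), he⟩
    obtain ⟨⟨x, g, hg, hgy⟩, hx⟩ := hbij.2
      ⟨⟨⟨P, hf.le⟩, fun y => ⟨f y, hf.mem y.2⟩⟩, f, hf, fun _ => rfl⟩
    have hx' := congrArg Subtype.val hx
    simp only at hx'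
    subst hx'
    exact hg.congr' fun y hy => hgy ⟨y, hy⟩

/-- A subsystem is smaller. -/
theorem card_lt_or_mapsCard_lt [Finite S] {T : Subgroup Ω} (hT : T ≤ S) (E : FusionSystem T)
    (hle : ∀ (P : Subgroup Ω) (f : Ω → Ω), MapTo E P f → MapTo F P f)
    (hne : T = S → ∃ (P : Subgroup Ω) (f : Ω → Ω), MapTo F P f ∧ ¬ MapTo E P f) :
    Nat.card T < Nat.card S ∨ (Nat.card T = Nat.card S ∧ mapsCard E < mapsCard F) := by
  rcases eq_or_lt_of_le hT with rfl | hlt
  · obtain ⟨P, f, hf, hn⟩ := hne rfl
    exact Or.inr ⟨rfl, mapsCard_lt hle hf hn⟩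
  · refine Or.inl (lt_of_le_of_ne (Subgroup.card_le_of_le hT) fun he => hlt.ne ?_)
    exact Subgroup.eq_of_le_of_card_ge hT he.ge

/-- A property of maps closed under composition, inversion and restriction. -/
structure MapProp (F : FusionSystem S) where
  /-- the property -/
  C : Subgroup Ω → (Ω → Ω) → Prop
  congr' : ∀ {P : Subgroup Ω} {f g : Ω → Ω}, MapTo F P f → C P f → (∀ x ∈ P, g x = f x) → C P g
  conj : ∀ {P : Subgroup Ω} {g : Ω}, P ≤ S → g ∈ S → C P (cj g)
  comp : ∀ {P Q : Subgroup Ω} {f g : Ω → Ω}, MapTo F P f → MapTo F Q g → (∀ x ∈ P, f x ∈ Q) →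
    C P f → C Q g → C P (fun x => g (f x))
  inv : ∀ {P : Subgroup Ω} {f g : Ω → Ω}, MapTo F P f → MapTo F (img f P) g →
    (∀ x ∈ P, g (f x) = x) → C P f → C (img f P) g
  restrict : ∀ {P Q : Subgroup Ω} {f : Ω → Ω}, MapTo F Q f → C Q f → P ≤ Q → C P f

variable [Finite S] [Fact p.Prime]

/-- The maps with big domain, from the normalizers with big Sylow subgroups. -/
theorem MapProp.of_big (M : MapProp F) (hS : IsPGroup p S) (hF : F.IsSaturated p) (hS0 : S ≠ ⊥)
    (n : ℕ)
    (h : ∀ (U : Subgroup Ω) (hU : F.IsFullyNormalized U), U ≠ ⊥ →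
      n < Nat.card (normalizerIn S U : Subgroup Ω) →
      ∀ (P : Subgroup Ω) (f : Ω → Ω), MapTo (nSys F hU.1) P f → M.C P f)
    (hf : MapTo F P f) (hn : n < Nat.card P) : M.C P f := by
  refine alperin_prop hS hF (fun P f => n < Nat.card P → M.C P f)
    (fun {P f g} hf hC hfg hn => M.congr' hf (hC hn) hfg)
    (fun {P g} hP hg _ => M.conj hP hg)
    (fun {P Q f g} hf hg hfQ h₁ h₂ hn => M.comp hf hg hfQ (h₁ hn) (h₂ ?_))
    (fun {P f g} hf hg hgf h₁ hn => M.inv hf hg hgf (h₁ ?_))
    (fun R hR α hα hn => ?_) hf hn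
  · have := finite_of_le hg.le
    refine hn.trans_le ?_
    rw [← hf.card_img le_rfl]
    exact Subgroup.card_le_of_le (img_le_of_forall hfQ)
  · rwa [hf.card_img le_rfl] at hn
  · have hR' : F.IsFullyNormalized R ∧ R ≠ ⊥ := by
      rcases hR with rfl | hR
      · exact ⟨isFullyNormalized_top, hS0⟩
      · refine ⟨hR.2.1, fun he => hS0 ?_⟩
        have hc := centralizerIn_le_of_isCentric hR.1
        rw [he] at hc
        refine le_bot_iff.mp fun x hx => hc (mem_centralizerIn.mpr ⟨hx, fun y hy => ?_⟩)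
        rw [Subgroup.mem_bot.mp hy, one_mul, mul_one]
    have hRS := hR'.1.1
    have := finite_of_le (normalizerIn_le (S := S) (P := R))
    refine h R hR'.1 hR'.2 (hn.trans_le (Subgroup.card_le_of_le (le_normalizerIn hRS))) R _
      ((mapTo_nSys_iff (isNormalizerSystem_nSys F hRS)).mpr
        ⟨le_normalizerIn hRS, fun x hx => le_normalizerIn hRS (autFun_mem α hx), autFun α,
          by rw [sup_idem]; exact mapTo_of_mem_autGroup hRS hα, fun _ _ => rfl, img_autFun α⟩)

/-- **Control from local control.** -/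
theorem MapProp.of_local (M : MapProp F) (hS : IsPGroup p S) (hF : F.IsSaturated p) (hS0 : S ≠ ⊥)
    (Wf : Subgroup Ω → Subgroup Ω) (hWle : ∀ T, T ≤ S → Wf T ≤ T)
    (hW0 : ∀ T, T ≤ S → T ≠ ⊥ → Wf T ≠ ⊥)
    (hWn : ∀ T, T ≤ S → normalizerIn S T ≤ normalizerIn S (Wf T))
    (htop : ∀ (P : Subgroup Ω) (f g : Ω → Ω), MapTo F P f → MapTo F (P ⊔ Wf S) g →
      (∀ x ∈ P, g x = f x) → img g (Wf S) = Wf S → M.C P f)
    (hstep : ∀ (U : Subgroup Ω) (hU : F.IsFullyNormalized U), U ≠ ⊥ →
      (∀ (P : Subgroup Ω) (f g : Ω → Ω), P ≤ normalizerIn S U → (∀ x ∈ P, f x ∈ normalizerIn S U) →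
        MapTo F (P ⊔ Wf (normalizerIn S U)) g → (∀ x ∈ P, g x = f x) →
        img g (Wf (normalizerIn S U)) = Wf (normalizerIn S U) → M.C P f) →
      ∀ (P : Subgroup Ω) (f : Ω → Ω), MapTo (nSys F hU.1) P f → M.C P f)
    (hf : MapTo F P f) : M.C P f := by
  have key : ∀ k : ℕ, ∀ (U : Subgroup Ω) (hU : F.IsFullyNormalized U), U ≠ ⊥ →
      Nat.card S ≤ Nat.card (normalizerIn S U : Subgroup Ω) + k →
      ∀ (P : Subgroup Ω) (f : Ω → Ω), MapTo (nSys F hU.1) P f → M.C P f := by
    intro k
    induction k using Nat.strong_induction_on with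
    | _ k ih =>
      intro U hU hU0 hk
      refine hstep U hU hU0 fun P f g hP hfT hg hgf hgW => ?_
      set T := normalizerIn S U with hT
      have hTS : T ≤ S := normalizerIn_le
      have hPS : P ≤ S := hP.trans hTS
      have hfF : MapTo F P f := (hg.restrict le_sup_left).congr' fun x hx => (hgf x hx).symm
      rcases eq_or_lt_of_le hTS with hTeq | hlt
      · rw [hTeq] at hg hgW
        exact htop P f g hfF hg hgf hgW
      · have hT0 : T ≠ ⊥ := fun h => hU0 (le_bot_iff.mp (h ▸ le_normalizerIn hU.1))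
        set W := Wf T with hW
        have hWT : W ≤ T := hWle T hTS
        have hWS := hWT.trans hTS
        set N := normalizerIn S W with hN
        have hNS : N ≤ S := normalizerIn_le
        haveI := finite_of_le hTS
        haveI := finite_of_le hNS
        have hTN : T ≤ N := ((le_normalizerIn hTS).trans (hWn T hTS))
        have hTlt : Nat.card T < Nat.card N := by
          refine lt_of_lt_of_le ?_ (Subgroup.card_le_of_le (hWn T hTS))
          haveI := finite_of_le (normalizerIn_le (S := S) (P := T))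
          have h1 := lt_normalizerIn hS hlt
          exact lt_of_le_of_ne (Subgroup.card_le_of_le h1.le) fun e =>
            h1.ne (Subgroup.eq_of_le_of_card_ge h1.le e.ge)
        obtain ⟨U', hWU', hU'⟩ := exists_isFullyNormalized (F := F) hWS
        obtain ⟨γ, hγ, hγW⟩ := exists_map_normalizerIn hS
          (isFullyAutomized_of_isFullyNormalized hS hF hU')
          (isReceptive_of_isFullyNormalized hS hF hU') hWU'
        have hU'0 : U' ≠ ⊥ := fun h => hW0 T hTS hT0 (Subgroup.card_eq_one.mp
          ((isConj_card hWU').symm.trans (by rw [h]; exact Subgroup.card_bot)))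
        have hbigN : Nat.card N ≤ Nat.card (normalizerIn S U' : Subgroup Ω) :=
          hU'.2 W (isConj_symm hWU')
        -- maps with big domain
        have hG : ∀ (Q : Subgroup Ω) (e : Ω → Ω), MapTo F Q e → Nat.card T < Nat.card Q →
            M.C Q e := by
          intro Q e he hQ
          refine M.of_big hS hF hS0 (Nat.card T) (fun U₁ hU₁ hU₁0 hbig => ?_) he hQ
          have := Subgroup.card_le_of_le (normalizerIn_le (S := S) (P := U₁))
          exact ih (k - 1) (by omega) U₁ hU₁ hU₁0 (by omega)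
        have hγC : M.C N γ := hG N γ hγ hTlt
        obtain ⟨δ, hδ, hδγ, -, -⟩ := hγ.exists_iso_inverse
        set D := P ⊔ W with hD
        have hDN : D ≤ N := sup_le (hP.trans hTN) (hWT.trans hTN)
        have hgD : ∀ x ∈ D, g x ∈ N := by
          have : img g D ≤ N := by
            rw [hD, hg.img_sup le_sup_left le_sup_right, hgW, img_congr hgf]
            exact sup_le (img_le_of_forall fun x hx => hTN (hfT x hx)) (hWT.trans hTN)
          exact fun x hx => this (mem_img_of_mem hx)
        have hδD : ∀ y ∈ img γ D, δ y ∈ D := fun y hy => by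
          obtain ⟨x, hx, rfl⟩ := (hγ.mem_img_iff hDN).mp hy
          rw [hδγ x (hDN hx)]; exact hx
        let h3 : Ω → Ω := fun y => γ (g (δ y))
        have hh3 : MapTo F (img γ D) h3 :=
          ((hδ.restrict (img_mono hDN)).comp hg hδD).comp hγ fun y hy => hgD _ (hδD y hy)
        have hPN : P ≤ N := hP.trans hTN
        have himgD : img γ D = img γ P ⊔ U' := by
          rw [hD, hγ.img_sup hPN (hWT.trans hTN), hγW]
        have hγnorm : ∀ x ∈ N, γ x ∈ normalizerIn S U' := fun x hx => by
          haveI := finite_of_le hU'.1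
          refine mem_normalizerIn_of_forall hU'.1 (hγ.mem hx) fun z hz => ?_
          obtain ⟨w, hw, rfl⟩ := (hγ.mem_img_iff (hWT.trans hTN)).mp (hγW.ge hz)
          rw [← hγ.map_conj hx (hWT.trans hTN hw), ← hγW]
          exact mem_img_of_mem (conj_mem_of_mem_normalizerIn hx hw)
        have himgU' : img h3 U' = U' := by
          haveI := finite_of_le hU'.1
          refine img_eq_self_of_forall (hh3.restrict (himgD ▸ le_sup_right)) fun y hy => ?_
          obtain ⟨w, hw, rfl⟩ := (hγ.mem_img_iff (hWT.trans hTN)).mp (hγW.ge hy)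
          show γ (g (δ (γ w))) ∈ U'
          rw [hδγ w (hWT.trans hTN hw), ← hγW]
          exact mem_img_of_mem (hgW.le (mem_img_of_mem hw))
        have hf3 : MapTo (nSys F hU'.1) (img γ P) h3 :=
          (mapTo_nSys_iff (isNormalizerSystem_nSys F hU'.1)).mpr
            ⟨img_le_of_forall fun x hx => hγnorm x (hPN hx),
              fun y hy => hγnorm _ (hgD _ (hδD y (img_mono le_sup_left hy))),
              h3, himgD ▸ hh3, fun _ _ => rfl, himgU'⟩
        have hC3 : M.C (img γ P) h3 := by
          have := Subgroup.card_le_of_le (normalizerIn_le (S := S) (P := U'))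
          exact ih (k - 1) (by omega) U' hU' hU'0 (by omega) _ h3 hf3
        -- assemble
        have hγP := hγ.restrict hPN
        have hfP : ∀ x ∈ P, f x ∈ N := fun x hx => hTN (hfT x hx)
        have hγfP := hγ.restrict (img_le_of_forall hfP)
        have hh3P := hh3.restrict (img_mono (le_sup_left : P ≤ D))
        have h1 := M.comp hγP hh3P (fun x hx => mem_img_of_mem hx)
          (M.restrict hγ hγC hPN) hC3
        have h2 := M.inv hγfP
          (hδ.restrict (img_mono (img_le_of_forall hfP)))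
          (fun x hx => hδγ x (img_le_of_forall hfP hx))
          (M.restrict hγ hγC (img_le_of_forall hfP))
        have hval : ∀ x ∈ P, h3 (γ x) = γ (f x) := fun x hx => by
          show γ (g (δ (γ x))) = γ (f x)
          rw [hδγ x (hPN hx), hgf x hx]
        have hmem : ∀ x ∈ P, h3 (γ x) ∈ img γ (img f P) := fun x hx => by
          rw [hval x hx]; exact mem_img_of_mem (mem_img_of_mem hx)
        have h4 := M.comp (hγP.comp hh3P fun x hx => mem_img_of_mem hx)
          (hδ.restrict (img_mono (img_le_of_forall hfP))) hmem h1 h2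
        refine M.congr' ((hγP.comp hh3P fun x hx => mem_img_of_mem hx).comp
          (hδ.restrict (img_mono (img_le_of_forall hfP))) hmem) h4 fun x hx => ?_
        show f x = δ (h3 (γ x))
        rw [hval x hx, hδγ _ (hfP x hx)]
  refine M.of_big hS hF hS0 0 (fun U hU hU0 _ => key (Nat.card S) U hU hU0 (Nat.le_add_left _ _))
    hf ?_
  have := finite_of_le hf.le
  exact Nat.card_pos

end Cfsg.Agent.Fusion
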