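import Mathlib.GroupTheory.GroupAction.Quotient
import Mathlib.GroupTheory.QuotientGroup.Basic
import Mathlib.Algebra.BigOperators.Group.Finset.Basic
import Mathlib.SetTheory.Cardinal.Finite
import Mathlib.Data.Fintype.BigOperators
import Mathlib.Tactic.Group
import Mathlib.Tactic.Abel

/-!
Transfer along a right free biset, relative to a normal subgroup `K`.
-/

set_option autoImplicit false

namespace Cfsg.Agent.Fusion

variable {G : Type*} [Group G] {A : Type*} [AddCommGroup A] {X : Type*} [MulAction (G × G) X]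

/-- The left action of a biset. -/
def lm (a : G) (x : X) : X := ((a, 1) : G × G) • x

/-- The right action of a biset. -/
def rm (x : X) (b : G) : X := ((1, b⁻¹) : G × G) • x

theorem rm_one (x : X) : rm x (1 : G) = x := by simp [rm, Prod.mk_one_one]

theorem lm_lm (a b : G) (x : X) : lm a (lm b x) = lm (a * b) x := by simp [lm, smul_smul]

theorem rm_rm (x : X) (a b : G) : rm (rm x a) b = rm x (a * b) := by simp [rm, smul_smul]

theorem lm_rm (a : G) (x : X) (b : G) : lm a (rm x b) = rm (lm a x) b := by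
  simp [lm, rm, smul_smul]

theorem rm_inj (hfree : ∀ (b : G) (x : X), ((1, b) : G × G) • x = x → b = 1) {x : X} {a b : G}
    (h : rm x a = rm x b) : a = b := by
  have h1 : rm (rm x a) b⁻¹ = x := by rw [h, rm_rm, mul_inv_cancel, rm_one]
  rw [rm_rm] at h1
  exact mul_inv_eq_one.mp (inv_eq_one.mp (hfree _ x h1))

/-- Transfer along a biset: existence of `T` with its three properties. -/
theorem exists_transfer [Finite G] [Finite X]
    (hfree : ∀ (b : G) (x : X), ((1, b) : G × G) • x = x → b = 1) (K : Subgroup G) [K.Normal]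
    (lt : G → A) (hl : ∀ k ∈ K, ∀ g, lt (k * g) = lt k + lt g)
    (hr : ∀ k ∈ K, ∀ g, lt (g * k) = lt g + lt k)
    (π : X → G ⧸ K) (hπl : ∀ (a : G) (x : X), π (lm a x) = (a : G ⧸ K) * π x)
    (hπr : ∀ (x : X) (b : G), π (rm x b) = π x * (b : G ⧸ K)) :
    ∃ (q : ℕ) (T : G → A), Nat.card X = q * Nat.card G ∧
      (∀ a b, T (a * b) - T a - T b = q • (lt (a * b) - lt a - lt b)) ∧
      (∀ k ∈ K, ∀ k' ∈ K, ∀ e : X ≃ X, (∀ x (b : G), e (rm x b) = rm (e x) b) →
        (∀ x, e (lm k x) = lm k' (e x)) → T k = T k') ∧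
      (∀ z : G, ∀ μ : X → A, (∀ x (b : G), μ (rm x b) = μ x + lt b) →
        (∀ x, μ (lm z x) = μ x + lt z) → T z = q • lt z) := by
  classical
  let rel : Setoid X :=
    { r := fun x y => ∃ b : G, rm x b = y
      iseqv := ⟨fun x => ⟨1, rm_one x⟩,
        fun {x y} ⟨b, h⟩ => ⟨b⁻¹, by rw [← h, rm_rm, mul_inv_cancel, rm_one]⟩,
        fun {x y z} ⟨b, h⟩ ⟨c, h'⟩ => ⟨b * c, by rw [← rm_rm, h, h']⟩⟩ }
  let I := Quotient rel
  have : Fintype I := Fintype.ofFinite I
  have hnorm : ∀ i : I, ∃ r : X, Quotient.mk rel r = i ∧ π r = 1 := by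
    intro i
    obtain ⟨x, rfl⟩ := Quotient.mk_surjective i
    obtain ⟨g, hg⟩ := QuotientGroup.mk_surjective (π x)
    refine ⟨rm x g⁻¹, Quotient.sound ⟨g, ?_⟩, ?_⟩
    · rw [rm_rm, inv_mul_cancel, rm_one]
    · rw [hπr, ← hg, QuotientGroup.mk_inv, mul_inv_cancel]
  choose r hr1 hr2 using hnorm
  have hex : ∀ x : X, ∃ b : G, rm (r (Quotient.mk rel x)) b = x := fun x =>
    Quotient.exact (hr1 (Quotient.mk rel x))
  choose ell hell using hex
  have huniq : ∀ (i : I) (b : G) (x : X), rm (r i) b = x → Quotient.mk rel x = i ∧ ell x = b := by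
    intro i b x hx
    have h1 : Quotient.mk rel x = i := by
      rw [← hr1 i]
      exact (Quotient.sound (show rel.r (r i) x from ⟨b, hx⟩)).symm
    refine ⟨h1, rm_inj hfree (x := r i) ?_⟩
    have := hell x
    rw [h1] at this
    rw [this, hx]
  have hπell : ∀ x, (ell x : G ⧸ K) = π x := fun x => by
    conv_rhs => rw [← hell x, hπr, hr2, one_mul]
  have hcl : ∀ (a : G) (i : I), (ell (lm a (r i)) : G ⧸ K) = a := fun a i => by
    rw [hπell, hπl, hr2, mul_one]
  let idx : G → I → I := fun a i => Quotient.mk rel (lm a (r i))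
  have hidx : ∀ a b i, idx (a * b) i = idx a (idx b i) ∧
      ell (lm (a * b) (r i)) = ell (lm a (r (idx b i))) * ell (lm b (r i)) := by
    intro a b i
    refine huniq _ _ _ ?_
    rw [← rm_rm, hell, ← lm_rm, hell, lm_lm]
  have hidx1 : ∀ i, idx 1 i = i := fun i => by
    show Quotient.mk rel (lm 1 (r i)) = i
    rw [show lm (1 : G) (r i) = r i from one_smul (G × G) (r i), hr1]
  let perm : G → I ≃ I := fun a =>
    { toFun := idx a
      invFun := idx a⁻¹
      left_inv := fun i => by rw [← (hidx a⁻¹ a i).1, inv_mul_cancel, hidx1]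
      right_inv := fun i => by rw [← (hidx a a⁻¹ i).1, mul_inv_cancel, hidx1] }
  have hc : ∀ g g' h h' : G, (g : G ⧸ K) = g' → (h : G ⧸ K) = h' →
      lt (g * h) - lt g - lt h = lt (g' * h') - lt g' - lt h' := by
    intro g g' h h' hgg hhh
    have hk : g' * g⁻¹ ∈ K := by
      rw [← QuotientGroup.eq_one_iff, QuotientGroup.mk_mul, QuotientGroup.mk_inv, hgg,
        mul_inv_cancel]
    have hm : h⁻¹ * h' ∈ K := QuotientGroup.eq.mp hhh
    have e1 : lt g' = lt (g' * g⁻¹) + lt g := by
      conv_lhs => rw [← inv_mul_cancel_right g' g]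
      exact hl _ hk g
    have e2 : lt h' = lt h + lt (h⁻¹ * h') := by
      conv_lhs => rw [← mul_inv_cancel_left h h']
      exact hr _ hm h
    have e3 : lt (g' * h') = lt (g' * g⁻¹) + lt (g * h) + lt (h⁻¹ * h') := by
      rw [show g' * h' = g' * g⁻¹ * (g * h) * (h⁻¹ * h') by group, hr _ hm, hl _ hk]
    rw [e1, e2, e3]; abel
  refine ⟨Fintype.card I, fun a => ∑ i : I, lt (ell (lm a (r i))), ?_, ?_, ?_, ?_⟩
  · rw [← Nat.card_eq_fintype_card, ← Nat.card_prod]
    refine (Nat.card_eq_of_bijective (fun z : I × G => rm (r z.1) z.2) ⟨?_, ?_⟩).symm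
    · rintro ⟨i, b⟩ ⟨j, c⟩ h
      obtain ⟨h1, h2⟩ := huniq i b _ rfl
      obtain ⟨h3, h4⟩ := huniq j c _ h.symm
      exact Prod.ext (h1.symm.trans h3) (h2.symm.trans h4)
    · exact fun x => ⟨(_, ell x), hell x⟩
  · intro a b
    have h2 : ∀ i, lt (ell (lm (a * b) (r i))) = (lt (a * b) - lt a - lt b) +
        lt (ell (lm a (r (idx b i)))) + lt (ell (lm b (r i))) := fun i => by
      rw [(hidx a b i).2, ← hc _ a _ b (hcl a (idx b i)) (hcl b i)]
      abel
    simp only [h2, Finset.sum_add_distrib, Finset.sum_const, Finset.card_univ]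
    rw [Fintype.sum_equiv (perm b) (fun i => lt (ell (lm a (r (idx b i))))) (fun i => lt (ell (lm a (r i)))) fun i => rfl]
    abel
  · intro k hk k' hk' e her hel
    let e' : I → I := fun i => Quotient.mk rel (e (r i))
    have he' : Function.Bijective e' := by
      refine Finite.injective_iff_bijective.mp fun i j hij => ?_
      obtain ⟨b, hb⟩ := Quotient.exact hij
      rw [← her] at hb
      rw [← hr1 i, ← hr1 j]
      exact Quotient.sound ⟨b, e.injective hb⟩
    let u : I → G := fun i => ell (e (r i))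
    have hK : ∀ c ∈ K, ∀ i, ell (lm c (r i)) ∈ K := fun c hc' i => by
      rw [← QuotientGroup.eq_one_iff, hcl]
      exact (QuotientGroup.eq_one_iff c).mpr hc'
    have h1 : ∀ i, ell (lm k' (r (e' i))) = u (idx k i) * ell (lm k (r i)) * (u i)⁻¹ := by
      intro i
      refine (huniq (e' (idx k i)) _ _ ?_).2
      rw [← rm_rm, ← rm_rm, hell, ← her, hell, hel]
      conv_lhs => rw [← hell (e (r i)), lm_rm, rm_rm]
      show rm (lm k' (r (e' i))) (u i * (u i)⁻¹) = _
      rw [mul_inv_cancel, rm_one]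
    have h2 : ∀ i, lt (ell (lm k' (r (e' i)))) =
        lt (u (idx k i)) + lt (ell (lm k (r i))) - lt (u i) := by
      intro i
      have h3 : lt (ell (lm k' (r (e' i))) * u i) = lt (ell (lm k' (r (e' i)))) + lt (u i) :=
        hl _ (hK k' hk' _) _
      rw [h1 i, inv_mul_cancel_right, hr _ (hK k hk i)] at h3
      rw [h1 i, h3]; abel
    show (∑ i, lt (ell (lm k (r i)))) = ∑ i, lt (ell (lm k' (r i)))
    rw [← (Equiv.ofBijective e' he').sum_comp (fun i => lt (ell (lm k' (r i))))]
    simp only [Equiv.ofBijective_apply, h2, Finset.sum_sub_distrib, Finset.sum_add_distrib]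
    rw [Fintype.sum_equiv (perm k) (fun i => lt (u (idx k i))) (fun i => lt (u i)) fun i => rfl]
    abel
  · intro z μ hμr hμz
    have h1 : ∀ i, lt (ell (lm z (r i))) = μ (r i) + lt z - μ (r (idx z i)) := fun i => by
      rw [← hμz, ← hell (lm z (r i)), hμr, hell]
      abel
    show (∑ i, lt (ell (lm z (r i)))) = _
    simp only [h1, Finset.sum_sub_distrib, Finset.sum_add_distrib, Finset.sum_const,
      Finset.card_univ]
    rw [Fintype.sum_equiv (perm z) (fun i => μ (r (idx z i))) (fun i => μ (r i)) fun i => rfl]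
    abel

end Cfsg.Agent.Fusion
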