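import Cfsg.Agent.Lib.Fusion.Biset
import Cfsg.Agent.Lib.Fusion.BisetTransfer
import Cfsg.Agent.Lib.Fusion.Hyperfocal
import Mathlib.GroupTheory.Abelianization.Defs
import Mathlib.GroupTheory.Frattini
import Mathlib.GroupTheory.IndexNormal
import Mathlib.GroupTheory.SpecificGroups.Cyclic

/-!
Transfer for saturated fusion systems: `foc(F) ⊓ Z(F) ≤ [S, S]`, and `hyp(F) ≤ Φ(S)` forces
`hyp(F) = 1` (the fusion form of Tate's theorem).
-/

set_option autoImplicit false

namespace Cfsg.Agent.Fusion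

open Cfsg.FusionSystem (centralizerIn normalizerIn)

universe u

/-- An equivariant map to `G ⧸ K`, for left elements from `Z` and all right elements. -/
theorem exists_equivariant_quot {G : Type*} [Group G] {X : Type*} [MulAction (G × G) X]
    (Z K : Subgroup G) [K.Normal]
    (h : ∀ x : X, ∃ c : G, ∀ a ∈ Z, ∀ b : G, ((a, b) : G × G) • x = x →
      ((a * c * b⁻¹ : G) : G ⧸ K) = c) :
    ∃ π : X → G ⧸ K, (∀ a ∈ Z, ∀ x, π (lm a x) = (a : G ⧸ K) * π x) ∧
      ∀ (x : X) (b : G), π (rm x b) = π x * (b : G ⧸ K) := by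
  classical
  let rel : Setoid X :=
    { r := fun x y => ∃ a ∈ Z, ∃ b : G, ((a, b) : G × G) • x = y
      iseqv := ⟨fun x => ⟨1, Z.one_mem, 1, one_smul (G × G) x⟩,
        fun {x y} ⟨a, ha, b, h⟩ => ⟨a⁻¹, Z.inv_mem ha, b⁻¹, by
          rw [← h, show ((a⁻¹, b⁻¹) : G × G) = (a, b)⁻¹ from rfl, inv_smul_smul]⟩,
        fun {x y z} ⟨a, ha, b, h⟩ ⟨a', ha', b', h'⟩ => ⟨a' * a, Z.mul_mem ha' ha, b' * b, by
          rw [show ((a' * a, b' * b) : G × G) = (a', b') * (a, b) from rfl, mul_smul, h, h']⟩⟩ }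
  choose c hc using h
  let rep : X → X := fun x => (Quotient.mk rel x).out
  have hrel : ∀ x, rel.r (rep x) x := fun x =>
    Quotient.exact (Quotient.out_eq (Quotient.mk rel x))
  choose wa hwa wb hw using hrel
  let π : X → G ⧸ K := fun x => ((wa x * c (rep x) * (wb x)⁻¹ : G) : G ⧸ K)
  have key : ∀ (a b : G) (x : X), a ∈ Z →
      π (((a, b) : G × G) • x) = (a : G ⧸ K) * π x * (b : G ⧸ K)⁻¹ := by
    intro a b x ha
    set y := ((a, b) : G × G) • x with hy
    have hrep : rep y = rep x := by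
      show (Quotient.mk rel y).out = (Quotient.mk rel x).out
      rw [Quotient.sound (show rel.r x y from ⟨a, ha, b, rfl⟩)]
    have h1 : ((wa y, wb y) : G × G) • rep x = ((a * wa x, b * wb x) : G × G) • rep x := by
      conv_lhs => rw [← hrep, hw y]
      rw [show ((a * wa x, b * wb x) : G × G) = (a, b) * (wa x, wb x) from rfl, mul_smul, hw x]
    have h2 := hc (rep x) ((wa y)⁻¹ * (a * wa x))
      (Z.mul_mem (Z.inv_mem (hwa y)) (Z.mul_mem ha (hwa x))) ((wb y)⁻¹ * (b * wb x)) (by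
        rw [show (((wa y)⁻¹ * (a * wa x), (wb y)⁻¹ * (b * wb x)) : G × G) =
          (wa y, wb y)⁻¹ * (a * wa x, b * wb x) from rfl, mul_smul, ← h1, inv_smul_smul])
    show ((wa y * c (rep y) * (wb y)⁻¹ : G) : G ⧸ K) =
      (a : G ⧸ K) * ((wa x * c (rep x) * (wb x)⁻¹ : G) : G ⧸ K) * (b : G ⧸ K)⁻¹
    rw [hrep]
    conv_lhs => simp only [QuotientGroup.mk_mul, QuotientGroup.mk_inv]; rw [← h2]
    simp only [QuotientGroup.mk_mul, QuotientGroup.mk_inv]
    group
  refine ⟨π, fun a ha x => ?_, fun x b => ?_⟩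
  · show π (((a, 1) : G × G) • x) = _
    rw [key a 1 x ha, QuotientGroup.mk_one, inv_one, mul_one]
  · show π (((1, b⁻¹) : G × G) • x) = _
    rw [key 1 b⁻¹ x Z.one_mem, QuotientGroup.mk_one, one_mul, QuotientGroup.mk_inv, inv_inv]

variable {Ω : Type u} [Group Ω] {S : Subgroup Ω} {F : FusionSystem S} {p : ℕ}

/-- The two sided action on a biset, by pairs of elements of `S`. -/
@[reducible] def pairAct (X : FSet (S.prod S)) : MulAction (S × S) X.carrier :=
  MulAction.compHom X.carrier (S.prodEquiv S).symm.toMonoidHom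

theorem pairAct_smul (X : FSet (S.prod S)) (a b : S) (x : X.carrier) :
    letI := pairAct X
    ((a, b) : S × S) • x =
      (⟨((a : Ω), (b : Ω)), Subgroup.mem_prod.mpr ⟨a.2, b.2⟩⟩ : S.prod S) • x :=
  rfl

theorem IsStableBiset.fix_iff [Finite S] {X : FSet (S.prod S)} (hX : IsStableBiset F X)
    (x : X.carrier) :
    ∃ (P : Subgroup Ω) (f : Ω → Ω), MapTo F P f ∧ ∀ a b : S,
      letI := pairAct X
      ((a, b) : S × S) • x = x → (a : Ω) ∈ P ∧ f a = b := by
  obtain ⟨f, hf, hfa⟩ := hX.graph x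
  refine ⟨_, f, hf, fun a b h => ?_⟩
  have hm : ((a : Ω), (b : Ω)) ∈ stb X x :=
    (coe_mem_stb (a := (⟨((a : Ω), (b : Ω)), Subgroup.mem_prod.mpr ⟨a.2, b.2⟩⟩ : S.prod S))).mpr h
  exact ⟨fst_mem_pr₁ hm, (hfa _ hm).symm⟩

theorem IsStableBiset.free [Finite S] {X : FSet (S.prod S)} (hX : IsStableBiset F X) :
    letI := pairAct X
    ∀ (b : S) (x : X.carrier), ((1, b) : S × S) • x = x → b = 1 := by
  intro b x h
  obtain ⟨P, f, hf, hfix⟩ := hX.fix_iff x
  obtain ⟨-, h1⟩ := hfix 1 b h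
  exact Subtype.ext (h1.symm.trans hf.map_one)

theorem IsStableBiset.translate [Finite S] {X : FSet (S.prod S)} (hX : IsStableBiset F X)
    {P : Subgroup Ω} {f : Ω → Ω} (hf : MapTo F P f) :
    letI := pairAct X
    ∃ e : X.carrier ≃ X.carrier, (∀ x (b : S), e (rm x b) = rm (e x) b) ∧
      ∀ (a : Ω) (ha : a ∈ P) x,
        e (lm (⟨a, hf.le ha⟩ : S) x) = lm (⟨f a, hf.mem ha⟩ : S) (e x) := by
  obtain ⟨e, he⟩ := hX.stable P f hf
  refine ⟨e, fun x b => ?_, fun a ha x => he a 1 ha S.one_mem x⟩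
  have h1 := he 1 (b⁻¹ : S) P.one_mem (b⁻¹ : S).2 x
  simp only [hf.map_one] at h1
  exact h1

/-- Transfer along the biset of a saturated system. -/
theorem exists_fusion_transfer [Finite S] [Fact p.Prime] (hS : IsPGroup p S)
    (hF : F.IsSaturated p) {A : Type*} [AddCommGroup A] (K : Subgroup S) [K.Normal] (lt : S → A)
    (hl : ∀ k ∈ K, ∀ g, lt (k * g) = lt k + lt g) (hr : ∀ k ∈ K, ∀ g, lt (g * k) = lt g + lt k)
    (hK : ∀ (P : Subgroup Ω) (f : Ω → Ω), MapTo F P f → ∃ c : S, ∀ (a b : S), (a : Ω) ∈ P →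
      f a = b → ((a * c * b⁻¹ : S) : S ⧸ K) = c) :
    ∃ (q : ℕ) (T : S → A), ¬ p ∣ q ∧
      (∀ a b, T (a * b) - T a - T b = q • (lt (a * b) - lt a - lt b)) ∧
      (∀ (P : Subgroup Ω) (f : Ω → Ω) (hf : MapTo F P f) (x : Ω) (hx : x ∈ P),
        (⟨x, hf.le hx⟩ : S) ∈ K → (⟨f x, hf.mem hx⟩ : S) ∈ K →
          T ⟨x, hf.le hx⟩ = T ⟨f x, hf.mem hx⟩) ∧
      (∀ z : S, ∀ (N : Subgroup S) (_ : N.Normal), (∀ k ∈ N, ∀ g, lt (g * k) = lt g) →
        (∀ a b, lt (a * b) = lt a + lt b) →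
        (∀ (P : Subgroup Ω) (f : Ω → Ω), MapTo F P f → ∀ (a b : S), (a : Ω) ∈ P → f a = b →
          a ∈ Subgroup.zpowers z → ((a * b⁻¹ : S) : S ⧸ N) = 1) → T z = q • lt z) := by
  obtain ⟨X, m, hX, hm, hcard⟩ := exists_stableBiset hS hF
  let := pairAct X
  obtain ⟨π, hπl, hπr⟩ := exists_equivariant_quot (X := X.carrier) (⊤ : Subgroup S) K fun x => by
    obtain ⟨P, f, hf, hfix⟩ := hX.fix_iff x
    obtain ⟨c, hc⟩ := hK P f hf
    exact ⟨c, fun a _ b h => hc a b (hfix a b h).1 (hfix a b h).2⟩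
  obtain ⟨q, T, hq, hT1, hT2, hT3⟩ := exists_transfer hX.free K lt hl hr π
    (fun a x => hπl a (Subgroup.mem_top a) x) hπr
  refine ⟨q, T, fun hpq => hm ?_, hT1, fun P f hf x hx h1 h2 => ?_, fun z N _ hN hlin hz => ?_⟩
  · rw [hq] at hcard
    exact (Nat.modEq_zero_iff_dvd).mp
      ((Nat.ModEq.mul_right_cancel' Nat.card_pos.ne' hcard).symm.trans
        (Nat.modEq_zero_iff_dvd.mpr hpq))
  · obtain ⟨e, he1, he2⟩ := hX.translate hf
    exact hT2 _ h1 _ h2 e he1 (he2 x hx)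
  · obtain ⟨π', hπ'l, hπ'r⟩ := exists_equivariant_quot (X := X.carrier) (Subgroup.zpowers z) N
      fun x => by
        obtain ⟨P, f, hf, hfix⟩ := hX.fix_iff x
        refine ⟨1, fun a ha b h => ?_⟩
        rw [mul_one, QuotientGroup.mk_one]
        exact hz P f hf a b (hfix a b h).1 (hfix a b h).2 ha
    let lb : S ⧸ N → A := Quotient.lift lt fun a b hab => by
      have h := hN _ (QuotientGroup.leftRel_apply.mp hab) a
      rwa [mul_inv_cancel_left, eq_comm] at h
    have hlb : ∀ u v : S ⧸ N, lb (u * v) = lb u + lb v := fun u v => by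
      obtain ⟨a, rfl⟩ := QuotientGroup.mk_surjective u
      obtain ⟨b, rfl⟩ := QuotientGroup.mk_surjective v
      exact hlin a b
    refine hT3 z (fun x => lb (π' x)) (fun x b => ?_) (fun x => ?_)
    · show lb (π' (rm x b)) = _
      rw [hπ'r, hlb]
      rfl
    · show lb (π' (lm z x)) = _
      rw [hπ'l z (Subgroup.mem_zpowers z), hlb, add_comm]
      rfl

theorem eq_zero_of_nsmul_eq_zero {A : Type*} [AddCommGroup A] {a : A} {q n : ℕ} (hp : p.Prime)
    (hq : ¬ p ∣ q) (h1 : q • a = 0) (h2 : p ^ n • a = 0) : a = 0 := by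
  have h := Nat.dvd_gcd (addOrderOf_dvd_iff_nsmul_eq_zero.mpr h1)
    (addOrderOf_dvd_iff_nsmul_eq_zero.mpr h2)
  rw [((hp.coprime_iff_not_dvd.mpr hq).symm.pow_right n).gcd_eq_one, Nat.dvd_one] at h
  exact AddMonoid.addOrderOf_eq_one_iff.mp h

/-- The focal subgroup meets the centre of the system inside the derived group of `S`. -/
theorem focal_inf_center_le [Finite S] [Fact p.Prime] (hS : IsPGroup p S) (hF : F.IsSaturated p) :
    F.focalSubgroup ⊓ F.center ≤ ⁅S, S⁆ := by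
  rintro z ⟨hzf, hzc⟩
  have hC := isCentral_center F
  have hfix : ∀ {P : Subgroup Ω} {f : Ω → Ω}, MapTo F P f → ∀ x ∈ P, x ∈ F.center → f x = x :=
    fun {P f} hf x hx hxc => by
      obtain ⟨g, -, hgf, hgC⟩ := (isCentral_iff.mp hC).2 P f hf
      rw [← hgf x hx, hgC x hxc]
  have hzS : z ∈ S := hC.1 hzc
  let lt : S → Additive (Abelianization S) := fun s => Additive.ofMul (Abelianization.of s)
  have hlin : ∀ a b, lt (a * b) = lt a + lt b := fun a b =>
    congrArg Additive.ofMul (_root_.map_mul Abelianization.of a b)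
  obtain ⟨q, T, hq, hT1, hT2, hT3⟩ := exists_fusion_transfer hS hF (⊤ : Subgroup S) lt
    (fun k _ g => hlin k g) (fun k _ g => hlin g k) fun P f _ =>
      ⟨1, fun a b _ _ => QuotientGroup.eq.mpr (Subgroup.mem_top _)⟩
  have hTadd : ∀ a b, T (a * b) = T a + T b := fun a b => by
    have h := hT1 a b
    rw [hlin, add_sub_cancel_left, sub_self, nsmul_zero, sub_sub, sub_eq_zero] at h
    exact h
  let Th : S →* Multiplicative (Additive (Abelianization S)) :=
    MonoidHom.mk' (fun s => Multiplicative.ofAdd (T s)) fun a b =>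
      congrArg Multiplicative.ofAdd (hTadd a b)
  have hfoc : F.focalSubgroup ≤ Th.ker.map S.subtype := by
    refine focal_le_iff.mpr fun P f hf x hx => ?_
    refine ⟨(⟨x, hf.le hx⟩ : S)⁻¹ * ⟨f x, hf.mem hx⟩, ?_, rfl⟩
    show Th _ = 1
    rw [_root_.map_mul, _root_.map_inv, inv_mul_eq_one]
    exact congrArg Multiplicative.ofAdd (hT2 P f hf x hx (Subgroup.mem_top _) (Subgroup.mem_top _))
  obtain ⟨⟨z', hz'S⟩, hz'k, hz'⟩ := hfoc hzf
  obtain rfl : z' = z := hz'
  have hTz : T ⟨z', hzS⟩ = 0 := hz'k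
  rw [hT3 ⟨z', hzS⟩ (commutator S) inferInstance
    (fun k hk g => by
      rw [hlin, show lt k = 0 from ?_, add_zero]
      exact congrArg Additive.ofMul ((QuotientGroup.eq_one_iff k).mpr hk)) hlin
    (fun P f hf a b haP hab haz => ?_)] at hTz
  · obtain ⟨i, hi⟩ := hS ⟨z', hzS⟩
    have h1 : p ^ i • lt ⟨z', hzS⟩ = 0 := by
      show Additive.ofMul ((Abelianization.of (⟨z', hzS⟩ : S)) ^ (p ^ i)) = 0
      rw [← _root_.map_pow, hi, _root_.map_one]
      rfl
    have h2 : (⟨z', hzS⟩ : S) ∈ commutator S :=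
      (QuotientGroup.eq_one_iff _).mp (eq_zero_of_nsmul_eq_zero Fact.out hq hTz h1)
    rw [← Subgroup.map_subtype_commutator]
    exact ⟨_, h2, rfl⟩
  · obtain ⟨k, rfl⟩ := haz
    have hb : b = (⟨z', hzS⟩ : S) ^ k := Subtype.ext (by
      rw [← hab]
      exact hfix hf _ haP (by rw [Subgroup.coe_zpow]; exact F.center.zpow_mem hzc k))
    rw [hb, mul_inv_cancel, QuotientGroup.mk_one]

/-- A homomorphism to a group of exponent `p` kills the Frattini subgroup. -/
theorem frattini_le_ker {G H : Type*} [Group G] [Finite G] [CommGroup H] (hp : p.Prime)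
    (μ : G →* H) (hH : ∀ h : H, h ^ p = 1) : frattini G ≤ μ.ker := by
  intro g hg
  by_contra hne
  have hfin : Set.Finite {W : Subgroup G | μ.ker ≤ W ∧ g ∉ W} :=
    (Set.toFinite (Set.univ : Set (Subgroup G))).subset (Set.subset_univ _)
  obtain ⟨W, ⟨hW, hgW⟩, hmax⟩ := hfin.exists_maximal ⟨μ.ker, le_rfl, hne⟩
  refine hgW (frattini_le_coatom ⟨fun h => hgW (by rw [h]; exact Subgroup.mem_top g), fun U hWU => ?_⟩ hg)
  have hgU : g ∈ U := by
    by_contra h
    exact hWU.not_ge (hmax ⟨hW.trans hWU.le, h⟩ hWU.le)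
  rw [eq_top_iff]
  intro u _
  by_contra huU
  have hWn : ∀ x, ∀ y ∈ W, x * y * x⁻¹ ∈ W := fun x y hy => by
    have hk : y⁻¹ * (x * y * x⁻¹) ∈ μ.ker := by
      rw [MonoidHom.mem_ker]
      simp only [_root_.map_mul, _root_.map_inv, mul_inv_cancel_comm, inv_mul_cancel]
    have := W.mul_mem hy (hW hk)
    rwa [mul_inv_cancel_left] at this
  let W' : Subgroup G :=
    { carrier := {x | ∃ w ∈ W, ∃ i : ℤ, x = w * u ^ i}
      one_mem' := ⟨1, W.one_mem, 0, by simp⟩
      mul_mem' := by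
        rintro a b ⟨w, hw, i, rfl⟩ ⟨v, hv, j, rfl⟩
        refine ⟨w * (u ^ i * v * (u ^ i)⁻¹), W.mul_mem hw (hWn _ _ hv), i + j, ?_⟩
        rw [zpow_add]; group
      inv_mem' := by
        rintro a ⟨w, hw, i, rfl⟩
        refine ⟨(u ^ i)⁻¹ * w⁻¹ * (u ^ i)⁻¹⁻¹, hWn _ _ (W.inv_mem hw), -i, ?_⟩
        rw [zpow_neg]; group }
  have hWW' : W ≤ W' := fun w hw => ⟨w, hw, 0, by simp⟩
  have huW' : u ∈ W' := ⟨1, W.one_mem, 1, by simp⟩
  obtain ⟨w, hw, i, hi⟩ : g ∈ W' := by
    by_contra h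
    exact huU (hWU.le (hmax ⟨hW.trans hWW', h⟩ hWW' huW'))
  have hui : u ^ i ∈ U := by
    have := U.mul_mem (U.inv_mem (hWU.le hw)) hgU
    rwa [hi, inv_mul_cancel_left] at this
  have hup : u ^ (p : ℤ) ∈ U := hWU.le (hW (by
    rw [MonoidHom.mem_ker, zpow_natCast, _root_.map_pow, hH]))
  by_cases hdvd : (p : ℤ) ∣ i
  · obtain ⟨c, hc⟩ := hdvd
    refine hgW ?_
    rw [hi, hc, zpow_mul]
    exact W.mul_mem hw (W.zpow_mem (hW (by
      rw [MonoidHom.mem_ker, zpow_natCast, _root_.map_pow, hH])) c)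
  · obtain ⟨a, b, hab⟩ := ((Nat.prime_iff_prime_int.mp hp).coprime_iff_not_dvd.mpr hdvd)
    refine huU ?_
    have := U.mul_mem (U.zpow_mem hup a) (U.zpow_mem hui b)
    rwa [← zpow_mul, ← zpow_mul, ← zpow_add, mul_comm (p : ℤ) a, mul_comm i b, hab, zpow_one]
      at this

/-- A nontrivial normal subgroup of a finite `p`-group has a normal subgroup of index `p` whose
quotient is central. -/
theorem exists_central_index_p {G : Type*} [Group G] [Finite G] [Fact p.Prime] (hG : IsPGroup p G)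
    (K : Subgroup G) [K.Normal] (hK : K ≠ ⊥) :
    ∃ (N : Subgroup G) (_ : N.Normal), N ≤ K ∧ Nat.card (K.map (QuotientGroup.mk' N)) = p ∧
      K.map (QuotientGroup.mk' N) ≤ Subgroup.center (G ⧸ N) := by
  have hfin : Set.Finite {N : Subgroup G | N.Normal ∧ N < K} :=
    (Set.toFinite (Set.univ : Set (Subgroup G))).subset (Set.subset_univ _)
  obtain ⟨N, ⟨hNn, hNK⟩, hmax⟩ :=
    hfin.exists_maximal ⟨⊥, inferInstance, bot_lt_iff_ne_bot.mpr hK⟩
  refine ⟨N, hNn, hNK.le, ?_⟩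
  set π := QuotientGroup.mk' N with hπ
  set Kb := K.map π with hKb
  have hKbn : Kb.Normal :=
    (inferInstance : K.Normal).map π (QuotientGroup.mk'_surjective N)
  have hKbne : Kb ≠ ⊥ := fun h => hNK.not_ge fun x hx => by
    have : π x ∈ Kb := ⟨x, hx, rfl⟩
    rw [h, Subgroup.mem_bot] at this
    exact (QuotientGroup.eq_one_iff x).mp this
  have : Nontrivial Kb := (Subgroup.nontrivial_iff_ne_bot Kb).mpr hKbne
  have hc : ∃ z ∈ Kb, z ∈ Subgroup.center (G ⧸ N) ∧ orderOf z = p := by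
    have hne : Kb ⊓ Subgroup.center (G ⧸ N) ≠ ⊥ := by
      intro hbot
      have hQ : IsPGroup p (ConjAct (G ⧸ N)) :=
        (hG.to_quotient N).of_equiv (ConjAct.toConjAct (G := G ⧸ N))
      have hone : (1 : Kb) ∈ MulAction.fixedPoints (ConjAct (G ⧸ N)) Kb := fun c =>
        Subtype.ext (by rw [ConjAct.Subgroup.val_conj_smul, Subgroup.coe_one, smul_one])
      have hdvd : p ∣ Nat.card Kb := by
        obtain ⟨n, hn⟩ := ((hG.to_quotient N).to_subgroup Kb).exists_card_eq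
        rcases n with _ | n
        · exact absurd (Subgroup.card_eq_one.mp (by rw [hn, pow_zero])) hKbne
        · exact hn ▸ dvd_pow_self p (Nat.succ_ne_zero n)
      obtain ⟨b, hb, hb1⟩ := hQ.exists_fixed_point_of_prime_dvd_card_of_fixed_point Kb hdvd hone
      refine hb1 (Subtype.ext (Subgroup.mem_bot.mp (hbot.le ⟨b.2, ?_⟩)).symm)
      refine Subgroup.mem_center_iff.mpr fun g => ?_
      have h1 := congrArg Subtype.val (hb (ConjAct.toConjAct g))
      rw [ConjAct.Subgroup.val_conj_smul, ConjAct.smul_def, ConjAct.ofConjAct_toConjAct,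
        mul_inv_eq_iff_eq_mul] at h1
      exact h1
    obtain ⟨y, hy, hy1⟩ := (Subgroup.bot_or_exists_ne_one _).resolve_left hne
    obtain ⟨k, hk⟩ := isPGroup_iff_orderOf_dvd_pow.mp (hG.to_quotient N) y
    obtain ⟨j, -, hj⟩ := (Nat.dvd_prime_pow Fact.out).mp hk
    have hjpos : j ≠ 0 := fun h => hy1 (orderOf_eq_one_iff.mp (by rw [hj, h, pow_zero]))
    refine ⟨y ^ p ^ (j - 1), (Kb.pow_mem hy.1 _), (Subgroup.center _).pow_mem hy.2 _, ?_⟩
    rw [orderOf_pow, hj, Nat.gcd_eq_right (pow_dvd_pow p (by omega)),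
      Nat.pow_div (by omega) (Fact.out : p.Prime).pos,
      show j - (j - 1) = 1 by omega, pow_one]
  obtain ⟨z, hzK, hzC, hz⟩ := hc
  have hzn : (Subgroup.zpowers z).Normal := ⟨fun a ha g => by
    have ha' : a ∈ Subgroup.center (G ⧸ N) := (Subgroup.zpowers_le.mpr hzC) ha
    rwa [Subgroup.mem_center_iff.mp ha' g, mul_inv_cancel_right]⟩
  set M := (Subgroup.zpowers z).comap π with hM
  have hNM : N ≤ M := fun x hx => by
    show π x ∈ Subgroup.zpowers z
    rw [show π x = 1 from (QuotientGroup.eq_one_iff x).mpr hx]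
    exact Subgroup.one_mem _
  have hMK : M ≤ K := fun x hx => by
    obtain ⟨k, hk, hkx⟩ := (Subgroup.zpowers_le.mpr hzK) (hx : π x ∈ Subgroup.zpowers z)
    have := K.mul_mem hk (hNK.le (QuotientGroup.eq.mp hkx))
    rwa [mul_inv_cancel_left] at this
  have hMeq : M = K := by
    by_contra hne
    have hle := hmax ⟨hzn.comap π, lt_of_le_of_ne hMK hne⟩ hNM
    obtain ⟨x, rfl⟩ := QuotientGroup.mk'_surjective N z
    have hx : x ∈ N := hle (show π x ∈ _ from Subgroup.mem_zpowers _)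
    have : orderOf (π x) = 1 := orderOf_eq_one_iff.mpr ((QuotientGroup.eq_one_iff x).mpr hx)
    rw [hz] at this
    exact (Fact.out : p.Prime).one_lt.ne' this
  have hKb' : Kb = Subgroup.zpowers z := by
    rw [hKb, ← hMeq, hM, Subgroup.map_comap_eq_self_of_surjective (QuotientGroup.mk'_surjective N)]
  refine ⟨by rw [hKb', Nat.card_zpowers, hz], hKb' ▸ Subgroup.zpowers_le.mpr hzC⟩

/-- Fusion form of Tate's theorem: if the hyperfocal subgroup lies in `Φ(S)` it is trivial. -/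
theorem hyperfocal_eq_bot_of_le_frattini [Finite S] [Fact p.Prime] (hS : IsPGroup p S)
    (hF : F.IsSaturated p) (h : F.hyperfocalSubgroup p ≤ (frattini S).map S.subtype) :
    F.hyperfocalSubgroup p = ⊥ := by
  classical
  by_contra hne
  set H := F.hyperfocalSubgroup p with hH
  set K : Subgroup S := H.subgroupOf S with hK
  have hmK : ∀ {s : S}, s ∈ K ↔ (s : Ω) ∈ H := Subgroup.mem_subgroupOf
  have : K.Normal := ⟨fun n hn g => hmK.mpr (hyperfocal_conj_mem g.2 (hmK.mp hn))⟩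
  obtain ⟨N, hNn, hNK, hcard, hcen⟩ := exists_central_index_p hS K fun hb => hne (by
    rw [hH, ← Subgroup.map_subgroupOf_eq_of_le (hyperfocal_le (F := F) (p := p)), ← hH, ← hK, hb,
      Subgroup.map_bot])
  set π := QuotientGroup.mk' N with hπ
  let Kb := K.map π
  have : IsCyclic Kb := isCyclic_of_prime_card hcard
  let : CommGroup Kb := { (inferInstance : Group Kb) with
    mul_comm := fun a b => Subtype.ext (Subgroup.mem_center_iff.mp (hcen b.2) a) }
  have hexp : ∀ a : Kb, a ^ p = 1 := fun a =>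
    orderOf_dvd_iff_pow_eq_one.mp (hcard ▸ orderOf_dvd_natCard a)
  -- a section of `S ⧸ K`
  let sec : S ⧸ K → S := fun w => w.out * (Quotient.out (1 : S ⧸ K))⁻¹
  have hsec1 : sec 1 = 1 := mul_inv_cancel _
  have hsec : ∀ g : S, g * (sec g)⁻¹ ∈ K := fun g => by
    rw [← QuotientGroup.eq_one_iff, QuotientGroup.mk_mul, QuotientGroup.mk_inv,
      QuotientGroup.mk_mul, QuotientGroup.mk_inv, QuotientGroup.out_eq', QuotientGroup.out_eq']
    group
  let lam : S → Kb := fun g => ⟨π (g * (sec g)⁻¹), ⟨_, hsec g, rfl⟩⟩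
  have hlamK : ∀ k ∈ K, (lam k : S ⧸ N) = π k := fun k hk => by
    show π (k * (sec (k : S ⧸ K))⁻¹) = π k
    rw [(QuotientGroup.eq_one_iff k).mpr hk, hsec1, inv_one, mul_one]
  let lt : S → Additive Kb := fun g => Additive.ofMul (lam g)
  have hl : ∀ k ∈ K, ∀ g, lt (k * g) = lt k + lt g := fun k hk g => by
    refine congrArg Additive.ofMul (Subtype.ext ?_)
    show π (k * g * (sec ((k * g : S) : S ⧸ K))⁻¹) = (lam k : S ⧸ N) * π (g * (sec g)⁻¹)
    rw [hlamK k hk, QuotientGroup.mk_mul, (QuotientGroup.eq_one_iff k).mpr hk, one_mul,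
      mul_assoc, _root_.map_mul]
  have hr : ∀ k ∈ K, ∀ g, lt (g * k) = lt g + lt k := fun k hk g => by
    refine congrArg Additive.ofMul (Subtype.ext ?_)
    show π (g * k * (sec ((g * k : S) : S ⧸ K))⁻¹) = π (g * (sec g)⁻¹) * (lam k : S ⧸ N)
    rw [hlamK k hk, QuotientGroup.mk_mul, (QuotientGroup.eq_one_iff k).mpr hk, mul_one,
      _root_.map_mul, _root_.map_mul, _root_.map_mul, mul_assoc, mul_assoc]
    congr 1
    exact (Subgroup.mem_center_iff.mp (hcen ⟨k, hk, rfl⟩) _).symm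
  -- every map is conjugation modulo `H`
  have hconj : ∀ {P : Subgroup Ω} {f : Ω → Ω}, MapTo F P f →
      ∃ c : S, ∀ x ∈ P, (f x)⁻¹ * ((c : Ω) * x * (c : Ω)⁻¹) ∈ H := by
    intro P f hf
    refine alperin_prop hS hF
      (fun P f => ∃ c : S, ∀ x ∈ P, (f x)⁻¹ * ((c : Ω) * x * (c : Ω)⁻¹) ∈ H) ?_ ?_ ?_ ?_ ?_ hf
    · rintro P f g _ ⟨c, hc⟩ hg
      exact ⟨c, fun x hx => by rw [hg x hx]; exact hc x hx⟩
    · intro P g hP hg
      exact ⟨⟨g, hg⟩, fun x _ => (inv_mul_cancel (g * x * g⁻¹)).symm ▸ H.one_mem⟩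
    · rintro P Q f g hf' hg' hm ⟨c, hc⟩ ⟨d, hd⟩
      refine ⟨d * c, fun x hx => ?_⟩
      have h1 := H.mul_mem (hd _ (hm x hx)) (hyperfocal_conj_mem d.2 (hc x hx))
      convert h1 using 1
      rw [Subgroup.coe_mul]
      group
    · rintro P f g hf' hg' hgf ⟨c, hc⟩
      refine ⟨c⁻¹, fun y hy => ?_⟩
      obtain ⟨x, hx, rfl⟩ := (hf'.mem_img_iff le_rfl).mp hy
      rw [hgf x hx]
      have h1 := hyperfocal_conj_mem (S.inv_mem c.2)
        (hyperfocal_conj_mem (hf'.mem hx) (H.inv_mem (hc x hx)))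
      have h2 := hyperfocal_conj_mem (S.inv_mem (hf'.le hx)) h1
      convert h2 using 1
      rw [Subgroup.coe_inv]
      group
    · intro Q hQ α hα
      have hQn := isFullyNormalized_of_eq_top_or_essential hQ
      obtain ⟨β, hβ, c, hc, rfl⟩ := exists_eq_mul_of_isFullyNormalized hS hF hQn hα
      obtain ⟨s, hs, hsc⟩ := mem_autInducedBy_iff_cj.mp hc
      refine ⟨⟨s, hs⟩, fun x hx => ?_⟩
      rw [autFun_mul _ _ hx]
      set y := autFun c x with hy
      have hyQ : y ∈ Q := autFun_mem c hx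
      have h1 := H.inv_mem (mem_hyperfocal hQn.1 hβ hyQ)
      rw [mul_inv_rev, inv_inv] at h1
      rw [← cj_apply, ← hsc x hx]
      exact h1
  obtain ⟨q, T, hq, hT1, hT2, -⟩ := exists_fusion_transfer hS hF K lt hl hr fun P f hf => by
    obtain ⟨c, hc⟩ := hconj hf
    refine ⟨c⁻¹, fun a b ha hab => ?_⟩
    rw [eq_comm, QuotientGroup.eq, hmK]
    have h1 := hc a ha
    rw [hab] at h1
    have h2 : (c : Ω) * (a : Ω) * (c : Ω)⁻¹ * (b : Ω)⁻¹ ∈ H := by
      have := hyperfocal_conj_mem b.2 h1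
      rwa [mul_inv_cancel_left] at this
    convert h2 using 1
    push_cast
    group
  let μ : S →* Kb := MonoidHom.mk' (fun g => Additive.toMul (q • lt g - T g)) fun a b => by
    have h1 := hT1 a b
    rw [← toMul_add]
    congr 1
    rw [sub_sub, sub_eq_iff_eq_add, nsmul_sub, nsmul_sub] at h1
    rw [h1]; abel
  have hμ : K ≤ μ.ker := fun k hk => by
    obtain ⟨k', hk', hkk⟩ := h (hmK.mp hk)
    obtain rfl : k' = k := Subtype.ext hkk
    exact frattini_le_ker Fact.out μ hexp hk'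
  have hinv : ∀ {P : Subgroup Ω} {f : Ω → Ω} (hf : MapTo F P f) {x : Ω} (hx : x ∈ P) (hxH : x ∈ H)
      (hfxH : f x ∈ H),
      π (⟨x, hf.le hx⟩ : S) = π (⟨f x, hf.mem hx⟩ : S) := by
    intro P f hf x hx hxH hfxH
    have hT := hT2 P f hf x hx (hmK.mpr hxH) (hmK.mpr hfxH)
    have hk : ∀ k ∈ K, T k = q • lt k := fun k hk => by
      have h1 : q • lt k - T k = 0 := hμ hk
      exact (sub_eq_zero.mp h1).symm
    rw [hk _ (hmK.mpr hxH), hk _ (hmK.mpr hfxH), ← sub_eq_zero, ← nsmul_sub] at hT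
    have h2 : lt ⟨x, hf.le hx⟩ = lt ⟨f x, hf.mem hx⟩ := by
      refine sub_eq_zero.mp (eq_zero_of_nsmul_eq_zero Fact.out hq hT (n := 1) ?_)
      rw [pow_one]
      exact hexp _
    have h3 := congrArg (fun a : Kb => (a : S ⧸ N)) (Additive.ofMul.injective h2)
    rwa [hlamK _ (hmK.mpr hxH), hlamK _ (hmK.mpr hfxH)] at h3
  have hle : H ≤ N.map S.subtype := by
    refine hyperfocal_le_iff.mpr fun P hP => oP_induction
      (C := fun α => ∀ x ∈ P, x⁻¹ * autFun α x ∈ N.map S.subtype) ?_ ?_ ?_ ?_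
    · intro x hx
      rw [autFun_one hx, inv_mul_cancel]
      exact Subgroup.one_mem _
    · intro a b _ _ ha hb x hx
      have h1 := Subgroup.mul_mem _ (hb x hx) (ha _ (autFun_mem b hx))
      rw [autFun_mul _ _ hx]
      convert h1 using 1
      group
    · intro a _ ha x hx
      have h1 := Subgroup.inv_mem _ (ha _ (autFun_mem a⁻¹ hx))
      rw [autFun_autFun_inv a hx] at h1
      convert h1 using 1
      group
    · intro α hα hcop x hx
      have hm := mapTo_of_mem_autGroup hP hα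
      set d := x⁻¹ * autFun α x with hd
      have hdP : d ∈ P := P.mul_mem (P.inv_mem hx) (autFun_mem α hx)
      have hdH : d ∈ H := mem_hyperfocal hP (mem_oP_of_coprime hα hcop) hx
      have hαdH : autFun α d ∈ H := by
        have h1 := H.mul_mem hdH (mem_hyperfocal hP (mem_oP_of_coprime hα hcop) hdP)
        rwa [mul_inv_cancel_left] at h1
      have hfix := hinv hm hdP hdH hαdH
      let ψ : P →* S ⧸ N := π.comp (Subgroup.inclusion hP)
      have hstep : ∀ n : ℕ, ψ ⟨autFun (α ^ n) x, autFun_mem _ hx⟩ =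
          ψ ⟨x, hx⟩ * ψ ⟨d, hdP⟩ ^ n := by
        intro n
        have hfix' : ∀ n : ℕ, ψ ⟨autFun (α ^ n) d, autFun_mem _ hdP⟩ = ψ ⟨d, hdP⟩ := by
          intro n
          induction n with
          | zero => exact congrArg ψ (Subtype.ext (autFun_one hdP))
          | succ n ih =>
              rw [← ih]
              have hH' : autFun (α ^ n) d ∈ H := by
                have h1 := H.mul_mem hdH (mem_hyperfocal hP
                  (Subgroup.pow_mem _ (mem_oP_of_coprime hα hcop) n) hdP)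
                rwa [mul_inv_cancel_left] at h1
              have hH'' : autFun α (autFun (α ^ n) d) ∈ H := by
                have h1 := H.mul_mem hH' (mem_hyperfocal hP (mem_oP_of_coprime hα hcop)
                  (autFun_mem (α ^ n) hdP))
                rwa [mul_inv_cancel_left] at h1
              refine Eq.trans ?_ (hinv hm (autFun_mem (α ^ n) hdP) hH' hH'').symm
              exact congrArg π (Subtype.ext (by
                show autFun (α ^ (n + 1)) d = autFun α (autFun (α ^ n) d)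
                rw [pow_succ', autFun_mul _ _ hdP]))
        induction n with
        | zero => simp only [pow_zero, mul_one]; exact congrArg ψ (Subtype.ext (autFun_one hx))
        | succ n ih =>
            have he : (⟨autFun (α ^ (n + 1)) x, autFun_mem _ hx⟩ : P) =
                ⟨autFun (α ^ n) x, autFun_mem _ hx⟩ * ⟨autFun (α ^ n) d, autFun_mem _ hdP⟩ := by
              refine Subtype.ext ?_
              show autFun (α ^ (n + 1)) x = autFun (α ^ n) x * autFun (α ^ n) d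
              rw [← (mapTo_of_mem_autGroup hP (Subgroup.pow_mem _ hα n)).map_mul hx hdP, hd,
                mul_inv_cancel_left, pow_succ, autFun_mul _ _ hx]
            rw [he, _root_.map_mul, ih, hfix' n, pow_succ, mul_assoc]
      have h1 := hstep (orderOf α)
      rw [show (⟨autFun (α ^ orderOf α) x, autFun_mem _ hx⟩ : P) = ⟨x, hx⟩ from
        Subtype.ext (by show autFun _ x = x; rw [pow_orderOf_eq_one, autFun_one hx])] at h1
      obtain ⟨i, hi⟩ := (hS.to_quotient N) (ψ ⟨d, hdP⟩)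
      have h2 : ψ ⟨d, hdP⟩ = 1 := orderOf_eq_one_iff.mp
        (Nat.eq_one_of_dvd_coprimes (hcop.pow_right i) (orderOf_dvd_of_pow_eq_one (by simpa using h1))
          (orderOf_dvd_of_pow_eq_one hi))
      exact ⟨⟨d, hP hdP⟩, (QuotientGroup.eq_one_iff _).mp h2, rfl⟩
  have hKN : K ≤ N := fun k hk => by
    obtain ⟨n, hn, hnk⟩ := hle (hmK.mp hk)
    rwa [← show n = k from Subtype.ext hnk]
  have hbot : K.map π = ⊥ := by
    rw [eq_bot_iff]
    rintro _ ⟨k, hk, rfl⟩
    exact (QuotientGroup.eq_one_iff k).mpr (hKN hk)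
  rw [hbot, Subgroup.card_bot] at hcard
  exact (Fact.out : p.Prime).one_lt.ne hcard

/-- Trivial hyperfocal subgroup: the system is the inner one. -/
theorem eq_inner_of_hyperfocal_eq_bot [Finite S] [Fact p.Prime] (hS : IsPGroup p S)
    (hF : F.IsSaturated p) (h : F.hyperfocalSubgroup p = ⊥) : F = innerFusionSystem S := by
  refine fusionSystem_ext fun P f => ⟨fun hf => ?_, fun hf => ?_⟩
  · refine alperin_prop hS hF (fun P f => MapTo (innerFusionSystem S) P f)
      (fun _ hC hg => hC.congr' hg) (fun hP hg => mapTo_cj hP hg)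
      (fun _ _ hm h1 h2 => h1.comp h2 hm) ?_ ?_ hf
    · intro P f g hf' _ hgf hC
      obtain ⟨g', hg', hg'f, -, -⟩ := hC.exists_iso_inverse
      refine hg'.congr' fun y hy => ?_
      obtain ⟨x, hx, rfl⟩ := (hf'.mem_img_iff le_rfl).mp hy
      rw [hgf x hx, hg'f x hx]
    · intro Q hQ α hα
      have hQn := isFullyNormalized_of_eq_top_or_essential hQ
      obtain ⟨β, hβ, c, hc, rfl⟩ := exists_eq_mul_of_isFullyNormalized hS hF hQn hα
      obtain ⟨s, hs, hsc⟩ := mem_autInducedBy_iff_cj.mp hc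
      refine (mapTo_cj hQn.1 hs).congr' fun x hx => ?_
      rw [autFun_mul _ _ hx, ← hsc x hx]
      have h1 := mem_hyperfocal (p := p) hQn.1 hβ (autFun_mem c hx)
      rw [h, Subgroup.mem_bot, inv_mul_eq_one] at h1
      exact h1.symm
  · obtain ⟨hP, g, hg, hx⟩ := mapTo_inner_iff.mp hf
    exact (mapTo_cj hP hg).congr' hx

end Cfsg.Agent.Fusion
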