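import Mathlib
import Cfsg.Agent.Lib.Fusion.LocalControl
import Cfsg.Agent.Lib.Fusion.InnerCriteria
import Cfsg.Agent.Lib.Fusion.CentralQuotient
import Cfsg.Agent.Lib.Fusion.KNormalizer
import Cfsg.Agent.Lib.Fusion.Transfer

/-!
# Decomposition of maps at a normal subgroup

For `Q` normal in a saturated system, every map is put together from maps normalizing `Q C_S(Q)`
and maps fixing `Q`; the maps acting on `Q` as elements of `S` form a saturated system. The focal
subgroup meets a normal subgroup with `p`-group automizer inside the derived group.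
-/

set_option autoImplicit false

namespace Cfsg.Agent.Fusion

open Cfsg.FusionSystem (centralizerIn normalizerIn imageAlong preimageAlong)
open scoped commutatorElement

universe u

variable {Ω : Type u} [Group Ω] {S : Subgroup Ω} {F : FusionSystem S}
variable {P Q R : Subgroup Ω} {f : Ω → Ω} {p : ℕ}

theorem le_core (hQ : F.IsNormal Q) : Q ≤ F.core := le_sSup hQ

/-- A nontrivial subgroup normalized by the `p`-group `S` contains an element centralized by it. -/
theorem inf_centralizer_ne_bot [Finite S] [Fact p.Prime] (hS : IsPGroup p S) (hQS : Q ≤ S)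
    (hn : S ≤ Subgroup.normalizer (Q : Set Ω)) (hQ : Q ≠ ⊥) :
    Q ⊓ Subgroup.centralizer (S : Set Ω) ≠ ⊥ := by
  classical
  have := finite_of_le hQS
  haveI hN : (Q.subgroupOf S).Normal :=
    (Subgroup.normal_subgroupOf_iff_le_normalizer hQS).mpr hn
  letI := MulAction.compHom (↥(Q.subgroupOf S)) (MulAut.conjNormal (G := S) (H := Q.subgroupOf S))
  have hne : Nontrivial (Q.subgroupOf S) := by
    rw [Subgroup.nontrivial_iff_ne_bot]
    intro h
    exact hQ (by rw [← Subgroup.map_subgroupOf_eq_of_le hQS, h, Subgroup.map_bot])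
  have hdvd : p ∣ Nat.card (Q.subgroupOf S) := by
    obtain ⟨n, hn'⟩ := IsPGroup.iff_card.mp (hS.to_subgroup (Q.subgroupOf S))
    rcases n with _ | n
    · rw [pow_zero] at hn'
      exact absurd hn' (Finite.one_lt_card (α := Q.subgroupOf S)).ne'
    · exact hn' ▸ dvd_pow_self p (Nat.succ_ne_zero n)
  obtain ⟨b, hb, hb1⟩ := hS.exists_fixed_point_of_prime_dvd_card_of_fixed_point
    (Q.subgroupOf S) hdvd (a := 1) (fun g => map_one (MulAut.conjNormal g))
  intro h
  apply hb1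
  have hb' : ((b : S) : Ω) ∈ Q ⊓ Subgroup.centralizer (S : Set Ω) := by
    refine ⟨b.2, Subgroup.mem_centralizer_iff.mpr fun y hy => ?_⟩
    have h1 := congrArg (fun w : Q.subgroupOf S => ((w : S) : Ω)) (hb ⟨y, hy⟩)
    simp only [MulAction.compHom_smul_def] at h1
    change y * ((b : S) : Ω) * y⁻¹ = ((b : S) : Ω) at h1
    exact mul_inv_eq_iff_eq_mul.mp h1
  rw [h, Subgroup.mem_bot] at hb'
  exact Subtype.ext (Subtype.ext hb'.symm)

/-- The image of a normal subgroup in a quotient is normal. -/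
theorem isNormal_image {Ω' : Type*} [Group Ω'] {S' : Subgroup Ω'} {E : FusionSystem S'}
    {θ : S →* Ω'} (h : F.IsSurjectiveMorphism E θ) (hQ : F.IsNormal Q) :
    E.IsNormal (imageAlong θ Q) := by
  refine isNormal_iff.mpr ⟨h.2.1 ▸ imageAlong_le_range, fun P' f' hf' => ?_⟩
  obtain ⟨hP'r, f, hf, hff⟩ := IsSurjectiveMorphism.exists_lift h hf'
  obtain ⟨g, hg, hgf, hgQ⟩ := (isNormal_iff.mp hQ).2 _ f hf
  obtain ⟨g', hg', hgg⟩ := IsMorphism.exists_map h.1 hg
  have hle : P' ⊔ imageAlong θ Q ≤ imageAlong θ (preimageAlong θ P' ⊔ Q) := by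
    refine sup_le (fun y hy => ?_) (fun y hy => ?_)
    · obtain ⟨x, hx, rfl⟩ := exists_preimage hP'r hy
      exact th_mem_imageAlong hg.le (Subgroup.mem_sup_left hx)
    · obtain ⟨x, hx, rfl⟩ := (mem_imageAlong hQ.1).mp hy
      exact th_mem_imageAlong hg.le (Subgroup.mem_sup_right hx)
  refine ⟨g', hg'.restrict hle, fun y hy => ?_, ?_⟩
  · obtain ⟨x, hx, rfl⟩ := exists_preimage hP'r hy
    rw [hgg x (Subgroup.mem_sup_left hx), hgf x hx, hff x hx]
  · have hm := (hg'.restrict hle).restrict (le_sup_right : imageAlong θ Q ≤ P' ⊔ imageAlong θ Q)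
    refine le_antisymm (img_le_of_forall fun y hy => ?_) fun y hy => ?_
    · obtain ⟨x, hx, rfl⟩ := (mem_imageAlong hQ.1).mp hy
      rw [hgg x (Subgroup.mem_sup_right hx)]
      exact th_mem_imageAlong hQ.1 (hgQ.le (mem_img_of_mem hx))
    · obtain ⟨w, hw, rfl⟩ := (mem_imageAlong hQ.1).mp hy
      obtain ⟨x, hx, rfl⟩ := (hg.mem_img_iff le_sup_right).mp (hgQ.ge hw)
      rw [← hgg x (Subgroup.mem_sup_right hx)]
      exact mem_img_of_mem (th_mem_imageAlong hQ.1 hx)

variable [Finite S] [Fact p.Prime]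

/-- The maps acting on a normal subgroup as elements of `S` form a saturated system. -/
theorem exists_innerOnSys (hS : IsPGroup p S) (hF : F.IsSaturated p) (hQ : F.IsNormal Q) :
    ∃ E : FusionSystem S, E.IsSaturated p ∧ ∀ P f, MapTo E P f ↔ P ≤ S ∧ (∀ x ∈ P, f x ∈ S) ∧
      ∃ g, MapTo F (P ⊔ Q) g ∧ (∀ x ∈ P, g x = f x) ∧ InK (autInducedBy S Q) g := by
  set K := autInducedBy S Q
  let C : Subgroup Ω → (Ω → Ω) → Prop := fun P f =>
    ∃ g, MapTo F (P ⊔ Q) g ∧ (∀ x ∈ P, g x = f x) ∧ InK K g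
  have hn := IsNormal.le_normalizer hQ
  have := finite_of_le hQ.1
  have hkey : ∀ n ∈ S, InK K (cj n) := fun n hn' => by
    obtain ⟨γ, hγ⟩ := exists_conjAut (P := Q) (hn hn')
    exact ⟨γ, mem_autInducedBy_iff_cj.mpr ⟨n, hn', hγ⟩, fun x hx => (hγ x hx).symm⟩
  let E := restrictSys F C
    (fun {P f g} _ ⟨e, he, hef, heK⟩ hgf => ⟨e, he, fun x hx => (hef x hx).trans (hgf x hx).symm, heK⟩)
    (fun {P g} hP hg => ⟨cj g, mapTo_cj (sup_le hP hQ.1) hg, fun _ _ => rfl, hkey g hg⟩)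
    (fun {P R f g} _ _ hfR ⟨e₁, he₁, he₁f, he₁K⟩ ⟨e₂, he₂, he₂g, he₂K⟩ => by
      refine ⟨fun x => e₂ (e₁ x), he₁.comp he₂ fun x hx => ?_, fun x hx => ?_, he₁K.comp he₂K⟩
      · have : img e₁ (P ⊔ Q) ≤ R ⊔ Q := by
          rw [he₁.img_sup le_sup_left le_sup_right, he₁K.img_eq]
          exact sup_le_sup_right (img_le_of_forall fun y hy => (he₁f y hy).symm ▸ hfR y hy) Q
        exact this (mem_img_of_mem hx)
      · show e₂ (e₁ x) = g (f x)
        rw [he₁f x hx, he₂g _ (hfR x hx)])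
    (fun {P f g} _ _ hgf ⟨e, he, hef, heK⟩ => by
      obtain ⟨k, hk, hke, -, -⟩ := he.exists_iso_inverse
      rw [he.img_sup le_sup_left le_sup_right, heK.img_eq, img_congr (f := e) (P := P) hef] at hk
      refine ⟨k, hk, fun y hy => ?_, heK.inverse fun x hx => hke x (Subgroup.mem_sup_right hx)⟩
      have hf' : MapTo F P f := (he.restrict le_sup_left).congr' fun x hx => (hef x hx).symm
      obtain ⟨x, hx, rfl⟩ := (hf'.mem_img_iff le_rfl).mp hy
      rw [hgf x hx, ← hef x hx, hke x (Subgroup.mem_sup_left hx)])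
  have hmap : ∀ P f, MapTo E P f ↔ P ≤ S ∧ (∀ x ∈ P, f x ∈ S) ∧ C P f := by
    intro P f
    constructor
    · rintro ⟨φ, ⟨hφ, e, he, hef, heK⟩, hφf⟩
      refine ⟨(F.le_of_mem hφ).1, fun x hx => hφf ⟨x, hx⟩ ▸ (F.le_of_mem hφ).2 ⟨x, hx⟩,
        e, he, fun x hx => ?_, heK⟩
      rw [hef x hx, ev_apply φ hx, hφf]
    · rintro ⟨-, -, e, he, hef, heK⟩
      obtain ⟨φ, hφ, hφe⟩ := he.restrict (le_sup_left : P ≤ P ⊔ Q)
      exact ⟨φ, ⟨hφ, e, he, fun x hx => by rw [ev_apply φ hx, hφe], heK⟩,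
        fun x => by rw [hφe, hef x x.2]⟩
  refine ⟨E, ?_, hmap⟩
  refine isSaturated_kSys hS hF hQ.1 (K := K) (fun f hf => ?_) (le_antisymm
    (fun x hx => mem_kNorm_id.mpr ⟨hx, hkey x hx⟩) fun x hx => hx.1) hmap
  have himg : img f Q = Q := StronglyClosed.img_eq (IsNormal.stronglyClosed hQ) hf le_rfl
  obtain ⟨δ, hδ, hδf, -, -⟩ := hf.exists_iso_inverse
  have hδQ : img δ (img f Q) = Q := by
    rw [hf.img_img le_rfl, img_congr (g := fun x : Ω => x) fun x hx => hδf x hx, img_id]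
  obtain ⟨ψ, hψ, hψδ⟩ := (isReceptive_iff.mp (isReceptive_of_isFullyNormalized hS hF
    (isFullyNormalized_of_normal hQ.1 hn))).2 _ δ hδ hδQ
  refine ⟨ψ, hψ.restrict (sup_le (fun y hy => ?_) (le_extSub hδ)), 1, K.one_mem, fun q hq => ?_⟩
  · obtain ⟨hyS, k, hk, hky⟩ := hy
    obtain ⟨n, hn', hnk⟩ := mem_autInducedBy_iff_cj.mp hk
    refine ⟨⟨hyS, himg.symm ▸ hn hyS⟩, n, hn', fun z hz => ?_⟩
    obtain ⟨q, hq, rfl⟩ := (hf.mem_img_iff le_rfl).mp hz
    rw [hky q hq, hδf q hq, hδf _ (autFun_mem k hq)]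
    exact hnk q hq
  · show ψ (f q) = _
    rw [hψδ _ (mem_img_of_mem hq), hδf q hq, autFun_one hq]

/-- Every map is put together from maps normalizing `Q C_S(Q)` and maps fixing `Q`. -/
theorem MapProp.of_decomp (M : MapProp F) (hS : IsPGroup p S) (hF : F.IsSaturated p)
    (hQ : F.IsNormal Q)
    (h₁ : ∀ (P : Subgroup Ω) (f : Ω → Ω),
      MapTo F (P ⊔ (Q ⊔ centralizerIn S Q)) f →
      img f (Q ⊔ centralizerIn S Q) = Q ⊔ centralizerIn S Q → M.C P f)
    (h₂ : ∀ (P : Subgroup Ω) (f : Ω → Ω), Q ≤ P → MapTo F P f → (∀ x ∈ Q, f x = x) → M.C P f)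
    (hf : MapTo F P f) : M.C P f := by
  refine alperin_prop hS hF M.C M.congr' M.conj M.comp M.inv (fun R hR α hα => ?_) hf
  obtain ⟨hQR, hinv⟩ := le_and_invariant_of_isNormal hS hQ R hR
  have hRS : R ≤ S := by
    rcases hR with rfl | hR
    · exact le_rfl
    · exact hR.1.1
  have := finite_of_le hRS
  set C := centralizerIn S Q with hC
  have hCS : C ≤ S := centralizerIn_le
  have hm := mapTo_of_mem_autGroup hRS hα
  have hmQ := hm.restrict hQR
  have himgQ : img (autFun α) Q = Q :=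
    StronglyClosed.img_eq (IsNormal.stronglyClosed hQ) hm hQR
  obtain ⟨e, he, heα⟩ := (isReceptive_iff.mp (isReceptive_of_isFullyNormalized hS hF
    (isFullyNormalized_of_normal hQ.1 (IsNormal.le_normalizer hQ)))).2 _ _ hmQ himgQ
  have hRe : R ≤ extSub S hmQ := fun r hr => by
    refine ⟨⟨hRS hr, IsNormal.le_normalizer hQ (hRS hr)⟩, autFun α r, hRS (autFun_mem α hr),
      fun q hq => ?_⟩
    exact hm.map_conj hr (hQR hq)
  have hCe : C ≤ extSub S hmQ := fun c hc => by
    refine ⟨centralizerIn_le_normalizerIn hc, 1, S.one_mem, fun q hq => ?_⟩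
    rw [← (mem_centralizerIn.mp hc).2 q hq, mul_inv_cancel_right, one_mul, inv_one, mul_one]
  have hQe : Q ≤ extSub S hmQ := le_extSub hmQ
  have he' : MapTo F (R ⊔ (Q ⊔ C)) e := he.restrict (sup_le hRe (sup_le hQe hCe))
  have heQ : img e Q = Q := by rw [img_congr (g := autFun α) heα, himgQ]
  have hfinQC := finite_of_le (sup_le hQ.1 hCS)
  have heQC : img e (Q ⊔ C) = Q ⊔ C := by
    refine img_eq_self_of_forall (he'.restrict le_sup_right) fun x hx => ?_
    have : img e (Q ⊔ C) ≤ Q ⊔ C := by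
      rw [he.img_sup hQe hCe, heQ]
      refine sup_le le_sup_left (le_trans (img_le_of_forall fun c hc => ?_) le_sup_right)
      have := he'.map_mem_centralizerIn (le_sup_of_le_right le_sup_left)
        (Subgroup.mem_sup_right (Subgroup.mem_sup_right hc)) hc
      rwa [heQ] at this
    exact this (mem_img_of_mem hx)
  have hC1 : M.C R e := h₁ R e he' heQC
  have heR := he'.restrict (le_sup_left : R ≤ R ⊔ (Q ⊔ C))
  obtain ⟨k, hk, hke, -, -⟩ := heR.exists_iso_inverse
  have hkm : ∀ y ∈ img e R, k y ∈ R := fun y hy => by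
    obtain ⟨x, hx, rfl⟩ := (heR.mem_img_iff le_rfl).mp hy
    rw [hke x hx]; exact hx
  have hγ := hk.comp hm hkm
  have hQeR : Q ≤ img e R := by
    conv_lhs => rw [← heQ]
    exact img_mono hQR
  have hC2 : M.C (img e R) (fun y => autFun α (k y)) := by
    refine h₂ _ _ hQeR hγ fun y hy => ?_
    obtain ⟨q, hq, rfl⟩ := ((he.restrict hQe).mem_img_iff le_rfl).mp (heQ.ge hy)
    rw [hke q (hQR hq), ← heα q hq]
  refine M.congr' (heR.comp hγ fun x hx => mem_img_of_mem hx)
    (M.comp (f := e) (g := fun y => autFun α (k y)) heR hγ (fun x hx => mem_img_of_mem hx) hC1 hC2) fun x hx => ?_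
  show autFun α x = autFun α (k (e x))
  rw [hke x hx]

/-- The focal subgroup meets a normal subgroup with `p`-group automizer in `[S,S]`. -/
theorem focal_inf_le_of_isPGroup (p : ℕ) [Fact p.Prime] : ∀ (n : ℕ) {Ω : Type u} [Group Ω]
    {S : Subgroup Ω} [Finite S] (F : FusionSystem S), Nat.card S = n → IsPGroup p S →
    F.IsSaturated p → ∀ Q : Subgroup Ω, F.IsNormal Q → IsPGroup p (F.autGroup Q) →
    F.focalSubgroup ⊓ Q ≤ ⁅S, S⁆ := by
  intro n
  induction n using Nat.strong_induction_on with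
  | _ n ih =>
    intro Ω _ S _ F hn hS hF Q hQ hQp
    by_cases hQ0 : Q = ⊥
    · rw [hQ0, inf_bot_eq]
      exact bot_le
    have hnQ := IsNormal.le_normalizer hQ
    set Z := Q ⊓ Subgroup.centralizer (S : Set Ω) with hZ
    have hZ0 : Z ≠ ⊥ := inf_centralizer_ne_bot hS hQ.1 hnQ hQ0
    have hZc : F.IsCentral Z := by
      refine isCentral_iff.mpr ⟨inf_le_left.trans hQ.1, fun P f hf => ?_⟩
      obtain ⟨g, hg, hgf, hgQ⟩ := (isNormal_iff.mp hQ).2 P f hf
      have := finite_of_le hQ.1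
      refine ⟨g, hg.restrict (sup_le_sup_left inf_le_left P), hgf, fun z hz => ?_⟩
      have hm := hg.restrict (le_sup_right : Q ≤ P ⊔ Q)
      have := autFun_eq_self_of_isPGroup hS hF (isFullyNormalized_of_normal hQ.1 hnQ) hQp hz.1 hz.2
        (autOf_mem hm hgQ)
      rwa [autFun_autOf hm hgQ hz.1] at this
    have hZcen : Z ≤ F.center := le_sSup hZc
    obtain ⟨Ω', _, S', θ, E, hmor, hk, hEsat, hS'fin, hS'p, hlt⟩ :=
      exists_quotient hS hF (IsNormal.stronglyClosed (IsCentral.isNormal hZc))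
    have hZQ : kerIn θ ≤ Q := hk.le.trans inf_le_left
    have := finite_of_le hQ.1
    have hEp : IsPGroup p (E.autGroup (imageAlong θ Q)) := by
      obtain ⟨Φ, hΦ⟩ := IsMorphism.exists_autHom hmor.1 hQ.1
      exact hQp.of_surjective Φ (autHom_surjective hmor hQ.1 hZQ hΦ)
    have hE := ih _ (hn ▸ hlt hZ0) E rfl hS'p hEsat _ (isNormal_image hmor hQ) hEp
    rintro z ⟨hzf, hzQ⟩
    have hzS := hQ.1 hzQ
    have hfS : F.focalSubgroup ≤ S := focal_le_iff.mpr fun P f hf x hx =>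
      S.mul_mem (S.inv_mem (hf.le hx)) (hf.mem hx)
    have hzf' : th θ z ∈ E.focalSubgroup := by
      have hle : F.focalSubgroup ≤ preimageAlong θ E.focalSubgroup := by
        refine focal_le_iff.mpr fun P f hf x hx => ?_
        obtain ⟨f', hf', hff⟩ := IsMorphism.exists_map hmor.1 hf
        refine mem_preimageAlong.mpr ⟨S.mul_mem (S.inv_mem (hf.le hx)) (hf.mem hx), ?_⟩
        rw [th_mul θ (S.inv_mem (hf.le hx)) (hf.mem hx), th_inv θ (hf.le hx), ← hff x hx]
        exact mem_focal hf' (th_mem_imageAlong hf.le hx)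
      exact (mem_preimageAlong.mp (hle hzf)).2
    have h1 := hE ⟨hzf', th_mem_imageAlong hQ.1 hzQ⟩
    have hr : ⁅S', S'⁆ ≤ imageAlong θ ⁅S, S⁆ := by
      rw [Subgroup.commutator_le]
      intro a ha b hb
      obtain ⟨x, hx, rfl⟩ := exists_th_eq (hmor.2.1.symm ▸ ha : a ∈ θ.range)
      obtain ⟨y, hy, rfl⟩ := exists_th_eq (hmor.2.1.symm ▸ hb : b ∈ θ.range)
      refine (mem_imageAlong (Subgroup.commutator_le_self S)).mpr
        ⟨⁅x, y⁆, Subgroup.commutator_mem_commutator hx hy, ?_⟩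
      rw [commutatorElement_def, commutatorElement_def,
        th_mul θ (S.mul_mem (S.mul_mem hx hy) (S.inv_mem hx)) (S.inv_mem hy), th_conj θ hx hy,
        th_inv θ hy]
    obtain ⟨c, hc, hcz⟩ := (mem_imageAlong (Subgroup.commutator_le_self S)).mp (hr h1)
    have hcS : c ∈ S := Subgroup.commutator_le_self S hc
    have hw : c⁻¹ * z ∈ Z := hk.le ((th_eq_iff hcS hzS).mp hcz)
    have hcf : c ∈ F.focalSubgroup := by
      have hle : ⁅S, S⁆ ≤ F.focalSubgroup := by
        rw [Subgroup.commutator_le]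
        intro a ha b hb
        have := mem_focal (F := F) (mapTo_cj le_rfl hb) (S.inv_mem ha)
        convert this using 1
        simp [commutatorElement_def, mul_assoc]
      exact hle hc
    have hwf : c⁻¹ * z ∈ ⁅S, S⁆ := focal_inf_center_le hS hF
      ⟨Subgroup.mul_mem _ (Subgroup.inv_mem _ hcf) hzf, hZcen hw⟩
    have := Subgroup.mul_mem _ hc hwf
    rwa [mul_inv_cancel_left] at this

end Cfsg.Agent.Fusion
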