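import Cfsg.Agent.Lib.Fusion.NormalCriteria
import Cfsg.Agent.Lib.Fusion.ImageSaturation
import Cfsg.Agent.Lib.Fusion.CoreDecomp
import Cfsg.Agent.Lib.Fusion.Invariant
import Cfsg.Prelude.Def_FusionComponents

/-!
Solvable fusion systems: the series criterion, constraint, extensions.
-/

set_option autoImplicit false
set_option linter.style.haveILetI false

namespace Cfsg.Agent.Fusion

open Cfsg.FusionSystem (centralizerIn normalizerIn preimageAlong imageAlong)
open scoped commutatorElement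

variable {Ω : Type*} [Group Ω] {S T : Subgroup Ω} {F : FusionSystem S} {p : ℕ}

/-- One step of a series of strongly closed subgroups with abelian factors. -/
def AbStep (F : FusionSystem S) (A B : Subgroup Ω) : Prop :=
  A ≤ B ∧ F.StronglyClosed B ∧ ⁅B, B⁆ ≤ A

/-- Reachability by abelian steps. -/
def AbChain (F : FusionSystem S) : Subgroup Ω → Subgroup Ω → Prop :=
  Relation.ReflTransGen (AbStep F)

theorem abChain_iff_series : AbChain F ⊥ S ↔
    ∃ (n : ℕ) (U : Fin (n + 1) → Subgroup Ω), U 0 = ⊥ ∧ U (Fin.last n) = S ∧ Monotone U ∧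
      (∀ i, F.StronglyClosed (U i)) ∧ ∀ i : Fin n, ⁅U i.succ, U i.succ⁆ ≤ U (Fin.castSucc i) := by
  constructor
  · intro h
    suffices key : ∀ A B, AbChain F A B → F.StronglyClosed A →
        ∃ (n : ℕ) (U : Fin (n + 1) → Subgroup Ω), U 0 = A ∧ U (Fin.last n) = B ∧ Monotone U ∧
          (∀ i, F.StronglyClosed (U i)) ∧ ∀ i : Fin n, ⁅U i.succ, U i.succ⁆ ≤ U (Fin.castSucc i) from
      key _ _ h (IsNormal.stronglyClosed (isNormal_bot F))
    intro A B h
    induction h using Relation.ReflTransGen.head_induction_on with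
    | refl => exact fun hA => ⟨0, fun _ => B, rfl, rfl, monotone_const, fun _ => hA, fun i => i.elim0⟩
    | @head a b hab _ ih =>
      intro hA
      obtain ⟨n, U, h0, hl, hm, hs, hc⟩ := ih hab.2.1
      refine ⟨n + 1, Fin.cons a U, rfl, by rw [← Fin.succ_last, Fin.cons_succ, hl], ?_, ?_, ?_⟩
      · refine Fin.monotone_iff_le_succ.mpr fun i => ?_
        refine Fin.cases ?_ (fun j => ?_) i
        · simpa [h0] using hab.1
        · rw [← Fin.succ_castSucc, Fin.cons_succ, Fin.cons_succ]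
          exact hm (Fin.castSucc_le_succ j)
      · exact Fin.cases hA hs
      · refine Fin.cases ?_ fun j => ?_
        · simpa [h0] using hab.2.2
        · rw [← Fin.succ_castSucc, Fin.cons_succ, Fin.cons_succ]
          exact hc j
  · rintro ⟨n, U, h0, hl, hm, hs, hc⟩
    suffices key : ∀ i, AbChain F (U 0) (U i) from h0 ▸ hl ▸ key (Fin.last n)
    intro i
    induction i using Fin.induction with
    | zero => exact Relation.ReflTransGen.refl
    | succ i ih => exact ih.tail ⟨hm (Fin.castSucc_le_succ i), hs _, hc i⟩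

section Image

variable {Ω' : Type*} [Group Ω'] {S' : Subgroup Ω'} {θ : S →* Ω'} {E : FusionSystem S'}

theorem stronglyClosed_imageAlong {U : Subgroup Ω} (h : F.IsSurjectiveMorphism E θ)
    (hU : F.StronglyClosed U) : E.StronglyClosed (imageAlong θ U) := by
  refine stronglyClosed_iff.mpr ⟨h.2.1 ▸ imageAlong_le_range, fun R f' hR hf' y hy => ?_⟩
  obtain ⟨t, ht, hty⟩ := (mem_imageAlong hU.1).mp (hR hy)
  obtain ⟨-, f, hf, hff⟩ := IsSurjectiveMorphism.exists_lift h hf'
  have htR : t ∈ preimageAlong θ R := mem_preimageAlong.mpr ⟨hU.1 ht, hty ▸ hy⟩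
  rw [← hty, hff t htR]
  exact th_mem_imageAlong hU.1 (StronglyClosed.map_mem hU hf htR ht)

theorem stronglyClosed_preimageAlong {A : Subgroup Ω'} (h : F.IsMorphism E θ)
    (hA : E.StronglyClosed A) : F.StronglyClosed (preimageAlong θ A) := by
  refine stronglyClosed_iff.mpr ⟨preimageAlong_le, fun R f hR hf x hx => ?_⟩
  obtain ⟨f', hf', hff⟩ := IsMorphism.exists_map h hf
  refine mem_preimageAlong.mpr ⟨hf.mem hx, ?_⟩
  rw [← hff x hx]
  exact StronglyClosed.map_mem hA hf' (th_mem_imageAlong hf.le hx) (mem_preimageAlong.mp (hR hx)).2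

theorem commutator_imageAlong_le {U V : Subgroup Ω} (hU : U ≤ S) (hVU : V ≤ U)
    (h : ⁅U, U⁆ ≤ V) : ⁅imageAlong θ U, imageAlong θ U⁆ ≤ imageAlong θ V := by
  refine Subgroup.commutator_le.mpr fun a ha b hb => ?_
  obtain ⟨x, hx, rfl⟩ := (mem_imageAlong hU).mp ha
  obtain ⟨y, hy, rfl⟩ := (mem_imageAlong hU).mp hb
  have e : ⁅th θ x, th θ y⁆ = th θ ⁅x, y⁆ := by
    rw [commutatorElement_def, commutatorElement_def,
      th_mul θ (S.mul_mem (S.mul_mem (hU hx) (hU hy)) (S.inv_mem (hU hx))) (S.inv_mem (hU hy)),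
      th_inv θ (hU hy), th_conj θ (hU hx) (hU hy)]
  rw [e]
  exact th_mem_imageAlong (hVU.trans hU) (h (Subgroup.commutator_mem_commutator hx hy))

theorem commutator_preimageAlong_le {A B : Subgroup Ω'} (h : ⁅B, B⁆ ≤ A) :
    ⁅preimageAlong θ B, preimageAlong θ B⁆ ≤ preimageAlong θ A := by
  refine Subgroup.commutator_le.mpr fun x hx y hy => ?_
  obtain ⟨hxS, hx'⟩ := mem_preimageAlong.mp hx
  obtain ⟨hyS, hy'⟩ := mem_preimageAlong.mp hy
  refine mem_preimageAlong.mpr ⟨by
    rw [commutatorElement_def]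
    exact S.mul_mem (S.mul_mem (S.mul_mem hxS hyS) (S.inv_mem hxS)) (S.inv_mem hyS), ?_⟩
  rw [commutatorElement_def,
    th_mul θ (S.mul_mem (S.mul_mem hxS hyS) (S.inv_mem hxS)) (S.inv_mem hyS), th_inv θ hyS,
    th_conj θ hxS hyS, ← commutatorElement_def]
  exact h (Subgroup.commutator_mem_commutator hx' hy')

end Image

variable [Finite S] [Fact p.Prime]

/-- A strongly closed abelian subgroup is normal. -/
theorem isNormal_of_abelian_stronglyClosed (hS : IsPGroup p S) (hF : F.IsSaturated p)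
    {A : Subgroup Ω} (hA : F.StronglyClosed A) (hab : ⁅A, A⁆ ≤ ⊥) : F.IsNormal A := by
  refine isNormal_of_stronglyClosed_series hS hF ![⊥, A] rfl rfl
    (Fin.monotone_iff_le_succ.mpr fun i => by fin_cases i; exact bot_le)
    (fun i => by fin_cases i; exact hA) fun i x hx k hk => ?_
  fin_cases i
  exact comm_mem_of_commutator_le hab hx hk

/-- A nontrivial normal subgroup contains a nontrivial abelian normal subgroup. -/
theorem exists_abelian_normal (hS : IsPGroup p S) {Q : Subgroup Ω} (hQ : F.IsNormal Q)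
    (h1 : Q ≠ ⊥) : ∃ A, F.IsNormal A ∧ A ≠ ⊥ ∧ ⁅A, A⁆ ≤ ⊥ := by
  have := finite_of_le hQ.1
  haveI : Nontrivial Q := (Subgroup.nontrivial_iff_ne_bot Q).mpr h1
  refine ⟨(Subgroup.center Q).map Q.subtype, isNormal_of_char hQ (Subgroup.map_subtype_le _) ?_,
    ?_, ?_⟩
  · rw [Subgroup.subgroupOf, Subgroup.comap_map_eq_self_of_injective Q.subtype_injective]
    infer_instance
  · intro h
    have := (hS.to_le hQ.1).center_nontrivial
    rw [Subgroup.map_eq_bot_iff_of_injective _ Q.subtype_injective] at h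
    exact (Subgroup.nontrivial_iff_ne_bot _).mp this h
  · rw [← Subgroup.map_commutator]
    refine (Subgroup.map_mono (Subgroup.commutator_le.mpr fun x hx y _ => ?_)).trans
      (Subgroup.map_bot _).le
    rw [Subgroup.mem_bot, commutatorElement_eq_one_iff_mul_comm]
    exact (Subgroup.mem_center_iff.mp hx y).symm

theorem abChain_of_isSolvableSystem (hS : IsPGroup p S) (hF : F.IsSaturated p)
    (h : F.IsSolvableSystem) {R : Subgroup Ω} (hR : F.StronglyClosed R) : AbChain F R S := by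
  induction hk : Nat.card S - Nat.card R using Nat.strong_induction_on generalizing R with
  | h k ih =>
  by_cases hne : R = S
  · subst hne; exact Relation.ReflTransGen.refl
  haveI hn : (R.subgroupOf S).Normal :=
    (Subgroup.normal_subgroupOf_iff_le_normalizer hR.1).mpr (StronglyClosed.le_normalizer hR)
  set θ := QuotientGroup.mk' (R.subgroupOf S) with hθ
  have hker : kerIn θ = R := by
    rw [kerIn, hθ, QuotientGroup.ker_mk', Subgroup.map_subgroupOf_eq_of_le hR.1]
  have hrange : θ.range = ⊤ := MonoidHom.range_eq_top.mpr (QuotientGroup.mk'_surjective _)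
  have hfac : F.IsFactorSystem R θ (factorSys F θ hrange (hker.symm ▸ hR)) := by
    have := isFactorSystem_factorSys F θ hrange (hker.symm ▸ hR)
    exact ⟨hR.1, fun s => (this.2.1 s).trans (by rw [hker]), this.2.2⟩
  set E := factorSys F θ hrange (hker.symm ▸ hR) with hE
  have hmor := IsFactorSystem.isSurjectiveMorphism hS hF hR hfac
  have hS' : IsPGroup p (⊤ : Subgroup (S ⧸ R.subgroupOf S)) := (hS.to_quotient _).to_subgroup ⊤
  obtain ⟨A, hA, hA1, hAab⟩ := exists_abelian_normal hS' (isNormal_core E) (h R hR hne E hfac)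
  set R' := preimageAlong θ A
  have hR' : F.StronglyClosed R' :=
    stronglyClosed_preimageAlong hmor.1 (IsNormal.stronglyClosed hA)
  have hRR' : R ≤ R' := hker ▸ kerIn_le_preimageAlong
  have hab : ⁅R', R'⁆ ≤ R := by
    refine (commutator_preimageAlong_le hAab).trans fun x hx => ?_
    obtain ⟨hxS, hx1⟩ := mem_preimageAlong.mp hx
    exact hker ▸ mem_kerIn.mpr ⟨hxS, Subgroup.mem_bot.mp hx1⟩
  have hlt : R < R' := by
    refine lt_of_le_of_ne hRR' fun he => hA1 ?_
    refine Subgroup.eq_bot_iff_forall _ |>.mpr fun y hy => ?_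
    obtain ⟨x, hx, hxy⟩ := exists_preimage (hrange ▸ le_top : A ≤ θ.range) hy
    rw [← hxy]
    exact (mem_kerIn.mp (hker.symm ▸ (he.symm ▸ hx : x ∈ R) : x ∈ kerIn θ)).2
  refine Relation.ReflTransGen.head ⟨hRR', hR', hab⟩ (ih _ ?_ hR' rfl)
  have := finite_of_le hR'.1
  have h1 : Nat.card R < Nat.card R' := by
    refine lt_of_le_of_ne (Subgroup.card_le_of_le hRR') fun he => ?_
    exact hlt.ne (Subgroup.eq_of_le_of_card_ge hRR' he.ge)
  have h2 : Nat.card R' ≤ Nat.card S := Subgroup.card_le_of_le hR'.1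
  omega

omit [Finite S] in
theorem AbChain.le {A B : Subgroup Ω} (h : AbChain F A B) : A ≤ B := by
  induction h with
  | refl => exact le_rfl
  | tail _ hstep ih => exact ih.trans hstep.1

omit [Finite S] [Fact p.Prime] in
theorem exists_step_not_le {A B Q : Subgroup Ω} (h : AbChain F A B) (hAc : F.StronglyClosed A)
    (hA : A ≤ Q) (hB : ¬ B ≤ Q) :
    ∃ C D, C ≤ Q ∧ ¬ D ≤ Q ∧ F.StronglyClosed C ∧ AbStep F C D ∧ D ≤ B := by
  induction h using Relation.ReflTransGen.head_induction_on with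
  | refl => exact absurd hA hB
  | @head a b hab hrest ih =>
    by_cases hb : b ≤ Q
    · exact ih hab.2.1 hb
    · exact ⟨a, b, hA, hb, hAc, hab, AbChain.le hrest⟩

theorem isSolvableSystem_of_abChain (hS : IsPGroup p S) (hF : F.IsSaturated p)
    (h : AbChain F ⊥ S) : F.IsSolvableSystem := by
  intro R hR hne _ E hE
  have hmor := IsFactorSystem.isSurjectiveMorphism hS hF hR hE
  have hker := IsFactorSystem.kerIn_eq hE
  obtain ⟨C, D, hC, hD, -, ⟨hCD, hDc, hab⟩, -⟩ := exists_step_not_le h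
    (IsNormal.stronglyClosed (isNormal_bot F)) (bot_le (a := R)) fun hle =>
      hne (le_antisymm hR.1 hle)
  have hA := stronglyClosed_imageAlong hmor hDc
  have hone : imageAlong (QuotientGroup.mk' (R.subgroupOf S)) C ≤ ⊥ := fun y hy => by
    obtain ⟨x, hx, rfl⟩ := (mem_imageAlong (hC.trans hR.1)).mp hy
    exact Subgroup.mem_bot.mpr (mem_kerIn.mp (hker.symm ▸ hC hx)).2
  have hN := isNormal_of_abelian_stronglyClosed ((hS.to_quotient _).to_subgroup ⊤)
    (isSaturated_image hS hF hmor) hA ((commutator_imageAlong_le hDc.1 hCD hab).trans hone)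
  intro hcore
  apply hD
  intro x hx
  have h1 := le_core hN (th_mem_imageAlong hDc.1 hx)
  rw [hcore, Subgroup.mem_bot] at h1
  exact hker ▸ mem_kerIn.mpr ⟨hDc.1 hx, h1⟩

theorem isSolvableSystem_iff_abChain (hS : IsPGroup p S) (hF : F.IsSaturated p) :
    F.IsSolvableSystem ↔ AbChain F ⊥ S :=
  ⟨fun h => abChain_of_isSolvableSystem hS hF h (IsNormal.stronglyClosed (isNormal_bot F)),
    isSolvableSystem_of_abChain hS hF⟩

omit [Fact p.Prime] in
/-- The centralizer of a normal subgroup is strongly closed. -/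
theorem stronglyClosed_centralizerIn {Q : Subgroup Ω} (hQ : F.IsNormal Q) :
    F.StronglyClosed (centralizerIn S Q) := by
  refine stronglyClosed_iff.mpr ⟨centralizerIn_le, fun R f hR hf x hx => ?_⟩
  obtain ⟨g, hg, hgf, hgQ⟩ := (isNormal_iff.mp hQ).2 R f hf
  refine mem_centralizerIn.mpr ⟨hf.mem hx, fun z hz => ?_⟩
  obtain ⟨w, hw, rfl⟩ := (hg.mem_img_iff le_sup_right).mp (hgQ.symm ▸ hz : z ∈ img g Q)
  have hw' : w ∈ R ⊔ Q := le_sup_right (a := R) hw
  have hx' : x ∈ R ⊔ Q := le_sup_left (b := Q) hx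
  rw [← hgf x hx, ← hg.map_mul hw' hx', ← hg.map_mul hx' hw',
    (mem_centralizerIn.mp (hR hx)).2 w hw]

theorem isConstrained_of_abChain (hS : IsPGroup p S) (hF : F.IsSaturated p)
    (h : AbChain F ⊥ S) : F.IsConstrained p := by
  set Q := F.core
  have hQ : F.IsNormal Q := isNormal_core F
  refine ⟨hF, Q, hQ, isCentric_of_isFullyCentralized ⟨hQ.1, fun R hR => ?_⟩ ?_⟩
  · obtain ⟨f, hf, rfl⟩ := isConj_iff.mp hR
    rw [StronglyClosed.img_eq (IsNormal.stronglyClosed hQ) hf le_rfl]
  by_contra hC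
  set C := centralizerIn S Q
  have hCc : F.StronglyClosed C := stronglyClosed_centralizerIn hQ
  have hstep : ∀ U V, AbStep F U V → AbStep F (C ⊓ U) (C ⊓ V) := fun U V hUV => by
    refine ⟨inf_le_inf_left _ hUV.1, StronglyClosed.inf hCc hUV.2.1, le_inf ?_ ?_⟩
    · exact Subgroup.commutator_le.mpr fun x hx y hy => C.mul_mem (C.mul_mem (C.mul_mem hx.1 hy.1)
        (C.inv_mem hx.1)) (C.inv_mem hy.1)
    · exact (Subgroup.commutator_mono inf_le_right inf_le_right).trans hUV.2.2
  obtain ⟨A, B, hA, hB, hAc, ⟨hAB, hBc, hab⟩, hBC⟩ := exists_step_not_le (F := F) (Q := Q)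
    (A := C ⊓ ⊥) (B := C ⊓ S) (Relation.ReflTransGen.lift (fun U => C ⊓ U) hstep _ _ h)
    (StronglyClosed.inf hCc (IsNormal.stronglyClosed (isNormal_bot F)))
    (by simp) (by rwa [inf_eq_left.mpr centralizerIn_le])
  have hBC' : B ≤ C := hBC.trans inf_le_left
  refine hB (le_core ?_)
  refine isNormal_of_stronglyClosed_series hS hF ![⊥, A, B] rfl rfl
    (Fin.monotone_iff_le_succ.mpr fun i => by
      fin_cases i
      · exact bot_le
      · exact hAB)
    (fun i => by
      fin_cases i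
      · exact hAc
      · exact hBc) fun i x hx k hk => ?_
  fin_cases i
  · have h1 := (mem_centralizerIn.mp (hBC' hk)).2 x (hA hx)
    show x⁻¹ * (k * x * k⁻¹) ∈ (⊥ : Subgroup Ω)
    rw [Subgroup.mem_bot, ← h1]
    group
  · exact comm_mem_of_commutator_le hab hx hk

end Cfsg.Agent.Fusion
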