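import Cfsg.Agent.Lib.Fusion.Alperin
import Cfsg.Agent.Lib.Transfer.NatPair
import Mathlib.GroupTheory.PGroup
import Mathlib.GroupTheory.SpecificGroups.Cyclic

/-!
Automizers of essential subgroups of order `p ^ 2`.
-/

set_option autoImplicit false
set_option linter.style.haveILetI false

namespace Cfsg.Agent.Fusion

open scoped Matrix MatrixGroups

variable {p : ℕ} [hp : Fact p.Prime]

/-- The action of `SL(2,p)` on its natural module, written multiplicatively. -/
def natAut (p : ℕ) [Fact p.Prime] : SL(2, ZMod p) →* MulAut (Multiplicative (Fin 2 → ZMod p)) where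
  toFun g :=
    { toFun := fun v => Multiplicative.ofAdd (g.1 *ᵥ v.toAdd)
      invFun := fun v => Multiplicative.ofAdd ((g⁻¹).1 *ᵥ v.toAdd)
      left_inv := fun v => by
        show Multiplicative.ofAdd (g⁻¹.1 *ᵥ (g.1 *ᵥ v.toAdd)) = v
        rw [Matrix.mulVec_mulVec, ← Matrix.SpecialLinearGroup.coe_mul, inv_mul_cancel,
          Matrix.SpecialLinearGroup.coe_one, Matrix.one_mulVec]
        rfl
      right_inv := fun v => by
        show Multiplicative.ofAdd (g.1 *ᵥ (g⁻¹.1 *ᵥ v.toAdd)) = v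
        rw [Matrix.mulVec_mulVec, ← Matrix.SpecialLinearGroup.coe_mul, mul_inv_cancel,
          Matrix.SpecialLinearGroup.coe_one, Matrix.one_mulVec]
        rfl
      map_mul' := fun v w => by rw [toAdd_mul, Matrix.mulVec_add, ofAdd_add] }
  map_one' := MulEquiv.ext fun v => by simp
  map_mul' g h := MulEquiv.ext fun v => by
    show Multiplicative.ofAdd ((g * h).1 *ᵥ v.toAdd) = Multiplicative.ofAdd (g.1 *ᵥ (h.1 *ᵥ v.toAdd))
    rw [Matrix.mulVec_mulVec, Matrix.SpecialLinearGroup.coe_mul]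

theorem natAut_injective : Function.Injective (natAut p) := by
  intro g h hgh
  apply Subtype.ext
  exact Matrix.ext_of_mulVec_single fun i =>
    congrArg Multiplicative.toAdd (DFunLike.congr_fun hgh (Multiplicative.ofAdd (Pi.single i 1)))

variable {H : Type*} [Group H]

/-- An element of `p`-power order acting on a group of order `p ^ 2`, fixing `x`. -/
theorem exists_shift (hcomm : IsMulCommutative H) (hexp : ∀ h : H, h ^ p = 1)
    (hcard : Nat.card H = p ^ 2) {a : MulAut H} (hap : a ^ p = 1) (ha : a ≠ 1) {x y : H}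
    (hx : x ≠ 1) (hax : a x = x) (hy : y ∉ Subgroup.zpowers x) :
    ∃ i : ℕ, ¬ p ∣ i ∧ a y = x ^ i * y := by
  haveI : Finite H := Nat.finite_of_card_ne_zero (by rw [hcard]; exact pow_ne_zero 2 hp.out.ne_zero)
  haveI := hcomm
  have hc : ∀ u v : H, u * v = v * u := hcomm.is_comm.comm
  have hxo : orderOf x = p := orderOf_eq_prime (hexp x) hx
  set X := Subgroup.zpowers x with hX
  have hXn : X.Normal := ⟨fun n hn g => by rw [hc g n, mul_inv_cancel_right]; exact hn⟩
  have hq : Nat.card (H ⧸ X) = p := by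
    have h := Subgroup.card_eq_card_quotient_mul_card_subgroup X
    rw [hcard, hX, Nat.card_zpowers, hxo, pow_two] at h
    exact (Nat.eq_of_mul_eq_mul_right hp.out.pos h).symm
  haveI : IsCyclic (H ⧸ X) := isCyclic_of_prime_card hq
  have hyo : orderOf (QuotientGroup.mk' X y) = p := orderOf_eq_prime
    (by rw [← map_pow, hexp, map_one]) fun h => hy ((QuotientGroup.eq_one_iff y).mp h)
  have hgen : ∀ w : H, ∃ k : ℕ, (y ^ k)⁻¹ * w ∈ X := by
    intro w
    have htop : Subgroup.zpowers (QuotientGroup.mk' X y) = ⊤ :=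
      Subgroup.eq_top_of_card_eq _ (by rw [Nat.card_zpowers, hyo, hq])
    obtain ⟨k, hk⟩ := (mem_powers_iff_mem_zpowers.mpr
      (htop ▸ Subgroup.mem_top (QuotientGroup.mk' X w)) :
        QuotientGroup.mk' X w ∈ Submonoid.powers (QuotientGroup.mk' X y))
    refine ⟨k, QuotientGroup.eq.mp ?_⟩
    have hk' : QuotientGroup.mk' X y ^ k = QuotientGroup.mk' X w := hk
    rw [← map_pow] at hk'
    exact hk'
  obtain ⟨k, hk⟩ := hgen (a y)
  have haX : ∀ w ∈ X, a w = w := by
    intro w hw
    obtain ⟨j, rfl⟩ := Subgroup.mem_zpowers_iff.mp hw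
    rw [map_zpow, hax]
  obtain ⟨j, hj⟩ := Subgroup.mem_zpowers_iff.mp hk
  have hay : a y = y ^ k * x ^ j := by rw [hj, mul_inv_cancel_left]
  have hiter : ∀ n : ℕ, ∃ w ∈ X, (a ^ n) y = y ^ (k ^ n) * w := by
    intro n
    induction n with
    | zero => exact ⟨1, X.one_mem, by simp⟩
    | succ n ih =>
      obtain ⟨w, hw, he⟩ := ih
      refine ⟨(x ^ j) ^ (k ^ n) * w, X.mul_mem (X.pow_mem ⟨j, rfl⟩ _) hw, ?_⟩
      rw [pow_succ' a, MulAut.mul_apply, he, map_mul, map_pow, hay, haX w hw,
        (show Commute (y ^ k) (x ^ j) from hc _ _).mul_pow, ← pow_mul, mul_assoc,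
        ← pow_succ' k]
  obtain ⟨w, hw, he⟩ := hiter p
  rw [hap, MulAut.one_apply] at he
  have hk1 : (k : ZMod p) = 1 := by
    have h1 := congrArg (QuotientGroup.mk' X) he
    rw [map_mul, map_pow, show QuotientGroup.mk' X w = 1 from (QuotientGroup.eq_one_iff w).mpr hw,
      mul_one] at h1
    have h2 := pow_eq_pow_iff_modEq.mp ((pow_one _).trans h1)
    rw [hyo, ← ZMod.natCast_eq_natCast_iff, Nat.cast_one, Nat.cast_pow, ZMod.pow_card] at h2
    exact h2.symm
  have hky : y ^ k = y := by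
    have h2 : k ≡ 1 [MOD orderOf y] := by
      rw [orderOf_eq_prime (hexp y) fun h => hy (h ▸ X.one_mem), ← ZMod.natCast_eq_natCast_iff]
      simpa using hk1
    simpa using pow_eq_pow_iff_modEq.mpr h2
  obtain ⟨i, hi⟩ := (mem_powers_iff_mem_zpowers.mpr ⟨j, rfl⟩ :
    x ^ j ∈ Submonoid.powers x)
  refine ⟨i, fun hdvd => ha ?_, by rw [hay, hky, hc]; exact congrArg (· * y) hi.symm⟩
  have hy1 : a y = y := by
    rw [hay, hky, ← hi]
    obtain ⟨c, rfl⟩ := hdvd
    show y * x ^ (p * c) = y
    rw [pow_mul, hexp, one_pow, mul_one]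
  ext v
  obtain ⟨l, hl⟩ := hgen v
  have h3 := haX _ hl
  rw [map_mul, map_inv, map_pow, hy1] at h3
  exact mul_left_cancel h3

/-- A group of automorphisms of a group of order `p ^ 2` with two non-commuting elements of order
`p` contains `SL(2,p)`, and in particular the inversion. -/
theorem exists_sl2_le' (hcomm : IsMulCommutative H) (hexp : ∀ h : H, h ^ p = 1)
    (hcard : Nat.card H = p ^ 2) (A : Subgroup (MulAut H)) {a b : MulAut H} (haA : a ∈ A)
    (hbA : b ∈ A) (hap : a ^ p = 1) (hbp : b ^ p = 1) (hab : ¬ Commute a b) :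
    ∃ K : Subgroup (MulAut H), K ≤ A ∧ Nonempty (K ≃* SL(2, ZMod p)) ∧
      ∃ c ∈ K, ∀ h : H, c h = h⁻¹ := by
  haveI : Finite H := Nat.finite_of_card_ne_zero (by rw [hcard]; exact pow_ne_zero 2 hp.out.ne_zero)
  haveI := finite_mulAut H
  haveI := hcomm
  have hc : ∀ u v : H, u * v = v * u := hcomm.is_comm.comm
  have hP : IsPGroup p H := IsPGroup.of_card hcard
  have hfixed : ∀ c : MulAut H, c ^ p = 1 → ∃ x : H, x ≠ 1 ∧ c x = x := by
    intro c hc'
    have hC : IsPGroup p (Subgroup.zpowers c) := by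
      obtain ⟨i, -, hi⟩ := (Nat.dvd_prime_pow hp.out).mp
        (orderOf_dvd_of_pow_eq_one (n := p ^ 1) (by rwa [pow_one]))
      exact IsPGroup.of_card (n := i) ((Nat.card_zpowers c).trans hi)
    haveI : Nontrivial H := Finite.one_lt_card_iff_nontrivial.mp (by
      rw [hcard]; exact Nat.one_lt_pow two_ne_zero hp.out.one_lt)
    have hdvd : p ∣ Nat.card H := by rw [hcard]; exact dvd_pow_self p two_ne_zero
    obtain ⟨x, hx, hne⟩ := hC.exists_fixed_point_of_prime_dvd_card_of_fixed_point H hdvd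
      (a := (1 : H)) (fun g => map_one (g : MulAut H))
    exact ⟨x, fun h => hne h.symm, hx ⟨c, Subgroup.mem_zpowers c⟩⟩
  have ha : a ≠ 1 := fun h => hab (h ▸ Commute.one_left b)
  have hb : b ≠ 1 := fun h => hab (h ▸ Commute.one_right a)
  obtain ⟨x, hx, hax⟩ := hfixed a hap
  obtain ⟨y, hy, hby⟩ := hfixed b hbp
  -- the fixed lines differ
  have hyx : y ∉ Subgroup.zpowers x := by
    intro hyx
    apply hab
    obtain ⟨z, hz⟩ : ∃ z : H, z ∉ Subgroup.zpowers x := by
      by_contra h
      push Not at h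
      have := Subgroup.card_top (G := H)
      rw [← (eq_top_iff.mpr fun v _ => h v : Subgroup.zpowers x = ⊤), Nat.card_zpowers,
        orderOf_eq_prime (hexp x) hx, hcard, pow_two] at this
      exact hp.out.one_lt.ne' (Nat.eq_of_mul_eq_mul_left hp.out.pos ((mul_one p).trans this)).symm
    have hbx : b x = x := by
      obtain ⟨j, rfl⟩ := Subgroup.mem_zpowers_iff.mp hyx
      have hgen : x ∈ Subgroup.zpowers (x ^ j) := by
        have hle : Subgroup.zpowers (x ^ j) ≤ Subgroup.zpowers x := Subgroup.zpowers_le.mpr ⟨j, rfl⟩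
        have := Subgroup.eq_of_le_of_card_ge hle (by
          rw [Nat.card_zpowers, Nat.card_zpowers, orderOf_eq_prime (hexp x) hx,
            orderOf_eq_prime (hexp _) hy])
        exact this ▸ Subgroup.mem_zpowers x
      obtain ⟨l, hl⟩ := Subgroup.mem_zpowers_iff.mp hgen
      rw [← hl, map_zpow, hby]
    obtain ⟨i, -, hi⟩ := exists_shift hcomm hexp hcard hap ha hx hax hz
    obtain ⟨j, -, hj⟩ := exists_shift hcomm hexp hcard hbp hb hx hbx hz
    refine MulEquiv.ext fun v => ?_
    have hgen : v ∈ Subgroup.zpowers x ⊔ Subgroup.zpowers z := by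
      have htop : Subgroup.zpowers x ⊔ Subgroup.zpowers z = ⊤ := by
        refine Subgroup.eq_top_of_card_eq _ ?_
        obtain ⟨m, hm, he⟩ := (Nat.dvd_prime_pow hp.out).mp
          (hcard ▸ Subgroup.card_subgroup_dvd_card (Subgroup.zpowers x ⊔ Subgroup.zpowers z))
        have h1 : p < p ^ m := by
          rw [← he]
          refine lt_of_eq_of_lt ((Nat.card_zpowers x).trans (orderOf_eq_prime (hexp x) hx)).symm ?_
          refine lt_of_le_of_ne (Subgroup.card_le_of_le le_sup_left) fun h => hz ?_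
          exact (Subgroup.eq_of_le_of_card_ge le_sup_left h.ge).ge
            (Subgroup.mem_sup_right (Subgroup.mem_zpowers z))
        have h2 : 1 < m := (Nat.pow_lt_pow_iff_right hp.out.one_lt).mp (by rwa [pow_one])
        rw [he, hcard, show m = 2 by omega]
      exact htop ▸ Subgroup.mem_top v
    show a (b v) = b (a v)
    rw [Subgroup.sup_eq_closure] at hgen
    induction hgen using Subgroup.closure_induction with
    | mem w hw =>
      rcases hw with hw | hw <;> obtain ⟨l, rfl⟩ := Subgroup.mem_zpowers_iff.mp hw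
      · rw [map_zpow, map_zpow, map_zpow, map_zpow, hbx, hax, hbx]
      · have e1 : a (b z) = b (a z) := by
          rw [hj, hi, map_mul, map_mul, map_pow, map_pow, hax, hbx, hi, hj, ← mul_assoc,
            ← mul_assoc, ← pow_add, ← pow_add, Nat.add_comm]
        rw [map_zpow, map_zpow, map_zpow, map_zpow, e1]
    | one => rw [map_one, map_one, map_one]
    | mul u w _ _ hu hw => rw [map_mul, map_mul, map_mul, map_mul, hu, hw]
    | inv u _ hu => rw [map_inv, map_inv, map_inv, map_inv, hu]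
  obtain ⟨i, hi, hay⟩ := exists_shift hcomm hexp hcard hap ha hx hax hyx
  have hxy : x ∉ Subgroup.zpowers y := by
    intro h
    have := Subgroup.eq_of_le_of_card_ge (Subgroup.zpowers_le.mpr h) (by
      rw [Nat.card_zpowers, Nat.card_zpowers, orderOf_eq_prime (hexp x) hx,
        orderOf_eq_prime (hexp y) hy])
    exact hyx (this.ge (Subgroup.mem_zpowers y))
  obtain ⟨j, hj, hbx⟩ := exists_shift hcomm hexp hcard hbp hb hy hby hxy
  -- coordinates
  let φ : Multiplicative (Fin 2 → ZMod p) →* H :=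
    { toFun := fun v => x ^ (v.toAdd 0).val * y ^ (v.toAdd 1).val
      map_one' := by simp
      map_mul' := fun v w => by
        simp only [toAdd_mul, Pi.add_apply, ZMod.val_add]
        rw [← pow_eq_pow_mod _ (hexp x), ← pow_eq_pow_mod _ (hexp y), pow_add, pow_add,
          mul_assoc, mul_assoc, ← mul_assoc (x ^ (w.toAdd 0).val), hc (x ^ (w.toAdd 0).val)]
        simp only [mul_assoc] }
  have hφb : Function.Bijective φ := by
    rw [Nat.bijective_iff_injective_and_card]
    refine ⟨(injective_iff_map_eq_one φ).mpr fun v hv => ?_, ?_⟩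
    · have h1 : y ^ (v.toAdd 1).val ∈ Subgroup.zpowers x := by
        rw [show y ^ (v.toAdd 1).val = (x ^ (v.toAdd 0).val)⁻¹ from
          (inv_eq_of_mul_eq_one_right hv).symm]
        exact Subgroup.inv_mem _ (Subgroup.pow_mem _ (Subgroup.mem_zpowers x) _)
      have hv1 : v.toAdd 1 = 0 := by
        by_contra hne
        apply hyx
        have hu : Nat.Coprime (v.toAdd 1).val (orderOf y) := by
          rw [orderOf_eq_prime (hexp y) hy]
          exact Nat.Coprime.symm ((hp.out.coprime_iff_not_dvd).mpr fun hd => hne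
            ((ZMod.val_eq_zero _).mp (Nat.eq_zero_of_dvd_of_lt hd (ZMod.val_lt _))))
        obtain ⟨m, hm⟩ := exists_pow_eq_self_of_coprime hu
        exact hm ▸ Subgroup.pow_mem _ h1 m
      have hv0 : v.toAdd 0 = 0 := by
        have h2 : x ^ (v.toAdd 0).val = 1 := by
          have h3 : x ^ (v.toAdd 0).val * y ^ (v.toAdd 1).val = 1 := hv
          rwa [hv1, ZMod.val_zero, pow_zero, mul_one] at h3
        refine (ZMod.val_eq_zero _).mp (Nat.eq_zero_of_dvd_of_lt ?_ (ZMod.val_lt _))
        have := orderOf_dvd_of_pow_eq_one h2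
        rwa [orderOf_eq_prime (hexp x) hx] at this
      refine Multiplicative.toAdd.injective (funext fun k => ?_)
      fin_cases k <;> simp [hv0, hv1]
    · rw [hcard, Nat.card_congr Multiplicative.toAdd, Nat.card_fun, Nat.card_zmod]
      simp
  let e := MulEquiv.ofBijective φ hφb
  let ρ : SL(2, ZMod p) →* MulAut H := (MulAut.congr e).toMonoidHom.comp (natAut p)
  have hρ : Function.Injective ρ := (MulAut.congr e).injective.comp natAut_injective
  refine ⟨ρ.range, ?_, ⟨(MonoidHom.ofInjective hρ).symm⟩,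
    ρ ⟨-1, by simp [Matrix.det_neg]⟩, ⟨_, rfl⟩, fun h => ?_⟩
  swap
  · obtain ⟨v, rfl⟩ := hφb.2 h
    show e (natAut p _ (e.symm (e v))) = _
    rw [MulEquiv.symm_apply_apply, ← map_inv]
    show φ _ = _
    congr 1
    show Multiplicative.ofAdd ((-1 : Matrix (Fin 2) (Fin 2) (ZMod p)) *ᵥ v.toAdd) = v⁻¹
    rw [Matrix.neg_mulVec, Matrix.one_mulVec]
    rfl
  rw [MonoidHom.range_eq_map, ← Transfer.closure_tU_tL, MonoidHom.map_closure, Subgroup.closure_le]
  have happ : ∀ (g : SL(2, ZMod p)) (v : Multiplicative (Fin 2 → ZMod p)),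
      ρ g (φ v) = φ (Multiplicative.ofAdd (g.1 *ᵥ v.toAdd)) := by
    intro g v
    show e (natAut p g (e.symm (e v))) = _
    rw [MulEquiv.symm_apply_apply]
    rfl
  have hφx : ∀ s t : ZMod p, φ (Multiplicative.ofAdd ![s, t]) = x ^ s.val * y ^ t.val :=
    fun s t => rfl
  have one_val : ((1 : ZMod p).val) = 1 := ZMod.val_one p
  -- the two generators
  have key : ∀ (g : SL(2, ZMod p)) (c : MulAut H), ρ g x = c x → ρ g y = c y → ρ g = c := by
    intro g c h1 h2
    ext w
    obtain ⟨v, rfl⟩ := hφb.2 w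
    show ρ g (x ^ (v.toAdd 0).val * y ^ (v.toAdd 1).val) = c (x ^ (v.toAdd 0).val * y ^ (v.toAdd 1).val)
    rw [map_mul, map_mul, map_pow, map_pow, map_pow, map_pow, h1, h2]
  have hx0 : x = φ (Multiplicative.ofAdd ![1, 0]) := by rw [hφx]; simp [one_val]
  have hy0 : y = φ (Multiplicative.ofAdd ![0, 1]) := by rw [hφx]; simp [one_val]
  have hcop : ∀ {n : ℕ}, ¬ p ∣ n → ∃ m : ℕ, n * m ≡ 1 [MOD p] := by
    intro n hn
    refine ⟨((n : ZMod p)⁻¹).val, ?_⟩
    rw [← ZMod.natCast_eq_natCast_iff, Nat.cast_mul, ZMod.natCast_zmod_val, Nat.cast_one,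
      mul_inv_cancel₀]
    rwa [Ne, ZMod.natCast_eq_zero_iff]
  rintro _ ⟨g, rfl | rfl, rfl⟩
  · obtain ⟨m, hm⟩ := hcop hi
    suffices ρ (Transfer.tU p) = a ^ m from this ▸ A.pow_mem haA m
    have hit : ∀ n : ℕ, (a ^ n) x = x ∧ (a ^ n) y = x ^ (i * n) * y := by
      intro n
      induction n with
      | zero => simp
      | succ n ih =>
        refine ⟨by rw [pow_succ', MulAut.mul_apply, ih.1, hax], ?_⟩
        rw [pow_succ', MulAut.mul_apply, ih.2, map_mul, map_pow, hax, hay, ← mul_assoc, ← pow_add]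
        congr 2
    refine key _ _ ?_ ?_
    · rw [(hit m).1, hx0, happ]
      congr 2
      ext k; fin_cases k <;> simp [Transfer.tU, LinGrp.uSL_val, Matrix.mulVec, dotProduct,
        Fin.sum_univ_two]
    · rw [(hit m).2]
      conv_lhs => rw [hy0, happ]
      rw [show Multiplicative.ofAdd ((Transfer.tU p).1 *ᵥ
          (Multiplicative.ofAdd ![(0 : ZMod p), 1]).toAdd) = Multiplicative.ofAdd ![1, 1] by
        congr 1; ext k; fin_cases k <;> simp [Transfer.tU, LinGrp.uSL_val, Matrix.mulVec,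
          dotProduct, Fin.sum_univ_two], hφx, one_val, pow_one, pow_one]
      have : x ^ (i * m) = x ^ 1 := pow_eq_pow_iff_modEq.mpr
        ((orderOf_eq_prime (hexp x) hx).symm ▸ hm)
      rw [this, pow_one]
  · obtain ⟨m, hm⟩ := hcop hj
    suffices ρ (Transfer.tL p) = b ^ m from this ▸ A.pow_mem hbA m
    have hit : ∀ n : ℕ, (b ^ n) y = y ∧ (b ^ n) x = y ^ (j * n) * x := by
      intro n
      induction n with
      | zero => simp
      | succ n ih =>
        refine ⟨by rw [pow_succ', MulAut.mul_apply, ih.1, hby], ?_⟩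
        rw [pow_succ', MulAut.mul_apply, ih.2, map_mul, map_pow, hby, hbx, ← mul_assoc, ← pow_add]
        congr 2
    refine key _ _ ?_ ?_
    · rw [(hit m).2]
      conv_lhs => rw [hx0, happ]
      rw [show Multiplicative.ofAdd ((Transfer.tL p).1 *ᵥ
          (Multiplicative.ofAdd ![(1 : ZMod p), 0]).toAdd) = Multiplicative.ofAdd ![1, 1] by
        congr 1; ext k; fin_cases k <;> simp [Transfer.tL, LinGrp.lSL_val, Matrix.mulVec,
          dotProduct, Fin.sum_univ_two], hφx, one_val, pow_one, pow_one]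
      have : y ^ (j * m) = y ^ 1 := pow_eq_pow_iff_modEq.mpr
        ((orderOf_eq_prime (hexp y) hy).symm ▸ hm)
      rw [this, pow_one, hc]
    · rw [(hit m).1, hy0, happ]
      congr 2
      ext k; fin_cases k <;> simp [Transfer.tL, LinGrp.lSL_val, Matrix.mulVec, dotProduct,
        Fin.sum_univ_two]

/-- A group of automorphisms of a group of order `p ^ 2` with two non-commuting elements of order
`p` contains `SL(2,p)`. -/
theorem exists_sl2_le (hcomm : IsMulCommutative H) (hexp : ∀ h : H, h ^ p = 1)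
    (hcard : Nat.card H = p ^ 2) (A : Subgroup (MulAut H)) {a b : MulAut H} (haA : a ∈ A)
    (hbA : b ∈ A) (hap : a ^ p = 1) (hbp : b ^ p = 1) (hab : ¬ Commute a b) :
    ∃ K : Subgroup (MulAut H), K ≤ A ∧ Nonempty (K ≃* SL(2, ZMod p)) := by
  obtain ⟨K, hK, hK', -⟩ := exists_sl2_le' hcomm hexp hcard A haA hbA hap hbp hab
  exact ⟨K, hK, hK'⟩

variable {Ω : Type*} [Group Ω] {S : Subgroup Ω} [Finite S] {F : FusionSystem S}

/-- An essential subgroup of order `p ^ 2` is elementary abelian with automizer containing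
`SL(2,p)`. -/
theorem essential_card_sq (hS : IsPGroup p S) {P : Subgroup Ω} (hP : F.IsEssential p P)
    (hcard : Nat.card P = p ^ 2) :
    Cfsg.IsElementaryAbelian p P ∧
      ∃ K : Subgroup (F.autGroup P), Nonempty (K ≃* SL(2, ZMod p)) := by
  obtain ⟨hc, -, hn, Y, hY⟩ := hP
  have hPS := hc.1
  haveI := finite_of_le hPS
  haveI := finite_mulAut P
  haveI hcomm : IsMulCommutative P := IsPGroup.isMulCommutative_of_card_eq_prime_sq hcard
  have hinn : ∀ α ∈ Inn P, α = 1 := by
    rintro _ ⟨g, rfl⟩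
    ext h
    show ((g * h * g⁻¹ : P) : Ω) = h
    rw [show g * h = h * g from hcomm.is_comm.comm g h, mul_inv_cancel_right]
  have hbot : (Inn P).subgroupOf (F.autGroup P) = ⊥ :=
    (Subgroup.eq_bot_iff_forall _).mpr fun α hα => Subtype.ext (hinn _ hα)
  have hcore : ∀ N : Subgroup (F.autGroup P), N.Normal → IsPGroup p N → N = ⊥ := by
    intro N hN hNp
    have h1 := pCore_eq_bot_of_isStronglyPEmbedded hY
    have hsurj := QuotientGroup.mk'_surjective ((Inn P).subgroupOf (F.autGroup P))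
    have hle : N.map (QuotientGroup.mk' _) ≤ ⊥ :=
      h1 ▸ le_pCore (hN.map _ hsurj) (hNp.map _)
    rw [le_bot_iff, Subgroup.map_eq_bot_iff, QuotientGroup.ker_mk', hbot, le_bot_iff] at hle
    exact hle
  have hdvd : p ∣ Nat.card (F.autGroup P) := hY.1.trans (Subgroup.card_quotient_dvd_card _)
  -- two elements of order `p` which do not commute
  obtain ⟨a, b, hap, hbp, hab⟩ : ∃ a b : F.autGroup P, a ^ p = 1 ∧ b ^ p = 1 ∧ ¬ Commute a b := by
    by_contra hno
    push Not at hno
    set U := Subgroup.closure {c : F.autGroup P | c ^ p = 1}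
    have hU : ∀ u ∈ U, u ^ p = 1 ∧ ∀ c : F.autGroup P, c ^ p = 1 → Commute u c := by
      intro u hu
      induction hu using Subgroup.closure_induction with
      | mem u hu => exact ⟨hu, fun c hc => hno u c hu hc⟩
      | one => exact ⟨one_pow p, fun c _ => Commute.one_left c⟩
      | mul u v _ _ hu hv =>
        exact ⟨by rw [(hu.2 v hv.1).mul_pow, hu.1, hv.1, one_mul],
          fun c hc => (hu.2 c hc).mul_left (hv.2 c hc)⟩
      | inv u _ hu => exact ⟨by rw [inv_pow, hu.1, inv_one], fun c hc => (hu.2 c hc).inv_left⟩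
    have hn' : U.Normal := ⟨fun u hu g => by
      refine Subgroup.subset_closure (Set.mem_setOf.mpr ?_)
      rw [conj_pow, (hU u hu).1, mul_one, mul_inv_cancel]⟩
    have hU1 := hcore U hn' fun u => ⟨1, Subtype.ext (by
      rw [pow_one, Subgroup.coe_pow, (hU u u.2).1, Subgroup.coe_one])⟩
    obtain ⟨c, hc'⟩ := exists_prime_orderOf_dvd_card' (G := F.autGroup P) p hdvd
    have h1 : c ∈ U := Subgroup.subset_closure (by
      show c ^ p = 1
      rw [← hc', pow_orderOf_eq_one])
    rw [hU1, Subgroup.mem_bot] at h1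
    rw [h1, orderOf_one] at hc'
    exact hp.out.one_lt.ne hc'
  have hexp : ∀ h : P, h ^ p = 1 := by
    by_contra hne
    push Not at hne
    obtain ⟨g, hg⟩ := hne
    have hgo : orderOf g = p ^ 2 := by
      obtain ⟨m, hm, he⟩ := (Nat.dvd_prime_pow hp.out).mp (hcard ▸ orderOf_dvd_natCard g)
      rcases Nat.lt_or_ge m 2 with h | h
      · exact absurd (orderOf_dvd_iff_pow_eq_one.mp
          (he ▸ (pow_dvd_pow p (by omega : m ≤ 1)).trans (pow_one p).dvd)) hg
      · rw [he, show m = 2 by omega]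
    have hgen : ∀ h : P, h ∈ Subgroup.zpowers g := fun h => by
      rw [Subgroup.eq_top_of_card_eq (Subgroup.zpowers g) (by rw [Nat.card_zpowers, hgo, hcard])]
      exact Subgroup.mem_top h
    apply hab
    refine Subtype.ext (MulEquiv.ext fun h => ?_)
    obtain ⟨i, hi⟩ := Subgroup.mem_zpowers_iff.mp (hgen ((a : MulAut P) g))
    obtain ⟨j, hj⟩ := Subgroup.mem_zpowers_iff.mp (hgen ((b : MulAut P) g))
    obtain ⟨l, rfl⟩ := Subgroup.mem_zpowers_iff.mp (hgen h)
    show (a : MulAut P) ((b : MulAut P) (g ^ l)) = (b : MulAut P) ((a : MulAut P) (g ^ l))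
    rw [map_zpow, map_zpow, map_zpow, map_zpow, ← hj, map_zpow, ← hi, map_zpow, ← hj,
      ← zpow_mul, ← zpow_mul, ← zpow_mul, ← zpow_mul]
    congr 1
    ring
  refine ⟨⟨hcomm, fun x hx => congrArg Subtype.val (hexp ⟨x, hx⟩)⟩, ?_⟩
  obtain ⟨K, hK, ⟨e⟩⟩ := exists_sl2_le hcomm hexp hcard (F.autGroup P) a.2 b.2
    (congrArg Subtype.val hap) (congrArg Subtype.val hbp)
    fun h => hab (Subtype.ext h)
  exact ⟨K.subgroupOf (F.autGroup P), ⟨(Subgroup.subgroupOfEquivOfLe hK).trans e⟩⟩

end Cfsg.Agent.Fusion
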