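import Cfsg.Agent.Lib.Fusion.OmegaSeries
import Cfsg.Agent.Lib.Fusion.RankTwoEssential
import Cfsg.Agent.Lib.InvChar.Basics

/-!
For odd `p`, a strongly closed subgroup with at most `p ^ 2` elements of order dividing `p`
forming a subgroup is normal.
-/

set_option autoImplicit false

namespace Cfsg.Agent.Fusion

open Cfsg.FusionSystem (centralizerIn normalizerIn)

universe u

variable {p : ℕ} [hp : Fact p.Prime]

/-- Frattini argument for an element with central image. -/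
theorem exists_normalizes_of_map_mem_center {A B : Type*} [Group A] [Finite A] [Group B]
    (ρ : A →* B) (T : Sylow p A) {φ : A} (hφ : ρ φ ∈ Subgroup.center B) :
    ∃ ψ : A, ρ ψ = ρ φ ∧ ∀ t ∈ (T : Subgroup A), ψ * t * ψ⁻¹ ∈ (T : Subgroup A) := by
  set L := ((T : Subgroup A).map ρ).comap ρ
  have hTL : (T : Subgroup A) ≤ L := fun t ht => ⟨t, ht, rfl⟩
  have hφT : ((φ • T : Sylow p A) : Subgroup A) ≤ L := by
    intro a ha
    rw [Sylow.coe_subgroup_smul] at ha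
    obtain ⟨t, ht, rfl⟩ := Subgroup.mem_smul_pointwise_iff_exists _ _ _ |>.mp ha
    refine ⟨t, ht, ?_⟩
    show ρ t = ρ (φ * t * φ⁻¹)
    rw [map_mul, map_mul, ← Subgroup.mem_center_iff.mp hφ (ρ t), map_inv, mul_inv_cancel_right]
  obtain ⟨k, hk⟩ := MulAction.exists_smul_eq L ((φ • T).subtype hφT) (T.subtype hTL)
  rw [Sylow.smul_subtype] at hk
  have hk' : ((k : A) * φ) • T = T := by
    rw [← smul_smul]; exact Sylow.subtype_injective hk
  obtain ⟨t, ht, htk⟩ := k.2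
  refine ⟨t⁻¹ * (k * φ), by rw [map_mul, map_mul, map_inv, htk]; group, fun s hs => ?_⟩
  have hn : t⁻¹ * (k * φ) ∈ Subgroup.normalizer ((T : Subgroup A) : Set A) :=
    Subgroup.mul_mem _ (Subgroup.inv_mem _ (Subgroup.le_normalizer ht))
      (Sylow.smul_eq_iff_mem_normalizer.mp hk')
  exact (Subgroup.mem_normalizer_iff.mp hn s).mp hs

variable {Ω : Type u} [Group Ω] {S : Subgroup Ω} {F : FusionSystem S} [Finite S]

/-- The criterion for a strongly closed subgroup of `p`-rank at most two. -/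
theorem isNormal_of_omega_le_sq (hS : IsPGroup p S) (hF : F.IsSaturated p) (hp2 : p ≠ 2)
    {P : Subgroup Ω} (hP : F.StronglyClosed P) (E : Subgroup Ω)
    (hE : ∀ x, x ∈ E ↔ x ∈ P ∧ x ^ p = 1) (hEab : ∀ x ∈ E, ∀ y ∈ E, x * y = y * x)
    (hcard : Nat.card E ≤ p ^ 2) : F.IsNormal P := by
  have hEP : E ≤ P := fun x hx => ((hE x).mp hx).1
  have hPS := hP.1
  have hES : E ≤ S := hEP.trans hPS
  have := finite_of_le hES
  have := finite_of_le hPS
  have hEmap : ∀ (R : Subgroup Ω) (f : Ω → Ω), MapTo F R f → ∀ x ∈ R, x ∈ E → f x ∈ E := by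
    intro R f hf x hxR hx
    refine (hE _).mpr ⟨StronglyClosed.map_mem hP hf hxR (hEP hx), ?_⟩
    obtain ⟨φ, -, hφf⟩ := id hf
    rw [show f x = φ ⟨x, hxR⟩ from (hφf ⟨x, hxR⟩).symm, ← map_pow,
      show (⟨x, hxR⟩ : R) ^ p = 1 from Subtype.ext ((hE x).mp hx).2, map_one]
  have hEsc : F.StronglyClosed E :=
    stronglyClosed_iff.mpr ⟨hES, fun R f hR hf x hx => hEmap R f hf x hx (hR hx)⟩
  have hbot : F.StronglyClosed (⊥ : Subgroup Ω) := IsNormal.stronglyClosed (isNormal_bot F)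
  by_cases hcent : ∀ x ∈ E, ∀ k ∈ P, k * x * k⁻¹ = x
  · refine isNormal_of_omega_series hS hF hp2 hP (n := 1) ![⊥, E] rfl
      (fun x hx hxp => (hE x).mpr ⟨hx, hxp⟩) ?_ ?_
    · intro i
      fin_cases i
      · exact hbot
      · exact hEsc
    · intro i x hx k hk
      fin_cases i
      change x ∈ E at hx
      show x⁻¹ * (k * x * k⁻¹) ∈ (⊥ : Subgroup Ω)
      rw [hcent x hx k hk, inv_mul_cancel]
      exact Subgroup.one_mem _
  push Not at hcent
  obtain ⟨x₀, hx₀, g, hg, hgx₀⟩ := hcent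
  set Z := E ⊓ centralizerIn S S with hZdef
  have hZE : Z ≤ E := inf_le_left
  have := finite_of_le (hZE.trans hES)
  have hZc : ∀ z ∈ Z, ∀ s ∈ S, s * z = z * s := fun z hz s hs => (mem_centralizerIn.mp hz.2).2 s hs
  have hn : (E.subgroupOf S).Normal := ⟨fun x hx s => StronglyClosed.conj_mem hEsc s.2 hx⟩
  have hne : E.subgroupOf S ≠ ⊥ := by
    intro h
    rw [Subgroup.subgroupOf_eq_bot, disjoint_iff, inf_eq_left.mpr hES] at h
    rw [h, Subgroup.mem_bot] at hx₀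
    exact hgx₀ (by rw [hx₀]; group)
  obtain ⟨z₁, hz₁, hz₁c, hz₁1⟩ := InvChar.exists_mem_center_of_normal hS (E.subgroupOf S) hne
  have hz₁Z : (z₁ : Ω) ∈ Z := ⟨hz₁, mem_centralizerIn.mpr ⟨z₁.2, fun s hs =>
    congrArg Subtype.val (Subgroup.mem_center_iff.mp hz₁c ⟨s, hs⟩)⟩⟩
  have hZlt : Z < E := lt_of_le_of_ne hZE fun h => hgx₀ (by
    rw [hZc x₀ (h ▸ hx₀) g (hPS hg), mul_inv_cancel_right])
  obtain ⟨a, ha⟩ := IsPGroup.iff_card.mp (hS.to_le (hZE.trans hES))
  obtain ⟨b, hb⟩ := IsPGroup.iff_card.mp (hS.to_le hES)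
  have ha0 : a ≠ 0 := fun h => by
    rw [h, pow_zero, Subgroup.card_eq_one] at ha
    exact hz₁1 (Subtype.ext (Subgroup.mem_bot.mp (ha ▸ hz₁Z)))
  have hab : a < b := by
    refine (Nat.pow_lt_pow_iff_right hp.out.one_lt).mp ?_
    rw [← ha, ← hb]
    exact lt_of_le_of_ne (Subgroup.card_le_of_le hZE) fun h =>
      hZlt.ne (Subgroup.eq_of_le_of_card_ge hZE h.ge)
  have hb2 : b ≤ 2 := (Nat.pow_le_pow_iff_right hp.out.one_lt).mp (hb ▸ hcard)
  have hcZ : Nat.card Z = p := by rw [ha, show a = 1 by omega, pow_one]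
  have hcE : Nat.card E = p ^ 2 := by rw [hb, show b = 2 by omega]
  have hspan : ∀ e ∈ E, e ∉ Z → E ≤ Z ⊔ Subgroup.zpowers e := by
    intro e he heZ
    have hle : Z ⊔ Subgroup.zpowers e ≤ E := sup_le hZE (Subgroup.zpowers_le.mpr he)
    have := finite_of_le (hle.trans hES)
    obtain ⟨c, hc⟩ := IsPGroup.iff_card.mp (hS.to_le (hle.trans hES))
    have h1 : p ^ 1 < p ^ c := by
      rw [pow_one, ← hc, ← hcZ]
      exact lt_of_le_of_ne (Subgroup.card_le_of_le le_sup_left) fun h => heZ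
        ((Subgroup.eq_of_le_of_card_ge le_sup_left h.ge).ge
          (Subgroup.mem_sup_right (Subgroup.mem_zpowers e)))
    exact (Subgroup.eq_of_le_of_card_ge hle (by
      rw [hcE, hc]
      exact Nat.pow_le_pow_right hp.out.pos ((Nat.pow_lt_pow_iff_right hp.out.one_lt).mp h1))).ge
  -- `S` centralizes `E / Z`
  have hstep : ∀ y ∈ E, ∀ k ∈ S, y⁻¹ * (k * y * k⁻¹) ∈ Z := by
    have hZn : (Z.subgroupOf S).Normal := ⟨fun z hz s => by
      show (s : Ω) * z * (s : Ω)⁻¹ ∈ Z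
      rwa [hZc z hz s s.2, mul_inv_cancel_right]⟩
    set π := QuotientGroup.mk' (Z.subgroupOf S) with hπ
    have := hn.map π (QuotientGroup.mk'_surjective _)
    obtain ⟨y₀, hy₀, hy₀Z⟩ := SetLike.exists_of_lt hZlt
    obtain ⟨c, hc, hcc, hc1⟩ := InvChar.exists_mem_center_of_normal (hS.to_quotient (Z.subgroupOf S))
      ((E.subgroupOf S).map π) (fun h => hy₀Z (by
        have h1 := h.le (Subgroup.mem_map_of_mem π
          (show (⟨y₀, hES hy₀⟩ : S) ∈ E.subgroupOf S from hy₀))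
        rw [Subgroup.mem_bot] at h1
        exact (QuotientGroup.eq_one_iff (N := Z.subgroupOf S) _).mp h1))
    obtain ⟨e, he, rfl⟩ := hc
    have heZ : (e : Ω) ∉ Z := fun h => hc1 ((QuotientGroup.eq_one_iff e).mpr h)
    have hle : E.subgroupOf S ≤ (Subgroup.center _).comap π := by
      intro y hy
      have h1 := hspan e he heZ hy
      rw [show Z ⊔ Subgroup.zpowers (e : Ω) = (Z.subgroupOf S ⊔ Subgroup.zpowers e).map S.subtype by
        rw [Subgroup.map_sup, MonoidHom.map_zpowers, Subgroup.subgroupOf_map_subtype,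
          inf_eq_left.mpr (hZE.trans hES)]; rfl] at h1
      obtain ⟨y', hy', hyy⟩ := h1
      rw [show y' = y from Subtype.ext hyy] at hy'
      refine (sup_le ?_ ?_ : Z.subgroupOf S ⊔ Subgroup.zpowers e ≤ _) hy'
      · intro z hz
        rw [Subgroup.mem_comap, show π z = 1 from (QuotientGroup.eq_one_iff z).mpr hz]
        exact Subgroup.one_mem _
      · rw [Subgroup.zpowers_le, Subgroup.mem_comap]; exact hcc
    intro y hy k hk
    have h1 := hle (show (⟨y, hES hy⟩ : S) ∈ E.subgroupOf S from hy)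
    rw [Subgroup.mem_comap] at h1
    have h2 : π ((⟨y, hES hy⟩ : S)⁻¹ * (⟨k, hk⟩ * ⟨y, hES hy⟩ * ⟨k, hk⟩⁻¹)) = 1 := by
      simp only [map_mul, map_inv]
      rw [Subgroup.mem_center_iff.mp h1 (π ⟨k, hk⟩)]
      group
    exact (QuotientGroup.eq_one_iff (N := Z.subgroupOf S) _).mp h2
  suffices hZsc : F.StronglyClosed Z by
    refine isNormal_of_omega_series hS hF hp2 hP (n := 2) ![⊥, Z, E] rfl
      (fun x hx hxp => (hE x).mpr ⟨hx, hxp⟩) ?_ ?_
    · intro i
      fin_cases i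
      · exact hbot
      · exact hZsc
      · exact hEsc
    · intro i x hx k hk
      fin_cases i
      · change x ∈ Z at hx
        show x⁻¹ * (k * x * k⁻¹) ∈ (⊥ : Subgroup Ω)
        rw [hZc x hx k (hPS hk), mul_inv_cancel_right, inv_mul_cancel]
        exact Subgroup.one_mem _
      · change x ∈ E at hx
        show x⁻¹ * (k * x * k⁻¹) ∈ Z
        exact hstep x hx k (hPS hk)
  refine stronglyClosed_iff.mpr ⟨hZE.trans hES, fun R f hR hf x hx => ?_⟩
  by_contra hfx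
  have hxZ := hR hx
  set w := f x
  have hwE : w ∈ E := hEmap R f hf x hx (hZE hxZ)
  have hx1 : x ≠ 1 := fun h => hfx (by
    show f x ∈ Z
    rw [h, hf.map_one]; exact Z.one_mem)
  obtain ⟨f', hf', hf'f, -, -⟩ := hf.exists_iso_inverse
  have hwR : Subgroup.zpowers w ≤ img f R := Subgroup.zpowers_le.mpr (mem_img_of_mem hx)
  have hW := hf'.restrict hwR
  have himg : img f' (Subgroup.zpowers w) = Subgroup.zpowers x := by
    obtain ⟨φ, -, hφ⟩ := id hW
    rw [← range_eq_img hφ]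
    have hφw : φ ⟨w, Subgroup.mem_zpowers w⟩ = x := (hφ _).trans (hf'f x hx)
    refine le_antisymm ?_ (Subgroup.zpowers_le.mpr ⟨_, hφw⟩)
    rintro _ ⟨⟨v, hv⟩, rfl⟩
    obtain ⟨i, rfl⟩ := Subgroup.mem_zpowers_iff.mp hv
    rw [show (⟨w ^ i, hv⟩ : Subgroup.zpowers w) = ⟨w, Subgroup.mem_zpowers w⟩ ^ i from Subtype.ext rfl,
      map_zpow, hφw]
    exact ⟨i, rfl⟩
  have hxS : Subgroup.zpowers x ≤ S := Subgroup.zpowers_le.mpr (hES (hZE hxZ))
  have := finite_of_le (centralizerIn_le (S := S) (P := Subgroup.zpowers x))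
  have hxfc : F.IsFullyCentralized (Subgroup.zpowers x) := ⟨hxS, fun Q _ =>
    Subgroup.card_le_of_le (centralizerIn_le.trans fun s hs => mem_centralizerIn.mpr ⟨hs, by
      intro v hv
      obtain ⟨i, rfl⟩ := Subgroup.mem_zpowers_iff.mp hv
      exact ((show Commute s x from hZc x hxZ s hs).zpow_right i).symm⟩)⟩
  obtain ⟨e, he, hef⟩ := (isReceptive_iff.mp (isReceptive_of_isFullyCentralized hS hF hxfc)).2
    _ f' hW himg
  have hew : e w = x := (hef w (Subgroup.mem_zpowers w)).trans (hf'f x hx)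
  set M := P ⊓ Subgroup.centralizer (E : Set Ω) with hMdef
  have hMP : M ≤ P := inf_le_left
  have hMS : M ≤ S := hMP.trans hPS
  have := finite_of_le hMS
  have := finite_mulAut M
  have hMc : ∀ m ∈ M, ∀ y ∈ E, y * m = m * y := fun m hm y hy => hm.2 y hy
  have hEM : E ≤ M := fun y hy => ⟨hEP hy, fun z hz => hEab z hz y hy⟩
  have heM := he.restrict (R := M) fun m hm => centralizerIn_le_extSub hW
    (mem_centralizerIn.mpr ⟨hMS hm, fun v hv => by
      obtain ⟨i, rfl⟩ := Subgroup.mem_zpowers_iff.mp hv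
      exact ((show Commute m w from (hMc m hm w hwE).symm).zpow_right i).symm⟩)
  have hEimg : img e E = E := img_eq_self_of_forall (heM.restrict hEM) fun y hy =>
    hEmap M e heM y (hEM hy) hy
  have hMimg : img e M = M := img_eq_self_of_forall heM fun m hm =>
    ⟨StronglyClosed.map_mem hP heM hm (hMP hm), fun y hy => by
      obtain ⟨y', hy', rfl⟩ := ((heM.restrict hEM).mem_img_iff le_rfl).mp
        (hEimg.symm ▸ hy : y ∈ img e E)
      rw [← heM.map_mul (hEM hy') hm, ← heM.map_mul hm (hEM hy'), hMc m hm y' hy']⟩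
  set α := autOf heM hMimg with hαdef
  have hα : α ∈ F.autGroup M := autOf_mem heM hMimg
  have hαw : autFun α w = x := (autFun_autOf heM hMimg (hEM hwE)).trans hew
  have hMn : ∀ s ∈ S, ∀ m ∈ M, s * m * s⁻¹ ∈ M := fun s hs m hm =>
    ⟨StronglyClosed.conj_mem hP hs (hMP hm), fun y hy => by
      have h1 := hMc m hm _ (StronglyClosed.conj_mem hEsc (S.inv_mem hs) hy)
      calc y * (s * m * s⁻¹) = s * (s⁻¹ * y * s⁻¹⁻¹ * m) * s⁻¹ := by group
        _ = s * (m * (s⁻¹ * y * s⁻¹⁻¹)) * s⁻¹ := by rw [h1]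
        _ = s * m * s⁻¹ * y := by group⟩
  have hNM : normalizerIn S M = S := le_antisymm normalizerIn_le fun s hs =>
    mem_normalizerIn_of_forall hMS hs (hMn s hs)
  have hMfn : F.IsFullyNormalized M := ⟨hMS, fun Q _ => by
    rw [hNM]; exact Subgroup.card_le_of_le normalizerIn_le⟩
  -- the action on `E`
  set E' := E.subgroupOf M with hE'
  have hinv : ∀ (β : MulAut M), ∀ u ∈ E', β u ∈ E' := fun β u hu => by
    refine (hE _).mpr ⟨hMP (β u).2, ?_⟩
    show ((β u : M) : Ω) ^ p = 1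
    rw [← Subgroup.coe_pow, ← map_pow, show u ^ p = 1 from Subtype.ext ((hE _).mp hu).2, map_one,
      Subgroup.coe_one]
  let ρ : MulAut M →* MulAut E' := MonoidHom.mk'
    (fun β => Coprime23.restrictAut β E' (hinv β)) fun β β' => MulEquiv.ext fun u => Subtype.ext rfl
  have hρ : ∀ (β : MulAut M) (u : E'), (((ρ β u : E') : M) : Ω) = autFun β ((u : M) : Ω) :=
    fun β u => (autFun_coe β (u : M)).symm
  obtain ⟨γ, hγ⟩ := exists_conjAut (hNM.ge (hPS hg)).2
  have hγA : γ ∈ autInducedBy S M := mem_autInducedBy_iff_cj.mpr ⟨g, hPS hg, hγ⟩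
  have hE'c : IsMulCommutative E' :=
    ⟨⟨fun u v => Subtype.ext (Subtype.ext (hEab _ u.2 _ v.2))⟩⟩
  have hE'e : ∀ u : E', u ^ p = 1 := fun u => Subtype.ext (Subtype.ext ((hE _).mp u.2).2)
  have hE'card : Nat.card E' = p ^ 2 := by
    rw [hE', Nat.card_congr (Subgroup.subgroupOfEquivOfLe hEM).toEquiv, hcE]
  have hgZ : ∀ z ∈ Z, g * z * g⁻¹ = z := fun z hz => by
    rw [hZc z hz g (hPS hg), mul_inv_cancel_right]
  have hγu : ∀ u : E', (((ρ γ u : E') : M) : Ω) = g * ((u : M) : Ω) * g⁻¹ := fun u =>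
    (hρ γ u).trans (hγ _ (u : M).2)
  have hap : ρ γ ^ p = 1 := by
    refine MulEquiv.ext fun u => ?_
    have hz := hstep _ u.2 g (hPS hg)
    set z : E' := u⁻¹ * ρ γ u with hzdef
    have hzZ : ((z : M) : Ω) ∈ Z := by
      show ((u : M) : Ω)⁻¹ * (((ρ γ u : E') : M) : Ω) ∈ Z
      rw [hγu]; exact hz
    have hzfix : ρ γ z = z := Subtype.ext (Subtype.ext ((hγu z).trans (hgZ _ hzZ)))
    have hit : ∀ n : ℕ, (ρ γ ^ n) u = u * z ^ n := by
      intro n
      induction n with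
      | zero => simp
      | succ n ih =>
        rw [pow_succ', MulAut.mul_apply, ih, map_mul, map_pow, hzfix, pow_succ', hzdef, ← mul_assoc,
          ← mul_assoc, mul_inv_cancel, one_mul]
    rw [hit, hE'e, mul_one]
    rfl
  set β := α⁻¹ * γ * α with hβdef
  have hbp : ρ β ^ p = 1 := by
    have hconj : ρ β = (ρ α)⁻¹ * ρ γ * ((ρ α)⁻¹)⁻¹ := by
      rw [hβdef, map_mul, map_mul, map_inv, inv_inv]
    rw [hconj, conj_pow, hap, mul_one, mul_inv_cancel]
  set w' : E' := ⟨⟨w, hEM hwE⟩, hwE⟩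
  have hbw : ρ β w' = w' := by
    refine Subtype.ext (Subtype.ext ?_)
    rw [hρ]
    show autFun β w = w
    rw [hβdef, autFun_mul _ _ (hEM hwE), hαw, autFun_mul _ _ (hEM (hZE hxZ)),
      hγ x (hEM (hZE hxZ)), show cj g x = x from hgZ x hxZ, ← hαw, autFun_inv_autFun _ (hEM hwE)]
  have haw : ρ γ w' ≠ w' := by
    intro h
    apply hgx₀
    have hgw : g * w * g⁻¹ = w := (hγu w').symm.trans (congrArg (fun u : E' => ((u : M) : Ω)) h)
    have hle : Z ⊔ Subgroup.zpowers w ≤ Subgroup.centralizer {g} := by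
      refine sup_le (fun z hz => ?_) (Subgroup.zpowers_le.mpr ?_)
      · exact Subgroup.mem_centralizer_singleton_iff.mpr (hZc z hz g (hPS hg)).symm
      · exact Subgroup.mem_centralizer_singleton_iff.mpr (mul_inv_eq_iff_eq_mul.mp hgw).symm
    rw [← Subgroup.mem_centralizer_singleton_iff.mp (hle (hspan w hwE hfx hx₀)), mul_inv_cancel_right]
  have hnc : ¬ Commute (ρ γ) (ρ β) := by
    intro h
    set z : E' := w'⁻¹ * ρ γ w' with hzdef
    have hzZ : ((z : M) : Ω) ∈ Z := by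
      show w⁻¹ * (((ρ γ w' : E') : M) : Ω) ∈ Z
      rw [hγu]; exact hstep w hwE g (hPS hg)
    have hz1 : z ≠ 1 := fun h' => haw (inv_mul_eq_one.mp h').symm
    have hbz : ρ β z = z := by
      have h1 := DFunLike.congr_fun h.eq w'
      rw [MulAut.mul_apply, MulAut.mul_apply, hbw] at h1
      rw [hzdef, map_mul, map_inv, hbw, ← h1]
    have hZz : Z ≤ Subgroup.zpowers ((z : M) : Ω) := by
      refine (Subgroup.eq_of_le_of_card_ge (Subgroup.zpowers_le.mpr hzZ) ?_).ge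
      rw [hcZ, Nat.card_zpowers]
      exact (orderOf_eq_prime ((hE _).mp z.2).2
        fun h' => hz1 (Subtype.ext (Subtype.ext h'))).ge
    have hb1 : ρ β = 1 := by
      refine MulEquiv.ext fun u => ?_
      have hle : Z ⊔ Subgroup.zpowers w ≤
          ((ρ β).toMonoidHom.eqLocus (MonoidHom.id E')).map (M.subtype.comp E'.subtype) := by
        refine sup_le (hZz.trans (Subgroup.zpowers_le.mpr ⟨z, hbz, rfl⟩))
          (Subgroup.zpowers_le.mpr ⟨w', hbw, rfl⟩)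
      obtain ⟨v, hv, hvu⟩ := hle (hspan w hwE hfx (show ((u : M) : Ω) ∈ E from u.2))
      rw [show u = v from Subtype.ext (Subtype.ext hvu.symm)]
      exact hv
    apply haw
    have h2 : ρ γ = 1 := by
      rw [hβdef, map_mul, map_mul, map_inv] at hb1
      calc ρ γ = ρ α * ((ρ α)⁻¹ * ρ γ * ρ α) * (ρ α)⁻¹ := by group
        _ = 1 := by rw [hb1]; group
    rw [h2]; rfl
  have hγF : γ ∈ F.autGroup M := autInducedBy_le_autGroup hMS hγA
  have hβF : β ∈ F.autGroup M :=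
    Subgroup.mul_mem _ (Subgroup.mul_mem _ (Subgroup.inv_mem _ hα) hγF) hα
  obtain ⟨K, hK, -, c, hcK, hc⟩ := exists_sl2_le' hE'c hE'e hE'card ((F.autGroup M).map ρ)
    (Subgroup.mem_map_of_mem ρ hγF) (Subgroup.mem_map_of_mem ρ hβF) hap hbp hnc
  obtain ⟨φ, hφ, hφc⟩ := hK hcK
  obtain ⟨-, T, hT⟩ := isFullyAutomized_of_isFullyNormalized hS hF hMfn
  obtain ⟨ψ₀, hψ₀, hψ₀T⟩ := exists_normalizes_of_map_mem_center (ρ.comp (F.autGroup M).subtype) T
    (φ := ⟨φ, hφ⟩) (Subgroup.mem_center_iff.mpr fun b => MulEquiv.ext fun u => by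
      show b (ρ φ u) = ρ φ (b u)
      rw [hφc, hc, hc, map_inv])
  have hψc : ρ (ψ₀ : MulAut M) = c := hψ₀.trans hφc
  -- extension to `S`
  obtain ⟨Ψ, hΨ, hΨψ⟩ := (isReceptive_iff.mp (isReceptive_of_isFullyNormalized hS hF hMfn)).2 M _
    (mapTo_of_mem_autGroup hMS ψ₀.2) (img_autFun _)
  have hext : S ≤ extSub S (mapTo_of_mem_autGroup (F := F) hMS ψ₀.2) := by
    intro k hk
    refine ⟨hNM.ge hk, ?_⟩
    obtain ⟨γk, hγk⟩ := exists_conjAut (hNM.ge hk).2
    have hγkA : γk ∈ autInducedBy S M := mem_autInducedBy_iff_cj.mpr ⟨k, hk, hγk⟩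
    have h1 := hψ₀T ⟨γk, autInducedBy_le_autGroup hMS hγkA⟩ (hT.symm ▸ hγkA)
    rw [hT] at h1
    obtain ⟨h, hh, hx'⟩ := mem_autInducedBy_iff_cj.mp h1
    refine ⟨h, hh, fun m hm => ?_⟩
    have h2 := hx' _ (autFun_mem (ψ₀ : MulAut M) hm)
    change autFun ((ψ₀ : MulAut M) * γk * (ψ₀ : MulAut M)⁻¹) _ = _ at h2
    rw [autFun_mul _ _ (autFun_mem _ hm), autFun_inv_autFun _ hm, autFun_mul _ _ hm, hγk m hm] at h2
    exact h2
  have hΨS := hΨ.restrict hext
  have hΨimg : img Ψ S = S := img_eq_self_of_forall hΨS fun s hs => hΨS.mem hs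
  set ψ : MulAut S := autOf hΨS hΨimg with hψdef
  have hψval : ∀ s : S, ((ψ s : S) : Ω) = Ψ s := fun s => by
    rw [← autFun_coe, autFun_autOf _ _ s.2]
  have hψE : ∀ s : S, (s : Ω) ∈ E → ψ s = s⁻¹ := fun s hs => Subtype.ext (by
    rw [hψval, hΨψ _ (hEM hs)]
    have h1 := congrArg (fun u : E' => ((u : M) : Ω)) (hc ⟨⟨s, hEM hs⟩, hs⟩)
    rw [← hψc] at h1
    rw [hρ] at h1
    exact h1)
  have hψP : ∀ s : S, (s : Ω) ∈ P → ((ψ s : S) : Ω) ∈ P := fun s hs => by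
    rw [hψval]; exact StronglyClosed.map_mem hP hΨS s.2 hs
  -- `ψ` centralizes `P / M`
  have hψM : ∀ s : S, (s : Ω) ∈ P → ((ψ s : S) : Ω) * (s : Ω)⁻¹ ∈ M := by
    intro s hs
    refine ⟨P.mul_mem (hψP s hs) (P.inv_mem hs), fun y hy => ?_⟩
    set y' : S := ⟨(s : Ω)⁻¹ * y * s, S.mul_mem (S.mul_mem (S.inv_mem s.2) (hES hy)) s.2⟩
    have hy' : (y' : Ω) ∈ E := by
      simpa using StronglyClosed.conj_mem hEsc (S.inv_mem s.2) hy
    have h1 : ψ s * (y')⁻¹ * (ψ s)⁻¹ = ((⟨y, hES hy⟩ : S))⁻¹ := by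
      rw [← hψE y' hy', ← map_inv, ← map_mul, ← map_mul, ← hψE ⟨y, hES hy⟩ hy]
      congr 1
      refine Subtype.ext ?_
      show (s : Ω) * ((s : Ω)⁻¹ * y * s) * (s : Ω)⁻¹ = y
      group
    have h2 := congrArg (fun v : S => (v : Ω)⁻¹) h1
    simp only [Subgroup.coe_mul, Subgroup.coe_inv, mul_inv_rev, inv_inv] at h2
    calc y * (((ψ s : S) : Ω) * (s : Ω)⁻¹)
        = ((ψ s : S) : Ω) * (((s : Ω)⁻¹ * y * s) * ((ψ s : S) : Ω)⁻¹) * ((ψ s : S) : Ω) * (s : Ω)⁻¹ := by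
          rw [show ((ψ s : S) : Ω) * (((s : Ω)⁻¹ * y * s) * ((ψ s : S) : Ω)⁻¹) = y from h2]
          group
      _ = ((ψ s : S) : Ω) * (s : Ω)⁻¹ * y := by group
  obtain ⟨k, m, hm, hord⟩ := Nat.exists_eq_pow_mul_and_not_dvd (orderOf_pos ψ).ne' 2 (by norm_num)
  let X := {s : S // (s : Ω) ∈ P ∧ (s : Ω) * g⁻¹ ∈ M}
  have hmap : ∀ s : S, (s : Ω) ∈ P ∧ (s : Ω) * g⁻¹ ∈ M →
      ∀ n : ℕ, (((ψ ^ n) s : S) : Ω) ∈ P ∧ (((ψ ^ n) s : S) : Ω) * g⁻¹ ∈ M := by
    intro s hs n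
    induction n with
    | zero => exact hs
    | succ n ih =>
      rw [pow_succ', MulAut.mul_apply]
      refine ⟨hψP _ ih.1, ?_⟩
      have := M.mul_mem (hψM _ ih.1) ih.2
      rwa [mul_assoc, inv_mul_cancel_left] at this
  have h2k : (ψ ^ m) ^ 2 ^ k = 1 := by rw [← pow_mul, mul_comm, ← hord, pow_orderOf_eq_one]
  let σ₀ : X → X := fun s => ⟨(ψ ^ m) s.1, hmap s.1 s.2 m⟩
  have hσ₀ : Function.Bijective σ₀ := Finite.injective_iff_bijective.mp fun s t h =>
    Subtype.ext ((ψ ^ m).injective (congrArg Subtype.val h))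
  let σ : Equiv.Perm X := Equiv.ofBijective σ₀ hσ₀
  have hσpow : ∀ n : ℕ, ∀ s : X, ((σ ^ n) s).1 = ((ψ ^ m) ^ n) s.1 := by
    intro n
    induction n with
    | zero => intro s; rfl
    | succ n ih =>
      intro s
      rw [pow_succ', pow_succ', Equiv.Perm.mul_apply, MulAut.mul_apply, ← ih]
      rfl
  have hcardX : Nat.card X = Nat.card M := Nat.card_congr
    { toFun := fun s => ⟨(s.1 : Ω) * g⁻¹, s.2.2⟩
      invFun := fun u => ⟨⟨(u : Ω) * g, S.mul_mem (hMS u.2) (hPS hg)⟩, P.mul_mem (hMP u.2) hg,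
        by rw [mul_inv_cancel_right]; exact u.2⟩
      left_inv := fun s => Subtype.ext (Subtype.ext (inv_mul_cancel_right _ _))
      right_inv := fun u => Subtype.ext (mul_inv_cancel_right _ _) }
  have := Fintype.ofFinite X
  obtain ⟨s, hs⟩ := Equiv.Perm.exists_fixed_point_of_prime (p := 2) (n := k) (α := X) (σ := σ)
    (by
      rw [← Nat.card_eq_fintype_card, hcardX]
      obtain ⟨l, hl⟩ := IsPGroup.iff_card.mp (hS.to_le hMS)
      rw [hl]
      exact fun h => hp2 ((Nat.prime_dvd_prime_iff_eq Nat.prime_two hp.out).mp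
        (Nat.prime_two.dvd_of_dvd_pow h)).symm)
    (Equiv.ext fun s => Subtype.ext (by rw [hσpow, h2k]; rfl))
  have hfix : (ψ ^ m) s.1 = s.1 := congrArg Subtype.val hs
  have hs1 : s.1 ≠ 1 := by
    intro h
    have h1 := s.2.2
    rw [h, Subgroup.coe_one, one_mul, Subgroup.inv_mem_iff] at h1
    exact hgx₀ (by rw [← hMc g h1 x₀ hx₀, mul_inv_cancel_right])
  obtain ⟨l, hl⟩ := IsPGroup.iff_orderOf.mp hS s.1
  have hl0 : l ≠ 0 := fun h => hs1 (orderOf_eq_one_iff.mp (by rw [hl, h, pow_zero]))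
  set y := s.1 ^ p ^ (l - 1) with hy
  have hyo : orderOf y = p := by
    rw [hy, orderOf_pow_of_dvd (pow_ne_zero _ hp.out.ne_zero)
      (hl ▸ pow_dvd_pow p (by omega)), hl, Nat.pow_div (by omega) hp.out.pos,
      show l - (l - 1) = 1 by omega, pow_one]
  have hyp : y ^ p = 1 := hyo ▸ pow_orderOf_eq_one y
  have hyE : (y : Ω) ∈ E := (hE _).mpr
    ⟨by rw [hy, Subgroup.coe_pow]; exact P.pow_mem s.2.1 _,
      by rw [← Subgroup.coe_pow, hyp, Subgroup.coe_one]⟩
  obtain ⟨j, rfl⟩ : Odd m := Nat.not_even_iff_odd.mp fun h => hm h.two_dvd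
  have heven : ∀ n : ℕ, (ψ ^ (2 * n)) y = y := by
    intro n
    induction n with
    | zero => rfl
    | succ n ih =>
      rw [show 2 * (n + 1) = (2 * n).succ.succ by omega, pow_succ', pow_succ', MulAut.mul_apply,
        MulAut.mul_apply, ih, hψE y hyE, map_inv, hψE y hyE, inv_inv]
  have hodd : (ψ ^ (2 * j + 1)) y = y⁻¹ := by
    rw [pow_succ', MulAut.mul_apply, heven, hψE y hyE]
  have hyy : y⁻¹ = y := by
    rw [← hodd]
    conv_lhs => rw [hy, map_pow, hfix]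
  have h22 : y ^ 2 = 1 := by rw [pow_two]; exact mul_eq_one_iff_eq_inv.mpr hyy.symm
  have := orderOf_dvd_of_pow_eq_one h22
  rw [hyo] at this
  exact hp2 ((Nat.prime_dvd_prime_iff_eq hp.out Nat.prime_two).mp this)

end Cfsg.Agent.Fusion
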