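import Cfsg.Agent.Lib.Fusion.ImageSaturation
import Cfsg.Agent.Lib.Fusion.Group

/-!
Systems realized by a homomorphism into a group: plain-function interface, saturation.
-/

set_option autoImplicit false

namespace Cfsg.Agent.Fusion

open Cfsg.FusionSystem (centralizerIn normalizerIn imageAlong)

universe u v

variable {Ω : Type u} [Group Ω] {S : Subgroup Ω} {F : FusionSystem S} {P Q R : Subgroup Ω}
variable {G : Type v} [Group G] {ι : S →* G} {p : ℕ} {f : Ω → Ω}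

theorem th_inj (hι : Function.Injective ι) {x y : Ω} (hx : x ∈ S) (hy : y ∈ S)
    (h : th ι x = th ι y) : x = y := by
  rw [th_apply ι hx, th_apply ι hy] at h
  exact congrArg Subtype.val (hι h)

theorem exists_th_eq {y : G} (hy : y ∈ ι.range) : ∃ x ∈ S, th ι x = y := by
  obtain ⟨s, rfl⟩ := hy
  exact ⟨s, s.2, th_coe ι s⟩

/-- A map of a realized system is conjugation by some element. -/
theorem IsRealizedBy.exists_conj (h : F.IsRealizedBy ι) (hf : MapTo F P f) :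
    ∃ g : G, ∀ x ∈ P, th ι (f x) = g * th ι x * g⁻¹ := by
  obtain ⟨φ, hφ, hφf⟩ := id hf
  obtain ⟨g, hg⟩ := (h.2 P hf.le φ (F.le_of_mem hφ).2).mp hφ
  refine ⟨g, fun x hx => ?_⟩
  rw [th_apply ι (hf.mem hx), th_apply ι (hf.le hx), ← hg ⟨x, hx⟩]
  exact congrArg ι (Subtype.ext (hφf ⟨x, hx⟩).symm)

/-- Conjugation by an element gives a map, when it carries the image into the image of `S`. -/
theorem IsRealizedBy.exists_mapTo (h : F.IsRealizedBy ι) (hP : P ≤ S) (g : G)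
    (hg : ∀ x ∈ P, g * th ι x * g⁻¹ ∈ ι.range) :
    ∃ f, MapTo F P f ∧ ∀ x ∈ P, th ι (f x) = g * th ι x * g⁻¹ := by
  choose s hs hst using fun x : P => exists_th_eq (hg x x.2)
  let φ : P →* Ω := MonoidHom.mk' s fun a b =>
    th_inj h.1 (hs _) (S.mul_mem (hs a) (hs b)) (by
      rw [hst, th_mul ι (hs a) (hs b), hst, hst,
        show ((a * b : P) : Ω) = (a : Ω) * b from rfl, th_mul ι (hP a.2) (hP b.2)]
      group)
  have hφ : φ ∈ F.Hom P := (h.2 P hP φ hs).mpr ⟨g, fun x => by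
    show ι ⟨s x, hs x⟩ = _
    rw [← th_apply ι (hs x), ← th_apply ι (hP x.2)]
    exact hst x⟩
  refine ⟨ev φ, mapTo_ev hφ, fun x hx => ?_⟩
  rw [ev_apply φ hx]
  exact hst ⟨x, hx⟩

theorem IsRealizedBy.mapTo_of_conj (h : F.IsRealizedBy ι) (hP : P ≤ S)
    (hfS : ∀ x ∈ P, f x ∈ S) (g : G) (hg : ∀ x ∈ P, th ι (f x) = g * th ι x * g⁻¹) :
    MapTo F P f := by
  obtain ⟨f', hf', hf'g⟩ := IsRealizedBy.exists_mapTo h hP g fun x hx =>
    hg x hx ▸ th_mem_range ι (f x)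
  exact hf'.congr' fun x hx => th_inj h.1 (hfS x hx) (hf'.mem hx) (by rw [hg x hx, hf'g x hx])

/-- The subgroups of `S` with image in a subgroup of `G`. -/
theorem mem_comap_th {H : Subgroup G} {x : Ω} :
    x ∈ (H.comap ι).map S.subtype ↔ x ∈ S ∧ th ι x ∈ H := by
  constructor
  · rintro ⟨s, hs, rfl⟩
    exact ⟨s.2, (th_coe ι s).symm ▸ hs⟩
  · rintro ⟨hx, h⟩
    exact ⟨⟨x, hx⟩, (th_apply ι hx ▸ h : ι ⟨x, hx⟩ ∈ H), rfl⟩

/-- A system realized on a Sylow subgroup of a finite group is saturated. -/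
theorem IsRealizedBy.isSaturated [Finite G] [Fact p.Prime] (h : F.IsRealizedBy ι) (T : Sylow p G)
    (hT : (T : Subgroup G) = ι.range) : F.IsSaturated p := by
  have hsat := isSaturated_gfs T
  have hp : IsPGroup p (T : Subgroup G) := T.2
  rw [hT] at hsat hp
  let e : S ≃* ι.range := MonoidHom.ofInjective h.1
  let θ : ι.range →* Ω := S.subtype.comp e.symm.toMonoidHom
  have hθ : ∀ {y : G}, y ∈ ι.range → th θ y ∈ S ∧ th ι (th θ y) = y := by
    intro y hy
    rw [th_apply θ hy]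
    refine ⟨(e.symm ⟨y, hy⟩).2, ?_⟩
    show th ι ((e.symm ⟨y, hy⟩ : S) : Ω) = y
    rw [th_coe]
    exact congrArg Subtype.val (e.apply_symm_apply ⟨y, hy⟩)
  have hθ' : ∀ {x : Ω}, x ∈ S → th θ (th ι x) = x := fun {x} hx =>
    th_inj h.1 (hθ (th_mem_range ι x)).1 hx (hθ (th_mem_range ι x)).2
  refine isSaturated_image (θ := θ) hp hsat ⟨⟨fun t => (e.symm t).2, fun P φ hφ => ?_⟩, ?_, ?_⟩
  · have hf : MapTo (groupFusionSystem ι.range) P (ev φ) := mapTo_ev hφ
    obtain ⟨hP, g, hg⟩ := mapTo_gfs_iff.mp hf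
    have hP' : imageAlong θ P ≤ S := imageAlong_le_range.trans
      (by rintro _ ⟨t, rfl⟩; exact (e.symm t).2)
    have hmem : ∀ x ∈ imageAlong θ P, th ι x ∈ P := by
      intro x hx
      obtain ⟨y, hy, rfl⟩ := (mem_imageAlong hP).mp hx
      exact (hθ (hP hy)).2.symm ▸ hy
    obtain ⟨f', hf', hf'g⟩ := IsRealizedBy.exists_mapTo h hP' g
      fun x hx => (hg _ (hmem x hx)).2
    obtain ⟨φ', hφ', hφ'f⟩ := id hf'
    refine ⟨φ', hφ', (inducedAlong_iff hP (fun z hz => hf.mem hz)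
      (fun z => (ev_coe φ z).symm) hφ'f).mpr fun y hy => ⟨th_mem_imageAlong hP hy, ?_⟩⟩
    have hy' := th_mem_imageAlong (θ := θ) hP hy
    refine th_inj h.1 (hf'.mem hy') (hθ (hf.mem hy)).1 ?_
    rw [hf'g _ hy', (hθ (hP hy)).2, (hθ (hf.mem hy)).2, (hg y hy).1]
  · ext x
    constructor
    · rintro ⟨t, rfl⟩
      exact (e.symm t).2
    · intro hx
      exact ⟨e ⟨x, hx⟩, congrArg Subtype.val (e.symm_apply_apply ⟨x, hx⟩)⟩
  · intro P' hP' φ' hφ'
    have hf' : MapTo F P' (ev φ') := mapTo_ev hφ'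
    obtain ⟨g, hg⟩ := IsRealizedBy.exists_conj h hf'
    have hpre : Cfsg.FusionSystem.preimageAlong θ P' ≤ ι.range := preimageAlong_le
    have key : ∀ y ∈ Cfsg.FusionSystem.preimageAlong θ P', g * y * g⁻¹ ∈ ι.range ∧
        th θ (g * y * g⁻¹) = ev φ' (th θ y) := by
      intro y hy
      obtain ⟨hyr, hy'⟩ := mem_preimageAlong.mp hy
      have h1 := hg _ hy'
      rw [(hθ hyr).2] at h1
      rw [← h1]
      exact ⟨th_mem_range ι _, hθ' (hf'.mem hy')⟩
    have hmap : MapTo (groupFusionSystem ι.range) (Cfsg.FusionSystem.preimageAlong θ P')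
        (cj g) := mapTo_gfs_cj hpre fun y hy => (key y hy).1
    obtain ⟨φ, hφ, hφf⟩ := id hmap
    refine ⟨φ, hφ, (inducedAlong_iff hpre (fun z hz => (key z hz).1) hφf
      (fun y => (ev_coe φ' y).symm)).mpr fun y hy =>
        ⟨(mem_preimageAlong.mp hy).2, (key y hy).2.symm⟩⟩

end Cfsg.Agent.Fusion
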