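import Cfsg.Agent.Lib.Fusion.Aut
import Mathlib.GroupTheory.Nilpotent

/-!
Basic theory of saturated fusion systems: receptive subgroups are fully centralized, fully
normalized subgroups are fully centralized, fully automized and receptive, fully centralized
subgroups are receptive, and the Roberts-Shpectorov form of the saturation axioms.
-/

set_option autoImplicit false

namespace Cfsg.Agent.Fusion

open Cfsg.FusionSystem (centralizerIn normalizerIn)

variable {Ω : Type*} [Group Ω] {S : Subgroup Ω}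
variable {F : FusionSystem S} {P Q R : Subgroup Ω} {f g : Ω → Ω} {p : ℕ}

theorem exists_mem_not_mem_normalizer {G : Type*} [Group G] [Finite G] [Fact p.Prime]
    {H K : Subgroup G} (hK : IsPGroup p K) (hlt : H < K) :
    ∃ x ∈ K, x ∉ H ∧ x ∈ Subgroup.normalizer (H : Set G) := by
  have := hK.isNilpotent
  have hne : H.subgroupOf K < ⊤ :=
    lt_top_iff_ne_top.mpr fun h => hlt.not_ge (Subgroup.subgroupOf_eq_top.mp h)
  obtain ⟨x, hx, hxH⟩ :=
    SetLike.exists_of_lt (Group.normalizerCondition_of_isNilpotent (H.subgroupOf K) hne)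
  refine ⟨x, x.2, fun h => hxH h, mem_normalizer_of_forall fun y hy => ?_⟩
  exact (Subgroup.mem_normalizer_iff.mp hx ⟨y, hlt.le hy⟩).mp hy

theorem lt_normalizerIn [Finite S] [Fact p.Prime] (hS : IsPGroup p S) (hP : P < S) :
    P < normalizerIn S P := by
  refine lt_of_le_of_ne (le_normalizerIn hP.le) fun h => ?_
  have := hS.isNilpotent
  have hne : P.subgroupOf S < ⊤ :=
    lt_top_iff_ne_top.mpr fun h' => hP.not_ge (Subgroup.subgroupOf_eq_top.mp h')
  obtain ⟨x, hx, hxP⟩ :=
    SetLike.exists_of_lt (Group.normalizerCondition_of_isNilpotent (P.subgroupOf S) hne)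
  refine hxP (show (x : Ω) ∈ P from ?_)
  rw [h]
  exact mem_normalizerIn_of_forall hP.le x.2 fun y hy =>
    (Subgroup.mem_normalizer_iff.mp hx ⟨y, hP.le hy⟩).mp hy

theorem card_mul_relIndex {G : Type*} [Group G] {A B : Subgroup G} (h : A ≤ B) :
    Nat.card A * A.relIndex B = Nat.card B := by
  rw [← Subgroup.relIndex_bot_left, ← Subgroup.relIndex_bot_left,
    Subgroup.relIndex_mul_relIndex ⊥ A B bot_le h]

theorem autInducedBy_self_eq_inn : autInducedBy S S = Inn S := (inn_eq_autInducedBy S).symm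

/-! ### Receptive subgroups -/

theorem card_centralizerIn_le_of_receptive [Finite S] (h : F.IsReceptive Q) (hc : F.IsConj P Q) :
    Nat.card (centralizerIn S P) ≤ Nat.card (centralizerIn S Q) := by
  obtain ⟨f, hf, hfQ⟩ := isConj_iff.mp hc
  obtain ⟨g, hg, hgf⟩ := (isReceptive_iff.mp h).2 P f hf hfQ
  have := finite_of_le (centralizerIn_le (S := S) (P := Q))
  rw [← hg.card_img (centralizerIn_le_extSub hf)]
  refine Subgroup.card_le_of_le (le_of_le_of_eq (img_le_of_forall fun z hz =>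
    hg.map_mem_centralizerIn (le_extSub hf) (centralizerIn_le_extSub hf hz) hz) ?_)
  rw [img_congr hgf, hfQ]

theorem isFullyCentralized_of_receptive [Finite S] (h : F.IsReceptive Q) :
    F.IsFullyCentralized Q :=
  ⟨h.1, fun _ hP => card_centralizerIn_le_of_receptive h (isConj_symm hP)⟩

/-- A subgroup conjugate to a fully automized receptive `Q` maps onto it by a map defined on
its whole normalizer. -/
theorem exists_map_normalizerIn [Finite S] [Fact p.Prime] (hS : IsPGroup p S)
    (h₁ : F.IsFullyAutomized p Q) (h₂ : F.IsReceptive Q) (hc : F.IsConj P Q) :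
    ∃ g, MapTo F (normalizerIn S P) g ∧ img g P = Q := by
  obtain ⟨f, hf, hfQ⟩ := isConj_iff.mp hc
  have hP := hf.le
  set e := MulAut.congr (isoEquiv hf hfQ) with he
  have hA : (autInducedBy S P).map e.toMonoidHom ≤ F.autGroup Q :=
    le_of_le_of_eq (Subgroup.map_mono (autInducedBy_le_autGroup hP)) (map_congr_autGroup hf hfQ)
  obtain ⟨β, hβ, hβc⟩ := exists_conj_le_autInducedBy h₁ hA ((isPGroup_autInducedBy hS P).map _)
  have hQS : Q ≤ S := h₁.1
  have hβ' := mapTo_of_mem_autGroup hQS hβ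
  have hfm : ∀ x ∈ P, f x ∈ Q := fun x hx => hfQ ▸ mem_img_of_mem hx
  have hcomp : MapTo F P (fun x => autFun β (f x)) := hf.comp hβ' hfm
  have himg : img (fun x => autFun β (f x)) P = Q := by
    rw [← hf.img_img le_rfl, hfQ, img_autFun]
  obtain ⟨g, hg, hgf⟩ := (isReceptive_iff.mp h₂).2 P _ hcomp himg
  refine ⟨g, hg.restrict fun k hk => ?_, by rw [img_congr hgf, himg]⟩
  obtain ⟨α, hα⟩ : ∃ α : MulAut P, ∀ x ∈ P, autFun α x = cj k x :=
    ⟨P.normalizerMonoidHom ⟨k, hk.2⟩, fun x hx => by rw [autFun_apply _ hx]; rfl⟩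
  have hαA : α ∈ autInducedBy S P := mem_autInducedBy_iff_cj.mpr ⟨k, hk.1, hα⟩
  obtain ⟨h, hh, hhc⟩ := mem_autInducedBy_iff_cj.mp (hβc _ ⟨α, hαA, rfl⟩)
  refine ⟨hk, h, hh, fun x hx => ?_⟩
  have hy : autFun β (f x) ∈ Q := autFun_mem β (hfm x hx)
  have := hhc _ hy
  rw [MulEquiv.toMonoidHom_eq_coe, MonoidHom.coe_coe, autFun_mul _ _ hy, autFun_inv_autFun β (hfm x hx),
    autFun_mul _ _ (hfm x hx), he, autFun_congr hf hfQ α hx, hα x hx] at this
  exact this

theorem card_normalizerIn_le_of_receptive [Finite S] [Fact p.Prime] (hS : IsPGroup p S)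
    (h₁ : F.IsFullyAutomized p Q) (h₂ : F.IsReceptive Q) (hc : F.IsConj P Q) :
    Nat.card (normalizerIn S P) ≤ Nat.card (normalizerIn S Q) := by
  obtain ⟨g, hg, hgQ⟩ := exists_map_normalizerIn hS h₁ h₂ hc
  rw [← hg.card_img le_rfl, ← hgQ]
  have := finite_of_le (normalizerIn_le (S := S) (P := img g P))
  exact Subgroup.card_le_of_le (img_le_of_forall fun z hz =>
    hg.map_mem_normalizerIn (le_normalizerIn (isConj_le_left hc)) hz hz)

theorem isFullyNormalized_of_receptive [Finite S] [Fact p.Prime] (hS : IsPGroup p S)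
    (h₁ : F.IsFullyAutomized p Q) (h₂ : F.IsReceptive Q) : F.IsFullyNormalized Q :=
  ⟨h₁.1, fun _ hP => card_normalizerIn_le_of_receptive hS h₁ h₂ (isConj_symm hP)⟩

/-! ### Consequences of saturation -/

theorem isFullyCentralized_of_isFullyNormalized [Finite S] [Fact p.Prime] (hS : IsPGroup p S)
    (hF : F.IsSaturated p) (hP : F.IsFullyNormalized P) :
    F.IsFullyCentralized P := by
  obtain ⟨Q, hPQ, h₁, h₂⟩ := hF P hP.1
  obtain ⟨g, hg, hgQ⟩ := exists_map_normalizerIn hS h₁ h₂ hPQ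
  have hle := le_normalizerIn (S := S) hP.1
  have := finite_of_le (normalizerIn_le (S := S) (P := Q))
  have hnorm : img g (normalizerIn S P) = normalizerIn S Q := by
    refine Subgroup.eq_of_le_of_card_ge (hgQ ▸ img_le_of_forall fun z hz =>
      hg.map_mem_normalizerIn hle hz hz) ?_
    rw [hg.card_img le_rfl]
    exact hP.2 Q hPQ
  refine ⟨hP.1, fun R hR => le_trans
    (card_centralizerIn_le_of_receptive h₂ (isConj_trans (isConj_symm hR) hPQ)) ?_⟩
  have hsub : centralizerIn S Q ≤ img g (centralizerIn S P) := by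
    intro y hy
    obtain ⟨z, hz, rfl⟩ :=
      (hg.mem_img_iff le_rfl).mp (hnorm.symm ▸ centralizerIn_le_normalizerIn hy)
    refine mem_img_of_mem (mem_centralizerIn.mpr ⟨hz.1, fun x hx => ?_⟩)
    refine hg.inj (Subgroup.mul_mem _ (hle hx) hz) (Subgroup.mul_mem _ hz (hle hx)) ?_
    rw [hg.map_mul (hle hx) hz, hg.map_mul hz (hle hx)]
    exact (mem_centralizerIn.mp hy).2 _ (hgQ ▸ mem_img_of_mem hx)
  have := finite_of_le ((img_mono (f := g) centralizerIn_le_normalizerIn).trans
    (hnorm.le.trans normalizerIn_le) : img g (centralizerIn S P) ≤ S)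
  exact (Subgroup.card_le_of_le hsub).trans (hg.card_img centralizerIn_le_normalizerIn).le

theorem isReceptive_of_isFullyCentralized [Finite S] [Fact p.Prime] (hS : IsPGroup p S)
    (hF : F.IsSaturated p) (hP : F.IsFullyCentralized P) : F.IsReceptive P := by
  obtain ⟨Q, hPQ, h₁, h₂⟩ := hF P hP.1
  obtain ⟨ψ, hψ, hψQ⟩ := exists_map_normalizerIn hS h₁ h₂ hPQ
  have hle := le_normalizerIn (S := S) hP.1
  have := finite_of_le (centralizerIn_le (S := S) (P := Q))
  have hcent : img ψ (centralizerIn S P) = centralizerIn S Q := by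
    refine Subgroup.eq_of_le_of_card_ge (hψQ ▸ img_le_of_forall fun z hz =>
      hψ.map_mem_centralizerIn hle (centralizerIn_le_normalizerIn hz) hz) ?_
    rw [hψ.card_img centralizerIn_le_normalizerIn]
    exact hP.2 Q hPQ
  refine isReceptive_iff.mpr ⟨hP.1, fun R f hf hfP => ?_⟩
  have hfm : ∀ x ∈ R, f x ∈ P := fun x hx => hfP ▸ mem_img_of_mem hx
  have hc : MapTo F R (fun x => ψ (f x)) := hf.comp hψ fun x hx => hle (hfm x hx)
  have himg : img (fun x => ψ (f x)) R = Q := by rw [← hf.img_img le_rfl, hfP, hψQ]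
  obtain ⟨ρ, hρ, hρf⟩ := (isReceptive_iff.mp h₂).2 R _ hc himg
  have hsub : extSub S hf ≤ extSub S hc ∧
      ∀ g ∈ extSub S hf, ρ g ∈ img ψ (normalizerIn S P) := by
    have key : ∀ g ∈ extSub S hf, g ∈ extSub S hc ∧ ρ g ∈ img ψ (normalizerIn S P) := by
      rintro g ⟨hgN, h, hh, hx⟩
      have hhN : h ∈ normalizerIn S P := by
        refine mem_normalizerIn_of_forall hP.1 hh fun y hy => ?_
        obtain ⟨x, hxR, rfl⟩ := (hf.mem_img_iff le_rfl).mp (hfP ▸ hy : y ∈ img f R)
        rw [← hx x hxR]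
        exact hfm _ (conj_mem_of_mem_normalizerIn hgN hxR)
      have hconj : ∀ x ∈ R, ψ (f (g * x * g⁻¹)) = ψ h * ψ (f x) * (ψ h)⁻¹ := fun x hxR => by
        rw [hx x hxR, hψ.map_conj hhN (hle (hfm x hxR))]
      have hgc : g ∈ extSub S hc := ⟨hgN, ψ h, hψ.mem hhN, hconj⟩
      refine ⟨hgc, ?_⟩
      have hz : (ψ h)⁻¹ * ρ g ∈ centralizerIn S Q := by
        refine mem_centralizerIn.mpr ⟨S.mul_mem (S.inv_mem (hψ.mem hhN)) (hρ.mem hgc), fun y hy => ?_⟩
        obtain ⟨x, hxR, rfl⟩ := (hc.mem_img_iff le_rfl).mp (himg ▸ hy : y ∈ img _ R)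
        have h1 := hρ.map_conj hgc (le_extSub hc hxR)
        rw [hρf x hxR, hρf _ (conj_mem_of_mem_normalizerIn hgN hxR), hconj x hxR] at h1
        calc ψ (f x) * ((ψ h)⁻¹ * ρ g)
            = (ψ h)⁻¹ * (ψ h * ψ (f x) * (ψ h)⁻¹) * ρ g := by group
          _ = (ψ h)⁻¹ * ρ g * ψ (f x) := by rw [h1]; group
      rw [← hcent] at hz
      have := Subgroup.mul_mem _ (mem_img_of_mem (f := ψ) hhN)
        (img_mono (f := ψ) centralizerIn_le_normalizerIn hz)
      rwa [mul_inv_cancel_left] at this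
    exact ⟨fun g hg => (key g hg).1, fun g hg => (key g hg).2⟩
  obtain ⟨σ, hσ, hσψ, -, -⟩ := hψ.exists_iso_inverse
  exact ⟨fun x => σ (ρ x), (hρ.restrict hsub.1).comp hσ hsub.2,
    fun x hx => (congrArg σ (hρf x hx)).trans (hσψ _ (hle (hfm x hx)))⟩

theorem isFullyAutomized_of_isFullyNormalized [Finite S] [Fact p.Prime] (hS : IsPGroup p S)
    (hF : F.IsSaturated p) (hP : F.IsFullyNormalized P) : F.IsFullyAutomized p P := by
  obtain ⟨Q, hPQ, h₁, h₂⟩ := hF P hP.1
  have hn : Nat.card (normalizerIn S P) = Nat.card (normalizerIn S Q) :=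
    le_antisymm (card_normalizerIn_le_of_receptive hS h₁ h₂ hPQ) (hP.2 Q hPQ)
  have hc : Nat.card (centralizerIn S P) = Nat.card (centralizerIn S Q) :=
    le_antisymm ((isFullyCentralized_of_receptive h₂).2 P (isConj_symm hPQ))
      ((isFullyCentralized_of_isFullyNormalized hS hF hP).2 Q hPQ)
  have := finite_of_le (centralizerIn_le (S := S) (P := P))
  have ha : Nat.card (autInducedBy S P) = Nat.card (autInducedBy S Q) := by
    have h1 := card_autInducedBy_mul S P
    rw [hn, ← card_autInducedBy_mul S Q, ← hc] at h1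
    exact Nat.eq_of_mul_eq_mul_right Nat.card_pos h1
  refine (isFullyAutomized_iff hS).mpr ⟨hP.1, ?_⟩
  have := finite_of_le hP.1
  have := finite_mulAut P
  have h1 := card_mul_relIndex (autInducedBy_le_autGroup (F := F) hP.1)
  rw [← isConj_card_autGroup hPQ, ← card_mul_relIndex (autInducedBy_le_autGroup (F := F) h₁.1),
    ← ha] at h1
  rw [Nat.eq_of_mul_eq_mul_left Nat.card_pos h1]
  exact ((isFullyAutomized_iff hS).mp h₁).2

theorem isReceptive_of_isFullyNormalized [Finite S] [Fact p.Prime] (hS : IsPGroup p S)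
    (hF : F.IsSaturated p) (hP : F.IsFullyNormalized P) : F.IsReceptive P :=
  isReceptive_of_isFullyCentralized hS hF (isFullyCentralized_of_isFullyNormalized hS hF hP)

theorem isSaturated_of_isFullyNormalized [Finite S]
    (h : ∀ P, F.IsFullyNormalized P → F.IsFullyAutomized p P ∧ F.IsReceptive P) :
    F.IsSaturated p := fun _ hP =>
  let ⟨Q, hQ, hQn⟩ := exists_isFullyNormalized hP
  ⟨Q, hQ, h Q hQn⟩

theorem isFullyNormalized_top : F.IsFullyNormalized S := by
  refine ⟨le_rfl, fun Q hQ => ?_⟩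
  obtain ⟨f, hf, rfl⟩ := isConj_iff.mp hQ
  have : normalizerIn S S = S := le_antisymm normalizerIn_le (le_normalizerIn le_rfl)
  rw [this]
  rcases finite_or_infinite S with h | h
  · exact Subgroup.card_le_of_le normalizerIn_le
  · have h1 : Nat.card (normalizerIn S (img f S)) = 0 := by
      have hinf : Infinite (img f S) := by
        refine Infinite.of_injective
          (fun x : S => (⟨f x, mem_img_of_mem x.2⟩ : img f S)) fun a b hab => ?_
        exact Subtype.ext (hf.inj a.2 b.2 (congrArg Subtype.val hab))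
      have : Infinite (normalizerIn S (img f S)) :=
        Infinite.of_injective (Subgroup.inclusion (le_normalizerIn hf.img_le))
          (Subgroup.inclusion_injective _)
      exact Nat.card_eq_zero_of_infinite
    omega

/-- The Roberts-Shpectorov form of the axioms implies fully normalized ⇒ fully automized. -/
theorem isFullyAutomized_of_RS [Finite S] [Fact p.Prime] (hS : IsPGroup p S)
    (hSa : F.IsFullyAutomized p S) (hrec : ∀ P, F.IsFullyNormalized P → F.IsReceptive P)
    (hPn : F.IsFullyNormalized P) : F.IsFullyAutomized p P := by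
  induction hk : Nat.card S - Nat.card P using Nat.strong_induction_on generalizing P with
  | h k ih =>
  have hP := hPn.1
  rcases eq_or_lt_of_le hP with rfl | hlt
  · exact hSa
  refine (isFullyAutomized_iff hS).mpr ⟨hP, fun hdvd => ?_⟩
  have := finite_of_le hP
  have := finite_mulAut P
  set A := autInducedBy S P with hA
  obtain ⟨a, hAcard⟩ := IsPGroup.iff_card.mp (isPGroup_autInducedBy hS P)
  have hAle : A ≤ F.autGroup P := autInducedBy_le_autGroup hP
  have hA'card : Nat.card (A.subgroupOf (F.autGroup P)) = p ^ a := by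
    rw [Nat.card_congr (Subgroup.subgroupOfEquivOfLe hAle).toEquiv, hAcard]
  obtain ⟨K, hKcard, hAK⟩ := Sylow.exists_subgroup_card_pow_succ (p := p) (n := a) (by
    rw [← card_mul_relIndex hAle, hAcard, pow_succ]
    exact Nat.mul_dvd_mul_left _ hdvd) hA'card
  have hlt' : A.subgroupOf (F.autGroup P) < K := by
    refine lt_of_le_of_ne hAK fun he => ?_
    rw [he, hKcard] at hA'card
    exact absurd hA'card (Nat.pow_right_injective (Fact.out : p.Prime).two_le |>.ne (by omega))
  have hKp : IsPGroup p K := IsPGroup.of_card hKcard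
  obtain ⟨α, hαK, hαA, hαN⟩ := exists_mem_not_mem_normalizer hKp hlt'
  have hαm := mapTo_of_mem_autGroup hP α.2
  obtain ⟨β₀, hβ₀, hβ₀α⟩ :=
    (isReceptive_iff.mp (hrec P hPn)).2 P _ hαm (img_autFun _)
  set N := normalizerIn S P with hN
  have hPN : P ≤ N := le_normalizerIn hP
  have hNext : N ≤ extSub S hαm := by
    intro k hk
    obtain ⟨γ, hγ⟩ : ∃ γ : MulAut P, ∀ x ∈ P, autFun γ x = cj k x :=
      ⟨P.normalizerMonoidHom ⟨k, hk.2⟩, fun x hx => by rw [autFun_apply _ hx]; rfl⟩
    have hγA : γ ∈ A := mem_autInducedBy_iff_cj.mpr ⟨k, hk.1, hγ⟩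
    have := (Subgroup.mem_normalizer_iff.mp hαN ⟨γ, hAle hγA⟩).mp hγA
    obtain ⟨h, hh, hhx⟩ := mem_autInducedBy_iff_cj.mp this
    refine ⟨hk, h, hh, fun x hx => ?_⟩
    have := hhx (autFun (α : MulAut P) x) (autFun_mem _ hx)
    rw [Subgroup.coe_subtype, Subgroup.coe_mul, Subgroup.coe_mul, Subgroup.coe_inv,
      autFun_mul _ _ (autFun_mem _ hx), autFun_inv_autFun _ hx, autFun_mul _ _ hx, hγ x hx] at this
    exact this
  have hβ₀N := hβ₀.restrict hNext
  have hNS : N ≤ S := normalizerIn_le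
  have := finite_of_le hNS
  have hβ₀P : img β₀ P = P := by rw [img_congr hβ₀α, img_autFun]
  have hβimg : img β₀ N = N := by
    refine img_eq_self_of_forall hβ₀N fun x hx => ?_
    have := hβ₀N.map_mem_normalizerIn hPN hx hx
    rwa [hβ₀P] at this
  set β := autOf hβ₀N hβimg with hβdef
  have hres : ∀ (e : ℕ) (x : Ω), x ∈ P → autFun (β ^ e) x = autFun ((α : MulAut P) ^ e) x := by
    intro e
    induction e with
    | zero => intro x hx; rw [pow_zero, pow_zero, autFun_one (hPN hx), autFun_one hx]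
    | succ e ihe =>
        intro x hx
        rw [pow_succ, pow_succ, autFun_mul _ _ (hPN hx), autFun_mul _ _ hx,
          autFun_autOf hβ₀N hβimg (hPN hx), hβ₀α x hx]
        exact ihe _ (autFun_mem _ hx)
  have := finite_mulAut N
  obtain ⟨b, m, hm, hbm⟩ :=
    Nat.exists_eq_pow_mul_and_not_dvd (orderOf_pos β).ne' p (Fact.out : p.Prime).ne_one
  obtain ⟨t, ht⟩ := hKp ⟨α, hαK⟩
  have hαpt : (α : MulAut P) ^ p ^ t = 1 :=
    congrArg (fun x : K => ((x : F.autGroup P) : MulAut P)) ht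
  have hβ'p : IsPGroup p (Subgroup.zpowers (β ^ m)) := by
    refine IsPGroup.of_card (n := b) ?_
    rw [Nat.card_zpowers, orderOf_pow, hbm,
      Nat.gcd_eq_right (dvd_mul_left m _), Nat.mul_div_cancel _ (Nat.pos_of_ne_zero ?_)]
    rintro rfl; exact hm (dvd_zero p)
  obtain ⟨R, hNR, hRn⟩ := exists_isFullyNormalized (F := F) hNS
  have hPltN : P < N := lt_normalizerIn hS hlt
  have hRa : F.IsFullyAutomized p R := by
    refine ih _ ?_ hRn rfl
    rw [isConj_card hNR, ← hk]
    have h1 : Nat.card P < Nat.card N := by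
      refine lt_of_le_of_ne (Subgroup.card_le_of_le hPltN.le) fun he => ?_
      exact hPltN.ne (Subgroup.eq_of_le_of_card_ge hPltN.le he.ge)
    have h2 : Nat.card N ≤ Nat.card S := Subgroup.card_le_of_le hNS
    omega
  obtain ⟨γ, hγ, hγR⟩ := isConj_iff.mp hNR
  have hβmem : β ^ m ∈ F.autGroup N := Subgroup.pow_mem _ (autOf_mem hβ₀N hβimg) m
  have hB : (Subgroup.zpowers (β ^ m)).map (MulAut.congr (isoEquiv hγ hγR)).toMonoidHom ≤
      F.autGroup R :=
    le_of_le_of_eq (Subgroup.map_mono (Subgroup.zpowers_le.mpr hβmem)) (map_congr_autGroup hγ hγR)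
  obtain ⟨δ, hδ, hδc⟩ := exists_conj_le_autInducedBy hRa hB (hβ'p.map _)
  obtain ⟨g, hg, hgx⟩ :=
    mem_autInducedBy_iff_cj.mp (hδc _ ⟨_, Subgroup.mem_zpowers _, rfl⟩)
  have hRS : R ≤ S := hRn.1
  have hγm : ∀ x ∈ N, γ x ∈ R := fun x hx => hγR ▸ mem_img_of_mem hx
  have hγ' : MapTo F N (fun x => autFun δ (γ x)) :=
    hγ.comp (mapTo_of_mem_autGroup hRS hδ) hγm
  set γ' := fun x => autFun δ (γ x)
  have himg' : img γ' N = R := by rw [← hγ.img_img le_rfl, hγR, img_autFun]
  have hrel : ∀ x ∈ N, γ' (autFun (β ^ m) x) = g * γ' x * g⁻¹ := fun x hx => by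
    have hy : γ' x ∈ R := autFun_mem δ (hγm x hx)
    have := hgx _ hy
    rw [MulEquiv.toMonoidHom_eq_coe, MonoidHom.coe_coe, autFun_mul _ _ hy,
      autFun_inv_autFun δ (hγm x hx), autFun_mul _ _ (hγm x hx),
      autFun_congr hγ hγR _ hx] at this
    exact this
  set P' := img γ' P with hP'
  have hP'S : P' ≤ S := (img_mono hPN).trans (himg'.le.trans hRS)
  have hgP' : g ∈ normalizerIn S P' := by
    refine mem_normalizerIn_of_forall hP'S hg fun y hy => ?_
    obtain ⟨x, hx, rfl⟩ := (hγ'.mem_img_iff hPN).mp hy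
    rw [← hrel x (hPN hx)]
    exact mem_img_of_mem (hres m x hx ▸ autFun_mem _ hx)
  have hRle : R ≤ normalizerIn S P' := himg' ▸ img_le_of_forall fun z hz =>
    hγ'.map_mem_normalizerIn hPN hz hz
  have := finite_of_le (normalizerIn_le (S := S) (P := P'))
  have hReq : R = normalizerIn S P' := by
    refine Subgroup.eq_of_le_of_card_ge hRle ?_
    rw [isConj_card hNR]
    exact hPn.2 P' (hγ'.restrict hPN).isConj
  obtain ⟨r, hr, hrg⟩ := (hγ'.mem_img_iff le_rfl).mp (himg'.symm ▸ hReq.symm ▸ hgP' :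
    g ∈ img γ' N)
  have hαmA : (α : MulAut P) ^ m ∈ A := by
    refine mem_autInducedBy_iff_cj.mpr ⟨r, hr.1, fun x hx => ?_⟩
    refine hγ'.inj (hPN (autFun_mem _ hx))
      (Subgroup.mul_mem _ (Subgroup.mul_mem _ hr (hPN hx)) (Subgroup.inv_mem _ hr)) ?_
    rw [← hres m x hx, hrel x (hPN hx), cj_apply, hγ'.map_conj hr (hPN hx), hrg]
  refine hαA ?_
  show (α : MulAut P) ∈ A
  have hcop : Nat.Coprime m (orderOf (α : MulAut P)) :=
    ((((Fact.out : p.Prime).coprime_iff_not_dvd).mpr hm).symm.pow_right t).coprime_dvd_right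
      (orderOf_dvd_of_pow_eq_one hαpt)
  obtain ⟨e, he⟩ := exists_pow_eq_self_of_coprime hcop
  rw [← he]
  exact Subgroup.pow_mem _ hαmA e

end Cfsg.Agent.Fusion
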