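import Cfsg.Agent.Lib.ConjFunctor.CriticalChief
import Cfsg.Agent.Lib.Coprime23.Omega
import Cfsg.Agent.Lib.LocalEvenB.FixedOrder

/-!
A characteristic subgroup of exponent `p` (or `4`) detecting automorphisms of order prime to `p`.
-/

set_option autoImplicit false

namespace Cfsg.Agent.Fusion

open Subgroup
open scoped commutatorElement

universe u

/-- A finite `p`-group has a characteristic subgroup whose elements have order dividing `p`
(or `4` when `p = 2`) and which detects every automorphism of order prime to `p`. -/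
theorem exists_omega_detect {P : Type u} [Group P] [Finite P] {p : ℕ} [Fact p.Prime]
    (hP : IsPGroup p P) :
    ∃ C : Subgroup P, C.Characteristic ∧ (∀ c ∈ C, c ^ p = 1 ∨ (p = 2 ∧ c ^ 4 = 1)) ∧
      ∀ φ : MulAut P, (orderOf φ).Coprime p → (∀ c ∈ C, φ c = c) → φ = 1 := by
  obtain ⟨A, hAc, hA3, hA1, hA2⟩ := Cfsg.Agent.ConjFunctor.exists_critical (p := p) hP
  set q := if p = 2 then 4 else p with hq
  have hpq : p ∣ q := by
    rw [hq]; split_ifs with h
    · exact ⟨2, by rw [h]⟩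
    · exact dvd_rfl
  have hq' : p ∣ q * (q - 1) / 2 := by
    rw [hq]; split_ifs with h
    · exact ⟨3, by rw [h]⟩
    · obtain ⟨r, hr⟩ : 2 ∣ p - 1 := (Nat.Prime.even_sub_one Fact.out h).two_dvd
      exact ⟨r, by rw [hr, mul_left_comm, Nat.mul_div_cancel_left _ (by norm_num)]⟩
  have hcomm : ∀ a ∈ A, ∀ b ∈ A, ∃ z, b * a = a * b * z ∧ Commute z a ∧ Commute z b ∧ z ^ p = 1 := by
    intro a ha b hb
    have hz : ⁅b⁻¹, a⁻¹⁆ ∈ A ⊓ centralizer (A : Set P) :=
      hA3 (commutator_mem_commutator (mem_top _) (A.inv_mem ha))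
    have hza : Commute ⁅b⁻¹, a⁻¹⁆ a := (mem_centralizer_iff.mp hz.2 a ha).symm
    have hzb : Commute ⁅b⁻¹, a⁻¹⁆ b := (mem_centralizer_iff.mp hz.2 b hb).symm
    have hrel : b * a = a * b * ⁅b⁻¹, a⁻¹⁆ := by rw [commutatorElement_def]; group
    refine ⟨_, hrel, hza, hzb, ?_⟩
    have h1 := Coprime23.pow_mul_eq_of_central hrel hzb hza p
    rw [← mem_centralizer_iff.mp (hA1 b hb).2 a ha] at h1
    exact left_eq_mul.mp h1
  have hmul : ∀ a ∈ A, ∀ b ∈ A, a ^ q = 1 → b ^ q = 1 → (a * b) ^ q = 1 := by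
    intro a ha b hb h1 h2
    obtain ⟨z, hrel, hza, hzb, hzp⟩ := hcomm a ha b hb
    obtain ⟨m, hm⟩ := hq'
    rw [Coprime23.mul_pow_of_central hrel hzb hza q, h1, h2, hm, pow_mul, hzp, one_pow, mul_one,
      mul_one]
  let C : Subgroup P :=
    { carrier := {x | x ∈ A ∧ x ^ q = 1}
      one_mem' := ⟨A.one_mem, one_pow q⟩
      mul_mem' := fun {a b} ha hb => ⟨A.mul_mem ha.1 hb.1, hmul a ha.1 b hb.1 ha.2 hb.2⟩
      inv_mem' := fun {a} ha => ⟨A.inv_mem ha.1, by rw [inv_pow, ha.2, inv_one]⟩ }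
  refine ⟨C, ?_, fun c hc => ?_, fun φ hφ hfix => ?_⟩
  · refine characteristic_iff_le_comap.mpr fun φ x hx => ⟨(characteristic_iff_le_comap.mp hAc φ) hx.1,
      ?_⟩
    show φ x ^ q = 1
    rw [← map_pow, hx.2, map_one]
  · have h : c ^ q = 1 := hc.2
    by_cases h2 : p = 2
    · exact Or.inr ⟨h2, by rwa [hq, if_pos h2] at h⟩
    · exact Or.inl (by rwa [hq, if_neg h2] at h)
  · have hinv : ∀ u ∈ A, φ u ∈ A := fun u hu => (characteristic_iff_le_comap.mp hAc φ) hu
    set β := Coprime23.restrictAut φ A hinv with hβ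
    have hn : ∀ (n : ℕ) (u : A), ((β ^ n) u : P) = (φ ^ n) u := by
      intro n
      induction n with
      | zero => intro u; rfl
      | succ n ih =>
        intro u
        rw [pow_succ', pow_succ', MulAut.mul_apply, MulAut.mul_apply, Coprime23.restrictAut_apply,
          ih]
    have hβc : (orderOf β).Coprime p := hφ.coprime_dvd_left (orderOf_dvd_of_pow_eq_one
      (MulEquiv.ext fun u => Subtype.ext (by rw [hn, pow_orderOf_eq_one]; rfl)))
    have hfixA : ∀ u : A, β u = u := by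
      have hAp := hP.to_subgroup A
      have h0 : ∀ u : A, u ^ q = 1 → β u = u := fun u hu => Subtype.ext
        (hfix u ⟨u.2, by rw [← Subgroup.coe_pow, hu]; rfl⟩)
      by_cases h2 : p = 2
      · subst h2
        exact fun u => Cfsg.Agent.LocalEvenB.fix_of_fix_four hAp β hβc
          (fun x hx => h0 x (by rwa [hq, if_pos rfl])) u
      · exact Coprime23.fix_of_fix_omega hAp h2 β hβc fun x hx => h0 x (by rwa [hq, if_neg h2])
    exact Cfsg.Agent.ConjFunctor.eq_one_of_fix_critical hP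
      (haveI := hAc; inferInstance) hA2 φ hφ fun a ha => congrArg Subtype.val (hfixA ⟨a, ha⟩)

end Cfsg.Agent.Fusion
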