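import Cfsg.Agent.Lib.Fusion.Transfer
import Cfsg.Agent.Lib.Fusion.NormalCriteria
import Cfsg.Agent.Lib.Fusion.OmegaDetect

/-!
Criteria for `S` to be normal, and for the system to be inner, read from the fusion of elements of
order `p` (or `4`) of the hyperfocal subgroup.
-/

set_option autoImplicit false

namespace Cfsg.Agent.Fusion

open Cfsg.FusionSystem (centralizerIn normalizerIn)

universe u

variable {Ω : Type u} [Group Ω] {S : Subgroup Ω} {F : FusionSystem S} {P : Subgroup Ω} {p : ℕ}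

/-- Order dividing `p`, or dividing `4` when `p = 2`. -/
def Good (p : ℕ) (x : Ω) : Prop := x ^ p = 1 ∨ (p = 2 ∧ x ^ 4 = 1)

theorem lcs_invariant (δ : MulAut S) (i : ℕ) {x : Ω}
    (hx : x ∈ Subgroup.lowerCentralSeries S i) :
    autFun δ x ∈ Subgroup.lowerCentralSeries S i := by
  rw [← Subgroup.top_subtype_lowerCentralSeries] at hx ⊢
  obtain ⟨s, hs, rfl⟩ := hx
  refine ⟨δ s, (Subgroup.characteristic_iff_le_comap.mp inferInstance δ) hs, ?_⟩
  exact (autFun_coe δ s).symm

theorem comm_mem_lcs (i : ℕ) {x k : Ω} (hx : x ∈ Subgroup.lowerCentralSeries S i) (hk : k ∈ S) :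
    x⁻¹ * (k * x * k⁻¹) ∈ Subgroup.lowerCentralSeries S (i + 1) :=
  comm_mem_of_commutator_le (Subgroup.commutator_comm _ _).le hx hk

theorem isPGroup_of_coprime_eq_one {G : Type*} [Group G] [Finite G] [Fact p.Prime] (K : Subgroup G)
    (h : ∀ a ∈ K, (orderOf a).Coprime p → a = 1) : IsPGroup p K := by
  rintro ⟨a, ha⟩
  obtain ⟨e, m, hm, hem⟩ :=
    Nat.exists_eq_pow_mul_and_not_dvd (orderOf_pos a).ne' p (Fact.out : p.Prime).ne_one
  refine ⟨e, Subtype.ext ?_⟩
  show a ^ p ^ e = 1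
  refine h _ (K.pow_mem ha _) (Nat.Coprime.coprime_dvd_left
    (orderOf_dvd_of_pow_eq_one (n := m) ?_) (((Fact.out : p.Prime).coprime_iff_not_dvd.mpr hm).symm))
  rw [← pow_mul, ← hem, pow_orderOf_eq_one]

variable [Finite S] [Fact p.Prime]

/-- `S` is normal as soon as every essential subgroup has a normal `p`-group of automorphisms
containing those induced by `S`. -/
theorem isNormal_top_of_stab (hS : IsPGroup p S) (hF : F.IsSaturated p)
    (h : ∀ P : Subgroup Ω, F.IsEssential p P → ∃ K : Subgroup (MulAut P),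
      (∀ g ∈ F.autGroup P, ∀ α ∈ K, α ∈ F.autGroup P → g * α * g⁻¹ ∈ K) ∧ IsPGroup p K ∧
      autInducedBy S P ≤ K) : F.IsNormal S := by
  have hsc : F.StronglyClosed S := stronglyClosed_iff.mpr
    ⟨le_rfl, fun _ _ _ hf _ hx => hf.mem hx⟩
  refine isNormal_of_stronglyClosed hS hF hsc fun P hP => ?_
  obtain ⟨K, hKn, hKp, hKS⟩ := h P hP
  have hPS := hP.1.1
  by_contra hne
  obtain ⟨k, hk, hkP, hkN⟩ := exists_mem_normalizer_not_mem hS hPS le_rfl
    (hPS.trans Subgroup.le_normalizer) hne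
  obtain ⟨γ, hγ⟩ := exists_conjAut hkN.2
  have hγK : γ ∈ K := hKS (mem_autInducedBy_iff_cj.mpr ⟨k, hk, hγ⟩)
  refine hkP (mem_of_cj_mem_inn (centralizerIn_le_of_isCentric hP.1) hk hγ ?_ hPS)
  rw [← (isRadical_of_isEssential hS hP).2]
  have hn : (K.subgroupOf (F.autGroup P)).Normal := ⟨fun α hα g => hKn g g.2 α hα α.2⟩
  exact ⟨⟨γ, autInducedBy_le_autGroup hPS (mem_autInducedBy_iff_cj.mpr ⟨k, hk, hγ⟩)⟩,
    le_pCore hn (hKp.comap_of_injective _ (Subgroup.subtype_injective _)) hγK, rfl⟩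

/-- A subgroup of small exponent of `P ⊓ hyp` detecting automorphisms of order prime to `p`. -/
theorem exists_detect (hS : IsPGroup p S) (hF : F.IsSaturated p) (hP : F.IsFullyNormalized P) :
    ∃ C : Subgroup Ω, C ≤ P ⊓ F.hyperfocalSubgroup p ∧ (∀ c ∈ C, Good p c) ∧
      (∀ α ∈ F.autGroup P, ∀ c ∈ C, autFun α c ∈ C) ∧
      ∀ α ∈ F.autGroup P, (orderOf α).Coprime p → (∀ c ∈ C, autFun α c = c) → α = 1 := by
  have hPS := hP.1
  set T := P ⊓ F.hyperfocalSubgroup p with hT
  have hTP : T ≤ P := inf_le_left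
  have := finite_of_le hPS
  have := finite_of_le (hTP.trans hPS)
  have hinvT : ∀ α ∈ F.autGroup P, ∀ x ∈ T, autFun α x ∈ T := by
    intro α hα x hx
    obtain ⟨β, hβ, c, hc, rfl⟩ := exists_eq_mul_of_isFullyNormalized hS hF hP hα
    obtain ⟨s, hs, hsc⟩ := mem_autInducedBy_iff_cj.mp hc
    rw [autFun_mul _ _ (hTP hx)]
    refine ⟨autFun_mem _ (autFun_mem _ (hTP hx)), ?_⟩
    have h1 : autFun c x ∈ F.hyperfocalSubgroup p := by
      rw [hsc x (hTP hx)]; exact hyperfocal_conj_mem hs hx.2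
    have h2 := Subgroup.mul_mem _ h1 (mem_hyperfocal hPS hβ (autFun_mem c (hTP hx)))
    rwa [mul_inv_cancel_left] at h2
  obtain ⟨C₀, hC₀, hgood, hdet⟩ := exists_omega_detect (hS.to_le (hTP.trans hPS))
  have hres : ∀ α : MulAut P, α ∈ F.autGroup P → ∃ α' : MulAut T,
      ∀ x ∈ T, autFun α' x = autFun α x := by
    intro α hα
    have hm := (mapTo_of_mem_autGroup hPS hα).restrict hTP
    exact ⟨autOf hm (img_eq_self_of_forall hm (hinvT α hα)), fun x hx => autFun_autOf hm _ hx⟩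
  refine ⟨C₀.map T.subtype, Subgroup.map_subtype_le _, ?_, ?_, fun α hα hcop hfix => ?_⟩
  · rintro _ ⟨c, hc, rfl⟩
    rcases hgood c hc with h | ⟨h2, h⟩
    · exact Or.inl (congrArg Subtype.val h)
    · exact Or.inr ⟨h2, congrArg Subtype.val h⟩
  · rintro α hα _ ⟨c, hc, rfl⟩
    obtain ⟨α', hα'⟩ := hres α hα
    refine ⟨α' c, (Subgroup.characteristic_iff_le_comap.mp hC₀ α') hc, ?_⟩
    rw [Subgroup.coe_subtype, ← hα' c c.2, autFun_coe]
  · obtain ⟨α', hα'⟩ := hres α hα
    have hpow : ∀ n : ℕ, ∀ x ∈ T, autFun (α' ^ n) x = autFun (α ^ n) x := by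
      intro n
      induction n with
      | zero => intro x hx; rw [pow_zero, pow_zero, autFun_one hx, autFun_one (hTP hx)]
      | succ n ih =>
        intro x hx
        rw [autFun_pow_succ _ _ hx, autFun_pow_succ _ _ (hTP hx), hα' x hx,
          ih _ (hinvT α hα x hx)]
    have hcop' : (orderOf α').Coprime p := hcop.coprime_dvd_left (orderOf_dvd_of_pow_eq_one
      (autFun_ext fun x hx => by
        rw [hpow _ x hx, pow_orderOf_eq_one, autFun_one (hTP hx), autFun_one hx]))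
    have h1 : α' = 1 := hdet α' hcop' fun c hc => Subtype.ext (by
      rw [← autFun_coe, hα' c c.2]
      exact hfix _ ⟨c, hc, rfl⟩)
    have hfT : ∀ x ∈ T, autFun α x = x := fun x hx => by
      rw [← hα' x hx, h1, autFun_one hx]
    refine MulEquiv.ext fun x => ?_
    refine Coprime23.eq_of_commutator_fixed (hS.to_le hPS) α hcop ?_
    have hmem : (x : Ω)⁻¹ * autFun α x ∈ T :=
      ⟨P.mul_mem (P.inv_mem x.2) (autFun_mem _ x.2),
        mem_hyperfocal hPS (mem_oP_of_coprime hα hcop) x.2⟩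
    have h2 := hfT _ hmem
    refine Subtype.ext ?_
    rw [autFun_coe] at h2
    have e : (x : Ω)⁻¹ * ((α x : P) : Ω) = ((x⁻¹ * α x : P) : Ω) := rfl
    rw [e, autFun_coe] at h2
    exact h2

/-- An automorphism of order prime to `p` moving elements of small order only along the lower
central series is trivial. -/
theorem eq_one_of_stab (hS : IsPGroup p S) {C : Subgroup Ω} (hCP : C ≤ P) (hPS : P ≤ S)
    (hinv : ∀ α ∈ F.autGroup P, ∀ c ∈ C, autFun α c ∈ C)
    (hdet : ∀ α ∈ F.autGroup P, (orderOf α).Coprime p → (∀ c ∈ C, autFun α c = c) → α = 1)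
    {α : MulAut P} (hα : α ∈ F.autGroup P) (hcop : (orderOf α).Coprime p)
    (hstab : ∀ i, ∀ x ∈ C, x ∈ Subgroup.lowerCentralSeries S i →
      x⁻¹ * autFun α x ∈ Subgroup.lowerCentralSeries S (i + 1)) : α = 1 := by
  refine hdet α hα hcop ?_
  obtain ⟨N, hN⟩ := (Subgroup.isNilpotent_iff_lowerCentralSeries (S := S)).mp hS.isNilpotent
  suffices h : ∀ j i, N ≤ i + j → ∀ x ∈ C, x ∈ Subgroup.lowerCentralSeries S i → autFun α x = x by
    intro c hc
    exact h N 0 (by omega) c hc (hPS (hCP hc))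
  intro j
  induction j with
  | zero =>
    intro i hi x _ hx
    have := Subgroup.lowerCentralSeries_antitone S (by omega : N ≤ i) hx
    rw [hN, Subgroup.mem_bot] at this
    rw [this]
    exact (mapTo_of_mem_autGroup hPS hα).map_one
  | succ j ih =>
    intro i hi x hxC hxi
    have := finite_of_le hPS
    set c := x⁻¹ * autFun α x with hc
    have hcC : c ∈ C := C.mul_mem (C.inv_mem hxC) (hinv α hα x hxC)
    have h1 : autFun α c = c := ih (i + 1) (by omega) c hcC (hstab i x hxC hxi)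
    have h2 := Coprime23.eq_of_commutator_fixed (hS.to_le hPS) α hcop (a := ⟨x, hCP hxC⟩) ?_
    · rw [autFun_apply α (hCP hxC), h2]
    · refine Subtype.ext ?_
      rw [hc, autFun_apply α (hCP hxC)] at h1
      rw [show x⁻¹ * ((α ⟨x, hCP hxC⟩ : P) : Ω) = ((⟨x, hCP hxC⟩⁻¹ * α ⟨x, hCP hxC⟩ : P) : Ω)
        from rfl, autFun_coe] at h1
      exact h1

/-- Fusion of small elements of the hyperfocal subgroup through `Aut(S)` makes `S` normal. -/
theorem isNormal_top_of_good (hS : IsPGroup p S) (hF : F.IsSaturated p)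
    (h : ∀ P : Subgroup Ω, F.IsEssential p P → ∀ α ∈ F.autGroup P,
      ∀ x ∈ P ⊓ F.hyperfocalSubgroup p, Good p x →
        ∃ δ : MulAut S, autFun δ x = autFun α x) : F.IsNormal S := by
  refine isNormal_top_of_stab hS hF fun P hP => ?_
  have hPn : F.IsFullyNormalized P := hP.2.1
  have hPS := hPn.1
  have := finite_of_le hPS
  have := finite_mulAut P
  obtain ⟨C, hCT, hgood, hinv, hdet⟩ := exists_detect hS hF hPn
  have hCP : C ≤ P := hCT.trans inf_le_left
  have hlev : ∀ α ∈ F.autGroup P, ∀ i, ∀ x ∈ C, x ∈ Subgroup.lowerCentralSeries S i →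
      autFun α x ∈ Subgroup.lowerCentralSeries S i := by
    intro α hα i x hx hxi
    obtain ⟨δ, hδ⟩ := h P hP α hα x (hCT hx) (hgood x hx)
    exact hδ ▸ lcs_invariant δ i hxi
  let K : Subgroup (MulAut P) :=
    { carrier := {α | α ∈ F.autGroup P ∧ ∀ i, ∀ x ∈ C, x ∈ Subgroup.lowerCentralSeries S i →
        x⁻¹ * autFun α x ∈ Subgroup.lowerCentralSeries S (i + 1)}
      one_mem' := ⟨Subgroup.one_mem _, fun i x hx _ => by
        rw [autFun_one (hCP hx), inv_mul_cancel]; exact Subgroup.one_mem _⟩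
      mul_mem' := fun {a b} ha hb => ⟨Subgroup.mul_mem _ ha.1 hb.1, fun i x hx hxi => by
        rw [autFun_mul _ _ (hCP hx)]
        have h1 := hb.2 i x hx hxi
        have h2 := ha.2 i _ (hinv b hb.1 x hx) (hlev b hb.1 i x hx hxi)
        have h3 := Subgroup.mul_mem _ h1 h2
        rwa [mul_assoc, mul_inv_cancel_left] at h3⟩
      inv_mem' := fun {a} ha => ⟨Subgroup.inv_mem _ ha.1, fun i x hx hxi => by
        have h1 := ha.2 i _ (hinv _ (Subgroup.inv_mem _ ha.1) x hx)
          (hlev _ (Subgroup.inv_mem _ ha.1) i x hx hxi)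
        rw [autFun_autFun_inv a (hCP hx)] at h1
        have h2 := Subgroup.inv_mem _ h1
        rwa [mul_inv_rev, inv_inv] at h2⟩ }
  refine ⟨K, fun g hg α hα _ => ⟨Subgroup.mul_mem _ (Subgroup.mul_mem _ hg hα.1)
    (Subgroup.inv_mem _ hg), fun i x hx hxi => ?_⟩, ?_, ?_⟩
  · have hg' := Subgroup.inv_mem _ hg
    set x' := autFun g⁻¹ x with hx'
    have hx'C : x' ∈ C := hinv _ hg' x hx
    have h1 := hα.2 i x' hx'C (hlev _ hg' i x hx hxi)
    have hcC : x'⁻¹ * autFun α x' ∈ C := C.mul_mem (C.inv_mem hx'C) (hinv α hα.1 x' hx'C)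
    have h2 := hlev g hg _ _ hcC h1
    rw [(mapTo_of_mem_autGroup hPS hg).map_mul (P.inv_mem (hCP hx'C)) (autFun_mem α (hCP hx'C)),
      (mapTo_of_mem_autGroup hPS hg).map_inv (hCP hx'C), hx', autFun_autFun_inv g (hCP hx)] at h2
    rwa [autFun_mul _ _ (hCP hx), autFun_mul _ _ (autFun_mem _ (hCP hx))]
  · exact isPGroup_of_coprime_eq_one K fun α hα hcop =>
      eq_one_of_stab hS hCP hPS hinv hdet hα.1 hcop hα.2
  · intro γ hγ
    obtain ⟨k, hk, hkγ⟩ := mem_autInducedBy_iff_cj.mp hγ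
    refine ⟨autInducedBy_le_autGroup hPS hγ, fun i x hx hxi => ?_⟩
    rw [hkγ x (hCP hx)]
    exact comm_mem_lcs i hxi hk

/-- With `S` normal, the system is inner when `S` has only `p`-automorphisms. -/
theorem eq_inner_of_isNormal_top (hS : IsPGroup p S) (hF : F.IsSaturated p) (hn : F.IsNormal S)
    (hp : ∀ α ∈ F.autGroup S, (orderOf α).Coprime p → α = 1) : F = innerFusionSystem S := by
  refine eq_inner_of_hyperfocal_eq_bot hS hF (le_bot_iff.mp (hyperfocal_le_iff.mpr ?_))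
  intro P hP α hα x hx
  rw [Subgroup.mem_bot, inv_mul_eq_one]
  refine (oP_induction (C := fun β => ∀ y ∈ P, autFun β y = y) (fun y hy => autFun_one hy)
    (fun a b _ _ ha hb y hy => by rw [autFun_mul _ _ hy, hb y hy, ha y hy])
    (fun a _ ha y hy => by
      have h1 := autFun_inv_autFun a hy
      rwa [ha y hy] at h1)
    (fun a ha hcop y hy => ?_) α hα x hx).symm
  obtain ⟨g, hg, hga, hgS⟩ := (isNormal_iff.mp hn).2 P _ (mapTo_of_mem_autGroup hP ha)
  have hgS' := hg.restrict (le_sup_right : S ≤ P ⊔ S)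
  have := finite_mulAut S
  obtain ⟨k, hk1, hkcop⟩ := exists_pow_coprime (p := p) (autOf hgS' hgS) hcop
  have hpow : ∀ n : ℕ, ∀ z ∈ P, autFun (autOf hgS' hgS ^ n) z = autFun (a ^ n) z := by
    intro n
    induction n with
    | zero => intro z hz; rw [pow_zero, pow_zero, autFun_one hz, autFun_one (hP hz)]
    | succ n ih =>
      intro z hz
      rw [autFun_pow_succ _ _ hz, autFun_pow_succ _ _ (hP hz), autFun_autOf hgS' hgS (hP hz),
        hga z hz, ih _ (autFun_mem _ hz)]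
  have h1 := hp _ (Subgroup.pow_mem _ (autOf_mem hgS' hgS) k) hkcop
  have h2 : a ^ k = a := by
    conv_rhs => rw [← pow_one a]
    exact pow_eq_pow_iff_modEq.mpr hk1
  have h3 := hpow k y hy
  rw [h1, autFun_one (hP hy), h2] at h3
  exact h3.symm

/-- Inner fusion of small elements of the hyperfocal subgroup makes the system inner. -/
theorem eq_inner_of_good (hS : IsPGroup p S) (hF : F.IsSaturated p)
    (h : ∀ (P : Subgroup Ω) (α : MulAut P), F.IsFullyNormalized P → α ∈ F.autGroup P →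
      ∀ x ∈ P ⊓ F.hyperfocalSubgroup p, Good p x →
        ∃ s ∈ S, autFun α x = s * x * s⁻¹) : F = innerFusionSystem S := by
  refine eq_inner_of_isNormal_top hS hF ?_ fun α hα hcop => ?_
  · refine isNormal_top_of_good hS hF fun P hP α hα x hx hgood => ?_
    obtain ⟨s, hs, hsx⟩ := h P α hP.2.1 hα x hx hgood
    obtain ⟨δ, hδ⟩ := exists_conjAut (P := S) (Subgroup.le_normalizer hs)
    exact ⟨δ, (hδ x (hP.1.1 hx.1)).trans hsx.symm⟩
  · obtain ⟨C, hCT, hgood, hinv, hdet⟩ := exists_detect hS hF isFullyNormalized_top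
    refine eq_one_of_stab hS (hCT.trans inf_le_left) le_rfl hinv hdet hα hcop
      fun i x hx hxi => ?_
    obtain ⟨s, hs, hsx⟩ := h S α isFullyNormalized_top hα x (hCT hx) (hgood x hx)
    rw [hsx]
    exact comm_mem_lcs i hxi hs

/-- The map of cyclic subgroups of order `p` or `4` given by an automorphism. -/
theorem exists_small_hom (hS : IsPGroup p S) (hF : F.IsSaturated p) (hP : F.IsFullyNormalized P)
    {α : MulAut P} (hα : α ∈ F.autGroup P) {x : Ω} (hx : x ∈ P ⊓ F.hyperfocalSubgroup p)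
    (hgood : Good p x) (hx1 : x ≠ 1) :
    ∃ φ ∈ F.homSet (Subgroup.zpowers x) (Subgroup.zpowers (autFun α x)),
      φ ⟨x, Subgroup.mem_zpowers x⟩ = autFun α x ∧
      Subgroup.zpowers x ≤ F.hyperfocalSubgroup p ∧
      Subgroup.zpowers (autFun α x) ≤ F.hyperfocalSubgroup p ∧
      (Nat.card (Subgroup.zpowers x) = p ∨ Nat.card (Subgroup.zpowers x) = 4) ∧
      (Nat.card (Subgroup.zpowers (autFun α x)) = p ∨
        Nat.card (Subgroup.zpowers (autFun α x)) = 4) := by
  have hPS := hP.1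
  have hxP : Subgroup.zpowers x ≤ P := Subgroup.zpowers_le.mpr hx.1
  have hm := (mapTo_of_mem_autGroup hPS hα).restrict hxP
  obtain ⟨φ, hφ, hφf⟩ := id hm
  have hord : orderOf (autFun α x) = orderOf x := by
    rw [autFun_apply α hx.1, Subgroup.orderOf_coe, MulEquiv.orderOf_eq, Subgroup.orderOf_mk]
  have hcard : orderOf x = p ∨ orderOf x = 4 := by
    rcases hgood with h | ⟨h2, h⟩
    · exact Or.inl (orderOf_eq_prime h hx1)
    · by_cases h' : x ^ 2 = 1
      · exact Or.inl (h2 ▸ orderOf_eq_prime h' hx1)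
      · exact Or.inr (orderOf_eq_prime_pow (p := 2) (n := 1) (by simpa using h') (by simpa using h))
  have hαhyp : autFun α x ∈ F.hyperfocalSubgroup p := by
    obtain ⟨β, hβ, c, hc, rfl⟩ := exists_eq_mul_of_isFullyNormalized hS hF hP hα
    obtain ⟨s, hs, hsc⟩ := mem_autInducedBy_iff_cj.mp hc
    rw [autFun_mul _ _ hx.1]
    have h1 : autFun c x ∈ F.hyperfocalSubgroup p := by
      rw [hsc x hx.1]; exact hyperfocal_conj_mem hs hx.2
    have h2 := Subgroup.mul_mem _ h1 (mem_hyperfocal hPS hβ (autFun_mem c hx.1))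
    rwa [mul_inv_cancel_left] at h2
  refine ⟨φ, ⟨hφ, fun y => ?_⟩, hφf _, Subgroup.zpowers_le.mpr hx.2,
    Subgroup.zpowers_le.mpr hαhyp, by rwa [Nat.card_zpowers], by rwa [Nat.card_zpowers, hord]⟩
  obtain ⟨j, hj⟩ := Subgroup.mem_zpowers_iff.mp y.2
  have hy : y = ⟨x, Subgroup.mem_zpowers x⟩ ^ j := Subtype.ext (by simpa using hj.symm)
  rw [hy, _root_.map_zpow, hφf]
  exact Subgroup.zpow_mem _ (Subgroup.mem_zpowers _) j

/-- Elements of small order generating normal subgroups of `S` make `S` normal. -/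
theorem isNormal_top_of_zpowers (hS : IsPGroup p S) (hF : F.IsSaturated p)
    (h : ∀ x ∈ F.hyperfocalSubgroup p, Good p x →
      ∀ s ∈ S, s * x * s⁻¹ ∈ Subgroup.zpowers x) : F.IsNormal S := by
  refine isNormal_top_of_stab hS hF fun P hP => ?_
  have hPn : F.IsFullyNormalized P := hP.2.1
  have hPS := hPn.1
  have := finite_of_le hPS
  have := finite_mulAut P
  obtain ⟨C, hCT, hgood, hinv, hdet⟩ := exists_detect hS hF hPn
  have hCP : C ≤ P := hCT.trans inf_le_left
  let Near : Ω → Ω → Prop := fun x y => y = x ∨ (p = 2 ∧ y = x⁻¹)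
  let K : Subgroup (MulAut P) :=
    { carrier := {α | α ∈ F.autGroup P ∧ ∀ x ∈ C, Near x (autFun α x)}
      one_mem' := ⟨Subgroup.one_mem _, fun x hx => Or.inl (autFun_one (hCP hx))⟩
      mul_mem' := fun {a b} ha hb => ⟨Subgroup.mul_mem _ ha.1 hb.1, fun x hx => by
        rw [autFun_mul _ _ (hCP hx)]
        rcases hb.2 x hx with h1 | ⟨h2, h1⟩ <;> rw [h1]
        · exact ha.2 x hx
        · rcases ha.2 _ (C.inv_mem hx) with h3 | ⟨-, h3⟩ <;> rw [h3]
          · exact Or.inr ⟨h2, rfl⟩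
          · exact Or.inl (inv_inv x)⟩
      inv_mem' := fun {a} ha => ⟨Subgroup.inv_mem _ ha.1, fun x hx => by
        have hy := hinv _ (Subgroup.inv_mem _ ha.1) x hx
        have h1 := ha.2 _ hy
        rw [autFun_autFun_inv a (hCP hx)] at h1
        rcases h1 with h1 | ⟨h2, h1⟩
        · exact Or.inl h1.symm
        · exact Or.inr ⟨h2, by conv_rhs => rw [h1, inv_inv]⟩⟩ }
  refine ⟨K, fun g hg α hα _ => ⟨Subgroup.mul_mem _ (Subgroup.mul_mem _ hg hα.1)
    (Subgroup.inv_mem _ hg), fun x hx => ?_⟩, ?_, ?_⟩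
  · have hx' := hinv _ (Subgroup.inv_mem _ hg) x hx
    rw [autFun_mul _ _ (hCP hx), autFun_mul _ _ (autFun_mem _ (hCP hx))]
    rcases hα.2 _ hx' with h1 | ⟨h2, h1⟩ <;> rw [h1]
    · exact Or.inl (autFun_autFun_inv g (hCP hx))
    · refine Or.inr ⟨h2, ?_⟩
      rw [(mapTo_of_mem_autGroup hPS hg).map_inv (hCP hx'), autFun_autFun_inv g (hCP hx)]
  · refine isPGroup_of_coprime_eq_one K fun α hα hcop => ?_
    by_cases h2 : p = 2
    · have hsq : α * α = 1 := hdet _ (Subgroup.mul_mem _ hα.1 hα.1)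
        (by rw [← sq]; exact hcop.coprime_dvd_left (orderOf_pow_dvd 2)) fun c hc => by
          rw [autFun_mul _ _ (hCP hc)]
          rcases hα.2 c hc with h1 | ⟨-, h1⟩
          · rw [h1, h1]
          · rw [h1, (mapTo_of_mem_autGroup hPS hα.1).map_inv (hCP hc), h1, inv_inv]
      refine orderOf_eq_one_iff.mp (Nat.eq_one_of_dvd_coprimes hcop dvd_rfl ?_)
      rw [h2]
      exact orderOf_dvd_of_pow_eq_one (by rw [sq, hsq])
    · exact hdet α hα.1 hcop fun c hc => (hα.2 c hc).resolve_right fun h1 => h2 h1.1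
  · intro γ hγ
    obtain ⟨k, hk, hkγ⟩ := mem_autInducedBy_iff_cj.mp hγ
    refine ⟨autInducedBy_le_autGroup hPS hγ, fun x hx => ?_⟩
    rw [hkγ x (hCP hx), cj_apply]
    obtain ⟨j, hj⟩ := Subgroup.mem_zpowers_iff.mp (h x (hCT hx).2 (hgood x hx) k hk)
    set y := k * x * k⁻¹ with hy
    have hord : orderOf y = orderOf x := by rw [hy]; exact (MulAut.conj k).orderOf_eq x
    rw [← hj] at hord
    obtain ⟨e, he⟩ := hS ⟨k, hk⟩
    have hke : k ^ p ^ e = 1 := congrArg Subtype.val he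
    by_cases hxp : x ^ p = 1
    · -- the order divides `p`
      left
      have hiter : ∀ n : ℕ, k ^ n * x * (k ^ n)⁻¹ = x ^ (j ^ n) := by
        intro n
        induction n with
        | zero => simp
        | succ n ih =>
          calc k ^ (n + 1) * x * (k ^ (n + 1))⁻¹ = k * (k ^ n * x * (k ^ n)⁻¹) * k⁻¹ := by
                rw [pow_succ']; group
            _ = (k * x * k⁻¹) ^ (j ^ n) := by rw [ih, conj_zpow]
            _ = x ^ (j ^ (n + 1)) := by rw [← hy, ← hj, ← zpow_mul, pow_succ']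
      have h1 := hiter (p ^ e)
      rw [hke, one_mul, inv_one, mul_one] at h1
      by_cases hx1 : x = 1
      · rw [hy, hx1]; group
      have hxo : orderOf x = p := orderOf_eq_prime hxp hx1
      have hfermat : (j ^ p ^ e : ℤ) ≡ j [ZMOD p] := by
        rw [← ZMod.intCast_eq_intCast_iff]
        push_cast
        exact ZMod.pow_card_pow _
      have h3 : x ^ (j ^ p ^ e : ℤ) = x ^ j := zpow_eq_zpow_iff_modEq.mpr (hxo ▸ hfermat)
      rw [← hj, ← h3, ← h1]
    · -- `p = 2` and the order is `4`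
      obtain ⟨hp2, h4⟩ := (hgood x hx).resolve_left hxp
      have h4' : x ^ (4 : ℤ) = 1 := by exact_mod_cast h4
      have hjm : x ^ j = x ^ (j % 4) := by
        conv_lhs => rw [← Int.mul_ediv_add_emod j 4, zpow_add, zpow_mul, h4', one_zpow, one_mul]
      have hj4 : j % 4 = 0 ∨ j % 4 = 1 ∨ j % 4 = 2 ∨ j % 4 = 3 := by omega
      subst hp2
      have hno : ∀ z : Ω, orderOf z = orderOf x → z ^ 2 ≠ 1 := fun z hz hz2 => by
        refine hxp (orderOf_dvd_iff_pow_eq_one.mp ?_)
        rw [← hz]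
        exact orderOf_dvd_of_pow_eq_one hz2
      rw [← hj, hjm]
      rw [hjm] at hord
      rcases hj4 with h0 | h0 | h0 | h0 <;> rw [h0] at hord ⊢
      · exact absurd (by simp) (hno _ hord)
      · exact Or.inl (zpow_one x)
      · refine absurd ?_ (hno _ hord)
        rw [show (2 : ℤ) = ((2 : ℕ) : ℤ) from rfl, zpow_natCast, ← pow_mul]
        exact h4
      · refine Or.inr ⟨rfl, eq_inv_of_mul_eq_one_left ?_⟩
        rw [show (3 : ℤ) = ((3 : ℕ) : ℤ) from rfl, zpow_natCast, ← pow_succ]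
        exact h4

end Cfsg.Agent.Fusion
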