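import Cfsg.Agent.Lib.Fusion.EssentialFrame
import Cfsg.Agent.Lib.FGS.AutFrattini
import Cfsg.Agent.Lib.Invol.ExtraPairs
import Cfsg.Agent.Lib.Invol.MaxClassApps
import Cfsg.Agent.Lib.Coprime23.Omega
import Cfsg.Agent.Lib.Fusion.OmegaCriteria

/-!
Essential subgroups which are abelian of rank two, or of order `p ^ 3`.
-/

set_option autoImplicit false
set_option linter.style.haveILetI false

namespace Cfsg.Agent.Fusion

open Subgroup
open scoped commutatorElement

universe u

variable {p : ℕ} [hp : Fact p.Prime]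
variable {Ω : Type u} [Group Ω] {S : Subgroup Ω} {F : FusionSystem S} {P : Subgroup Ω}

/-- The action on a quotient by an invariant subgroup. -/
def quotRep (N : Subgroup P) [N.Normal]
    (hN : ∀ α ∈ F.autGroup P, ∀ x ∈ N, α x ∈ N) : F.autGroup P →* MulAut (P ⧸ N) where
  toFun a := QuotientGroup.congr N N (a : MulAut P) (le_antisymm
    (Subgroup.map_le_iff_le_comap.mpr fun x hx => hN _ a.2 x hx) fun x hx =>
      ⟨(a : MulAut P)⁻¹ x, hN _ (Subgroup.inv_mem _ a.2) x hx, MulAut.apply_inv_self _ _ _⟩)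
  map_one' := MulEquiv.ext fun x => by
    obtain ⟨x, rfl⟩ := QuotientGroup.mk_surjective x
    rfl
  map_mul' a b := MulEquiv.ext fun x => by
    obtain ⟨x, rfl⟩ := QuotientGroup.mk_surjective x
    rfl

theorem quotRep_mk (N : Subgroup P) [N.Normal] (hN : ∀ α ∈ F.autGroup P, ∀ x ∈ N, α x ∈ N)
    (a : F.autGroup P) (x : P) :
    quotRep N hN a (x : P ⧸ N) = (((a : MulAut P) x : P) : P ⧸ N) := rfl

theorem mem_of_char {P : Type*} [Group P] (N : Subgroup P) [h : N.Characteristic] (α : MulAut P)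
    {x : P} (hx : x ∈ N) : α x ∈ N :=
  (characteristic_iff_le_comap.mp h α) hx

variable [Finite S]

/-- Elements trivial on the Frattini quotient form a `p`-group. -/
theorem isPGroup_ker_frattini (hS : IsPGroup p S) (hP : P ≤ S) (N : Subgroup P) [N.Normal]
    (hN : ∀ α ∈ F.autGroup P, ∀ x ∈ N, α x ∈ N) (hle : N ≤ frattini P) :
    IsPGroup p (quotRep N hN).ker := by
  haveI := finite_of_le hP
  haveI := finite_mulAut P
  obtain ⟨n, hn⟩ := (hS.to_le hP).exists_card_eq
  obtain ⟨r, -, hr⟩ := (Nat.dvd_prime_pow hp.out).mp (hn ▸ (frattini P).index_dvd_card)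
  have h1 := FGS.AutFrattini.card_stabilizer_dvd hn hr
    ((quotRep N hN).ker.map (F.autGroup P).subtype) (by
      rintro _ ⟨a, ha, rfl⟩ x
      have h := DFunLike.congr_fun (MonoidHom.mem_ker.mp ha) (x : P ⧸ N)
      rw [quotRep_mk] at h
      refine hle ?_
      show (a : MulAut P) x * x⁻¹ ∈ N
      exact Normal.mem_comm inferInstance (QuotientGroup.eq.mp h.symm))
  rw [Nat.card_congr (Subgroup.equivMapOfInjective _ _ (Subgroup.subtype_injective _)).symm.toEquiv,
    Nat.dvd_prime_pow hp.out] at h1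
  obtain ⟨m, -, hm⟩ := h1
  exact IsPGroup.of_card hm

section Abelian

variable (hS : IsPGroup p S) (hP : F.IsEssential p P) (hab : IsMulCommutative P)
  (hrk : (frattini P).index ≤ p ^ 2)

include hS hP hrk in
theorem frattini_index_eq : (frattini P).index = p ^ 2 := by
  haveI := finite_of_le hP.1.1
  haveI := finite_mulAut P
  have hPp := hS.to_le hP.1.1
  obtain ⟨n, hn⟩ := hPp.exists_card_eq
  obtain ⟨r, -, hr⟩ := (Nat.dvd_prime_pow hp.out).mp (hn ▸ (frattini P).index_dvd_card)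
  have hr2 : r ≤ 2 := (Nat.pow_le_pow_iff_right hp.out.one_lt).mp (hr ▸ hrk)
  have hN : ∀ α ∈ F.autGroup P, ∀ x ∈ frattini P, α x ∈ frattini P := fun α _ x hx =>
    mem_of_char _ α hx
  interval_cases r
  · exfalso
    haveI : Subsingleton P := by
      have h1 : (frattini P : Subgroup P) = ⊤ := index_eq_one.mp (hr.trans (pow_zero p))
      haveI := hPp.isNilpotent
      have h2 : (⊥ : Subgroup P) = ⊤ := frattini_nongenerating (by rw [h1, sup_top_eq])
      exact ⟨fun a b => by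
        rw [Subgroup.mem_bot.mp (h2.ge (mem_top a)), Subgroup.mem_bot.mp (h2.ge (mem_top b))]⟩
    obtain ⟨c, -, hc⟩ := exists_pElt_not_inn hS hP
    exact hc (by rw [show (c : MulAut P) = 1 from MulEquiv.ext fun x => Subsingleton.elim _ _]
                 exact one_mem _)
  · exact (frame_false_of_card_prime hS hP (quotRep (frattini P) hN)
      (by rw [← index_eq_card, hr, pow_one])
      (isPGroup_ker_frattini hS hP.1.1 _ hN le_rfl)).elim
  · exact hr

include hS hP hab hrk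

/-- An abelian essential subgroup of rank two is homocyclic, of exponent `p` for `p ≥ 5`. -/
theorem abelian_essential_structure :
    ∃ k : ℕ, 0 < k ∧ Nonempty (P ≃* Multiplicative (ZMod (p ^ k) × ZMod (p ^ k))) ∧
      (5 ≤ p → k = 1) := by
  have hidx := frattini_index_eq hS hP hrk
  haveI := finite_of_le hP.1.1
  haveI := finite_mulAut P
  have hPS := hP.1.1
  have hPp := hS.to_le hPS
  haveI := hPp.isNilpotent
  haveI := hab
  have hc : ∀ a b : P, a * b = b * a := hab.is_comm.comm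
  set N : Subgroup P := frattini P with hNdef
  haveI hNn : N.Normal := inferInstanceAs (frattini P).Normal
  have hN : ∀ α ∈ F.autGroup P, ∀ x ∈ N, α x ∈ N := fun α _ x hx => mem_of_char (frattini P) α hx
  let ρ := quotRep N hN
  have hker : IsPGroup p ρ.ker := isPGroup_ker_frattini hS hPS N hN le_rfl
  have hVc : IsMulCommutative (P ⧸ N) := ⟨⟨fun a b => by
    obtain ⟨a, rfl⟩ := QuotientGroup.mk_surjective a
    obtain ⟨b, rfl⟩ := QuotientGroup.mk_surjective b
    rw [← QuotientGroup.mk_mul, ← QuotientGroup.mk_mul, hc]⟩⟩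
  have hVe : ∀ v : P ⧸ N, v ^ p = 1 := fun v => by
    obtain ⟨v, rfl⟩ := QuotientGroup.mk_surjective v
    rw [← QuotientGroup.mk_pow]
    exact (QuotientGroup.eq_one_iff _).mpr (Basics.pow_mem_frattini hPp v)
  have hVn : Nat.card (P ⧸ N) = p ^ 2 := by rw [← index_eq_card, hidx]
  -- elements of the Frattini subgroup are `p`-th powers
  let Ph : P →* P :=
    { toFun := fun a => a ^ p, map_one' := one_pow p,
      map_mul' := fun a b => (show Commute a b from hc a b).mul_pow p }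
  have hpow : ∀ z ∈ N, ∃ w : P, w ^ p = z := by
    intro z hz
    refine (show N ≤ Ph.range from (LocalEvenA.frattini_le_commutator_sup_pow (p := p) (Q := P)).trans
      (sup_le ?_ ?_)) hz
    · rw [_root_.commutator_def, commutator_le]
      intro a _ b _
      rw [commutatorElement_def, hc a b, mul_inv_cancel_right, mul_inv_cancel]
      exact one_mem _
    · rw [closure_le]
      rintro _ ⟨g, rfl⟩
      exact ⟨g, rfl⟩
  -- the exponent
  obtain ⟨k, hk, hmin⟩ : ∃ k, (∀ h : P, h ^ p ^ k = 1) ∧ ∀ j < k, ∃ h : P, h ^ p ^ j ≠ 1 := by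
    classical
    obtain ⟨n, hn⟩ := hPp.exists_card_eq
    have hex : ∃ k, ∀ h : P, h ^ p ^ k = 1 := ⟨n, fun h => hn ▸ pow_card_eq_one'⟩
    refine ⟨Nat.find hex, Nat.find_spec hex, fun j hj => ?_⟩
    simpa using Nat.find_min hex hj
  obtain ⟨k, rfl⟩ : ∃ j, k = j + 1 := by
    refine Nat.exists_eq_succ_of_ne_zero ?_
    rintro rfl
    have h1 : (⊤ : Subgroup P) = ⊥ := (Subgroup.eq_bot_iff_forall _).mpr fun h _ => by
      simpa using hk h
    have h2 : N = ⊤ := le_antisymm le_top (h1 ▸ bot_le)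
    rw [h2, index_top] at hidx
    exact (Nat.one_lt_pow two_ne_zero hp.out.one_lt).ne hidx
  -- only the Frattini subgroup dies under the top power
  let Qh : P →* P :=
    { toFun := fun a => a ^ p ^ k, map_one' := one_pow _,
      map_mul' := fun a b => (show Commute a b from hc a b).mul_pow _ }
  let W : Subgroup (P ⧸ N) := Qh.ker.map (QuotientGroup.mk' N)
  have hzero : ∀ h : P, h ^ p ^ k = 1 → h ∈ N := by
    intro h hh
    have hWinv : ∀ (a : F.autGroup P), ∀ w ∈ W, ρ a w ∈ W := by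
      rintro a _ ⟨z, hz, rfl⟩
      refine ⟨(a : MulAut P) z, ?_, rfl⟩
      show ((a : MulAut P) z) ^ p ^ k = 1
      rw [← map_pow, show z ^ p ^ k = 1 from hz, map_one]
    rcases frame_no_line hVc hVe hVn hS hP ρ hker hWinv with h1 | h1
    · exact (QuotientGroup.eq_one_iff _).mp
        (mem_bot.mp (h1 ▸ (⟨h, hh, rfl⟩ : (h : P ⧸ N) ∈ W)))
    · exfalso
      obtain ⟨g, hg⟩ := hmin k (Nat.lt_succ_self k)
      obtain ⟨z, hz, hzg⟩ := h1.ge (mem_top ((g : P ⧸ N)))
      obtain ⟨w, hw⟩ := hpow _ (QuotientGroup.eq.mp hzg)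
      have h3 : g = z * w ^ p := by rw [hw, mul_inv_cancel_left]
      apply hg
      rw [h3, (show Commute z (w ^ p) from hc _ _).mul_pow, show z ^ p ^ k = 1 from hz, one_mul,
        ← pow_mul, ← pow_succ', hk]
  obtain ⟨a, hap, ha⟩ := exists_frame_elt hVc hVe hVn hS hP ρ hker
  obtain ⟨xb, yb, u, l, hx, hy, hua, -, hux, huy, -, -⟩ :=
    exists_frame_pair hVc hVe hVn hS hP ρ hker hap ha
  obtain ⟨x, rfl⟩ := QuotientGroup.mk_surjective xb
  obtain ⟨y, rfl⟩ := QuotientGroup.mk_surjective yb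
  have hxo : orderOf (x : P ⧸ N) = p := orderOf_eq_prime (hVe _) hx
  have hyo : orderOf (y : P ⧸ N) = p := orderOf_eq_prime (hVe _) fun h => hy (h ▸ one_mem _)
  have hindep : ∀ i j : ℕ, x ^ i * y ^ j ∈ N → p ∣ i ∧ p ∣ j := by
    intro i j h
    have h1 : (x : P ⧸ N) ^ i * (y : P ⧸ N) ^ j = 1 := by
      rw [← QuotientGroup.mk_pow, ← QuotientGroup.mk_pow, ← QuotientGroup.mk_mul]
      exact (QuotientGroup.eq_one_iff _).mpr h
    have hj : p ∣ j := by
      by_contra hj
      have hu : Nat.Coprime j (orderOf (y : P ⧸ N)) := by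
        rw [hyo]; exact ((hp.out.coprime_iff_not_dvd).mpr hj).symm
      obtain ⟨m, hm⟩ := exists_pow_eq_self_of_coprime hu
      apply hy
      rw [← hm, eq_inv_of_mul_eq_one_right h1]
      exact pow_mem (inv_mem (pow_mem (mem_zpowers _) _)) _
    refine ⟨?_, hj⟩
    obtain ⟨j, rfl⟩ := hj
    rw [pow_mul, hVe, one_pow, mul_one] at h1
    exact hxo ▸ orderOf_dvd_of_pow_eq_one h1
  have hdiv : ∀ m ≤ k + 1, ∀ i j : ℕ, x ^ i * y ^ j = 1 → p ^ m ∣ i ∧ p ^ m ∣ j := by
    intro m hm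
    induction m with
    | zero => intro i j _; simp
    | succ m ih =>
      intro i j h
      obtain ⟨⟨i, rfl⟩, ⟨j, rfl⟩⟩ := ih (by omega) i j h
      have h1 : (x ^ i * y ^ j) ^ p ^ m = 1 := by
        rw [(show Commute (x ^ i) (y ^ j) from hc _ _).mul_pow, ← pow_mul, ← pow_mul,
          mul_comm i, mul_comm j, h]
      obtain ⟨⟨i, rfl⟩, ⟨j, rfl⟩⟩ := hindep i j (hzero _ (by
        obtain ⟨d, hd⟩ := Nat.le.dest (show m ≤ k by omega)
        rw [← hd, pow_add, pow_mul, h1, one_pow]))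
      exact ⟨⟨i, by ring⟩, ⟨j, by ring⟩⟩
  haveI : NeZero (p ^ (k + 1)) := ⟨pow_ne_zero _ hp.out.ne_zero⟩
  let φ : Multiplicative (ZMod (p ^ (k + 1)) × ZMod (p ^ (k + 1))) →* P :=
    { toFun := fun v => x ^ v.toAdd.1.val * y ^ v.toAdd.2.val
      map_one' := by simp
      map_mul' := fun v w => by
        simp only [toAdd_mul, Prod.fst_add, Prod.snd_add, ZMod.val_add]
        rw [← pow_eq_pow_mod _ (hk x), ← pow_eq_pow_mod _ (hk y), pow_add x, pow_add y, mul_assoc,
          mul_assoc, ← mul_assoc (x ^ w.toAdd.1.val), hc (x ^ w.toAdd.1.val)]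
        simp only [mul_assoc] }
  have hinj : Function.Injective φ := (injective_iff_map_eq_one φ).mpr fun v hv => by
    obtain ⟨h1, h2⟩ := hdiv (k + 1) le_rfl _ _ hv
    refine Multiplicative.toAdd.injective (Prod.ext ?_ ?_)
    · exact (ZMod.val_eq_zero _).mp (Nat.eq_zero_of_dvd_of_lt h1 (ZMod.val_lt _))
    · exact (ZMod.val_eq_zero _).mp (Nat.eq_zero_of_dvd_of_lt h2 (ZMod.val_lt _))
  have hsurj : Function.Surjective φ := by
    rw [← MonoidHom.range_eq_top]
    refine frattini_nongenerating (eq_top_iff.mpr fun g _ => ?_)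
    show g ∈ φ.range ⊔ N
    have htop : zpowers (x : P ⧸ N) ⊔ zpowers (y : P ⧸ N) = ⊤ := by
      refine eq_top_of_card_eq _ ?_
      obtain ⟨m, hm, he⟩ := (Nat.dvd_prime_pow hp.out).mp
        (hVn ▸ card_subgroup_dvd_card (zpowers (x : P ⧸ N) ⊔ zpowers (y : P ⧸ N)))
      have h1 : p < p ^ m := by
        rw [← he]
        refine lt_of_eq_of_lt ((Nat.card_zpowers _).trans hxo).symm ?_
        refine lt_of_le_of_ne (card_le_of_le le_sup_left) fun h => hy ?_
        exact (eq_of_le_of_card_ge le_sup_left h.ge).ge (mem_sup_right (mem_zpowers _))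
      have h2 : 1 < m := (Nat.pow_lt_pow_iff_right hp.out.one_lt).mp (by rwa [pow_one])
      rw [he, hVn, show m = 2 by omega]
    have hrange : ∀ i j : ℕ, x ^ i * y ^ j ∈ φ.range := fun i j =>
      ⟨Multiplicative.ofAdd ((i : ZMod (p ^ (k + 1))), (j : ZMod (p ^ (k + 1)))), by
        show x ^ (i : ZMod (p ^ (k + 1))).val * y ^ (j : ZMod (p ^ (k + 1))).val = _
        rw [ZMod.val_natCast, ZMod.val_natCast, ← pow_eq_pow_mod _ (hk x),
          ← pow_eq_pow_mod _ (hk y)]⟩
    have hle : zpowers (x : P ⧸ N) ⊔ zpowers (y : P ⧸ N) ≤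
        (φ.range).map (QuotientGroup.mk' N) := by
      refine sup_le (zpowers_le.mpr ⟨x, ?_, rfl⟩) (zpowers_le.mpr ⟨y, ?_, rfl⟩)
      · simpa using hrange 1 0
      · simpa using hrange 0 1
    obtain ⟨r, hr, hrg⟩ := hle (htop.ge (mem_top (g : P ⧸ N)))
    rw [← mul_inv_cancel_left r g]
    exact mul_mem (mem_sup_left hr) (mem_sup_right (QuotientGroup.eq.mp hrg))
  refine ⟨k + 1, Nat.succ_pos k, ⟨(MulEquiv.ofBijective φ ⟨hinj, hsurj⟩).symm⟩, fun hp5 => ?_⟩
  -- no element of order `p` moves the quotient when the exponent exceeds `p`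
  by_contra hk1
  have hk0 : 1 ≤ k := by omega
  have hinn : ∀ b : MulAut P, b ∈ Inn P → b = 1 := by
    rintro _ ⟨g, rfl⟩
    refine MulEquiv.ext fun h => Subtype.ext ?_
    show ((g * h * g⁻¹ : P) : Ω) = h
    rw [hc g h, mul_inv_cancel_right]
  have hup : (u : MulAut P) ^ p = 1 := by
    refine hinn _ ?_
    rw [← SubgroupClass.coe_pow]
    refine (frame_inn_iff hVc hVe hVn hS hP ρ hker _).mp ?_
    obtain ⟨i, rfl⟩ := mem_zpowers_iff.mp hua
    rw [map_pow, map_zpow, ← zpow_natCast, ← zpow_mul, mul_comm, zpow_mul, zpow_natCast, hap,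
      one_zpow]
  set α : MulAut P := (u : MulAut P)
  obtain ⟨δ, hδ⟩ : ∃ δ : P → P, ∀ h, δ h = h⁻¹ * α h := ⟨_, fun _ => rfl⟩
  have hαδ : ∀ h, α h = h * δ h := fun h => by rw [hδ, mul_inv_cancel_left]
  have hδm : ∀ g h, δ (g * h) = δ g * δ h := fun g h => by
    rw [hδ, hδ, hδ]
    rw [map_mul, mul_inv_rev, hc h⁻¹ g⁻¹, mul_assoc, mul_assoc, ← mul_assoc h⁻¹, hc h⁻¹ (α g)]
    simp only [mul_assoc]
  have hδp : ∀ h (n : ℕ), δ (h ^ n) = δ h ^ n := fun h n => by
    rw [hδ, hδ, map_pow, ← inv_pow, ← (show Commute h⁻¹ (α h) from hc _ _).mul_pow]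
  obtain ⟨s, hs⟩ : ∃ s, s ^ p = δ x := by
    refine hpow _ ?_
    rw [hδ]
    refine QuotientGroup.eq.mp ?_
    rw [← quotRep_mk N hN u x]
    exact hux.symm
  obtain ⟨z, hz⟩ : ∃ z, z ^ p = x⁻¹ * δ y := by
    refine hpow _ (QuotientGroup.eq.mp ?_)
    rw [hδ]
    have h1 : ρ u (y : P ⧸ N) = ((α y : P) : P ⧸ N) := rfl
    rw [QuotientGroup.mk_mul, QuotientGroup.mk_inv, ← h1, huy, eq_inv_mul_iff_mul_eq,
      hVc.is_comm.comm]
  -- `δ (δ h)` is a `p`-th power for every `h`
  have hδ2 : ∀ h, ∃ w, w ^ p = δ (δ h) := by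
    intro h
    obtain ⟨v, rfl⟩ := hsurj h
    refine ⟨δ (δ x) ^ 0 * (δ s) ^ v.toAdd.1.val * ((s * δ z) ^ v.toAdd.2.val), ?_⟩
    show _ = δ (δ (x ^ v.toAdd.1.val * y ^ v.toAdd.2.val))
    have e : δ (δ y) = (s * δ z) ^ p := by
      rw [(show Commute s (δ z) from hc _ _).mul_pow, hs, ← hδp, hz, ← hδm, mul_inv_cancel_left]
    rw [hδm, hδm, hδp, hδp, hδp, hδp, e, ← hs, hδp, pow_zero, one_mul,
      (show Commute _ _ from hc _ _).mul_pow, ← pow_mul, ← pow_mul, ← pow_mul, ← pow_mul,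
      mul_comm p, mul_comm p]
  let T : Subgroup P :=
    { carrier := {e | ∃ w : P, w ^ p ^ 2 = e}
      one_mem' := ⟨1, one_pow _⟩
      mul_mem' := fun {e f} ⟨w, hw⟩ ⟨w', hw'⟩ => ⟨w * w', by
        rw [(show Commute w w' from hc _ _).mul_pow, hw, hw']⟩
      inv_mem' := fun {e} ⟨w, hw⟩ => ⟨w⁻¹, by rw [inv_pow, hw]⟩ }
  set d1 := δ y
  set d2 := δ d1
  set d3 := δ d2
  obtain ⟨w2, hw2⟩ : ∃ w, w ^ p = d2 := hδ2 y
  obtain ⟨w3, hw3⟩ : ∃ w, w ^ p = d3 := hδ2 d1
  have hT4 : δ d3 ∈ T := by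
    obtain ⟨w, hw⟩ := hδ2 w2
    exact ⟨w, by rw [pow_two, pow_mul, hw, ← hδp, ← hδp, hw2]⟩
  have hmain : ∀ n : ℕ, ∃ e ∈ T,
      (α ^ n) y = y * (d1 ^ n * (d2 ^ n.choose 2 * (d3 ^ n.choose 3 * e))) := by
    intro n
    induction n with
    | zero => exact ⟨1, one_mem _, by simp⟩
    | succ n ih =>
      obtain ⟨e, he, heq⟩ := ih
      refine ⟨δ d3 ^ n.choose 3 * α e, mul_mem (pow_mem hT4 _) ?_, ?_⟩
      · obtain ⟨w, rfl⟩ := he
        exact ⟨α w, (map_pow α w _).symm⟩
      rw [pow_succ', MulAut.mul_apply, heq, map_mul, map_mul, map_mul, map_mul, map_pow, map_pow,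
        map_pow, hαδ y, hαδ d1, hαδ d2, hαδ d3, show (n + 1).choose 2 = n + n.choose 2 by
          rw [Nat.choose_succ_succ', Nat.choose_one_right],
        show (n + 1).choose 3 = n.choose 2 + n.choose 3 from Nat.choose_succ_succ' n 2,
        pow_succ' d1 n, pow_add d2, pow_add d3,
        (show Commute d1 (δ d1) from hc _ _).mul_pow, (show Commute d2 (δ d2) from hc _ _).mul_pow,
        (show Commute d3 (δ d3) from hc _ _).mul_pow]
      letI : CommGroup P := { (inferInstance : Group P) with mul_comm := hc }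
      show y * d1 * (d1 ^ n * d2 ^ n * (d2 ^ n.choose 2 * d3 ^ n.choose 2 *
        (d3 ^ n.choose 3 * δ d3 ^ n.choose 3 * α e))) = _
      ac_rfl
  obtain ⟨e, he, heq⟩ := hmain p
  rw [hup, MulAut.one_apply, eq_comm, mul_eq_left] at heq
  have hd1 : d1 ^ p ∈ T := by
    have h2 : d2 ^ p.choose 2 ∈ T := by
      obtain ⟨c, hc2⟩ := hp.out.dvd_choose_self (k := 2) (by norm_num) (by omega)
      exact ⟨w2 ^ c, by rw [← hw2, hc2, ← pow_mul, ← pow_mul, pow_two]; ring_nf⟩
    have h3 : d3 ^ p.choose 3 ∈ T := by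
      obtain ⟨c, hc3⟩ := hp.out.dvd_choose_self (k := 3) (by norm_num) (by omega)
      exact ⟨w3 ^ c, by rw [← hw3, hc3, ← pow_mul, ← pow_mul, pow_two]; ring_nf⟩
    rw [eq_inv_of_mul_eq_one_left heq]
    exact inv_mem (mul_mem h2 (mul_mem h3 he))
  obtain ⟨w, hw⟩ := hd1
  have h1 : (x * (z * (w ^ p)⁻¹) ^ 1 * 1) ^ p = (x * z) ^ p * ((w ^ p) ^ p)⁻¹ := by
    rw [pow_one, mul_one, ← mul_assoc, (show Commute (x * z) (w ^ p)⁻¹ from hc _ _).mul_pow, inv_pow]
  have h2 : x ∈ N := by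
    have e2 : (x * z ^ p * (w ^ p)⁻¹) ^ p = 1 := by
      have : d1 = x * z ^ p := by rw [hz, mul_inv_cancel_left]
      rw [(show Commute (x * z ^ p) (w ^ p)⁻¹ from hc _ _).mul_pow, ← this, inv_pow, ← pow_mul,
        ← pow_two, hw, mul_inv_cancel]
    have h3 : x * z ^ p * (w ^ p)⁻¹ ∈ N := hzero _ (by
      obtain ⟨d, hd⟩ := Nat.le.dest hk0
      rw [← hd, pow_add, pow_one, pow_mul, e2, one_pow])
    have h4 := mul_mem h3 (mul_mem (Basics.pow_mem_frattini hPp w)
      (inv_mem (Basics.pow_mem_frattini hPp z)))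
    rwa [← mul_assoc, inv_mul_cancel_right, mul_inv_cancel_right] at h4
  exact hx ((QuotientGroup.eq_one_iff x).mpr h2)

end Abelian

/-- An essential subgroup of order `p ^ 3`. -/
theorem essential_card_cube (hS : IsPGroup p S) (hP : F.IsEssential p P)
    (hcard : Nat.card P = p ^ 3) :
    Cfsg.IsElementaryAbelian p P ∨ (Odd p ∧ Cfsg.IsExtraspecial p P ∧ ∀ x ∈ P, x ^ p = 1) ∨
      (p = 2 ∧ Nonempty (P ≃* QuaternionGroup 2)) := by
  haveI := finite_of_le hP.1.1
  haveI := finite_mulAut P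
  have hPp := hS.to_le hP.1.1
  haveI := hPp.isNilpotent
  by_cases hab : IsMulCommutative P
  · left
    obtain ⟨r, hr3, hr⟩ := (Nat.dvd_prime_pow hp.out).mp (hcard ▸ (frattini P).index_dvd_card)
    rcases Nat.lt_or_ge r 3 with h | h
    · exfalso
      obtain ⟨k, -, ⟨e⟩, -⟩ := abelian_essential_structure hS hP hab
        (hr ▸ Nat.pow_le_pow_right hp.out.pos (by omega))
      haveI : NeZero (p ^ k) := ⟨pow_ne_zero _ hp.out.ne_zero⟩
      have := Nat.card_congr e.toEquiv
      rw [hcard, Nat.card_congr Multiplicative.toAdd, Nat.card_prod, Nat.card_zmod, ← pow_add]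
        at this
      have := Nat.pow_right_injective hp.out.two_le this
      omega
    · have hbot : (frattini P : Subgroup P) = ⊥ := by
        refine eq_bot_of_card_eq _ ?_
        have := (frattini P).card_mul_index
        rw [hr, show r = 3 by omega, hcard] at this
        exact Nat.eq_of_mul_eq_mul_right (pow_pos hp.out.pos 3) (this.trans (one_mul _).symm)
      exact ⟨hab, fun a ha => congrArg Subtype.val
        (mem_bot.mp (hbot ▸ Basics.pow_mem_frattini hPp ⟨a, ha⟩) : (⟨a, ha⟩ : P) ^ p = 1)⟩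
  right
  have hne : ¬ ∀ a b : P, a * b = b * a := fun h => hab ⟨⟨h⟩⟩
  set Z := center P with hZ
  have hZp : Nat.card Z = p := by
    obtain ⟨m, hm, hmZ⟩ := (Nat.dvd_prime_pow hp.out).mp (hcard ▸ card_subgroup_dvd_card Z)
    haveI : Nontrivial P := Finite.one_lt_card_iff_nontrivial.mp
      (hcard ▸ Nat.one_lt_pow (by norm_num) hp.out.one_lt)
    have hq : ¬ IsCyclic (P ⧸ Z) := fun h =>
      hne (commutative_of_cyclic_center_quotient (QuotientGroup.mk' Z) (QuotientGroup.ker_mk' Z).le)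
    have hidx : Nat.card (P ⧸ Z) * p ^ m = p ^ 3 := by
      rw [← hmZ, ← hcard, ← card_eq_card_quotient_mul_card_subgroup]
    interval_cases m
    · haveI := hPp.center_nontrivial
      exact absurd (hmZ.trans (pow_zero p)) Finite.one_lt_card.ne'
    · rw [hmZ, pow_one]
    · exact absurd (isCyclic_of_prime_card (α := P ⧸ Z) (p := p) (Nat.eq_of_mul_eq_mul_right
        (pow_pos hp.out.pos 2) (hidx.trans (by ring)))) hq
    · have h1 : Nat.card (P ⧸ Z) = 1 := Nat.eq_of_mul_eq_mul_right (pow_pos hp.out.pos 3)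
        (hidx.trans (one_mul _).symm)
      haveI := (Nat.card_eq_one_iff_unique.mp h1).1
      exact (hq inferInstance).elim
  have hidx : Z.index = p ^ 2 := by
    have := Z.card_mul_index
    rw [hcard, hZp, pow_succ' p 2] at this
    exact Nat.eq_of_mul_eq_mul_left hp.out.pos this
  have hcomm : commutator P = Z := by
    have hle : commutator P ≤ Z := by
      rw [← Normal.quotient_commutative_iff_commutator_le]
      exact IsPGroup.isMulCommutative_of_card_eq_prime_sq ((index_eq_card Z).symm.trans hidx)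
    refine eq_of_le_of_card_ge hle ?_
    obtain ⟨m, hm, hmc⟩ := (Nat.dvd_prime_pow hp.out).mp
      ((pow_one p).symm ▸ hZp ▸ card_dvd_of_le hle)
    interval_cases m
    · exfalso
      have h1 : commutator P = ⊥ := eq_bot_of_card_eq _ (hmc.trans (pow_zero p))
      refine hne fun a b => commutatorElement_eq_one_iff_mul_comm.mp (mem_bot.mp (h1 ▸ ?_))
      exact commutator_mem_commutator (mem_top a) (mem_top b)
    · rw [hmc, hZp, pow_one]
  have hZf : Z ≤ frattini P := hcomm ▸ Basics.commutator_le_frattini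
  have hN : ∀ α ∈ F.autGroup P, ∀ x ∈ Z, α x ∈ Z := fun α _ x hx => mem_of_char (center P) α hx
  have hker := isPGroup_ker_frattini (F := F) hS hP.1.1 Z hN hZf
  have hVn : Nat.card (P ⧸ Z) = p ^ 2 := (index_eq_card Z).symm.trans hidx
  have hVc : IsMulCommutative (P ⧸ Z) := IsPGroup.isMulCommutative_of_card_eq_prime_sq hVn
  by_cases hp2 : p = 2
  · subst hp2
    refine Or.inr ⟨rfl, Invol.MaxClassTwo.quaternion_of_aut hPp hab (by rw [hcomm, hidx]; norm_num) fun h => ?_⟩
    obtain ⟨-, -, hn, Y, hY⟩ := hP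
    exact not_isPGroup_of_isStronglyPEmbedded hY ((h.to_subgroup _).to_quotient _)
  left
  have hcen : ∀ a b : P, ∃ z, b * a = a * b * z ∧ Commute z a ∧ Commute z b ∧ z ^ p = 1 := by
    intro a b
    have hz : ⁅b⁻¹, a⁻¹⁆ ∈ Z := hcomm ▸ commutator_mem_commutator (mem_top _) (mem_top _)
    refine ⟨_, by rw [commutatorElement_def]; group, (mem_center_iff.mp hz a).symm,
      (mem_center_iff.mp hz b).symm, ?_⟩
    rw [← hZp]
    exact congrArg Subtype.val (pow_card_eq_one' (x := (⟨_, hz⟩ : Z)))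
  have hodd := hp.out.odd_of_ne_two hp2
  have hmul : ∀ a b : P, (a * b) ^ p = a ^ p * b ^ p := by
    intro a b
    obtain ⟨z, hrel, hza, hzb, hzp⟩ := hcen a b
    obtain ⟨r, hr⟩ : 2 ∣ p - 1 := (Nat.Prime.even_sub_one hp.out hp2).two_dvd
    rw [Coprime23.mul_pow_of_central hrel hzb hza p, hr,
      show p * (2 * r) / 2 = p * r by rw [mul_left_comm, Nat.mul_div_cancel_left _ two_pos],
      pow_mul, hzp, one_pow, mul_one]
  have hVe : ∀ v : P ⧸ Z, v ^ p = 1 := by
    by_contra hne'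
    push Not at hne'
    obtain ⟨v, hv⟩ := hne'
    -- a cyclic quotient
    apply hne
    have hvo : orderOf v = p ^ 2 := by
      obtain ⟨m, hm, he⟩ := (Nat.dvd_prime_pow hp.out).mp (hVn ▸ orderOf_dvd_natCard v)
      rcases Nat.lt_or_ge m 2 with h | h
      · exact absurd (orderOf_dvd_iff_pow_eq_one.mp
          (he ▸ (pow_dvd_pow p (by omega : m ≤ 1)).trans (pow_one p).dvd)) hv
      · rw [he, show m = 2 by omega]
    haveI : IsCyclic (P ⧸ Z) := isCyclic_of_orderOf_eq_card v (hvo.trans hVn.symm)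
    exact commutative_of_cyclic_center_quotient (QuotientGroup.mk' Z) (QuotientGroup.ker_mk' Z).le
  let K : Subgroup P :=
    { carrier := {a | a ^ p = 1}
      one_mem' := one_pow p
      mul_mem' := fun {a b} ha hb => by
        show (a * b) ^ p = 1
        rw [hmul, ha, hb, one_mul]
      inv_mem' := fun {a} ha => by
        show a⁻¹ ^ p = 1
        rw [inv_pow, ha, inv_one] }
  have hZK : Z ≤ K := fun z hz => by
    show z ^ p = 1
    rw [← hZp]
    exact congrArg Subtype.val (pow_card_eq_one' (x := (⟨z, hz⟩ : Z)))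
  have hKtop : ∀ a : P, a ^ p = 1 := by
    have hWinv : ∀ (g : F.autGroup P), ∀ w ∈ K.map (QuotientGroup.mk' Z),
        quotRep Z hN g w ∈ K.map (QuotientGroup.mk' Z) := by
      rintro g _ ⟨w, hw, rfl⟩
      refine ⟨(g : MulAut P) w, ?_, rfl⟩
      show ((g : MulAut P) w) ^ p = 1
      rw [← map_pow, show w ^ p = 1 from hw, map_one]
    rcases frame_no_line hVc hVe hVn hS hP (quotRep Z hN) hker hWinv with h | h
    · exfalso
      -- the power map has image in `Z` so its kernel is too large to lie in `Z`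
      have hKZ : K ≤ Z := fun k hk => (QuotientGroup.eq_one_iff k).mp
        (mem_bot.mp (h ▸ (⟨k, hk, rfl⟩ : (k : P ⧸ Z) ∈ K.map (QuotientGroup.mk' Z))))
      let f : P →* P := { toFun := fun a => a ^ p, map_one' := one_pow p, map_mul' := hmul }
      have hr : f.range ≤ Z := by
        rintro _ ⟨a, rfl⟩
        exact (QuotientGroup.eq_one_iff _).mp ((QuotientGroup.mk_pow Z a p).trans (hVe _))
      have h2 := f.ker.card_mul_index
      rw [hcard, Subgroup.index_ker] at h2
      have h3 : Nat.card f.ker * Nat.card f.range ≤ p * p :=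
        Nat.mul_le_mul (hZp ▸ card_le_of_le (show f.ker ≤ Z from fun a ha => hKZ ha))
          (hZp ▸ card_le_of_le hr)
      rw [h2, ← pow_two] at h3
      exact absurd ((Nat.pow_le_pow_iff_right hp.out.one_lt).mp h3) (by norm_num)
    · intro a
      obtain ⟨k, hk, hka⟩ := h.ge (mem_top (a : P ⧸ Z))
      rw [← mul_inv_cancel_left k a]
      exact K.mul_mem hk (hZK (QuotientGroup.eq.mp hka))
  refine ⟨hodd, ⟨⟨hPp, le_antisymm ?_ hZf, hcomm⟩, hZp⟩, fun x hx =>
    congrArg Subtype.val (hKtop ⟨x, hx⟩)⟩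
  refine (LocalEvenA.frattini_le_commutator_sup_pow (p := p) (Q := P)).trans (sup_le hcomm.le ?_)
  rw [closure_le]
  rintro _ ⟨g, rfl⟩
  show g ^ p ∈ Z
  rw [hKtop g]
  exact one_mem _

end Cfsg.Agent.Fusion
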