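import Cfsg.Agent.Lib.Fusion.Alperin

/-!
Necessity of essential subgroups in generating families.
-/

set_option autoImplicit false

namespace Cfsg.Agent.Fusion

open Cfsg.FusionSystem (centralizerIn normalizerIn)

variable {Ω : Type*} [Group Ω] {S : Subgroup Ω}
variable {F : FusionSystem S} {P Q R : Subgroup Ω} {f g : Ω → Ω} {p : ℕ}

/-- `g` is a normalized isomorphism from `P` onto `Q`. -/
def IsStd (F : FusionSystem S) (Q P : Subgroup Ω) (g : Ω → Ω) : Prop :=
  MapTo F (normalizerIn S P) g ∧ img g P = Q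

/-- `f` lies in the part of the system generated without using `Q`. -/
def Avoids (F : FusionSystem S) (Q P : Subgroup Ω) (f : Ω → Ω) : Prop :=
  F.IsConj P Q → ∃ g g', IsStd F Q P g ∧ IsStd F Q (img f P) g' ∧
    ∃ α ∈ extAut F Q, ∀ x ∈ P, g' (f x) = autFun α (g x)

variable [Finite S] [Fact p.Prime]

theorem exists_isStd (hS : IsPGroup p S) (hF : F.IsSaturated p) (hQ : F.IsFullyNormalized Q)
    (h : F.IsConj P Q) : ∃ g, IsStd F Q P g :=
  exists_map_normalizerIn hS (isFullyAutomized_of_isFullyNormalized hS hF hQ)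
    (isReceptive_of_isFullyNormalized hS hF hQ) h

/-- An extendable map read through standard isomorphisms lies in `extAut`. -/
theorem exists_extAut_of_extends (hS : IsPGroup p S) {g g' : Ω → Ω}
    (hg : IsStd F Q P g) (hg' : IsStd F Q (img f P) g') (hPR : P < R) (hf : MapTo F R f) :
    ∃ α ∈ extAut F Q, ∀ x ∈ P, g' (f x) = autFun α (g x) := by
  have hPS : P ≤ S := hPR.le.trans hf.le
  have := finite_of_le hf.le
  set K := normalizerIn R P with hK
  have hPK : P < K := lt_normalizerIn (hS.to_le hf.le) hPR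
  have hKR : K ≤ R := normalizerIn_le
  have hKN : K ≤ normalizerIn S P := fun x hx => ⟨hf.le hx.1, hx.2⟩
  have hfK : ∀ x ∈ K, f x ∈ normalizerIn S (img f P) := fun x hx =>
    hf.map_mem_normalizerIn hPR.le (hKR hx) (hKN hx)
  obtain ⟨k, hk, hkg, hgk, -⟩ := (hg.1.restrict hKN).exists_iso_inverse
  have hQK : Q ≤ img g K := hg.2 ▸ img_mono hPK.le
  have hlt : Q < img g K := by
    refine lt_of_le_of_ne hQK fun he => hPK.ne ?_
    exact (hg.1.restrict hKN).img_inj hPK.le le_rfl (hg.2.trans he)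
  have hkm : ∀ y ∈ img g K, k y ∈ K := fun y hy => by
    obtain ⟨x, hx, rfl⟩ := ((hg.1.restrict hKN).mem_img_iff le_rfl).mp hy
    rw [hkg x hx]; exact hx
  have hh : MapTo F (img g K) (fun y => g' (f (k y))) :=
    ((hk.comp (hf.restrict hKR) hkm).comp hg'.1 fun y hy => hfK _ (hkm y hy))
  have hhQ := hh.restrict hQK
  have hkQ : ∀ y ∈ Q, k y ∈ P := fun y hy => by
    obtain ⟨x, hx, rfl⟩ :=
      ((hg.1.restrict hKN).mem_img_iff hPK.le).mp (hg.2 ▸ hy : y ∈ img g P)
    rw [hkg x (hPK.le hx)]; exact hx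
  have := finite_of_le (isConj_le_right (hg.1.restrict (le_normalizerIn hPS)).isConj)
  have hQfin : Finite Q := hg.2 ▸ this
  have himg : img (fun y => g' (f (k y))) Q = Q := img_eq_self_of_forall hhQ fun y hy => by
    rw [← hg'.2]; exact mem_img_of_mem (mem_img_of_mem (hkQ y hy))
  refine ⟨autOf hhQ himg, Subgroup.subset_closure ⟨_, _, hlt, hh, fun y hy =>
    (autFun_autOf hhQ himg hy).symm⟩, fun x hx => ?_⟩
  rw [autFun_autOf hhQ himg (hg.2 ▸ mem_img_of_mem hx), hkg x (hPK.le hx)]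

theorem avoids_of_lt (hS : IsPGroup p S) (hF : F.IsSaturated p) (hQ : F.IsFullyNormalized Q)
    (hPR : P < R) (hf : MapTo F R f) : Avoids F Q P f := by
  intro hPQ
  obtain ⟨g, hg⟩ := exists_isStd hS hF hQ hPQ
  obtain ⟨g', hg'⟩ := exists_isStd hS hF hQ
    (isConj_trans (isConj_symm (hf.restrict hPR.le).isConj) hPQ)
  exact ⟨g, g', hg, hg', exists_extAut_of_extends hS hg hg' hPR hf⟩

/-- Standard isomorphisms are unique up to `extAut`. -/
theorem isStd_unique (hS : IsPGroup p S) (hP : P < S) {g g' : Ω → Ω}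
    (hg : IsStd F Q P g) (hg' : IsStd F Q P g') :
    ∃ α ∈ extAut F Q, ∀ x ∈ P, g' x = autFun α (g x) := by
  have hid : img (fun x : Ω => x) P = P := img_id
  exact exists_extAut_of_extends hS hg (f := fun x => x) (by rwa [hid]) hP (mapTo_id F le_rfl)

theorem avoids_comp (hS : IsPGroup p S) (hF : F.IsSaturated p) (hQ : F.IsFullyNormalized Q)
    (hQlt : Q < S) {k : Ω → Ω} (hf : MapTo F P f) (hk : MapTo F R k) (hfR : ∀ x ∈ P, f x ∈ R)
    (h₁ : Avoids F Q P f) (h₂ : Avoids F Q R k) : Avoids F Q P (fun x => k (f x)) := by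
  intro hPQ
  obtain ⟨g₁, g₁', hg₁, hg₁', α, hα, h1⟩ := h₁ hPQ
  have hP'Q : F.IsConj (img f P) Q := isConj_trans (isConj_symm hf.isConj) hPQ
  have hk' : Avoids F Q (img f P) k := by
    rcases eq_or_lt_of_le (img_le_of_forall hfR) with h | h
    · rwa [h]
    · exact avoids_of_lt hS hF hQ h hk
  obtain ⟨g₂, g₂', hg₂, hg₂', β, hβ, h2⟩ := hk' hP'Q
  have hP'lt : img f P < S := lt_of_le_of_ne hf.img_le fun he => by
    have hc := isConj_card hP'Q
    rw [he] at hc
    exact hQlt.ne (Subgroup.eq_of_le_of_card_ge hQlt.le hc.ge)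
  obtain ⟨γ, hγ, h3⟩ := isStd_unique hS hP'lt hg₁' hg₂
  refine ⟨g₁, g₂', hg₁, by rwa [← hf.img_img le_rfl], β * γ * α,
    Subgroup.mul_mem _ (Subgroup.mul_mem _ hβ hγ) hα, fun x hx => ?_⟩
  have hgx : g₁ x ∈ Q := hg₁.2 ▸ mem_img_of_mem hx
  show g₂' (k (f x)) = _
  rw [h2 _ (mem_img_of_mem hx), h3 _ (mem_img_of_mem hx), h1 x hx, autFun_mul _ _ hgx,
    autFun_mul _ _ (autFun_mem α hgx)]

theorem avoids_inv {k : Ω → Ω} (hf : MapTo F P f) (hkf : ∀ x ∈ P, k (f x) = x)
    (h : Avoids F Q P f) : Avoids F Q (img f P) k := by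
  intro hP'Q
  obtain ⟨g, g', hg, hg', α, hα, h1⟩ := h (isConj_trans hf.isConj hP'Q)
  refine ⟨g', g, hg', ?_, α⁻¹, Subgroup.inv_mem _ hα, fun y hy => ?_⟩
  · rwa [hf.img_img le_rfl, img_congr (g := fun x : Ω => x) hkf, img_id]
  · obtain ⟨x, hx, rfl⟩ := (hf.mem_img_iff le_rfl).mp hy
    rw [hkf x hx, h1 x hx, autFun_inv_autFun α (hg.2 ▸ mem_img_of_mem hx)]

/-- An essential subgroup cannot be left out of a generating family. -/
theorem exists_system_avoiding (hS : IsPGroup p S) (hF : F.IsSaturated p)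
    (hQ : F.IsEssential p Q) (hQlt : Q < S) :
    ∃ E : FusionSystem S,
      (∀ R : Subgroup Ω, R ≤ S → ¬ F.IsConj Q R → F.autGroup R ≤ E.autGroup R) ∧ ¬ F ≤ E := by
  have hQn := hQ.2.1
  refine ⟨restrictSys F (Avoids F Q) (fun {P f g} _ h hfg hPQ => ?_) (fun {P g} hP hg => ?_)
    (fun hf hk hfR h₁ h₂ => avoids_comp hS hF hQn hQlt hf hk hfR h₁ h₂)
    (fun hf _ hkf h => avoids_inv hf hkf h), fun R hR hne => ?_, fun hle => ?_⟩
  · obtain ⟨a, b, ha, hb, α, hα, h1⟩ := h hPQ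
    exact ⟨a, b, ha, by rwa [img_congr hfg], α, hα, fun x hx => by rw [hfg x hx]; exact h1 x hx⟩
  · intro hPQ
    have hlt : P < S := lt_of_le_of_ne hP fun he => by
      have hc := isConj_card hPQ
      rw [he] at hc
      exact hQlt.ne (Subgroup.eq_of_le_of_card_ge hQlt.le hc.ge)
    exact avoids_of_lt hS hF hQn hlt (mapTo_cj le_rfl hg) hPQ
  · intro α hα
    exact Subgroup.subset_closure ⟨mapTo_autFun_iff_hom.mp (mapTo_of_mem_autGroup hR hα),
      fun hc => absurd (isConj_symm hc) hne⟩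
  · refine extAut_ne_of_isEssential hS hF hQlt hQ (le_antisymm extAut_le_autGroup fun α hα => ?_)
    obtain ⟨g, g', hg, hg', β, hβ, h1⟩ :=
      (hle Q (mapTo_autFun_iff_hom.mp (mapTo_of_mem_autGroup hQn.1 hα))).2 (isConj_refl hQn.1)
    have hid : IsStd F Q Q (fun x => x) := ⟨mapTo_id F normalizerIn_le, img_id⟩
    obtain ⟨γ, hγ, hγg⟩ := isStd_unique hS hQlt hid hg
    have hg'' : IsStd F Q Q g' := by
      have he : img (ev (Q.subtype.comp α.toMonoidHom)) Q = Q := img_autFun α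
      rwa [he] at hg'
    obtain ⟨δ, hδ, hδg⟩ := isStd_unique hS hQlt hid hg''
    have : δ * α = β * γ := autFun_ext fun x hx => by
      rw [autFun_mul _ _ hx, autFun_mul _ _ hx, ← hγg x hx, ← hδg _ (autFun_mem α hx)]
      exact h1 x hx
    rw [show α = δ⁻¹ * (β * γ) by rw [← this, inv_mul_cancel_left]]
    exact Subgroup.mul_mem _ (Subgroup.inv_mem _ hδ) (Subgroup.mul_mem _ hβ hγ)

theorem ne_top_of_isEssential (hS : IsPGroup p S) (hF : F.IsSaturated p) (hQ : F.IsEssential p Q) :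
    Q < S := by
  refine lt_of_le_of_ne hQ.1.1 fun he => ?_
  subst he
  obtain ⟨-, -, hn, Y, hY⟩ := hQ
  have := finite_mulAut Q
  obtain ⟨-, T, hT⟩ := isFullyAutomized_of_isFullyNormalized hS hF isFullyNormalized_top
  set mk := QuotientGroup.mk' ((Inn Q).subgroupOf (F.autGroup Q)) with hmk
  have hsurj : Function.Surjective mk := QuotientGroup.mk'_surjective _
  set T' : Sylow p _ := T.mapSurjective hsurj with hT'
  have hbot : T'.toSubgroup = ⊥ := by
    have : T'.toSubgroup = T.toSubgroup.map mk := rfl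
    rw [this, hT, Subgroup.map_eq_bot_iff, QuotientGroup.ker_mk', autInducedBy_self_eq_inn]
  exact absurd hbot (T'.ne_bot_of_dvd_card hY.1)

theorem isFullyNormalized_of_isEssential (hQ : F.IsEssential p Q) : F.IsFullyNormalized Q := hQ.2.1

end Cfsg.Agent.Fusion
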