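import Cfsg.Agent.Lib.Fusion.RankTwoPrelim
import Cfsg.Agent.Lib.Fusion.Generation
import Cfsg.Agent.Lib.Fusion.NormalCriteria
import Cfsg.Agent.Lib.Fusion.OmegaDetect
import Cfsg.Agent.Lib.InvChar.OneSubgroup
import Cfsg.Agent.Lib.OddLocal.RankTwoOmega

/-!
For `p ≥ 5` and rank two, the critical subgroup of an essential subgroup cannot be extraspecial.
-/

set_option autoImplicit false
set_option linter.style.haveILetI false

namespace Cfsg.Agent.Fusion

open Cfsg.FusionSystem (centralizerIn normalizerIn)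
open scoped commutatorElement

universe u

variable {p : ℕ} [hp : Fact p.Prime]

/-- The centre of a non-abelian group of order `p ^ 3`. -/
theorem center_of_card_cube {G : Type*} [Group G] [Finite G] (hcard : Nat.card G = p ^ 3)
    (hne : ¬ ∀ a b : G, a * b = b * a) :
    Nat.card (Subgroup.center G) = p ∧ Nat.card (G ⧸ Subgroup.center G) = p ^ 2 ∧
      commutator G ≤ Subgroup.center G := by
  have hG : IsPGroup p G := IsPGroup.of_card hcard
  set Z := Subgroup.center G with hZ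
  haveI : Nontrivial G := Finite.one_lt_card_iff_nontrivial.mp
    (hcard ▸ Nat.one_lt_pow (by norm_num) hp.out.one_lt)
  have hq : ¬ IsCyclic (G ⧸ Z) := fun h => hne
    (MonoidHom.isMulCommutative_of_isCyclic_of_ker_le_center (QuotientGroup.mk' Z)
      (QuotientGroup.ker_mk' Z).le).is_comm.comm
  obtain ⟨m, hm, hmZ⟩ := (Nat.dvd_prime_pow hp.out).mp (hcard ▸ Z.card_subgroup_dvd_card)
  have hidx : Nat.card (G ⧸ Z) * p ^ m = p ^ 3 := by
    rw [← hmZ, ← hcard, ← Subgroup.card_eq_card_quotient_mul_card_subgroup]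
  interval_cases m
  · haveI := hG.center_nontrivial
    exact absurd (hmZ.trans (pow_zero p)) Finite.one_lt_card.ne'
  · have hq2 : Nat.card (G ⧸ Z) = p ^ 2 :=
      Nat.eq_of_mul_eq_mul_right hp.out.pos (by rw [pow_one] at hidx; rw [hidx]; ring)
    refine ⟨hmZ.trans (pow_one p), hq2, ?_⟩
    rw [← Subgroup.Normal.quotient_commutative_iff_commutator_le]
    exact IsPGroup.isMulCommutative_of_card_eq_prime_sq hq2
  · exact absurd (isCyclic_of_prime_card (α := G ⧸ Z) (p := p) (Nat.eq_of_mul_eq_mul_right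
      (pow_pos hp.out.pos 2) (hidx.trans (by ring)))) hq
  · have h1 : Nat.card (G ⧸ Z) = 1 := Nat.eq_of_mul_eq_mul_right (pow_pos hp.out.pos 3)
      (hidx.trans (one_mul _).symm)
    haveI := (Nat.card_eq_one_iff_unique.mp h1).1
    exact (hq inferInstance).elim

/-- The action of automorphisms on the central quotient. -/
def centerQuotAut (G : Type*) [Group G] : MulAut G →* MulAut (G ⧸ Subgroup.center G) where
  toFun α := QuotientGroup.congr (Subgroup.center G) (Subgroup.center G) α (le_antisymm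
    (Subgroup.map_le_iff_le_comap.mpr fun _ hx => mem_of_char _ α hx) fun x hx =>
      ⟨α⁻¹ x, mem_of_char _ α⁻¹ hx, MulAut.apply_inv_self _ _ _⟩)
  map_one' := MulEquiv.ext fun x => by
    obtain ⟨x, rfl⟩ := QuotientGroup.mk_surjective x
    rfl
  map_mul' a b := MulEquiv.ext fun x => by
    obtain ⟨x, rfl⟩ := QuotientGroup.mk_surjective x
    rfl

theorem centerQuotAut_mk {G : Type*} [Group G] (α : MulAut G) (x : G) :
    centerQuotAut G α (x : G ⧸ Subgroup.center G) = ((α x : G) : G ⧸ Subgroup.center G) := rfl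

variable {Ω : Type u} [Group Ω] {S : Subgroup Ω} {F : FusionSystem S} {P : Subgroup Ω}

/-- Restriction to an invariant subgroup. -/
def subRep (C : Subgroup P) (hC : ∀ α ∈ F.autGroup P, ∀ c ∈ C, α c ∈ C) :
    F.autGroup P →* MulAut C where
  toFun a :=
    { toFun := fun c => ⟨(a : MulAut P) c, hC _ a.2 c c.2⟩
      invFun := fun c => ⟨(a : MulAut P)⁻¹ c, hC _ (Subgroup.inv_mem _ a.2) c c.2⟩
      left_inv := fun c => Subtype.ext (MulAut.inv_apply_self _ _ _)
      right_inv := fun c => Subtype.ext (MulAut.apply_inv_self _ _ _)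
      map_mul' := fun c d => Subtype.ext (map_mul _ _ _) }
  map_one' := MulEquiv.ext fun _ => Subtype.ext rfl
  map_mul' _ _ := MulEquiv.ext fun _ => Subtype.ext rfl

theorem subRep_coe (C : Subgroup P) (hC : ∀ α ∈ F.autGroup P, ∀ c ∈ C, α c ∈ C)
    (a : F.autGroup P) (c : C) : ((subRep C hC a c : C) : P) = (a : MulAut P) c := rfl

variable [Finite S]

theorem false_of_cube (hS : IsPGroup p S) (hF : F.IsSaturated p) (hp5 : 5 ≤ p)
    (hrank3 : ∀ E : Subgroup Ω, E ≤ S → Cfsg.IsElementaryAbelian p E → Nat.card E ≤ p ^ 2)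
    (hP : F.IsEssential p P) (C : Subgroup P)
    (hC : ∀ α ∈ F.autGroup P, ∀ c ∈ C, α c ∈ C) (hexp : ∀ c ∈ C, c ^ p = 1)
    (hdet : ∀ φ : MulAut P, (orderOf φ).Coprime p → (∀ c ∈ C, φ c = c) → φ = 1)
    (hcard : Nat.card C = p ^ 3) : False := by
  classical
  have hp2 : p ≠ 2 := by omega
  have hPS := hP.1.1
  haveI := finite_of_le hPS
  haveI := finite_mulAut P
  have hPp := hS.to_le hPS
  have hCp := hPp.to_subgroup C
  have hcent := centralizerIn_le_of_isCentric hP.1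
  have hne : ¬ ∀ a b : C, a * b = b * a := by
    intro h
    have hEA : Cfsg.IsElementaryAbelian p (C.map P.subtype) := by
      refine ⟨⟨⟨?_⟩⟩, ?_⟩
      · rintro ⟨_, a, ha, rfl⟩ ⟨_, b, hb, rfl⟩
        exact Subtype.ext (congrArg (fun c : C => ((c : P) : Ω)) (h ⟨a, ha⟩ ⟨b, hb⟩))
      · rintro _ ⟨a, ha, rfl⟩
        exact congrArg Subtype.val (hexp a ha)
    have h1 := hrank3 _ ((Subgroup.map_subtype_le C).trans hPS) hEA
    rw [Subgroup.card_map_of_injective P.subtype_injective, hcard] at h1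
    exact absurd ((Nat.pow_le_pow_iff_right hp.out.one_lt).mp h1) (by norm_num)
  obtain ⟨hZp, hVn, hcomm⟩ := center_of_card_cube hcard hne
  set Z := Subgroup.center C with hZ
  have hVc : IsMulCommutative (C ⧸ Z) := IsPGroup.isMulCommutative_of_card_eq_prime_sq hVn
  have hVe : ∀ v : C ⧸ Z, v ^ p = 1 := fun v => by
    obtain ⟨v, rfl⟩ := QuotientGroup.mk_surjective v
    rw [← QuotientGroup.mk_pow, show v ^ p = 1 from Subtype.ext (hexp v v.2)]
    rfl
  let ρ : F.autGroup P →* MulAut (C ⧸ Z) := (centerQuotAut C).comp (subRep C hC)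
  have hρmk : ∀ (a : F.autGroup P) (c : C),
      ρ a (c : C ⧸ Z) = ((subRep C hC a c : C) : C ⧸ Z) := fun _ _ => rfl
  have hker : IsPGroup p ρ.ker := by
    refine isPGroup_of_coprime_eq_one _ fun a ha hcop => ?_
    have hao : (orderOf (a : MulAut P)).Coprime p := by rwa [Subgroup.orderOf_coe]
    set β := subRep C hC a with hβ
    have hβc : (orderOf β).Coprime p :=
      hcop.coprime_dvd_left (orderOf_map_dvd (subRep C hC) a)
    have hz : ∀ c : C, c⁻¹ * β c ∈ Z := fun c => by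
      have h := DFunLike.congr_fun (MonoidHom.mem_ker.mp ha) (c : C ⧸ Z)
      rw [hρmk] at h
      exact QuotientGroup.eq.mp h.symm
    have hfixc : ∀ c d : C, β ⁅c, d⁆ = ⁅c, d⁆ := by
      intro c d
      rw [map_commutatorElement, show β c = c * (c⁻¹ * β c) by rw [mul_inv_cancel_left],
        show β d = d * (d⁻¹ * β d) by rw [mul_inv_cancel_left]]
      have h1 := Subgroup.mem_center_iff.mp (hz c)
      have h2 := Subgroup.mem_center_iff.mp (hz d)
      generalize c⁻¹ * β c = u at h1 ⊢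
      generalize d⁻¹ * β d = v at h2 ⊢
      rw [commutatorElement_def, commutatorElement_def, mul_inv_rev, mul_inv_rev,
        show c * u * (d * v) * (u⁻¹ * c⁻¹) * (v⁻¹ * d⁻¹) =
          c * (u * (d * v) * u⁻¹) * c⁻¹ * (v⁻¹ * d⁻¹) by group,
        ← h1 (d * v), mul_inv_cancel_right,
        show c * (d * v) * c⁻¹ * (v⁻¹ * d⁻¹) = c * d * (v * c⁻¹ * v⁻¹) * d⁻¹ by group,
        ← h2 c⁻¹, mul_inv_cancel_right]
    have hfixZ : ∀ c ∈ commutator C, β c = c := by
      intro c hc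
      rw [commutator_eq_closure] at hc
      induction hc using Subgroup.closure_induction with
      | mem x hx => obtain ⟨u, v, rfl⟩ := hx; exact hfixc u v
      | one => exact map_one β
      | mul u v _ _ hu hv => rw [map_mul, hu, hv]
      | inv u _ hu => rw [map_inv, hu]
    have hcZ : commutator C = Z := by
      refine Subgroup.eq_of_le_of_card_ge hcomm ?_
      rw [hZp]
      obtain ⟨m, hm, hmc⟩ := (Nat.dvd_prime_pow hp.out).mp
        ((pow_one p).symm ▸ hZp ▸ Subgroup.card_dvd_of_le hcomm)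
      interval_cases m
      · exfalso
        refine hne fun u v => commutatorElement_eq_one_iff_mul_comm.mp (Subgroup.mem_bot.mp
          ((Subgroup.eq_bot_of_card_eq (commutator C) (hmc.trans (pow_zero p))) ▸ ?_))
        exact Subgroup.commutator_mem_commutator (Subgroup.mem_top u) (Subgroup.mem_top v)
      · rw [hmc, pow_one]
    refine Subtype.ext (hdet _ hao fun c hc => ?_)
    have := Coprime23.eq_of_commutator_fixed hCp β hβc (a := ⟨c, hc⟩)
      (hfixZ _ (hcZ ▸ hz _))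
    exact congrArg Subtype.val this
  -- an element of the normalizer acting as a shift
  have hPne : ¬ S ≤ P := fun h => by
    have hlt : P < S := ne_top_of_isEssential hS hF hP
    exact hlt.not_ge h
  obtain ⟨k₀, hk₀, hk₀P, hk₀N⟩ := exists_mem_normalizer_not_mem hS hPS le_rfl
    (hPS.trans Subgroup.le_normalizer) hPne
  obtain ⟨γ, hγ⟩ := exists_conjAut hk₀N.2
  have hγS : γ ∈ autInducedBy S P := mem_autInducedBy_iff_cj.mpr ⟨k₀, hk₀, hγ⟩
  obtain ⟨e, he⟩ := isPGroup_autInducedBy hS P ⟨γ, hγS⟩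
  let a₀ : F.autGroup P := ⟨γ, autInducedBy_le_autGroup hPS hγS⟩
  have hae : a₀ ^ p ^ e = 1 := Subtype.ext (congrArg Subtype.val he : γ ^ p ^ e = 1)
  have hap : ρ a₀ ^ p = 1 := pow_eq_one_of_pPow hVc hVe hVn (k := e)
    (by rw [← map_pow, hae, map_one])
  have ha : ρ a₀ ≠ 1 := fun h => hk₀P (mem_of_cj_mem_inn hcent hk₀ hγ
    ((frame_inn_iff hVc hVe hVn hS hP ρ hker a₀).mp h) hPS)
  obtain ⟨xb, yb, u, l, hxb, hyb, hua, -, hux, huy, hly, hlx⟩ :=
    exists_frame_pair hVc hVe hVn hS hP ρ hker hap ha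
  obtain ⟨xs, rfl⟩ := QuotientGroup.mk_surjective xb
  obtain ⟨ys, rfl⟩ := QuotientGroup.mk_surjective yb
  set zs : C := ⁅ys, xs⁆ with hzs
  have hzsZ : zs ∈ Z := hcomm (Subgroup.commutator_mem_commutator (Subgroup.mem_top _)
    (Subgroup.mem_top _))
  have hVgen : ∀ v : C ⧸ Z, ∃ i j : ℕ, v = (xs : C ⧸ Z) ^ i * (ys : C ⧸ Z) ^ j := by
    intro v
    refine exists_pow_mul_pow (hVe _) (hVe _) (hVc.is_comm.comm _ _) ?_
    have htop : Subgroup.zpowers (xs : C ⧸ Z) ⊔ Subgroup.zpowers (ys : C ⧸ Z) = ⊤ := by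
      refine Subgroup.eq_top_of_card_eq _ ?_
      obtain ⟨m, hm, hme⟩ := (Nat.dvd_prime_pow hp.out).mp (hVn ▸ Subgroup.card_subgroup_dvd_card
        (Subgroup.zpowers (xs : C ⧸ Z) ⊔ Subgroup.zpowers (ys : C ⧸ Z)))
      have h1 : p < p ^ m := by
        rw [← hme]
        refine lt_of_eq_of_lt ((Nat.card_zpowers _).trans (orderOf_eq_prime (hVe _) hxb)).symm ?_
        refine lt_of_le_of_ne (Subgroup.card_le_of_le le_sup_left) fun h => hyb ?_
        exact (Subgroup.eq_of_le_of_card_ge le_sup_left h.ge).ge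
          (Subgroup.mem_sup_right (Subgroup.mem_zpowers _))
      have h2 : 1 < m := (Nat.pow_lt_pow_iff_right hp.out.one_lt).mp (by rwa [pow_one])
      rw [hme, hVn, show m = 2 by omega]
    exact htop ▸ Subgroup.mem_top v
  have hzs1 : zs ≠ 1 := by
    intro h
    have hc' : Commute ys xs := commutatorElement_eq_one_iff_mul_comm.mp h
    refine hne fun a b => ?_
    obtain ⟨i, j, hij⟩ := hVgen (a : C ⧸ Z)
    obtain ⟨i', j', hij'⟩ := hVgen (b : C ⧸ Z)
    rw [← QuotientGroup.mk_pow, ← QuotientGroup.mk_pow, ← QuotientGroup.mk_mul] at hij hij'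
    have h1 := Subgroup.mem_center_iff.mp (QuotientGroup.eq.mp hij.symm)
    have h2 := Subgroup.mem_center_iff.mp (QuotientGroup.eq.mp hij'.symm)
    have e1 : a = xs ^ i * ys ^ j * ((xs ^ i * ys ^ j)⁻¹ * a) := by rw [mul_inv_cancel_left]
    have e2 : b = xs ^ i' * ys ^ j' * ((xs ^ i' * ys ^ j')⁻¹ * b) := by rw [mul_inv_cancel_left]
    rw [e1, e2]
    generalize (xs ^ i * ys ^ j)⁻¹ * a = u at h1 ⊢
    generalize (xs ^ i' * ys ^ j')⁻¹ * b = v at h2 ⊢
    have e3 : Commute (xs ^ i * ys ^ j) (xs ^ i' * ys ^ j') :=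
      (((Commute.refl xs).pow_pow i i').mul_right (hc'.symm.pow_pow i j')).mul_left
        ((hc'.pow_pow j i').mul_right ((Commute.refl ys).pow_pow j j'))
    exact ((e3.mul_right (h2 _)).mul_left ((h1 _).symm :)).eq
  have hzgen : ∀ c ∈ Z, ∃ i : ℕ, c = zs ^ i := by
    intro c hc
    have htop : Subgroup.zpowers zs = Z := Subgroup.eq_of_le_of_card_ge
      (Subgroup.zpowers_le.mpr hzsZ) (by
        rw [hZp, Nat.card_zpowers,
          orderOf_eq_prime (Subtype.ext (hexp _ zs.2) : zs ^ p = 1) hzs1])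
    obtain ⟨i, hi⟩ := (mem_powers_iff_mem_zpowers.mpr (htop.ge hc) : c ∈ Submonoid.powers zs)
    exact ⟨i, hi.symm⟩
  -- down to elements
  set x : Ω := ((xs : P) : Ω) with hxdef
  set y : Ω := ((ys : P) : Ω) with hydef
  set z : Ω := ((zs : P) : Ω) with hzdef
  have hxP : x ∈ P := (xs : P).2
  have hyP : y ∈ P := (ys : P).2
  have hzP : z ∈ P := (zs : P).2
  have hxp : x ^ p = 1 := congrArg Subtype.val (hexp _ xs.2)
  have hyp : y ^ p = 1 := congrArg Subtype.val (hexp _ ys.2)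
  have hzp : z ^ p = 1 := congrArg Subtype.val (hexp _ zs.2)
  have hz1 : z ≠ 1 := fun h => hzs1 (Subtype.ext (Subtype.ext h))
  have hzo : orderOf z = p := orderOf_eq_prime hzp hz1
  have hxz : Commute x z := congrArg (fun c : C => ((c : P) : Ω)) (Subgroup.mem_center_iff.mp hzsZ xs)
  have hyz : Commute y z := congrArg (fun c : C => ((c : P) : Ω)) (Subgroup.mem_center_iff.mp hzsZ ys)
  have hyxy : y * x * y⁻¹ = z * x := by
    show _ = ((⁅ys, xs⁆ : C) : P).1 * x
    simp [commutatorElement_def, hxdef, hydef, mul_assoc]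
  have hconj : ∀ n m : ℕ, y ^ n * x ^ m * (y ^ n)⁻¹ = z ^ (n * m) * x ^ m := by
    intro n m
    have h1 : ∀ n : ℕ, y ^ n * x * (y ^ n)⁻¹ = z ^ n * x := by
      intro n
      induction n with
      | zero => simp
      | succ n ih =>
        rw [pow_succ' y, show y * y ^ n * x * (y * y ^ n)⁻¹ = y * (y ^ n * x * (y ^ n)⁻¹) * y⁻¹ by group,
          ih, show y * (z ^ n * x) * y⁻¹ = (y * z ^ n * y⁻¹) * (y * x * y⁻¹) by group,
          (hyz.pow_right n).eq, mul_inv_cancel_right, hyxy, ← mul_assoc, ← pow_succ]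
    rw [← conj_pow, h1, (hxz.symm.pow_left n).mul_pow, ← pow_mul]
  have hconjx : ∀ n m : ℕ, x ^ n * y ^ m * (x ^ n)⁻¹ = (z ^ (n * m))⁻¹ * y ^ m := by
    intro n m
    have h := hconj m n
    have h2 : y ^ m * x ^ n = z ^ (n * m) * x ^ n * y ^ m := by
      rw [mul_comm n m, ← h, inv_mul_cancel_right]
    rw [eq_inv_mul_iff_mul_eq, show z ^ (n * m) * (x ^ n * y ^ m * (x ^ n)⁻¹) =
      z ^ (n * m) * x ^ n * y ^ m * (x ^ n)⁻¹ by group, ← h2, mul_inv_cancel_right]
  have hmodz : ∀ {i j : ℕ}, (i : ZMod p) = j → z ^ i = z ^ j := fun {i j} h =>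
    pow_eq_pow_iff_modEq.mpr (hzo ▸ (ZMod.natCast_eq_natCast_iff _ _ _).mp h)
  have hzneg : ∀ i : ℕ, z ^ ((p - 1) * i) * z ^ i = 1 := fun i => by
    rw [← pow_add, show (p - 1) * i + i = (p - 1 + 1) * i by ring,
      Nat.sub_add_cancel hp.out.one_lt.le, pow_mul, hzp, one_pow]
  have hCgen : ∀ c : C, ∃ i j r : ℕ, ((c : P) : Ω) = x ^ i * y ^ j * z ^ r := by
    intro c
    obtain ⟨i, j, hij⟩ := hVgen (c : C ⧸ Z)
    rw [← QuotientGroup.mk_pow, ← QuotientGroup.mk_pow, ← QuotientGroup.mk_mul] at hij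
    obtain ⟨r, hr⟩ := hzgen _ (QuotientGroup.eq.mp hij.symm)
    refine ⟨i, j, r, ?_⟩
    rw [show c = xs ^ i * ys ^ j * zs ^ r by rw [← hr, mul_inv_cancel_left]]
    rfl
  have hyx : z ∉ Subgroup.zpowers x := by
    intro h
    obtain ⟨i, hi⟩ := (isOfFinOrder_iff_pow_eq_one.mpr
      ⟨p, hp.out.pos, hxp⟩).mem_powers_iff_mem_zpowers.mpr h
    have h1 := hconj 1 i
    rw [pow_one, show x ^ i = z from hi, hyz.eq, mul_inv_cancel_right, one_mul, right_eq_mul] at h1
    obtain ⟨t, rfl⟩ : p ∣ i := hzo ▸ orderOf_dvd_of_pow_eq_one h1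
    exact hz1 (by rw [← hi]; show x ^ (p * t) = 1; rw [pow_mul, hxp, one_pow])
  have hx1 : x ≠ 1 := by
    intro h
    exact hxb (by rw [show xs = 1 from Subtype.ext (Subtype.ext h)]; rfl)
  -- the centralizer of the extraspecial subgroup in `P`
  set D : Subgroup Ω := P ⊓ Subgroup.centralizer ({x, y} : Set Ω) with hDdef
  have hmemD : ∀ {d : Ω}, d ∈ D ↔ d ∈ P ∧ Commute x d ∧ Commute y d := by
    intro d
    rw [hDdef, Subgroup.mem_inf, Subgroup.mem_centralizer_iff]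
    refine and_congr_right fun _ => ⟨fun h => ⟨h x (by simp), h y (by simp)⟩, fun h w hw => ?_⟩
    rcases hw with rfl | rfl
    · exact h.1
    · exact h.2
  have hDz : ∀ {d : Ω}, d ∈ D → Commute z d := by
    intro d hd
    obtain ⟨-, hdx, hdy⟩ := hmemD.mp hd
    rw [show z = y * x * y⁻¹ * x⁻¹ by rw [hyxy, mul_inv_cancel_right]]
    exact ((hdy.mul_left hdx).mul_left hdy.inv_left).mul_left hdx.inv_left
  have hDom : ∀ d ∈ D, d ^ p = 1 → d ∈ Subgroup.zpowers z := by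
    intro d hd hdp
    obtain ⟨hdP, hdx, hdy⟩ := hmemD.mp hd
    obtain ⟨i, j, rfl⟩ := exists_of_rank_le_two hrank3 (hPS hxP) (hPS hzP) (hPS hdP) hxp hzp hdp hxz
      hdx (hDz hd) hx1 hyx
    have h1 : Commute y (x ^ i) := by
      have := hdy.mul_right (hyz.pow_right j).inv_right
      rwa [mul_inv_cancel_right] at this
    have h2 := hconj 1 i
    rw [pow_one, h1.eq, mul_inv_cancel_right, one_mul, right_eq_mul] at h2
    obtain ⟨t, rfl⟩ : p ∣ i := hzo ▸ orderOf_dvd_of_pow_eq_one h2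
    rw [pow_mul, hxp, one_pow, one_mul]
    exact Subgroup.pow_mem _ (Subgroup.mem_zpowers z) j
  have hDP : D ≤ P := inf_le_left
  haveI := finite_of_le (hDP.trans hPS)
  have hDp : IsPGroup p D := hS.to_le (hDP.trans hPS)
  have hDcyc : IsCyclic D := by
    refine (InvChar.cyclic_or_quaternion hDp fun H K hH hK => ?_).resolve_right
      (fun h => hp2 h.1)
    have key : ∀ H : Subgroup D, Nat.card H = p → H.map D.subtype = Subgroup.zpowers z := by
      intro H hH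
      haveI := finite_of_le ((Subgroup.zpowers_le.mpr hzP).trans hPS)
      refine Subgroup.eq_of_le_of_card_ge ?_ ?_
      · rintro _ ⟨d, hd, rfl⟩
        refine hDom _ d.2 ?_
        have := congrArg (fun v : H => ((v : D) : Ω)) (pow_card_eq_one' (x := (⟨d, hd⟩ : H)))
        simpa [hH] using this
      · rw [Subgroup.card_map_of_injective D.subtype_injective, hH, Nat.card_zpowers, hzo]
    exact Subgroup.map_injective D.subtype_injective ((key H hH).trans (key K hK).symm)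
  have hDcomm : ∀ c ∈ D, ∀ d ∈ D, Commute c d := fun c hc d hd =>
    congrArg Subtype.val ((IsCyclic.commGroup (α := D)).mul_comm ⟨c, hc⟩ ⟨d, hd⟩)
  -- inner automorphisms act trivially on the section
  have hinn : ∀ w ∈ P, ∀ c : C, ∃ c' : C, ((c' : P) : Ω) = w * ((c : P) : Ω) * w⁻¹ ∧
      (c' : C ⧸ Z) = (c : C ⧸ Z) := by
    intro w hw c
    let b : F.autGroup P := ⟨MulAut.conj ⟨w, hw⟩, inn_le_autGroup hPS ⟨⟨w, hw⟩, rfl⟩⟩
    refine ⟨subRep C hC b c, rfl, ?_⟩
    rw [← hρmk, (frame_inn_iff hVc hVe hVn hS hP ρ hker b).mpr ⟨⟨w, hw⟩, rfl⟩]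
    rfl
  have hzmul : ∀ {c c' : C}, (c' : C ⧸ Z) = (c : C ⧸ Z) →
      ∃ r : ℕ, ((c' : P) : Ω) = ((c : P) : Ω) * z ^ r := by
    intro c c' h
    obtain ⟨r, hr⟩ := hzgen _ (QuotientGroup.eq.mp h.symm)
    refine ⟨r, ?_⟩
    rw [show c' = c * zs ^ r by rw [← hr, mul_inv_cancel_left]]
    rfl
  have hsplit : ∀ w ∈ P, ∃ i j : ℕ, x ^ i * y ^ j * w ∈ D := by
    intro w hw
    obtain ⟨c₁, hc₁, hc₁'⟩ := hinn w hw xs
    obtain ⟨i, hi⟩ := hzmul hc₁'
    obtain ⟨c₂, hc₂, hc₂'⟩ := hinn w hw ys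
    obtain ⟨j, hj⟩ := hzmul hc₂'
    rw [hc₁] at hi
    rw [hc₂] at hj
    refine ⟨j, (p - 1) * i, hmemD.mpr ⟨P.mul_mem (P.mul_mem (P.pow_mem hxP _) (P.pow_mem hyP _)) hw,
      ?_, ?_⟩⟩
    · refine (mul_inv_eq_iff_eq_mul.mp ?_ : Commute (x ^ j * y ^ ((p - 1) * i) * w) x).symm
      have h1 := hconj ((p - 1) * i) 1
      rw [pow_one, mul_one] at h1
      rw [show x ^ j * y ^ ((p - 1) * i) * w * x * (x ^ j * y ^ ((p - 1) * i) * w)⁻¹ =
        x ^ j * (y ^ ((p - 1) * i) * (w * x * w⁻¹) * (y ^ ((p - 1) * i))⁻¹) * (x ^ j)⁻¹ by group, hi,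
        show y ^ ((p - 1) * i) * (x * z ^ i) * (y ^ ((p - 1) * i))⁻¹ =
          (y ^ ((p - 1) * i) * x * (y ^ ((p - 1) * i))⁻¹) *
            (y ^ ((p - 1) * i) * z ^ i * (y ^ ((p - 1) * i))⁻¹) by group,
        h1, (hyz.pow_pow _ i).eq, mul_inv_cancel_right, mul_assoc (z ^ _) x, (hxz.pow_right i).eq,
        ← mul_assoc (z ^ _) (z ^ i) x, hzneg, one_mul, ((Commute.refl x).pow_left j).eq, mul_inv_cancel_right]
    · refine (mul_inv_eq_iff_eq_mul.mp ?_ : Commute (x ^ j * y ^ ((p - 1) * i) * w) y).symm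
      have h1 := hconjx j 1
      rw [pow_one, mul_one] at h1
      rw [show x ^ j * y ^ ((p - 1) * i) * w * y * (x ^ j * y ^ ((p - 1) * i) * w)⁻¹ =
        x ^ j * (y ^ ((p - 1) * i) * (w * y * w⁻¹) * (y ^ ((p - 1) * i))⁻¹) * (x ^ j)⁻¹ by group, hj,
        ((Commute.refl y).pow_left _).mul_right (hyz.pow_pow _ j) |>.eq, mul_inv_cancel_right,
        show x ^ j * (y * z ^ j) * (x ^ j)⁻¹ = (x ^ j * y * (x ^ j)⁻¹) * (x ^ j * z ^ j * (x ^ j)⁻¹) by
          group,
        h1, (hxz.pow_pow j j).eq, mul_inv_cancel_right, mul_assoc, (hyz.pow_right j).eq,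
        inv_mul_cancel_left]
  have hDcent : ∀ w ∈ P, ∀ d ∈ D, Commute w d := by
    intro w hw d hd
    obtain ⟨i, j, hij⟩ := hsplit w hw
    obtain ⟨-, hdx, hdy⟩ := hmemD.mp hd
    have h1 := ((hdx.pow_left i).mul_left (hdy.pow_left j)).inv_left.mul_left (hDcomm _ hij _ hd)
    rwa [inv_mul_cancel_left] at h1
  -- choose the shift commuting with `x`
  obtain ⟨k, hkN, hkP, hkx, hky, b₀, hb₀, hb₀ρ⟩ : ∃ k, k ∈ normalizerIn S P ∧ k ∉ P ∧ Commute k x ∧
      k * y * k⁻¹ = x * y ∧ ∃ b : F.autGroup P, (∀ v ∈ P, autFun (b : MulAut P) v = cj k v) ∧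
        ρ b = ρ u := by
    have huS : (u : MulAut P) ∈ autInducedBy S P := by
      obtain ⟨i, rfl⟩ := Subgroup.mem_zpowers_iff.mp hua
      rw [SubgroupClass.coe_zpow]
      exact Subgroup.zpow_mem _ hγS i
    obtain ⟨k₁, hk₁S, hk₁⟩ := mem_autInducedBy_iff_cj.mp huS
    have hk₁N : k₁ ∈ normalizerIn S P := mem_normalizerIn_of_forall hPS hk₁S fun v hv => by
      rw [show k₁ * v * k₁⁻¹ = cj k₁ v from rfl, ← hk₁ v hv]
      exact autFun_mem _ hv
    have hcj : ∀ c : C, ((subRep C hC u c : C) : P).1 = k₁ * ((c : P) : Ω) * k₁⁻¹ := fun c => by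
      rw [subRep_coe, ← autFun_coe, hk₁ _ (c : P).2]
      rfl
    obtain ⟨i, hi⟩ := hzmul (c := xs) (c' := subRep C hC u xs) (by rw [← hρmk, hux])
    obtain ⟨e', he'⟩ := hzmul (c := xs * ys) (c' := subRep C hC u ys) (by rw [← hρmk, huy]; rfl)
    rw [hcj] at hi he'
    rw [show (((xs * ys : C) : P) : Ω) = x * y from rfl] at he'
    set g := (p - 1) * i
    set f := g + e'
    set w := x ^ f * y ^ g with hwdef
    have hwP : w ∈ P := P.mul_mem (P.pow_mem hxP f) (P.pow_mem hyP g)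
    let bw : F.autGroup P := ⟨MulAut.conj ⟨w, hwP⟩, inn_le_autGroup hPS ⟨⟨w, hwP⟩, rfl⟩⟩
    have hg1 := hconj g 1
    rw [pow_one, mul_one] at hg1
    refine ⟨w * k₁, Subgroup.mul_mem _ (le_normalizerIn hPS hwP) hk₁N, ?_, ?_, ?_, bw * u, ?_, ?_⟩
    · intro h
      have hk₁P : k₁ ∈ P := by
        have := P.mul_mem (P.inv_mem hwP) h
        rwa [inv_mul_cancel_left] at this
      have hu1 : ρ u = 1 := (frame_inn_iff hVc hVe hVn hS hP ρ hker u).mpr (by
        rw [inn_eq_autInducedBy]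
        exact mem_autInducedBy_iff_cj.mpr ⟨k₁, hk₁P, hk₁⟩)
      rw [hu1, MulAut.one_apply] at huy
      exact hxb (mul_eq_right.mp huy.symm)
    · refine mul_inv_eq_iff_eq_mul.mp ?_
      rw [show w * k₁ * x * (w * k₁)⁻¹ = x ^ f * (y ^ g * (k₁ * x * k₁⁻¹) * (y ^ g)⁻¹) * (x ^ f)⁻¹ by
        simp only [hwdef]; group, hi,
        show y ^ g * (x * z ^ i) * (y ^ g)⁻¹ = (y ^ g * x * (y ^ g)⁻¹) * (y ^ g * z ^ i * (y ^ g)⁻¹) by
          group,
        hg1, (hyz.pow_pow g i).eq, mul_inv_cancel_right, mul_assoc (z ^ g) x, (hxz.pow_right i).eq,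
        ← mul_assoc (z ^ g) (z ^ i) x, show z ^ g * z ^ i = 1 from hzneg i, one_mul, ((Commute.refl x).pow_left f).eq,
        mul_inv_cancel_right]
    · have hf1 := hconjx f 1
      rw [pow_one, mul_one] at hf1
      rw [show w * k₁ * y * (w * k₁)⁻¹ = x ^ f * (y ^ g * (k₁ * y * k₁⁻¹) * (y ^ g)⁻¹) * (x ^ f)⁻¹ by
        simp only [hwdef]; group, he',
        show y ^ g * (x * y * z ^ e') * (y ^ g)⁻¹ = (y ^ g * x * (y ^ g)⁻¹) *
          (y ^ g * (y * z ^ e') * (y ^ g)⁻¹) by group,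
        hg1, (((Commute.refl y).pow_left g).mul_right (hyz.pow_pow g e')).eq, mul_inv_cancel_right,
        show x ^ f * (z ^ g * x * (y * z ^ e')) * (x ^ f)⁻¹ = (x ^ f * (z ^ g * x) * (x ^ f)⁻¹) *
          (x ^ f * y * (x ^ f)⁻¹) * (x ^ f * z ^ e' * (x ^ f)⁻¹) by group,
        ((hxz.pow_pow f g).mul_right ((Commute.refl x).pow_left f)).eq, mul_inv_cancel_right,
        (hxz.pow_pow f e').eq, mul_inv_cancel_right, hf1, ← (hxz.pow_right g).eq,
        show x * z ^ g * ((z ^ f)⁻¹ * y) * z ^ e' = x * (z ^ g * (z ^ f)⁻¹) * (y * z ^ e') by group,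
        (hyz.pow_right e').eq,
        show x * (z ^ g * (z ^ f)⁻¹) * (z ^ e' * y) = x * (z ^ g * (z ^ f)⁻¹ * z ^ e') * y by group]
      rw [show z ^ g * (z ^ f)⁻¹ * z ^ e' = 1 by simp only [f, pow_add]; group, mul_one]
    · intro v hv
      show autFun ((MulAut.conj (⟨w, hwP⟩ : P)) * (u : MulAut P)) v = _
      rw [autFun_mul _ _ hv, hk₁ v hv,
        autFun_apply _ (show cj k₁ v ∈ P from conj_mem_of_mem_normalizerIn hk₁N hv)]
      show w * (k₁ * v * k₁⁻¹) * w⁻¹ = w * k₁ * v * (w * k₁)⁻¹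
      group
    · rw [map_mul, (frame_inn_iff hVc hVe hVn hS hP ρ hker bw).mpr ⟨⟨w, hwP⟩, rfl⟩, one_mul]
  have hkS : k ∈ S := hkN.1
  have hkz : Commute k z := by
    refine mul_inv_eq_iff_eq_mul.mp ?_
    have hz' : z = y * x * y⁻¹ * x⁻¹ := by rw [hyxy, mul_inv_cancel_right]
    rw [hz', show k * (y * x * y⁻¹ * x⁻¹) * k⁻¹ =
      (k * y * k⁻¹) * (k * x * k⁻¹) * (k * y * k⁻¹)⁻¹ * (k * x * k⁻¹)⁻¹ by group,
      hky, hkx.eq, mul_inv_cancel_right,
      show x * y * x * (x * y)⁻¹ * x⁻¹ = x * (y * x * y⁻¹) * x⁻¹ * x⁻¹ by group, hyxy,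
      show x * (z * x) * x⁻¹ * x⁻¹ = x * z * x⁻¹ by group, hxz.eq, mul_inv_cancel_right]
  have hkconj : ∀ n : ℕ, k ^ n * y * (k ^ n)⁻¹ = x ^ n * y := by
    intro n
    induction n with
    | zero => simp
    | succ n ih =>
      rw [pow_succ' k, show k * k ^ n * y * (k * k ^ n)⁻¹ = k * (k ^ n * y * (k ^ n)⁻¹) * k⁻¹ by group,
        ih, ← mul_assoc, (hkx.pow_right n).eq, mul_assoc (x ^ n), mul_assoc (x ^ n), hky,
        ← mul_assoc, ← pow_succ]
  -- the `p`-th power of `k` lies in `D`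
  have hkpy : Commute (k ^ p) y := mul_inv_eq_iff_eq_mul.mp (by rw [hkconj, hxp, one_mul])
  have hkpx : Commute (k ^ p) x := hkx.pow_left p
  have hkpP : k ^ p ∈ P := by
    have hkpN := Subgroup.pow_mem _ hkN p
    obtain ⟨β, hβ⟩ := exists_conjAut hkpN.2
    let bb : F.autGroup P := ⟨β, autInducedBy_le_autGroup hPS
      (mem_autInducedBy_iff_cj.mpr ⟨_, hkpN.1, hβ⟩)⟩
    refine mem_of_cj_mem_inn hcent hkpN.1 hβ ((frame_inn_iff hVc hVe hVn hS hP ρ hker bb).mp ?_) hPS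
    refine MulEquiv.ext fun v => ?_
    obtain ⟨c, rfl⟩ := QuotientGroup.mk_surjective v
    rw [hρmk, MulAut.one_apply]
    congr 1
    refine Subtype.ext (Subtype.ext ?_)
    show ((β (c : P) : P) : Ω) = ((c : P) : Ω)
    rw [← autFun_coe, hβ _ (c : P).2, cj_apply]
    obtain ⟨i, j, r, hc⟩ := hCgen c
    have hkpz : Commute (k ^ p) z := hkz.pow_left p
    rw [hc, (((hkpx.pow_right i).mul_right (hkpy.pow_right j)).mul_right (hkpz.pow_right r)).eq,
      mul_inv_cancel_right]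
  have hkpD : k ^ p ∈ D := hmemD.mpr ⟨hkpP, hkpx.symm, hkpy.symm⟩
  -- the torus
  obtain ⟨b, hb⟩ : ∃ b : ℕ, (2 : ZMod p) * b = 1 := by
    refine ⟨((2 : ZMod p)⁻¹).val, ?_⟩
    rw [ZMod.natCast_zmod_val, mul_inv_cancel₀]
    intro h
    have := Nat.le_of_dvd two_pos ((ZMod.natCast_eq_zero_iff 2 p).mp (by exact_mod_cast h))
    omega
  obtain ⟨t', ⟨t₀, rfl⟩, htx, hty⟩ := exists_frame_torus hVc hVe (A := ρ.range) ⟨u, rfl⟩ ⟨l, rfl⟩
    hux huy hly hlx (c := 2) (d := b) (by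
      rw [← ZMod.natCast_eq_natCast_iff]; push_cast; exact hb)
  obtain ⟨e₁, m₁, hm₁, hem⟩ :=
    Nat.exists_eq_pow_mul_and_not_dvd (orderOf_pos t₀).ne' p hp.out.ne_one
  set t := t₀ ^ p ^ e₁ with htdef
  have htc : (orderOf (t : MulAut P)).Coprime p := by
    rw [Subgroup.orderOf_coe]
    exact Nat.Coprime.coprime_dvd_left (orderOf_dvd_of_pow_eq_one (n := m₁)
      (by rw [htdef, ← pow_mul, ← hem, pow_orderOf_eq_one]))
      ((hp.out.coprime_iff_not_dvd.mpr hm₁).symm)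
  have htpow : ∀ (v : C ⧸ Z) (c : ℕ), ρ t₀ v = v ^ c → ρ t v = v ^ c := by
    intro v c h
    have hit : ∀ n : ℕ, (ρ t₀ ^ n) v = v ^ c ^ n := by
      intro n
      induction n with
      | zero => simp
      | succ n ih => rw [pow_succ', MulAut.mul_apply, ih, map_pow, h, ← pow_mul, ← pow_succ']
    rw [htdef, map_pow, hit]
    refine pow_eq_pow_iff_modEq.mpr (Nat.ModEq.of_dvd (orderOf_dvd_of_pow_eq_one (hVe v))
      ((ZMod.natCast_eq_natCast_iff _ _ _).mp ?_))
    push_cast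
    rw [ZMod.pow_card_pow]
  have htx' := htpow _ _ htx
  have hty' := htpow _ _ hty
  set T := autFun (t : MulAut P) with hTdef
  have hmt := mapTo_of_mem_autGroup hPS t.2
  obtain ⟨r₁, hr₁⟩ := hzmul (c := xs ^ 2) (c' := subRep C hC t xs) (by rw [← hρmk, htx']; rfl)
  obtain ⟨r₂, hr₂⟩ := hzmul (c := ys ^ b) (c' := subRep C hC t ys) (by rw [← hρmk, hty']; rfl)
  have hTx : T x = x ^ 2 * z ^ r₁ := by
    rw [hTdef, hxdef, autFun_coe]; exact hr₁
  have hTy : T y = y ^ b * z ^ r₂ := by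
    rw [hTdef, hydef, autFun_coe]; exact hr₂
  have hTz : T z = z := by
    have hz' : z = y * x * y⁻¹ * x⁻¹ := by rw [hyxy, mul_inv_cancel_right]
    conv_lhs => rw [hz']
    rw [hTdef, hmt.map_mul (P.mul_mem (P.mul_mem hyP hxP) (P.inv_mem hyP)) (P.inv_mem hxP),
      hmt.map_mul (P.mul_mem hyP hxP) (P.inv_mem hyP), hmt.map_mul hyP hxP, hmt.map_inv hyP,
      hmt.map_inv hxP, ← hTdef, hTx, hTy,
      show y ^ b * z ^ r₂ * (x ^ 2 * z ^ r₁) * (y ^ b * z ^ r₂)⁻¹ * (x ^ 2 * z ^ r₁)⁻¹ =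
        y ^ b * (z ^ r₂ * (x ^ 2 * z ^ r₁) * (z ^ r₂)⁻¹) * (y ^ b)⁻¹ * ((x ^ 2 * z ^ r₁))⁻¹ by group,
      ((hxz.symm.pow_pow r₂ 2).mul_right ((Commute.refl z).pow_pow r₂ r₁)).eq, mul_inv_cancel_right,
      show y ^ b * (x ^ 2 * z ^ r₁) * (y ^ b)⁻¹ = (y ^ b * x ^ 2 * (y ^ b)⁻¹) *
        (y ^ b * z ^ r₁ * (y ^ b)⁻¹) by group, (hyz.pow_pow b r₁).eq, mul_inv_cancel_right, hconj,
      mul_assoc (z ^ (b * 2)), mul_inv_cancel_right]
    conv_rhs => rw [← pow_one z]
    exact hmodz (by push_cast; linear_combination hb)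
  have hTD : ∀ d ∈ D, T d = d := by
    intro d hd
    have hinv : ∀ v ∈ D.subgroupOf P, (t : MulAut P) v ∈ D.subgroupOf P := by
      intro v hv
      rw [Subgroup.mem_subgroupOf] at hv ⊢
      rw [← autFun_coe]
      obtain ⟨hvP, hvx, hvy⟩ := hmemD.mp hv
      have h1 : Commute (x ^ 2 * z ^ r₁) (T v) := hTx ▸ (show T x * T v = T v * T x by
        rw [← hmt.map_mul hxP hvP, hvx.eq, hmt.map_mul hvP hxP])
      have h2 : Commute (y ^ b * z ^ r₂) (T v) := hTy ▸ (show T y * T v = T v * T y by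
        rw [← hmt.map_mul hyP hvP, hvy.eq, hmt.map_mul hvP hyP])
      have h3 : Commute z (T v) := by
        have : T z * T v = T v * T z := by rw [← hmt.map_mul hzP hvP, (hDz hv).eq, hmt.map_mul hvP hzP]
        rwa [hTz] at this
      have h4 : Commute (x ^ 2) (T v) := by
        have := h1.mul_left (h3.pow_left r₁).inv_left
        rwa [mul_inv_cancel_right] at this
      have h5 : Commute (y ^ b) (T v) := by
        have := h2.mul_left (h3.pow_left r₂).inv_left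
        rwa [mul_inv_cancel_right] at this
      have h2b : ∀ w : Ω, w ^ p = 1 → w ^ (2 * b) = w := fun w hw => by
        conv_rhs => rw [← pow_one w]
        exact pow_eq_pow_iff_modEq.mpr (Nat.ModEq.of_dvd (orderOf_dvd_of_pow_eq_one hw)
          ((ZMod.natCast_eq_natCast_iff _ _ _).mp (by push_cast; exact hb)))
      refine hmemD.mpr ⟨autFun_mem _ hvP, ?_, ?_⟩
      · have := h4.pow_left b
        rwa [← pow_mul, h2b x hxp] at this
      · have := h5.pow_left 2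
        rwa [← pow_mul, mul_comm b 2, h2b y hyp] at this
    set β := Coprime23.restrictAut (t : MulAut P) (D.subgroupOf P) hinv with hβdef
    have hn : ∀ (n : ℕ) (v : D.subgroupOf P), ((β ^ n) v : P) = ((t : MulAut P) ^ n) v := by
      intro n
      induction n with
      | zero => intro v; rfl
      | succ n ih =>
        intro v
        rw [pow_succ', pow_succ', MulAut.mul_apply, MulAut.mul_apply, Coprime23.restrictAut_apply, ih]
    have hβc : (orderOf β).Coprime p := htc.coprime_dvd_left (orderOf_dvd_of_pow_eq_one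
      (MulEquiv.ext fun v => Subtype.ext (by rw [hn, pow_orderOf_eq_one]; rfl)))
    have h := Coprime23.fix_of_fix_omega (hPp.to_subgroup _) hp2 β hβc (fun v hv => ?_)
      ⟨⟨d, hDP hd⟩, hd⟩
    · rw [hTdef, autFun_apply _ (hDP hd)]
      exact congrArg (fun v : D.subgroupOf P => ((v : P) : Ω)) h
    · refine Subtype.ext (Subtype.ext ?_)
      have hvD : ((v : P) : Ω) ∈ D := v.2
      obtain ⟨i, hi⟩ := Subgroup.mem_zpowers_iff.mp
        (hDom _ hvD (congrArg (fun w : D.subgroupOf P => ((w : P) : Ω)) hv))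
      have h1 : (((t : MulAut P) ⟨z, hzP⟩ : P) : Ω) = z := by rw [← autFun_coe]; exact hTz
      have h2 : (v : P) = (⟨z, hzP⟩ : P) ^ i := Subtype.ext (by
        rw [SubgroupClass.coe_zpow]; exact hi.symm)
      show (((t : MulAut P) (v : P) : P) : Ω) = ((v : P) : Ω)
      rw [h2, map_zpow, SubgroupClass.coe_zpow, SubgroupClass.coe_zpow, h1]
  -- the torus conjugates `k` into its fourth power, up to inner automorphisms
  obtain ⟨w, hwP, hw⟩ : ∃ w ∈ P, ∀ v ∈ P, T (k * v * k⁻¹) = (w * k ^ 4) * T v * (w * k ^ 4)⁻¹ := by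
    have hρ : ρ t * ρ b₀ = ρ b₀ ^ 4 * ρ t := by
      have hit : ∀ n : ℕ, (ρ u ^ n) (xs : C ⧸ Z) = (xs : C ⧸ Z) ∧
          (ρ u ^ n) (ys : C ⧸ Z) = (xs : C ⧸ Z) ^ n * (ys : C ⧸ Z) := by
        intro n
        induction n with
        | zero => simp
        | succ n ih =>
          refine ⟨by rw [pow_succ', MulAut.mul_apply, ih.1, hux], ?_⟩
          rw [pow_succ', MulAut.mul_apply, ih.2, map_mul, map_pow, hux, huy, pow_succ, mul_assoc]
      rw [hb₀ρ]
      refine MulEquiv.ext fun v => ?_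
      obtain ⟨i, j, rfl⟩ := hVgen v
      have hc := hVc.is_comm.comm
      have hap' : ∀ (φ : MulAut (C ⧸ Z)) (a b : C ⧸ Z) (i j : ℕ),
          φ (a ^ i * b ^ j) = φ a ^ i * φ b ^ j := fun φ a b i j => by
        rw [map_mul, _root_.map_pow, _root_.map_pow]
      rw [MulAut.mul_apply, MulAut.mul_apply, hap' (ρ u), hux, huy, hap' (ρ t), hap' (ρ t),
        map_mul (ρ t), htx', hty', hap' (ρ u ^ 4), _root_.map_pow (ρ u ^ 4) _ 2,
        _root_.map_pow (ρ u ^ 4) _ b, (hit 4).1, (hit 4).2]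
      rw [(show Commute ((xs : C ⧸ Z) ^ 4) (ys : C ⧸ Z) from hc _ _).mul_pow,
        (show Commute ((xs : C ⧸ Z) ^ 2) ((ys : C ⧸ Z) ^ b) from hc _ _).mul_pow, ← pow_mul _ 4 b,
        (show Commute ((xs : C ⧸ Z) ^ (4 * b)) ((ys : C ⧸ Z) ^ b) from hc _ _).mul_pow]
      congr 2
      rw [← pow_mul, ← pow_mul]
      refine pow_eq_pow_iff_modEq.mpr (Nat.ModEq.of_dvd (orderOf_dvd_of_pow_eq_one (hVe _))
        ((ZMod.natCast_eq_natCast_iff _ _ _).mp ?_))
      push_cast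
      linear_combination (-2 * (j : ZMod p)) * hb
    let δ : F.autGroup P := t * b₀ * t⁻¹ * (b₀ ^ 4)⁻¹
    have hδ : ρ δ = 1 := by
      simp only [δ, map_mul, map_inv, map_pow]
      rw [hρ, mul_inv_cancel_right, mul_inv_cancel]
    obtain ⟨⟨w, hw⟩, hwδ⟩ := (frame_inn_iff hVc hVe hVn hS hP ρ hker δ).mp hδ
    refine ⟨w, hw, fun v hv => ?_⟩
    have he : (t : MulAut P) * (b₀ : MulAut P) =
        MulAut.conj (⟨w, hw⟩ : P) * (b₀ : MulAut P) ^ 4 * (t : MulAut P) := by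
      rw [show MulAut.conj (⟨w, hw⟩ : P) = (δ : MulAut P) from hwδ]
      simp only [δ, Subgroup.coe_mul, Subgroup.coe_inv, Subgroup.coe_pow]
      group
    have hb4 : ∀ (n : ℕ), ∀ v ∈ P, autFun ((b₀ : MulAut P) ^ n) v = k ^ n * v * (k ^ n)⁻¹ := by
      intro n
      induction n with
      | zero => intro v hv; rw [pow_zero, autFun_one hv]; simp
      | succ n ih =>
        intro v hv
        rw [pow_succ', autFun_mul _ _ hv, ih v hv, hb₀ _ (by rw [← ih v hv]; exact autFun_mem _ hv),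
          cj_apply, pow_succ' k]
        group
    have h1 := congrArg (fun α => autFun α v) he
    rw [autFun_mul _ _ hv, hb₀ v hv, autFun_mul _ _ hv, autFun_mul _ _ (autFun_mem _ hv),
      hb4 4 _ (autFun_mem _ hv)] at h1
    rw [hTdef, show k * v * k⁻¹ = cj k v from rfl, h1, autFun_apply _ (by
      rw [← hb4 4 _ (autFun_mem _ hv)]; exact autFun_mem _ (autFun_mem _ hv))]
    show w * (k ^ 4 * autFun (t : MulAut P) v * (k ^ 4)⁻¹) * w⁻¹ = _
    group
  obtain ⟨g, hg, hgT, hgc⟩ := exists_extension_zpowers hS hF hP.1 hmt (img_autFun _) hkN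
    (S.mul_mem (hPS hwP) (S.pow_mem hkS 4)) hw
  obtain ⟨w', hw'P, hgk⟩ : ∃ w' ∈ P, g k = w' * k ^ 4 := by
    have hc : (w * k ^ 4)⁻¹ * g k ∈ P := hcent hgc
    refine ⟨w * (k ^ 4 * ((w * k ^ 4)⁻¹ * g k) * (k ^ 4)⁻¹),
      P.mul_mem hwP (conj_mem_of_mem_normalizerIn (Subgroup.pow_mem _ hkN 4) hc), ?_⟩
    group
  have hkM : k ∈ P ⊔ Subgroup.zpowers k := Subgroup.mem_sup_right (Subgroup.mem_zpowers k)
  have hPM : P ≤ P ⊔ Subgroup.zpowers k := le_sup_left
  have hkDD : ∀ n : ℕ, ∀ d ∈ D, k ^ n * d * (k ^ n)⁻¹ ∈ D := by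
    intro n d hd
    obtain ⟨hdP, hdx, hdy⟩ := hmemD.mp hd
    have hcx : Commute (k ^ n) x := hkx.pow_left n
    have h1 : Commute x (k ^ n * d * (k ^ n)⁻¹) := (hcx.symm.mul_right hdx).mul_right hcx.symm.inv_right
    refine hmemD.mpr ⟨conj_mem_of_mem_normalizerIn (Subgroup.pow_mem _ hkN n) hdP, h1, ?_⟩
    have h2 : Commute (x ^ n * y) (k ^ n * d * (k ^ n)⁻¹) := by
      rw [← hkconj n]
      show _ * _ = _ * _
      rw [show k ^ n * y * (k ^ n)⁻¹ * (k ^ n * d * (k ^ n)⁻¹) = k ^ n * (y * d) * (k ^ n)⁻¹ by group,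
        hdy.eq]
      group
    have := (h1.pow_left n).inv_left.mul_left h2
    rwa [inv_mul_cancel_left] at this
  -- `k` centralizes `D`
  have hkD : ∀ d ∈ D, Commute k d := by
    intro d hd
    have hd1 : k * d * k⁻¹ ∈ D := by simpa using hkDD 1 d hd
    have h1 := hg.map_conj hkM (hPM (hDP hd))
    rw [hgT _ (hDP hd1), hgT _ (hDP hd), ← hTdef, hTD _ hd1, hTD _ hd, hgk] at h1
    have h2 : k * d * k⁻¹ = k ^ 4 * d * (k ^ 4)⁻¹ := by
      rw [h1, show w' * k ^ 4 * d * (w' * k ^ 4)⁻¹ = w' * (k ^ 4 * d * (k ^ 4)⁻¹) * w'⁻¹ by group,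
        (hDcent w' hw'P _ (hkDD 4 d hd)).eq, mul_inv_cancel_right]
    have h3 : Commute (k ^ 3) d := by
      refine mul_inv_eq_iff_eq_mul.mp ?_
      rw [show k ^ 3 * d * (k ^ 3)⁻¹ = k⁻¹ * (k ^ 4 * d * (k ^ 4)⁻¹) * k by group, ← h2]
      group
    obtain ⟨e', he'⟩ := hS ⟨k, hkS⟩
    have hcop : Nat.Coprime 3 (orderOf k) := by
      refine Nat.Coprime.coprime_dvd_right (orderOf_dvd_of_pow_eq_one (n := p ^ e')
        (congrArg Subtype.val he')) (Nat.Coprime.pow_right _ ?_)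
      exact (Nat.coprime_primes Nat.prime_three hp.out).mpr (by omega)
    obtain ⟨s, hs⟩ := exists_pow_eq_self_of_coprime hcop
    exact hs ▸ h3.pow_left s
  -- the extension commutes with the torus image of `x`
  obtain ⟨i₁, d₁, hd₁, hw'eq⟩ : ∃ i : ℕ, ∃ d ∈ D, w' = x ^ i * d := by
    obtain ⟨i, j, hij⟩ := hsplit w' hw'P
    have hgx : Commute (g k) (x ^ 2 * z ^ r₁) := by
      have h : g (k * x) = g (x * k) := by rw [hkx.eq]
      rw [hg.map_mul hkM (hPM hxP), hg.map_mul (hPM hxP) hkM, hgT x hxP, ← hTdef, hTx] at h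
      exact h
    have hw'x : Commute w' (x ^ 2) := by
      have hw'z : Commute w' z := hDcent w' hw'P z
        (hmemD.mpr ⟨hzP, hxz, hyz⟩)
      rw [hgk] at hgx
      have h5 : Commute (k ^ 4) (x ^ 2 * z ^ r₁) :=
        ((hkx.pow_left 4).pow_right 2).mul_right ((hkz.pow_left 4).pow_right r₁)
      have h6 := hgx.mul_left h5.inv_left
      rw [mul_inv_cancel_right] at h6
      have := h6.mul_right (hw'z.pow_right r₁).inv_right
      rwa [mul_inv_cancel_right] at this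
    have hw'x1 : Commute w' x := by
      have := hw'x.pow_right b
      rwa [← pow_mul, show x ^ (2 * b) = x from (pow_eq_pow_iff_modEq.mpr (Nat.ModEq.of_dvd
        (orderOf_dvd_of_pow_eq_one hxp) ((ZMod.natCast_eq_natCast_iff _ _ _).mp
          (by push_cast; exact hb)))).trans (pow_one x)] at this
    obtain ⟨hdP, hdx, hdy⟩ := hmemD.mp hij
    have hyj : Commute (x ^ i * y ^ j) x := by
      have := hdx.symm.mul_left hw'x1.inv_left
      rwa [mul_inv_cancel_right] at this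
    have hy' : Commute (y ^ j) x := by
      have := ((Commute.refl x).pow_left i).inv_left.mul_left hyj
      rwa [inv_mul_cancel_left] at this
    have h6 := hconj j 1
    rw [pow_one, mul_one, hy'.eq, mul_inv_cancel_right, right_eq_mul] at h6
    obtain ⟨t', rfl⟩ : p ∣ j := hzo ▸ orderOf_dvd_of_pow_eq_one h6
    rw [pow_mul, hyp, one_pow, mul_one] at hij
    refine ⟨(p - 1) * i, _, hij, ?_⟩
    rw [← mul_assoc, ← pow_add, show (p - 1) * i + i = (p - 1 + 1) * i by ring,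
      Nat.sub_add_cancel hp.out.one_lt.le, pow_mul, hxp, one_pow, one_mul]
  -- an element of order `p` outside `P`
  set d := k ^ p with hddef
  have hxd : Commute x d₁ := (hmemD.mp hd₁).2.1
  have hgd : g d = d := by rw [hgT d hkpP, ← hTdef, hTD d hkpD]
  have hgd' : g d = d₁ ^ p * d ^ 4 := by
    have hgpow : ∀ n : ℕ, g (k ^ n) = g k ^ n := by
      intro n
      induction n with
      | zero => rw [pow_zero, pow_zero, hg.map_one]
      | succ n ih => rw [pow_succ, pow_succ, hg.map_mul (Subgroup.pow_mem _ hkM n) hkM, ih]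
    rw [hddef, hgpow, hgk, hw'eq,
      (((hkx.pow_left 4).symm.pow_left i₁).mul_left ((hkD d₁ hd₁).pow_left 4).symm).mul_pow,
      (hxd.pow_left i₁).mul_pow, ← pow_mul, mul_comm i₁ p, pow_mul x p, hxp, one_pow, one_mul,
      ← pow_mul, ← pow_mul, mul_comm 4 p]
  have hd3 : d ^ 3 = (d₁ ^ p)⁻¹ := by
    rw [eq_inv_iff_mul_eq_one, (hDcomm _ (D.pow_mem hkpD 3) _ (D.pow_mem hd₁ p)).eq]
    refine mul_right_cancel (b := d) ?_
    rw [one_mul, mul_assoc, ← pow_succ]
    exact hgd'.symm.trans hgd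
  obtain ⟨s, hs⟩ : ∃ s : ℕ, (d ^ 3) ^ s = d := by
    refine exists_pow_eq_self_of_coprime ?_
    obtain ⟨e', he'⟩ := hS ⟨d, hPS hkpP⟩
    refine Nat.Coprime.coprime_dvd_right (orderOf_dvd_of_pow_eq_one (n := p ^ e')
      (congrArg Subtype.val he')) (Nat.Coprime.pow_right _ ?_)
    exact (Nat.coprime_primes Nat.prime_three hp.out).mpr (by omega)
  set k' := k * d₁ ^ s with hk'
  have hd1s : d₁ ^ s ∈ D := D.pow_mem hd₁ s
  have hk'p : k' ^ p = 1 := by
    rw [hk', (hkD _ hd1s).mul_pow, ← hddef, ← pow_mul, mul_comm s p, pow_mul]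
    conv_lhs => arg 1; rw [← hs, hd3]
    rw [inv_pow, inv_mul_cancel]
  obtain ⟨-, hsx, -⟩ := hmemD.mp hd1s
  obtain ⟨i, j, hij⟩ := exists_of_rank_le_two hrank3 (hPS hxP) (hPS hzP)
    (S.mul_mem hkS (hPS (hDP hd1s))) hxp hzp hk'p hxz (hkx.symm.mul_right hsx)
    (hkz.symm.mul_right (hDz hd1s)) hx1 hyx
  apply hkP
  have hk'P : k' ∈ P := (congrArg (fun v => v ∈ P) hij).mpr (P.mul_mem (P.pow_mem hxP i) (P.pow_mem hzP j))
  have := P.mul_mem hk'P (P.inv_mem (hDP hd1s))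
  rwa [hk', mul_inv_cancel_right] at this

end Cfsg.Agent.Fusion
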