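import Cfsg.Agent.Lib.Fusion.EssentialSmall
import Cfsg.Agent.Lib.Fusion.Saturation
import Cfsg.Agent.Lib.Fusion.Centric

/-!
Auxiliary facts for groups of rank two.
-/

set_option autoImplicit false
set_option linter.style.haveILetI false

namespace Cfsg.Agent.Fusion

open Cfsg.FusionSystem (centralizerIn normalizerIn)

universe u

variable {p : ℕ} [hp : Fact p.Prime]

/-- An element of `p`-power order acting on a group of order `p ^ 2` and exponent `p` has order at most `p`. -/
theorem pow_eq_one_of_pPow {V : Type*} [Group V] (hcomm : IsMulCommutative V)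
    (hexp : ∀ v : V, v ^ p = 1) (hcard : Nat.card V = p ^ 2) {ψ : MulAut V} {k : ℕ}
    (hψ : ψ ^ p ^ k = 1) : ψ ^ p = 1 := by
  haveI : Finite V := Nat.finite_of_card_ne_zero (by rw [hcard]; exact pow_ne_zero 2 hp.out.ne_zero)
  haveI : Nontrivial V := Finite.one_lt_card_iff_nontrivial.mp (by
    rw [hcard]; exact Nat.one_lt_pow two_ne_zero hp.out.one_lt)
  haveI := finite_mulAut V
  have hc : ∀ s t : V, s * t = t * s := hcomm.is_comm.comm
  have hC : IsPGroup p (Subgroup.zpowers ψ) := by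
    obtain ⟨i, -, hi⟩ := (Nat.dvd_prime_pow hp.out).mp (orderOf_dvd_of_pow_eq_one hψ)
    exact IsPGroup.of_card (n := i) ((Nat.card_zpowers ψ).trans hi)
  obtain ⟨x, hx, hfix⟩ := exists_fixed_of_pGroup (IsPGroup.of_card hcard) hC
  have hψx := hfix ψ (Subgroup.mem_zpowers ψ)
  set W := Subgroup.zpowers x with hW
  haveI hWn : W.Normal := ⟨fun n hn g => by rw [hc g n, mul_inv_cancel_right]; exact hn⟩
  have hfixW : ∀ w ∈ W, ψ w = w := by
    intro w hw
    obtain ⟨i, rfl⟩ := Subgroup.mem_zpowers_iff.mp hw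
    rw [map_zpow, hψx]
  have hQp : Nat.card (V ⧸ W) = p := by
    have h := Subgroup.card_eq_card_quotient_mul_card_subgroup W
    rw [hcard, hW, Nat.card_zpowers, orderOf_eq_prime (hexp x) hx, pow_two] at h
    exact (Nat.eq_of_mul_eq_mul_right hp.out.pos h).symm
  have hmap : W.map (ψ : V →* V) = W := by
    refine le_antisymm ?_ fun w hw => ⟨w, hw, hfixW w hw⟩
    rintro _ ⟨w, hw, rfl⟩
    exact (hfixW w hw).symm ▸ hw
  let r : MulAut (V ⧸ W) := QuotientGroup.congr W W ψ hmap
  have hr : ∀ (n : ℕ) (x : V), (r ^ n) (QuotientGroup.mk x) = QuotientGroup.mk ((ψ ^ n) x) := by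
    intro n
    induction n with
    | zero => intro x; rfl
    | succ n ih =>
      intro x
      rw [pow_succ', pow_succ', MulAut.mul_apply, MulAut.mul_apply, ih]
      rfl
  refine MulEquiv.ext fun v => ?_
  have hd : v⁻¹ * ψ v ∈ W := by
    have := eq_self_of_pow_of_card hQp (k := k) (ψ := r) (MulEquiv.ext fun y => by
      obtain ⟨y, rfl⟩ := QuotientGroup.mk_surjective y
      rw [hr, hψ]
      rfl) (QuotientGroup.mk v)
    exact QuotientGroup.eq.mp this.symm
  have hit : ∀ n : ℕ, (ψ ^ n) v = v * (v⁻¹ * ψ v) ^ n := by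
    intro n
    induction n with
    | zero => simp
    | succ n ih =>
      rw [pow_succ' ψ, MulAut.mul_apply, ih, map_mul, map_pow, hfixW _ hd, pow_succ', ← mul_assoc,
        mul_inv_cancel_left]
  rw [hit, hexp, mul_one, MulAut.one_apply]

variable {Ω : Type u} [Group Ω]

/-- Powers of two commuting elements of order dividing `p`. -/
theorem exists_pow_mul_pow {a b c : Ω} (ha : a ^ p = 1) (hb : b ^ p = 1) (hab : Commute a b)
    (hc : c ∈ Subgroup.zpowers a ⊔ Subgroup.zpowers b) : ∃ i j : ℕ, c = a ^ i * b ^ j := by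
  have hmul : ∀ i j k l : ℕ, a ^ i * b ^ j * (a ^ k * b ^ l) = a ^ (i + k) * b ^ (j + l) := by
    intro i j k l
    rw [pow_add, pow_add, mul_assoc, ← mul_assoc (b ^ j), (hab.pow_pow k j).symm.eq]
    simp only [mul_assoc]
  let W : Subgroup Ω :=
    { carrier := {c | ∃ i j : ℕ, c = a ^ i * b ^ j}
      one_mem' := ⟨0, 0, by simp⟩
      mul_mem' := fun {s t} ⟨i, j, hs⟩ ⟨k, l, ht⟩ => ⟨i + k, j + l, by rw [hs, ht, hmul]⟩
      inv_mem' := fun {s} ⟨i, j, hs⟩ => ⟨i * (p - 1), j * (p - 1), by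
        rw [hs]
        refine inv_eq_of_mul_eq_one_right ?_
        have hn : ∀ n, n + n * (p - 1) = p * n := fun n => by
          conv_rhs => rw [← Nat.sub_add_cancel hp.out.one_lt.le]
          ring
        rw [hmul, hn, hn, pow_mul, pow_mul, ha, hb, one_pow, one_pow, one_mul]⟩ }
  have h1 : Subgroup.zpowers a ⊔ Subgroup.zpowers b ≤ W :=
    sup_le (Subgroup.zpowers_le.mpr ⟨1, 0, by simp⟩) (Subgroup.zpowers_le.mpr ⟨0, 1, by simp⟩)
  exact h1 hc

variable {S : Subgroup Ω}

/-- In rank two a third commuting element of order `p` lies in the span of two independent ones. -/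
theorem exists_of_rank_le_two [Finite S]
    (hrank3 : ∀ E : Subgroup Ω, E ≤ S → Cfsg.IsElementaryAbelian p E → Nat.card E ≤ p ^ 2)
    {a b c : Ω} (ha : a ∈ S) (hb : b ∈ S) (hc : c ∈ S) (hap : a ^ p = 1) (hbp : b ^ p = 1)
    (hcp : c ^ p = 1) (hab : Commute a b) (hac : Commute a c) (hbc : Commute b c) (ha1 : a ≠ 1)
    (hb1 : b ∉ Subgroup.zpowers a) : ∃ i j : ℕ, c = a ^ i * b ^ j := by
  refine exists_pow_mul_pow hap hbp hab ?_
  set W := Subgroup.zpowers a ⊔ Subgroup.zpowers b with hW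
  set E := W ⊔ Subgroup.zpowers c with hE
  have hES : E ≤ S := sup_le (sup_le (Subgroup.zpowers_le.mpr ha) (Subgroup.zpowers_le.mpr hb))
    (Subgroup.zpowers_le.mpr hc)
  haveI := finite_of_le hES
  haveI := finite_of_le (le_sup_left.trans hES : W ≤ S)
  have hgen : E = Subgroup.closure {a, b, c} := by
    rw [hE, hW, Subgroup.zpowers_eq_closure, Subgroup.zpowers_eq_closure,
      Subgroup.zpowers_eq_closure, ← Subgroup.closure_union, ← Subgroup.closure_union]
    refine congrArg Subgroup.closure (Set.ext fun v => ?_)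
    simp only [Set.mem_union, Set.mem_singleton_iff, Set.mem_insert_iff, or_assoc]
  have hcomm : IsMulCommutative E := by
    rw [hgen]
    refine Subgroup.isMulCommutative_closure ?_
    rintro s (rfl | rfl | rfl) t (rfl | rfl | rfl) <;>
      first
        | rfl
        | exact hab
        | exact hab.symm
        | exact hac
        | exact hac.symm
        | exact hbc
        | exact hbc.symm
  have hexp : ∀ s ∈ E, s ^ p = 1 := by
    intro s hs
    have h1 : ∀ u ∈ Subgroup.closure ({a, b, c} : Set Ω), u ^ p = 1 := by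
      intro u hu
      induction hu using Subgroup.closure_induction with
      | mem v hv => rcases hv with rfl | rfl | rfl <;> assumption
      | one => exact one_pow _
      | mul v w hv hw h h' =>
        have : Commute v w := congrArg Subtype.val
          (hcomm.is_comm.comm ⟨v, hgen ▸ hv⟩ ⟨w, hgen ▸ hw⟩)
        rw [this.mul_pow, h, h', one_mul]
      | inv v _ h => rw [inv_pow, h, inv_one]
    exact h1 s (hgen ▸ hs)
  have hlt : p < Nat.card W := by
    refine lt_of_eq_of_lt ((Nat.card_zpowers a).trans (orderOf_eq_prime hap ha1)).symm ?_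
    refine lt_of_le_of_ne (Subgroup.card_le_of_le le_sup_left) fun h => hb1 ?_
    exact (Subgroup.eq_of_le_of_card_ge le_sup_left h.ge).ge
      (Subgroup.mem_sup_right (Subgroup.mem_zpowers b))
  have hEp : IsPGroup p E := fun s => ⟨1, Subtype.ext (by rw [pow_one]; exact hexp s s.2)⟩
  obtain ⟨n, hn⟩ := hEp.exists_card_eq
  obtain ⟨m, -, hm⟩ := (Nat.dvd_prime_pow hp.out).mp
    (hn ▸ Subgroup.card_dvd_of_le (le_sup_left : W ≤ E))
  have h2 : 1 < m := (Nat.pow_lt_pow_iff_right hp.out.one_lt).mp (by rw [pow_one, ← hm]; exact hlt)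
  have h3 : p ^ 2 ≤ Nat.card W := hm ▸ Nat.pow_le_pow_right hp.out.pos h2
  exact (Subgroup.eq_of_le_of_card_ge le_sup_left ((hrank3 E hES ⟨hcomm, hexp⟩).trans h3)).ge
    (Subgroup.mem_sup_right (Subgroup.mem_zpowers c))

variable {F : FusionSystem S} {Q : Subgroup Ω}

/-- Extension of an automorphism of a centric subgroup to an element of its extender. -/
theorem exists_extension_zpowers [Finite S] (hS : IsPGroup p S) (hF : F.IsSaturated p)
    (hQ : F.IsCentric Q) {g : Ω → Ω} (hg : MapTo F Q g) (himg : img g Q = Q) {k h : Ω}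
    (hk : k ∈ normalizerIn S Q) (hh : h ∈ S) (he : ∀ v ∈ Q, g (k * v * k⁻¹) = h * g v * h⁻¹) :
    ∃ e : Ω → Ω, MapTo F (Q ⊔ Subgroup.zpowers k) e ∧ (∀ v ∈ Q, e v = g v) ∧
      h⁻¹ * e k ∈ centralizerIn S Q := by
  obtain ⟨e, he', heg⟩ := (isReceptive_iff.mp (isReceptive_of_isFullyCentralized hS hF
    (isFullyCentralized_of_isCentric hQ))).2 Q g hg himg
  have hk' : k ∈ extSub S hg := ⟨hk, h, hh, he⟩
  have hle : Q ⊔ Subgroup.zpowers k ≤ extSub S hg :=
    sup_le (le_extSub hg) (Subgroup.zpowers_le.mpr hk')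
  refine ⟨e, he'.restrict hle, heg, mem_centralizerIn.mpr
    ⟨S.mul_mem (S.inv_mem hh) (he'.mem hk'), fun w hw => ?_⟩⟩
  obtain ⟨v, hv, rfl⟩ := (hg.mem_img_iff le_rfl).mp (himg.symm ▸ hw : w ∈ img g Q)
  have hkv := conj_mem_of_mem_normalizerIn hk hv
  have hvx : v ∈ extSub S hg := le_extSub hg hv
  have h1 := he'.map_conj hk' hvx
  rw [heg _ hkv, he v hv, heg v hv] at h1
  have h2 := congrArg (fun t => h⁻¹ * t * e k) h1
  simp only [mul_assoc, inv_mul_cancel, mul_one] at h2
  rw [inv_mul_cancel_left] at h2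
  simpa [mul_assoc] using h2

end Cfsg.Agent.Fusion
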