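import Cfsg.Agent.Lib.Fusion.GenExtraspecial
import Cfsg.Agent.Lib.Fusion.Generation

/-!
Essential subgroups when `S` has an abelian subgroup of index `p`.
-/

set_option autoImplicit false
set_option linter.unusedSectionVars false

namespace Cfsg.Agent.Fusion

open Cfsg.FusionSystem (centralizerIn normalizerIn)
open scoped commutatorElement

universe u

variable {Ω : Type u} [Group Ω] {S : Subgroup Ω} {F : FusionSystem S} [Finite S] {p : ℕ}
  [hp : Fact p.Prime]

/-- `A` is an abelian subgroup of index `p` of the nonabelian `p`-group `S`. -/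
structure AbIndexP (p : ℕ) (S A : Subgroup Ω) : Prop where
  le : A ≤ S
  comm : ∀ a ∈ A, ∀ b ∈ A, Commute a b
  index : (A.subgroupOf S).index = p
  pgroup : IsPGroup p S
  nonab : ¬ ∀ a ∈ S, ∀ b ∈ S, Commute a b

namespace AbIndexP

variable {A : Subgroup Ω} (h : AbIndexP p S A)
include h

theorem normal : (A.subgroupOf S).Normal := by
  obtain ⟨k, hk⟩ := IsPGroup.iff_card.mp h.pgroup
  refine Subgroup.normal_of_index_eq_minFac_card ?_
  rw [h.index, hk]
  have hk0 : k ≠ 0 := by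
    intro h0
    have := Subgroup.index_dvd_card (A.subgroupOf S)
    rw [h.index, hk, h0, pow_zero, Nat.dvd_one] at this
    exact hp.out.ne_one this
  rw [Nat.pow_minFac hk0, hp.out.minFac_eq]

theorem conj_mem {s a : Ω} (hs : s ∈ S) (ha : a ∈ A) : s * a * s⁻¹ ∈ A :=
  h.normal.conj_mem ⟨a, h.le ha⟩ ha ⟨s, hs⟩

theorem comm_mem {s a : Ω} (hs : s ∈ S) (ha : a ∈ A) : ⁅a, s⁆ ∈ A := by
  rw [commutatorElement_def, show a * s * a⁻¹ * s⁻¹ = a * (s * a⁻¹ * s⁻¹) by group]
  exact A.mul_mem ha (h.conj_mem hs (A.inv_mem ha))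

theorem dec {x : Ω} (hx : x ∈ S) (hxA : x ∉ A) {s : Ω} (hs : s ∈ S) :
    ∃ i : ℕ, (x ^ i)⁻¹ * s ∈ A := by
  have := h.normal
  have hq : Nat.card (S ⧸ A.subgroupOf S) = p := h.index
  have : IsCyclic (S ⧸ A.subgroupOf S) := isCyclic_of_prime_card hq
  set y : S ⧸ A.subgroupOf S := QuotientGroup.mk' _ (⟨x, hx⟩ : S) with hy
  have hy1 : y ≠ 1 := fun he => hxA ((QuotientGroup.eq_one_iff (N := A.subgroupOf S) _).mp he)
  have htop : Subgroup.zpowers y = ⊤ := zpowers_eq_top_of_prime_card hq hy1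
  obtain ⟨i, hi⟩ := (mem_powers_iff_mem_zpowers.mpr
    (htop ▸ Subgroup.mem_top (QuotientGroup.mk' (A.subgroupOf S) ⟨s, hs⟩)) :
      QuotientGroup.mk' (A.subgroupOf S) ⟨s, hs⟩ ∈ Submonoid.powers y)
  refine ⟨i, ?_⟩
  have hi' : QuotientGroup.mk' (A.subgroupOf S) ((⟨x, hx⟩ : S) ^ i) =
      QuotientGroup.mk' (A.subgroupOf S) ⟨s, hs⟩ := by rw [map_pow]; exact hi
  exact (QuotientGroup.eq (s := A.subgroupOf S)).mp hi'

theorem mem_of_dec {x : Ω} (hx : x ∈ S) (hxA : x ∉ A) (T : Subgroup Ω) (hxT : x ∈ T)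
    {s : Ω} (hs : s ∈ S) (hAT : A ⊓ S ≤ T) : s ∈ T := by
  obtain ⟨i, hi⟩ := h.dec hx hxA hs
  rw [show s = x ^ i * ((x ^ i)⁻¹ * s) by group]
  exact T.mul_mem (T.pow_mem hxT i) (hAT ⟨hi, h.le hi⟩)

theorem mem_zs {x a : Ω} (hx : x ∈ S) (hxA : x ∉ A) (ha : a ∈ A) (hax : Commute a x) :
    a ∈ centralizerIn S S := by
  refine mem_centralizerIn.mpr ⟨h.le ha, fun s hs => ?_⟩
  have := h.mem_of_dec hx hxA (Subgroup.centralizer ({a} : Set Ω))
    (Subgroup.mem_centralizer_singleton_iff.mpr hax.symm) hs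
    fun b hb => Subgroup.mem_centralizer_singleton_iff.mpr (h.comm b hb.1 a ha)
  exact Subgroup.mem_centralizer_singleton_iff.mp this

theorem zs_le : centralizerIn S S ≤ A := by
  intro z hz
  obtain ⟨hzS, hzc⟩ := mem_centralizerIn.mp hz
  by_contra hzA
  apply h.nonab
  intro a ha b hb
  have hA : ∀ s ∈ S, ∀ c ∈ A, Commute s c := fun s hs c hc =>
    Subgroup.mem_centralizer_singleton_iff.mp (h.mem_of_dec hzS hzA (Subgroup.centralizer ({c} : Set Ω))
      (Subgroup.mem_centralizer_singleton_iff.mpr (hzc c (h.le hc)).symm) hs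
      fun d hd => Subgroup.mem_centralizer_singleton_iff.mpr (h.comm d hd.1 c hc))
  exact Subgroup.mem_centralizer_singleton_iff.mp (h.mem_of_dec hzS hzA
    (Subgroup.centralizer ({b} : Set Ω))
    (Subgroup.mem_centralizer_singleton_iff.mpr (hzc b hb).symm) ha
    fun d hd => Subgroup.mem_centralizer_singleton_iff.mpr (hA b hb d hd.1).symm)

theorem exists_not_mem : ∃ x ∈ S, x ∉ A := by
  by_contra hno
  push Not at hno
  exact h.nonab fun a ha b hb => h.comm a (hno a ha) b (hno b hb)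

/-- The elements of `A` which are central in `S` modulo the centre. -/
def sec (h : AbIndexP p S A) (x : Ω) (hx : x ∈ S) : Subgroup Ω where
  carrier := {a | a ∈ A ∧ ⁅a, x⁆ ∈ centralizerIn S S}
  one_mem' := ⟨A.one_mem, by rw [commutatorElement_one_left]; exact Subgroup.one_mem _⟩
  mul_mem' := by
    rintro a b ⟨ha, ha'⟩ ⟨hb, hb'⟩
    refine ⟨A.mul_mem ha hb, ?_⟩
    rw [show ⁅a * b, x⁆ = (a * ⁅b, x⁆ * a⁻¹) * ⁅a, x⁆ by simp only [commutatorElement_def]; group,
      (h.comm a ha _ (h.comm_mem hx hb)).eq, mul_inv_cancel_right]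
    exact Subgroup.mul_mem _ hb' ha'
  inv_mem' := by
    rintro a ⟨ha, ha'⟩
    refine ⟨A.inv_mem ha, ?_⟩
    rw [show ⁅a⁻¹, x⁆ = a⁻¹ * (⁅a, x⁆⁻¹ * a) by simp only [commutatorElement_def]; group,
      (h.comm _ (A.inv_mem (h.comm_mem hx ha)) a ha).eq, inv_mul_cancel_left]
    exact Subgroup.inv_mem _ ha'

theorem mem_sec {x a : Ω} {hx : x ∈ S} :
    a ∈ h.sec x hx ↔ a ∈ A ∧ ⁅a, x⁆ ∈ centralizerIn S S := Iff.rfl

theorem sec_comm_all {x a : Ω} (hx : x ∈ S) (hxA : x ∉ A) (ha : a ∈ h.sec x hx) {s : Ω}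
    (hs : s ∈ S) : ⁅a, s⁆ ∈ centralizerIn S S := by
  let T : Subgroup Ω :=
    { carrier := {y | y ∈ S ∧ ⁅a, y⁆ ∈ centralizerIn S S}
      one_mem' := ⟨S.one_mem, by rw [commutatorElement_one_right]; exact Subgroup.one_mem _⟩
      mul_mem' := by
        rintro y z ⟨hy, hy'⟩ ⟨hz, hz'⟩
        refine ⟨S.mul_mem hy hz, ?_⟩
        rw [show ⁅a, y * z⁆ = ⁅a, y⁆ * (y * ⁅a, z⁆ * y⁻¹) by simp only [commutatorElement_def]; group,
          (mem_centralizerIn.mp hz').2 y hy, mul_inv_cancel_right]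
        exact Subgroup.mul_mem _ hy' hz'
      inv_mem' := by
        rintro y ⟨hy, hy'⟩
        refine ⟨S.inv_mem hy, ?_⟩
        rw [show ⁅a, y⁻¹⁆ = y⁻¹ * (⁅a, y⁆⁻¹ * y) by simp only [commutatorElement_def]; group,
          ← (mem_centralizerIn.mp (Subgroup.inv_mem _ hy')).2 y hy, inv_mul_cancel_left]
        exact Subgroup.inv_mem _ hy' }
  exact (h.mem_of_dec hx hxA T ⟨hx, ha.2⟩ hs fun b hb => ⟨hb.2, by
    rw [commutatorElement_eq_one_iff_mul_comm.mpr (h.comm a ha.1 b hb.1).eq]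
    exact Subgroup.one_mem _⟩).2

/-- `a ↦ ⁅a, x⁆` on `A`. -/
def tau (h : AbIndexP p S A) (x : Ω) (hx : x ∈ S) : A →* Ω :=
  MonoidHom.mk' (fun a => ⁅(a : Ω), x⁆) fun a b => by
    show ⁅(a : Ω) * b, x⁆ = _
    rw [show ⁅(a : Ω) * b, x⁆ = ((a : Ω) * ⁅(b : Ω), x⁆ * (a : Ω)⁻¹) * ⁅(a : Ω), x⁆ by
        simp only [commutatorElement_def]; group,
      (h.comm a a.2 _ (h.comm_mem hx b.2)).eq, mul_inv_cancel_right,
      (h.comm _ (h.comm_mem hx b.2) _ (h.comm_mem hx a.2)).eq]

/-- The image of a subgroup of `A` under `a ↦ ⁅a, x⁆`. -/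
def tauImg (h : AbIndexP p S A) (x : Ω) (hx : x ∈ S) (H : Subgroup Ω) : Subgroup Ω :=
  (H.subgroupOf A).map (h.tau x hx)

theorem mem_tauImg {x y : Ω} {hx : x ∈ S} {H : Subgroup Ω} :
    y ∈ h.tauImg x hx H ↔ ∃ a ∈ A, a ∈ H ∧ ⁅a, x⁆ = y :=
  ⟨fun ⟨a, ha, he⟩ => ⟨a, a.2, ha, he⟩, fun ⟨a, ha, haH, he⟩ => ⟨⟨a, ha⟩, haH, he⟩⟩

theorem tauImg_le {x : Ω} {hx : x ∈ S} (H : Subgroup Ω) : h.tauImg x hx H ≤ A := by
  rintro _ hy
  obtain ⟨a, ha, -, rfl⟩ := h.mem_tauImg.mp hy
  exact h.comm_mem hx ha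

theorem card_tauImg {x : Ω} (hx : x ∈ S) (hxA : x ∉ A) {H : Subgroup Ω} (hHA : H ≤ A)
    (hZH : centralizerIn S S ≤ H) :
    Nat.card (h.tauImg x hx H) * Nat.card (centralizerIn S S) = Nat.card H := by
  have := finite_of_le (hHA.trans h.le)
  let f : H →* Ω := (h.tau x hx).comp (Subgroup.inclusion hHA)
  have hf : f.range = h.tauImg x hx H := by
    ext y
    rw [h.mem_tauImg]
    exact ⟨fun ⟨a, ha⟩ => ⟨a, hHA a.2, a.2, ha⟩, fun ⟨a, _, haH, he⟩ => ⟨⟨a, haH⟩, he⟩⟩
  have hk : f.ker = (centralizerIn S S).subgroupOf H := by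
    ext a
    rw [MonoidHom.mem_ker, Subgroup.mem_subgroupOf]
    show ⁅(a : Ω), x⁆ = 1 ↔ _
    rw [commutatorElement_eq_one_iff_mul_comm]
    exact ⟨fun he => h.mem_zs hx hxA (hHA a.2) he,
      fun he => ((mem_centralizerIn.mp he).2 x hx).symm⟩
  rw [← hf, ← Nat.card_congr (QuotientGroup.quotientKerEquivRange f).toEquiv,
    ← Nat.card_congr (Subgroup.subgroupOfEquivOfLe hZH).toEquiv, ← hk]
  exact (Subgroup.card_eq_card_quotient_mul_card_subgroup f.ker).symm

theorem relIndex_eq {x : Ω} {H : Subgroup Ω} (hH : H ≤ S) (hx : x ∈ H) (hxA : x ∉ A) :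
    Nat.card H = p * Nat.card ↥(H ⊓ A) := by
  have := finite_of_le hH
  have h1 := card_mul_relIndex (inf_le_left : H ⊓ A ≤ H)
  have hne : A.relIndex S ≠ 0 := by
    rw [Subgroup.relIndex, h.index]; exact hp.out.ne_zero
  have hle : A.relIndex H ≤ p := by
    refine (Subgroup.relIndex_le_of_le_right hH hne).trans ?_
    rw [Subgroup.relIndex, h.index]
  have hdvd : A.relIndex H ∣ Nat.card H := Subgroup.index_dvd_card _
  have hne1 : A.relIndex H ≠ 1 := fun he => hxA (Subgroup.relIndex_eq_one.mp he hx)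
  obtain ⟨k, hk⟩ := IsPGroup.iff_card.mp (h.pgroup.to_le hH)
  obtain ⟨j, hj, hje⟩ := (Nat.dvd_prime_pow hp.out).mp (hk ▸ hdvd)
  have hj1 : j = 1 := by
    rcases Nat.lt_or_ge j 1 with hlt | hge
    · exact absurd (by rw [hje, show j = 0 by omega, pow_zero]) hne1
    · by_contra hne'
      have : p ^ 1 < p ^ j := Nat.pow_lt_pow_right hp.out.one_lt (by omega)
      rw [pow_one, ← hje] at this
      omega
  rw [← h1, inf_comm H A, Subgroup.inf_relIndex_right, hje, hj1, pow_one, mul_comm]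

end AbIndexP

/-- Commutators with `x` meet the images of the centre trivially. -/
theorem eq_one_of_mem_img (hF : F.IsSaturated p) {A : Subgroup Ω} (h : AbIndexP p S A)
    {P : Subgroup Ω} (hP : F.IsEssential p P) {x : Ω} (hxS : x ∈ S) (hxP : x ∈ P) (hxA : x ∉ A)
    (hab : ∀ a ∈ P, ∀ b ∈ P, Commute a b) (hPAZ : P ⊓ A = centralizerIn S S)
    {α : MulAut P} (hα : α ∈ F.autGroup P) {z₀ : Ω} (hz₀ : z₀ ∈ centralizerIn S S)
    (hαz₀ : autFun α z₀ ∉ centralizerIn S S) :
    ∀ k ∈ h.sec x hxS, ⁅k, x⁆ ∈ img (autFun α) (centralizerIn S S) → ⁅k, x⁆ = 1 := by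
  have hS := h.pgroup
  have hPS : P ≤ S := hP.1.1
  have := finite_of_le hPS
  have := finite_mulAut P
  set Zs := centralizerIn S S with hZs
  set K := h.sec x hxS with hK
  have hKA : K ≤ A := fun a ha => ha.1
  have hZP : Zs ≤ P := hPAZ ▸ inf_le_left
  have hZfix : ∀ k ∈ S, ∀ z ∈ Zs, k * z * k⁻¹ = z := fun k hk z hz => by
    rw [(mem_centralizerIn.mp hz).2 k hk, mul_inv_cancel_right]
  have hstab : ∀ k ∈ K, ∀ y ∈ P, y⁻¹ * (k * y * k⁻¹) ∈ Zs := by
    intro k hk y hy
    rw [show y⁻¹ * (k * y * k⁻¹) = y⁻¹ * (⁅k, y⁆ * y) by simp only [commutatorElement_def]; group,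
      ← (mem_centralizerIn.mp (h.sec_comm_all hxS hxA hk (hPS hy))).2 y (hPS hy), inv_mul_cancel_left]
    exact h.sec_comm_all hxS hxA hk (hPS hy)
  have hPdec : ∀ s ∈ P, ∀ T : Subgroup Ω, x ∈ T → P ⊓ A ≤ T → s ∈ T := by
    intro s hs T hxT hle
    obtain ⟨i, hi⟩ := h.dec hxS hxA (hPS hs)
    rw [show s = x ^ i * ((x ^ i)⁻¹ * s) by group]
    exact T.mul_mem (T.pow_mem hxT i) (hle ⟨P.mul_mem (P.inv_mem (P.pow_mem hxP i)) hs, hi⟩)
  have hαm := mapTo_of_mem_autGroup hPS hα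
  have := finite_of_le (hZP.trans hPS)
  set B := img (autFun α) Zs with hB
  have hBP : B ≤ P := img_le_of_forall fun z hz => autFun_mem α (hZP hz)
  set W := Zs ⊓ B with hW
  have hWP : W ≤ P := inf_le_right.trans hBP
  intro k hkK htB
  have htW : ⁅k, x⁆ ∈ W := ⟨hkK.2, htB⟩
  by_contra ht1
  have hkN : k ∈ normalizerIn S P := by
    refine mem_normalizerIn_of_forall hPS (h.le (hKA hkK)) fun y hy => ?_
    have := P.mul_mem hy (hZP (hstab k hkK y hy))
    rwa [mul_inv_cancel_left] at this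
  obtain ⟨γ, hγ⟩ := exists_conjAut hkN.2
  have hγA : γ ∈ autInducedBy S P := mem_autInducedBy_iff_cj.mpr ⟨k, hkN.1, hγ⟩
  have hγF : γ ∈ F.autGroup P := autInducedBy_le_autGroup hPS hγA
  set t := ⁅k, x⁆ with htdef
  have hfix : ∀ c ∈ autInducedBy S P, c ≠ 1 → ∀ y ∈ P, autFun c y = y → y ∈ Zs := by
    intro c hc hc1 y hy hfy
    obtain ⟨n, hn, hnc⟩ := mem_autInducedBy_iff_cj.mp hc
    obtain ⟨i, hi⟩ := h.dec hxS hxA hn
    set a := (x ^ i)⁻¹ * n with ha
    have hna : n = x ^ i * a := by rw [ha, mul_inv_cancel_left]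
    have hnP : ∀ z ∈ P, a * z * a⁻¹ ∈ P ∧ autFun c z = a * z * a⁻¹ := by
      intro z hz
      have h1 : a * z * a⁻¹ = (x ^ i)⁻¹ * autFun c z * x ^ i := by
        rw [hnc z hz, cj_apply, hna]; group
      rw [(hab _ (P.inv_mem (P.pow_mem hxP i)) _ (autFun_mem c hz)).eq, inv_mul_cancel_right] at h1
      exact ⟨h1 ▸ autFun_mem c hz, h1.symm⟩
    by_contra hyZ
    have hyA : y ∉ A := fun hyA => hyZ (hPAZ ▸ ⟨hy, hyA⟩)
    apply hc1
    refine autFun_ext fun z hz => ?_
    rw [autFun_one hz, (hnP z hz).2]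
    rw [(hnP y hy).2] at hfy
    have haZ : a ∈ Zs := h.mem_zs (hPS hy) hyA hi (mul_inv_eq_iff_eq_mul.mp hfy)
    rw [← (mem_centralizerIn.mp haZ).2 z (hPS hz), mul_inv_cancel_right]
  set s := α * γ * α⁻¹ with hsdef
  have hsF : s ∈ F.autGroup P :=
    Subgroup.mul_mem _ (Subgroup.mul_mem _ hα hγF) (Subgroup.inv_mem _ hα)
  set B₀ := Subgroup.closure ({γ, s} : Set (MulAut P))
  have hB₀F : B₀ ≤ F.autGroup P := (Subgroup.closure_le _).mpr (by
    rintro _ (rfl | rfl)
    · exact hγF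
    · exact hsF)
  have hγP : ∀ y ∈ P, y⁻¹ * autFun γ y ∈ Zs := fun y hy => by
    rw [hγ y hy]; exact hstab k hkK y hy
  have hγW : ∀ y ∈ P, y⁻¹ * autFun γ y ∈ W := fun y hy => by
    rw [hγ y hy, cj_apply]
    let T : Subgroup Ω :=
      { carrier := {y | y ∈ P ∧ y⁻¹ * (k * y * k⁻¹) ∈ W}
        one_mem' := ⟨P.one_mem, by simp⟩
        mul_mem' := by
          rintro y z ⟨hy, hy'⟩ ⟨hz, hz'⟩
          refine ⟨P.mul_mem hy hz, ?_⟩
          rw [show (y * z)⁻¹ * (k * (y * z) * k⁻¹) =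
            z⁻¹ * (y⁻¹ * (k * y * k⁻¹)) * (k * z * k⁻¹) by group,
            ← (hab _ (hWP hy') z⁻¹ (P.inv_mem hz)).eq, mul_assoc]
          exact W.mul_mem hy' hz'
        inv_mem' := by
          rintro y ⟨hy, hy'⟩
          refine ⟨P.inv_mem hy, ?_⟩
          rw [show y⁻¹⁻¹ * (k * y⁻¹ * k⁻¹) = y * (y⁻¹ * (k * y * k⁻¹))⁻¹ * y⁻¹ by group,
            (hab y hy _ (hWP (W.inv_mem hy'))).eq, mul_inv_cancel_right]
          exact W.inv_mem hy' }
    refine (hPdec y hy T ⟨hxP, ?_⟩ fun b hb => ⟨hb.1, ?_⟩).2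
    · rw [show x⁻¹ * (k * x * k⁻¹) = x⁻¹ * (t * x) by rw [htdef, commutatorElement_def]; group,
        (hab t (hWP htW) x hxP).eq, inv_mul_cancel_left]
      exact htW
    · rw [(h.comm k (hKA hkK) b hb.2).eq, mul_inv_cancel_right, inv_mul_cancel]
      exact W.one_mem
  have hγZ : ∀ z ∈ Zs, autFun γ z = z := fun z hz => by
    rw [hγ z (hZP hz)]; exact hZfix k hkN.1 z hz
  have hsP : ∀ y ∈ P, y⁻¹ * autFun s y ∈ B := by
    intro y hy
    obtain ⟨y', hy', rfl⟩ : ∃ y' ∈ P, autFun α y' = y :=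
      ⟨_, autFun_mem _ hy, autFun_autFun_inv _ hy⟩
    rw [hsdef, autFun_mul _ _ (autFun_mem _ hy'), autFun_inv_autFun _ hy', autFun_mul _ _ hy',
      ← hαm.map_inv hy', ← hαm.map_mul (P.inv_mem hy') (autFun_mem _ hy')]
    exact mem_img_of_mem (hγP y' hy')
  have hsB : ∀ b ∈ B, autFun s b = b := by
    intro b hb
    obtain ⟨z, hz, rfl⟩ := (hαm.mem_img_iff hZP).mp hb
    rw [hsdef, autFun_mul _ _ (autFun_mem _ (hZP hz)), autFun_inv_autFun _ (hZP hz),
      autFun_mul _ _ (hZP hz), hγZ z hz]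
  have hp0 : IsPGroup p B₀ := by
    refine isPGroup_stabilizer_series (hS.to_le hPS) (n := 3) ![⊥, W, B, P] rfl rfl ?_ B₀ ?_
    · intro i; fin_cases i
      · exact bot_le
      · exact hWP
      · exact hBP
      · exact le_rfl
    · intro φ hφ
      suffices hh : (∀ w ∈ W, autFun φ w = w) ∧ (∀ b ∈ B, b⁻¹ * autFun φ b ∈ W) ∧
          ∀ y ∈ P, y⁻¹ * autFun φ y ∈ B by
        intro i y hy
        fin_cases i
        · change y ∈ W at hy
          show y⁻¹ * autFun φ y ∈ (⊥ : Subgroup Ω)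
          rw [hh.1 y hy, inv_mul_cancel]; exact Subgroup.one_mem _
        · exact hh.2.1 y hy
        · exact hh.2.2 y hy
      induction hφ using Subgroup.closure_induction with
      | mem φ hφ =>
        rcases hφ with rfl | rfl
        · exact ⟨fun w hw => hγZ w hw.1, fun b hb => hγW b (hBP hb),
            fun y hy => (hγW y hy).2⟩
        · exact ⟨fun w hw => hsB w hw.2, fun b hb => by
            rw [hsB b hb, inv_mul_cancel]; exact W.one_mem, hsP⟩
      | one => exact ⟨fun w hw => autFun_one (hWP hw), fun b hb => by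
          rw [autFun_one (hBP hb), inv_mul_cancel]; exact W.one_mem, fun y hy => by
          rw [autFun_one hy, inv_mul_cancel]; exact B.one_mem⟩
      | mul a b _ _ ha hb =>
        refine ⟨fun w hw => by rw [autFun_mul _ _ (hWP hw), hb.1 w hw, ha.1 w hw],
          fun c hc => ?_, fun y hy => ?_⟩
        · rw [autFun_mul _ _ (hBP hc), show c⁻¹ * autFun a (autFun b c) =
            (c⁻¹ * autFun b c) * ((autFun b c)⁻¹ * autFun a (autFun b c)) by group]
          have hbc : autFun b c ∈ B := by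
            have := B.mul_mem hc ((inf_le_right : W ≤ B) (hb.2.1 c hc))
            rwa [mul_inv_cancel_left] at this
          exact W.mul_mem (hb.2.1 c hc) (ha.2.1 _ hbc)
        · rw [autFun_mul _ _ hy, show y⁻¹ * autFun a (autFun b y) =
            (y⁻¹ * autFun b y) * ((autFun b y)⁻¹ * autFun a (autFun b y)) by group]
          exact B.mul_mem (hb.2.2 y hy) (ha.2.2 _ (autFun_mem _ hy))
      | inv a _ ha =>
        refine ⟨fun w hw => ?_, fun c hc => ?_, fun y hy => ?_⟩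
        · conv_lhs => rw [← ha.1 w hw, autFun_inv_autFun _ (hWP hw)]
        · have hc' : autFun a⁻¹ c ∈ B := by
            have h1 := ha.2.2 _ (autFun_mem a⁻¹ (hBP hc))
            rw [autFun_autFun_inv a (hBP hc)] at h1
            have := B.mul_mem hc (B.inv_mem h1)
            rwa [mul_inv_rev, inv_inv, mul_inv_cancel_left] at this
          have := W.inv_mem (ha.2.1 _ hc')
          rwa [autFun_autFun_inv a (hBP hc), mul_inv_rev, inv_inv] at this
        · have := B.inv_mem (ha.2.2 _ (autFun_mem a⁻¹ hy))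
          rwa [autFun_autFun_inv a hy, mul_inv_rev, inv_inv] at this
  obtain ⟨δ, hδ, hδB⟩ := exists_conj_le_autInducedBy
    (isFullyAutomized_of_isFullyNormalized hS hF hP.2.1) hB₀F hp0
  have hγ1 : γ ≠ 1 := fun he => ht1 (by
    have h1 := hγ x hxP
    rw [he, autFun_one hxP, cj_apply] at h1
    rw [htdef, commutatorElement_def, ← h1, mul_inv_cancel])
  have hkey : ∀ φ ∈ F.autGroup P, φ * γ * φ⁻¹ ∈ autInducedBy S P →
      ∀ z ∈ Zs, autFun φ z ∈ Zs := by
    intro φ _ hφc z hz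
    refine hfix _ hφc (fun he => hγ1 (conj_eq_one_iff.mp he)) _ (autFun_mem _ (hZP hz)) ?_
    rw [autFun_mul _ _ (autFun_mem _ (hZP hz)), autFun_inv_autFun _ (hZP hz),
      autFun_mul _ _ (hZP hz), hγZ z hz]
  have hd1 := hkey δ hδ (hδB γ (Subgroup.subset_closure (by simp)))
  have hd2 := hkey (δ * α) (Subgroup.mul_mem _ hδ hα) (by
    have := hδB s (Subgroup.subset_closure (by simp))
    rw [hsdef] at this
    convert this using 1
    group)
  have hδm := mapTo_of_mem_autGroup hPS hδ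
  have himg : img (autFun δ) Zs = Zs := img_eq_self_of_forall (hδm.restrict hZP) hd1
  obtain ⟨z₁, hz₁, hz₁e⟩ := (hδm.mem_img_iff hZP).mp
    (himg.ge (hd2 z₀ hz₀))
  rw [autFun_mul _ _ (hZP hz₀)] at hz₁e
  exact hαz₀ (hδm.inj (hZP hz₁) (autFun_mem _ (hZP hz₀)) hz₁e ▸ hz₁)

/-- Facts on an essential subgroup different from the abelian subgroup of index `p`. -/
theorem essential_data (hF : F.IsSaturated p) {A : Subgroup Ω} (h : AbIndexP p S A)
    (huniq : ∀ B : Subgroup Ω, B ≤ S → (∀ a ∈ B, ∀ b ∈ B, Commute a b) →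
      (B.subgroupOf S).index = p → B = A)
    {P : Subgroup Ω} (hP : F.IsEssential p P) (hPA : P ≠ A) :
    ∃ (x : Ω) (hx : x ∈ S), x ∉ A ∧ x ∈ P ∧
      ((P = centralizerIn S S ⊔ Subgroup.zpowers x) ∨ (P = h.sec x hx ⊔ Subgroup.zpowers x)) ∧
      Nat.card (normalizerIn S P) = p * Nat.card P ∧
      Nat.card (h.sec x hx) = p * Nat.card (centralizerIn S S) ∧ h.sec x hx ≠ A := by
  have hS := h.pgroup
  have hPS : P ≤ S := hP.1.1
  have hPne : P ≠ S := (ne_top_of_isEssential hS hF hP).ne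
  have hZP : centralizerIn S S ≤ P := le_trans
    (fun z hz => mem_centralizerIn.mpr ⟨(mem_centralizerIn.mp hz).1,
      fun y hy => (mem_centralizerIn.mp hz).2 y (hPS hy)⟩) (centralizerIn_le_of_isCentric hP.1)
  have hrad := isRadical_of_isEssential hS hP
  obtain ⟨x, hxP, hxA⟩ : ∃ x ∈ P, x ∉ A := by
    by_contra hno
    push Not at hno
    refine hPA (le_antisymm hno fun a ha => centralizerIn_le_of_isCentric hP.1
      (mem_centralizerIn.mpr ⟨h.le ha, fun y hy => (h.comm y (hno y hy) a ha).eq⟩))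
  have hxS := hPS hxP
  have := finite_of_le hPS
  have := finite_mulAut P
  set Zs := centralizerIn S S with hZs
  set PA := P ⊓ A with hPAdef
  set N := normalizerIn S P with hN
  set K := h.sec x hxS with hK
  have hKA : K ≤ A := fun a ha => ha.1
  have hZK : Zs ≤ K := fun z hz => ⟨h.zs_le hz, by
    rw [commutatorElement_eq_one_iff_mul_comm.mpr ((mem_centralizerIn.mp hz).2 x hxS).symm]
    exact Subgroup.one_mem _⟩
  have hPdec : ∀ s ∈ P, ∀ T : Subgroup Ω, x ∈ T → PA ≤ T → s ∈ T := by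
    intro s hs T hxT hle
    obtain ⟨i, hi⟩ := h.dec hxS hxA (hPS hs)
    rw [show s = x ^ i * ((x ^ i)⁻¹ * s) by group]
    exact T.mul_mem (T.pow_mem hxT i) (hle ⟨P.mul_mem (P.inv_mem (P.pow_mem hxP i)) hs, hi⟩)
  have hPeq : P = PA ⊔ Subgroup.zpowers x := le_antisymm
    (fun s hs => hPdec s hs _ (Subgroup.mem_sup_right (Subgroup.mem_zpowers x)) le_sup_left)
    (sup_le inf_le_left (Subgroup.zpowers_le.mpr hxP))
  have hcardP : Nat.card P = p * Nat.card PA := h.relIndex_eq hPS hxP hxA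
  have hxN : x ∈ N := le_normalizerIn hPS hxP
  have := finite_of_le (normalizerIn_le (S := S) (P := P))
  have hcardN : Nat.card N = p * Nat.card ↥(N ⊓ A) := h.relIndex_eq normalizerIn_le hxN hxA
  have hNA : ∀ a, a ∈ N ⊓ A ↔ a ∈ A ∧ ⁅a, x⁆ ∈ P := by
    intro a
    constructor
    · rintro ⟨haN, haA⟩
      refine ⟨haA, ?_⟩
      rw [commutatorElement_def]
      exact P.mul_mem (conj_mem_of_mem_normalizerIn haN hxP) (P.inv_mem hxP)
    · rintro ⟨haA, hax⟩
      refine ⟨mem_normalizerIn_of_forall hPS (h.le haA) fun y hy => ?_, haA⟩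
      have := hPdec y hy (P.comap (MulAut.conj a).toMonoidHom)
        (show a * x * a⁻¹ ∈ P by
          rw [show a * x * a⁻¹ = ⁅a, x⁆ * x by rw [commutatorElement_def]; group]
          exact P.mul_mem hax hxP)
        (fun b hb => show a * b * a⁻¹ ∈ P by
          rw [(h.comm a haA b hb.2).eq, mul_inv_cancel_right]; exact hb.1)
      exact this
  have hlt : P < N := lt_normalizerIn hS (lt_of_le_of_ne hPS hPne)
  have hPAlt : PA < N ⊓ A := lt_of_le_of_ne (inf_le_inf_right A hlt.le) fun he => by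
    apply hlt.ne
    refine Subgroup.eq_of_le_of_card_ge hlt.le ?_
    rw [hcardN, hcardP, he]
  have hfin : ∀ H : Subgroup Ω, H ≤ A → Finite H := fun H hH => finite_of_le (hH.trans h.le)
  have := hfin PA inf_le_right
  have := hfin (N ⊓ A) inf_le_right
  have := hfin K hKA
  have := hfin Zs h.zs_le
  have hZfix : ∀ k ∈ S, ∀ z ∈ Zs, k * z * k⁻¹ = z := fun k hk z hz => by
    rw [(mem_centralizerIn.mp hz).2 k hk, mul_inv_cancel_right]
  have hstab : ∀ k ∈ K, ∀ y ∈ P, y⁻¹ * (k * y * k⁻¹) ∈ Zs := by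
    intro k hk y hy
    rw [show y⁻¹ * (k * y * k⁻¹) = y⁻¹ * (⁅k, y⁆ * y) by simp only [commutatorElement_def]; group,
      ← (mem_centralizerIn.mp (h.sec_comm_all hxS hxA hk (hPS hy))).2 y (hPS hy), inv_mul_cancel_left]
    exact h.sec_comm_all hxS hxA hk (hPS hy)
  by_cases hab : ∀ a ∈ P, ∀ b ∈ P, Commute a b
  · -- `P` is abelian
    have hPAZ : PA = Zs := le_antisymm (fun a ha => h.mem_zs hxS hxA ha.2 (hab a ha.1 x hxP))
      (le_inf hZP h.zs_le)
    have hNK : N ⊓ A = K := by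
      ext a
      rw [hNA, hK, h.mem_sec]
      exact and_congr_right fun ha => ⟨fun hax => hPAZ.le ⟨hax, h.comm_mem hxS ha⟩, fun hax => hZP hax⟩
    have hKlt : Zs < K := by rw [← hPAZ, ← hNK]; exact hPAlt
    obtain ⟨α, hα, z₀, hz₀, hαz₀⟩ : ∃ α ∈ F.autGroup P, ∃ z ∈ Zs, autFun α z ∉ Zs := by
      by_contra hno
      push Not at hno
      obtain ⟨k, hkK, hkZ⟩ := SetLike.exists_of_lt hKlt
      have hkN : k ∈ N := (hNK.ge hkK).1
      refine hkZ (hPAZ ▸ ⟨?_, hKA hkK⟩ : k ∈ Zs)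
      refine mem_of_stabilizes_series hS hP.1 hrad hkN (n := 2) ![⊥, Zs, P] rfl rfl ?_ ?_ ?_
      · intro i; fin_cases i
        · exact bot_le
        · exact hZP
        · exact le_rfl
      · intro i α hα y hy
        fin_cases i
        · change y ∈ (⊥ : Subgroup Ω) at hy
          show autFun α y ∈ (⊥ : Subgroup Ω)
          rw [Subgroup.mem_bot] at hy ⊢
          rw [hy]; exact (mapTo_of_mem_autGroup hPS hα).map_one
        · exact hno α hα y hy
        · exact autFun_mem α hy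
      · intro i y hy
        fin_cases i
        · change y ∈ Zs at hy
          show y⁻¹ * (k * y * k⁻¹) ∈ (⊥ : Subgroup Ω)
          rw [hZfix k (h.le (hKA hkK)) y hy, inv_mul_cancel]; exact Subgroup.one_mem _
        · exact hstab k hkK y hy
    have hαm := mapTo_of_mem_autGroup hPS hα
    set B := img (autFun α) Zs with hB
    have hBP : B ≤ P := img_le_of_forall fun z hz => autFun_mem α (hZP hz)
    set W := Zs ⊓ B with hW
    have hWP : W ≤ P := inf_le_right.trans hBP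
    have hWlt : W < Zs := lt_of_le_of_ne inf_le_left fun he => hαz₀ (by
      have hZB : Zs ≤ B := he ▸ inf_le_right
      have := finite_of_le (hBP.trans hPS)
      have heq : Zs = B := Subgroup.eq_of_le_of_card_ge hZB (hαm.card_img hZP).le
      exact heq.ge (mem_img_of_mem hz₀))
    have hWindex : Nat.card Zs ≤ p * Nat.card W := by
      have := finite_of_le (hBP.trans hPS)
      let _ : CommGroup P := { (inferInstance : Group P) with
        mul_comm := fun a b => Subtype.ext (hab a a.2 b b.2).eq }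
      have hcB : Nat.card B = Nat.card Zs := hαm.card_img hZP
      have hr1 : Zs.relIndex B ≤ p := by
        have h1 := card_mul_relIndex hZP
        rw [hcardP, hPAZ, mul_comm p] at h1
        have hzp : Zs.relIndex P = p := Nat.eq_of_mul_eq_mul_left Nat.card_pos h1
        refine (Subgroup.relIndex_le_of_le_right hBP ?_).trans hzp.le
        rw [hzp]; exact hp.out.ne_zero
      have h2 := card_mul_relIndex (inf_le_right : W ≤ B)
      rw [Subgroup.inf_relIndex_right, hcB] at h2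
      rw [hW, ← h2, mul_comm p]
      exact Nat.mul_le_mul_left _ hr1
    -- commutators with `x` meet `W` trivially
    have hcap : ∀ k ∈ K, ⁅k, x⁆ ∈ W → ⁅k, x⁆ = 1 := fun k hk hkW =>
      eq_one_of_mem_img hF h hP hxS hxP hxA hab hPAZ hα hz₀ hαz₀ k hk hkW.2
    have hcardK : Nat.card K = p * Nat.card Zs := by
      have hc := h.card_tauImg hxS hxA hKA hZK
      have hτle : h.tauImg x hxS K ≤ Zs := fun y hy => by
        obtain ⟨a, -, haK, rfl⟩ := h.mem_tauImg.mp hy
        exact haK.2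
      have := finite_of_le (hτle.trans (hZP.trans hPS))
      have hinf : h.tauImg x hxS K ⊓ W = ⊥ := by
        rw [eq_bot_iff]
        rintro y ⟨hy, hyW⟩
        obtain ⟨a, -, haK, rfl⟩ := h.mem_tauImg.mp hy
        exact Subgroup.mem_bot.mpr (hcap a haK hyW)
      have hle : Nat.card (h.tauImg x hxS K) ≤ p := by
        have h1 := card_mul_relIndex (inf_le_left : h.tauImg x hxS K ⊓ W ≤ h.tauImg x hxS K)
        rw [inf_comm, Subgroup.inf_relIndex_right, inf_comm, hinf, Subgroup.card_bot, one_mul] at h1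
        rw [← h1]
        have hW0 : Finite W := finite_of_le (hWP.trans hPS)
        have h2 := card_mul_relIndex (inf_le_left : W ≤ Zs)
        have hWZ : W.relIndex Zs ≤ p :=
          Nat.le_of_mul_le_mul_left (h2.le.trans (hWindex.trans (mul_comm p _).le)) Nat.card_pos
        refine le_trans (Subgroup.relIndex_le_of_le_right hτle ?_) hWZ
        intro h0
        rw [h0, mul_zero] at h2
        exact Nat.card_pos.ne' h2.symm
      obtain ⟨e, he⟩ := IsPGroup.iff_card.mp (hS.to_le (hτle.trans (hZP.trans hPS)))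
      have he0 : e ≠ 0 := by
        intro h0
        rw [he, h0, pow_zero, one_mul] at hc
        exact hKlt.ne (Subgroup.eq_of_le_of_card_ge hZK hc.ge)
      have he1 : e ≤ 1 := by
        by_contra hne
        have : p ^ 1 < p ^ e := Nat.pow_lt_pow_right hp.out.one_lt (by omega)
        rw [pow_one, ← he] at this
        omega
      rw [← hc, he, show e = 1 by omega, pow_one]
    refine ⟨x, hxS, hxA, hxP, Or.inl ?_, ?_, hcardK, fun hKA' => hPA ?_⟩
    · rw [hPeq, hPAZ]
    · rw [hcardN, hNK, hcardK, hcardP, hPAZ]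
    · have hNS : N = S := le_antisymm normalizerIn_le fun y hy =>
        h.mem_of_dec hxS hxA N hxN hy fun b hb => by
          have hb' : b ∈ N ⊓ A := by rw [hNK]; exact hKA'.ge hb.1
          exact hb'.1
      refine huniq P hPS hab ?_
      have h1 := card_mul_relIndex hPS
      rw [show Nat.card S = p * Nat.card P by
        rw [← hNS, hcardN, hNK, hcardK, hcardP, hPAZ], mul_comm p] at h1
      exact Nat.eq_of_mul_eq_mul_left Nat.card_pos h1
  · -- `P` is nonabelian
    push Not at hab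
    have hPZcen : ∀ y ∈ P, (∀ z ∈ P, Commute y z) → y ∈ Zs := by
      intro y hy hc
      by_cases hyA : y ∈ A
      · exact h.mem_zs hxS hxA hyA (hc x hxP)
      · exfalso
        obtain ⟨a, ha, b, hb, hne⟩ := hab
        apply hne
        have hPAc : ∀ z ∈ PA, ∀ w ∈ P, Commute z w := by
          intro z hz w hw
          obtain ⟨i, hi⟩ := h.dec (hPS hy) hyA (hPS hw)
          have := ((hc z hz.1).symm.pow_right i).mul_right (h.comm z hz.2 _ hi)
          rwa [mul_inv_cancel_left] at this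
        obtain ⟨i, hi⟩ := h.dec (hPS hy) hyA (hPS ha)
        have h1 := ((hc b hb).pow_left i).mul_left
          (hPAc _ ⟨P.mul_mem (P.inv_mem (P.pow_mem hy i)) ha, hi⟩ b hb)
        rwa [mul_inv_cancel_left] at h1
    have hinvZ : ∀ α ∈ F.autGroup P, ∀ z ∈ Zs, autFun α z ∈ Zs := by
      intro α hα z hz
      refine hPZcen _ (autFun_mem α (hZP hz)) fun w hw => ?_
      have hαm := mapTo_of_mem_autGroup hPS hα
      obtain ⟨w', hw', rfl⟩ : ∃ w' ∈ P, autFun α w' = w :=
        ⟨_, autFun_mem _ hw, autFun_autFun_inv _ hw⟩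
      show _ * _ = _
      rw [← hαm.map_mul (hZP hz) hw', ← hαm.map_mul hw' (hZP hz),
        (mem_centralizerIn.mp hz).2 w' (hPS hw')]
    obtain ⟨α, hα, a₁, ha₁, hαa₁⟩ : ∃ α ∈ F.autGroup P, ∃ a ∈ PA, autFun α a ∉ PA := by
      by_contra hno
      push Not at hno
      obtain ⟨k, hk, hkPA⟩ := SetLike.exists_of_lt hPAlt
      refine hkPA ⟨?_, hk.2⟩
      refine mem_of_stabilizes_series hS hP.1 hrad hk.1 (n := 2) ![⊥, PA, P] rfl rfl ?_ ?_ ?_
      · intro i; fin_cases i
        · exact bot_le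
        · exact inf_le_left
        · exact le_rfl
      · intro i β hβ y hy
        fin_cases i
        · change y ∈ (⊥ : Subgroup Ω) at hy
          show autFun β y ∈ (⊥ : Subgroup Ω)
          rw [Subgroup.mem_bot] at hy ⊢
          rw [hy]; exact (mapTo_of_mem_autGroup hPS hβ).map_one
        · exact hno β hβ y hy
        · exact autFun_mem β hy
      · intro i y hy
        fin_cases i
        · change y ∈ PA at hy
          show y⁻¹ * (k * y * k⁻¹) ∈ (⊥ : Subgroup Ω)
          rw [(h.comm k hk.2 y hy.2).eq, mul_inv_cancel_right, inv_mul_cancel]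
          exact Subgroup.one_mem _
        · show y⁻¹ * (k * y * k⁻¹) ∈ PA
          refine ⟨P.mul_mem (P.inv_mem hy) (conj_mem_of_mem_normalizerIn hk.1 hy), ?_⟩
          rw [show y⁻¹ * (k * y * k⁻¹) = (y⁻¹ * k * y) * k⁻¹ by group]
          refine A.mul_mem ?_ (A.inv_mem hk.2)
          simpa using h.conj_mem (S.inv_mem (hPS hy)) hk.2
    have hαm := mapTo_of_mem_autGroup hPS hα
    set B := img (autFun α) PA with hB
    have hBP : B ≤ P := img_le_of_forall fun z hz => autFun_mem α hz.1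
    have := finite_of_le (hBP.trans hPS)
    have hBc : ∀ a ∈ B, ∀ b ∈ B, Commute a b := by
      intro a ha b hb
      obtain ⟨a', ha', rfl⟩ := (hαm.mem_img_iff inf_le_left).mp ha
      obtain ⟨b', hb', rfl⟩ := (hαm.mem_img_iff inf_le_left).mp hb
      show _ * _ = _
      rw [← hαm.map_mul ha'.1 hb'.1, ← hαm.map_mul hb'.1 ha'.1, (h.comm a' ha'.2 b' hb'.2).eq]
    obtain ⟨b₀, hb₀, hb₀A⟩ : ∃ b ∈ B, b ∉ A :=
      ⟨_, mem_img_of_mem ha₁, fun hA' => hαa₁ ⟨autFun_mem α ha₁.1, hA'⟩⟩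
    set W := PA ⊓ B with hW
    have hWZ : W ≤ Zs := fun w hw => h.mem_zs (hPS (hBP hb₀)) hb₀A hw.1.2 (hBc w hw.2 b₀ hb₀)
    have hcB : Nat.card B = Nat.card PA := hαm.card_img inf_le_left
    have hBind : PA.relIndex B ≤ p := by
      have h1 := card_mul_relIndex (inf_le_left : PA ≤ P)
      rw [hcardP, mul_comm p] at h1
      have hr : PA.relIndex P = p := Nat.eq_of_mul_eq_mul_left Nat.card_pos h1
      refine (Subgroup.relIndex_le_of_le_right hBP ?_).trans hr.le
      rw [hr]; exact hp.out.ne_zero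
    have hWle : Nat.card PA ≤ p * Nat.card W := by
      have h2 := card_mul_relIndex (inf_le_right : W ≤ B)
      rw [Subgroup.inf_relIndex_right, hcB] at h2
      rw [hW, ← h2, mul_comm p]
      exact Nat.mul_le_mul_left _ hBind
    have hPAne : Zs < PA := lt_of_le_of_ne (le_inf hZP h.zs_le) fun he => by
      obtain ⟨a, ha, b, hb, hne⟩ := hab
      apply hne
      have hPAc : ∀ z ∈ PA, ∀ w ∈ P, Commute z w := fun z hz w hw =>
        ((mem_centralizerIn.mp (he ▸ hz : z ∈ Zs)).2 w (hPS hw)).symm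
      obtain ⟨i, hi⟩ := h.dec hxS hxA (hPS ha)
      obtain ⟨j, hj⟩ := h.dec hxS hxA (hPS hb)
      have hai := hPAc _ ⟨P.mul_mem (P.inv_mem (P.pow_mem hxP i)) ha, hi⟩ b hb
      have hbj := hPAc _ ⟨P.mul_mem (P.inv_mem (P.pow_mem hxP j)) hb, hj⟩ (x ^ i) (P.pow_mem hxP i)
      have h2 : Commute (x ^ i) b := by
        have := (Commute.pow_pow_self x i j).mul_right hbj.symm
        rwa [mul_inv_cancel_left] at this
      have := h2.mul_left hai
      rwa [mul_inv_cancel_left] at this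
    have := finite_of_le ((inf_le_left : W ≤ PA).trans (inf_le_left.trans hPS))
    have hZcard : Nat.card PA = p * Nat.card Zs := by
      refine le_antisymm (hWle.trans (Nat.mul_le_mul_left p (Subgroup.card_le_of_le hWZ))) ?_
      have h1 := card_mul_relIndex hPAne.le
      obtain ⟨e, he⟩ := IsPGroup.iff_card.mp (hS.to_le (inf_le_left.trans hPS) : IsPGroup p PA)
      have hr : p ≤ Zs.relIndex PA := by
        have hd : Zs.relIndex PA ∣ Nat.card PA := Subgroup.index_dvd_card _ |>.trans (dvd_refl _)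
        obtain ⟨j, -, hj⟩ := (Nat.dvd_prime_pow hp.out).mp (he ▸ hd)
        rw [hj]
        refine Nat.le_self_pow (fun hj0 => hPAne.not_ge (Subgroup.relIndex_eq_one.mp ?_)) p
        rw [hj, hj0, pow_zero]
      rw [← h1, mul_comm p]
      exact Nat.mul_le_mul_left _ hr
    have hKP : K ≤ P := by
      intro k hk
      by_contra hkP
      refine hkP (mem_of_stabilizes_series hS hP.1 hrad ?_ (n := 2) ![⊥, Zs, P] rfl rfl ?_ ?_ ?_)
      · exact ((hNA k).mpr ⟨hk.1, hZP hk.2⟩).1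
      · intro i; fin_cases i
        · exact bot_le
        · exact hZP
        · exact le_rfl
      · intro i β hβ y hy
        fin_cases i
        · change y ∈ (⊥ : Subgroup Ω) at hy
          show autFun β y ∈ (⊥ : Subgroup Ω)
          rw [Subgroup.mem_bot] at hy ⊢
          rw [hy]; exact (mapTo_of_mem_autGroup hPS hβ).map_one
        · exact hinvZ β hβ y hy
        · exact autFun_mem β hy
      · intro i y hy
        fin_cases i
        · change y ∈ Zs at hy
          show y⁻¹ * (k * y * k⁻¹) ∈ (⊥ : Subgroup Ω)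
          rw [hZfix k (h.le hk.1) y hy, inv_mul_cancel]; exact Subgroup.one_mem _
        · exact hstab k hk y hy
    -- commutators of `P` are central
    have hPAK : PA ≤ K := by
      intro a ha
      refine ⟨ha.2, hWZ ⟨⟨?_, h.comm_mem hxS ha.2⟩, ?_⟩⟩
      · rw [commutatorElement_def]
        exact P.mul_mem (P.mul_mem (P.mul_mem ha.1 hxP) (P.inv_mem ha.1)) (P.inv_mem hxP)
      · have hidx : (B.subgroupOf P).index = p := by
          have h1 := card_mul_relIndex hBP
          rw [hcB, hcardP, mul_comm p] at h1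
          exact Nat.eq_of_mul_eq_mul_left Nat.card_pos h1
        obtain ⟨k, hk⟩ := IsPGroup.iff_card.mp (hS.to_le hPS)
        have hk0 : k ≠ 0 := fun h0 => by
          have := Subgroup.index_dvd_card (B.subgroupOf P)
          rw [hidx, hk, h0, pow_zero, Nat.dvd_one] at this
          exact hp.out.ne_one this
        have hBn : (B.subgroupOf P).Normal := Subgroup.normal_of_index_eq_minFac_card (by
          rw [hidx, hk, Nat.pow_minFac hk0, hp.out.minFac_eq])
        have : IsCyclic (P ⧸ B.subgroupOf P) := isCyclic_of_prime_card hidx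
        have hc : QuotientGroup.mk' (B.subgroupOf P) ⁅(⟨a, ha.1⟩ : P), ⟨x, hxP⟩⁆ = 1 := by
          rw [map_commutatorElement, commutatorElement_eq_one_iff_mul_comm]
          exact IsCyclic.commGroup.mul_comm _ _
        exact (QuotientGroup.eq_one_iff (N := B.subgroupOf P) _).mp hc
    have hKeq : K = PA := le_antisymm (le_inf hKP hKA) hPAK
    have hNcard : Nat.card ↥(N ⊓ A) = p * Nat.card PA := by
      have hc := h.card_tauImg hxS hxA (inf_le_right : N ⊓ A ≤ A) (hZK.trans (hKeq.le.trans hPAlt.le))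
      have hτle : h.tauImg x hxS (N ⊓ A) ≤ PA := fun y hy => by
        obtain ⟨a, -, haN, rfl⟩ := h.mem_tauImg.mp hy
        exact ⟨((hNA a).mp haN).2, h.comm_mem hxS haN.2⟩
      have := finite_of_le (hτle.trans (inf_le_left.trans hPS))
      have hcK := h.card_tauImg hxS hxA hKA hZK
      have hτK : Nat.card (h.tauImg x hxS K) = p := by
        refine Nat.eq_of_mul_eq_mul_right Nat.card_pos (hcK.trans ?_)
        rw [hKeq, hZcard]
      have hinf : Zs ⊓ h.tauImg x hxS (N ⊓ A) ≤ h.tauImg x hxS K := by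
        rintro y ⟨hyZ, hy⟩
        obtain ⟨a, haA, -, rfl⟩ := h.mem_tauImg.mp hy
        exact h.mem_tauImg.mpr ⟨a, haA, ⟨haA, hyZ⟩, rfl⟩
      have := finite_of_le ((h.tauImg_le (x := x) (hx := hxS) K).trans h.le)
      have hle : Nat.card (h.tauImg x hxS (N ⊓ A)) ≤ p * p := by
        have h1 := card_mul_relIndex (inf_le_right : Zs ⊓ h.tauImg x hxS (N ⊓ A) ≤ _)
        rw [Subgroup.inf_relIndex_right] at h1
        rw [← h1]
        refine Nat.mul_le_mul ((Subgroup.card_le_of_le hinf).trans hτK.le) ?_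
        have h2 := card_mul_relIndex hPAne.le
        rw [hZcard, mul_comm p] at h2
        have hr : Zs.relIndex PA = p := Nat.eq_of_mul_eq_mul_left Nat.card_pos h2
        refine (Subgroup.relIndex_le_of_le_right hτle ?_).trans hr.le
        rw [hr]; exact hp.out.ne_zero
      have hup : Nat.card ↥(N ⊓ A) ≤ p * Nat.card PA := by
        rw [← hc, hZcard, ← mul_assoc]
        exact Nat.mul_le_mul_right _ hle
      refine le_antisymm hup ?_
      have h3 := card_mul_relIndex hPAlt.le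
      obtain ⟨e, he⟩ := IsPGroup.iff_card.mp (hS.to_le (inf_le_left.trans normalizerIn_le) :
        IsPGroup p ↥(N ⊓ A))
      obtain ⟨j, -, hj⟩ := (Nat.dvd_prime_pow hp.out).mp
        (he ▸ (Subgroup.index_dvd_card _ : PA.relIndex (N ⊓ A) ∣ Nat.card ↥(N ⊓ A)))
      rw [← h3, mul_comm p]
      refine Nat.mul_le_mul_left _ ?_
      show p ≤ (PA.subgroupOf (N ⊓ A)).index
      rw [hj]
      refine Nat.le_self_pow (fun hj0 => hPAlt.not_ge (Subgroup.relIndex_eq_one.mp ?_)) p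
      show (PA.subgroupOf (N ⊓ A)).index = 1
      rw [hj, hj0, pow_zero]
    refine ⟨x, hxS, hxA, hxP, Or.inr ?_, ?_, ?_, fun hKA' => hPne ?_⟩
    · rw [hPeq]; exact congrArg (· ⊔ _) hKeq.symm
    · rw [hcardN, hNcard, hcardP]
    · show Nat.card K = _
      rw [hKeq, hZcard]
    · refine le_antisymm hPS fun s hs => h.mem_of_dec hxS hxA P hxP hs fun b hb => hKP ?_
      exact hKA'.ge hb.1

/-- A product formula for commuting subgroups. -/
theorem card_sup_mul_card_inf' {G : Type*} [Group G] {H K : Subgroup G}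
    (hc : K ≤ Subgroup.centralizer (H : Set G)) :
    Nat.card (H ⊔ K : Subgroup G) * Nat.card (H ⊓ K : Subgroup G) = Nat.card H * Nat.card K := by
  have hn : (H ⊔ K : Subgroup G) ≤ Subgroup.normalizer (H : Set G) :=
    sup_le Subgroup.le_normalizer (hc.trans (Subgroup.centralizer_le_normalizer _))
  have h1 := card_mul_relIndex (le_sup_left : H ≤ H ⊔ K)
  have h2 := card_mul_relIndex (inf_le_right : H ⊓ K ≤ K)
  rw [Subgroup.inf_relIndex_right] at h2
  have h3 : H.relIndex (H ⊔ K) = H.relIndex K := by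
    haveI : (H.subgroupOf (H ⊔ K)).Normal := Subgroup.normal_subgroupOf_of_le_normalizer hn
    have h4 := Subgroup.relIndex_sup_left (K.subgroupOf (H ⊔ K)) (H.subgroupOf (H ⊔ K))
    rw [← Subgroup.subgroupOf_sup le_sup_left le_sup_right, Subgroup.subgroupOf_self,
      Subgroup.relIndex_top_right, Subgroup.relIndex_subgroupOf le_sup_right] at h4
    exact h4
  rw [← h1, h3, ← h2]
  ring

namespace AbIndexP

variable {A : Subgroup Ω} (h : AbIndexP p S A)
include h

theorem ucs_two_eq_sec {x : Ω} (hx : x ∈ S) (hxA : x ∉ A) (hne : h.sec x hx ≠ A) :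
    (Subgroup.upperCentralSeries ↥S 2).map S.subtype = h.sec x hx := by
  have hmem : ∀ y : S, y ∈ Subgroup.upperCentralSeries ↥S 2 ↔
      ∀ s : S, ⁅(y : Ω), (s : Ω)⁆ ∈ centralizerIn S S := by
    intro y
    rw [Subgroup.mem_upperCentralSeries_succ_iff, Subgroup.upperCentralSeries_one]
    refine forall_congr' fun s => ?_
    rw [Subgroup.mem_center_iff, mem_centralizerIn]
    exact ⟨fun hc => ⟨(⁅y, s⁆ : S).2, fun t ht => congrArg Subtype.val (hc ⟨t, ht⟩)⟩,
      fun hc t => Subtype.ext (hc.2 t t.2)⟩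
  refine le_antisymm ?_ fun a ha => ?_
  · rintro _ ⟨y, hy, rfl⟩
    have hy' := (hmem y).mp hy
    by_cases hyA : (y : Ω) ∈ A
    · exact ⟨hyA, hy' ⟨x, hx⟩⟩
    · exfalso
      refine hne (le_antisymm (fun a ha => ha.1) fun a ha => ⟨ha, ?_⟩)
      refine h.sec_comm_all y.2 hyA ⟨ha, ?_⟩ hx
      have := Subgroup.inv_mem _ (hy' ⟨a, h.le ha⟩)
      rwa [commutatorElement_inv] at this
  · exact ⟨⟨a, h.le ha.1⟩, (hmem _).mpr fun s => h.sec_comm_all hx hxA ha s.2, rfl⟩

theorem conj_mem_tauImg {x : Ω} (hx : x ∈ S) (hxA : x ∉ A) {s y : Ω} (hs : s ∈ S)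
    (hy : y ∈ h.tauImg x hx A) : s * y * s⁻¹ ∈ h.tauImg x hx A := by
  obtain ⟨a, ha, -, rfl⟩ := h.mem_tauImg.mp hy
  let T : Subgroup Ω :=
    { carrier := {s | s ∈ S ∧ ∀ a ∈ A, s * ⁅a, x⁆ * s⁻¹ = ⁅s * a * s⁻¹, x⁆}
      one_mem' := ⟨S.one_mem, fun a _ => by simp⟩
      mul_mem' := by
        rintro s t ⟨hs, hs'⟩ ⟨ht, ht'⟩
        refine ⟨S.mul_mem hs ht, fun a ha => ?_⟩
        rw [show s * t * ⁅a, x⁆ * (s * t)⁻¹ = s * (t * ⁅a, x⁆ * t⁻¹) * s⁻¹ by group, ht' a ha,
          hs' _ (h.conj_mem ht ha)]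
        congr 1
        group
      inv_mem' := by
        rintro s ⟨hs, hs'⟩
        refine ⟨S.inv_mem hs, fun a ha => ?_⟩
        have h1 := hs' _ (h.conj_mem (S.inv_mem hs) ha)
        rw [show s * (s⁻¹ * a * s⁻¹⁻¹) * s⁻¹ = a by group] at h1
        rw [← h1]
        group }
  have hT := h.mem_of_dec hx hxA T ⟨hx, fun a _ => by simp only [commutatorElement_def]; group⟩ hs
    fun b hb => ⟨hb.2, fun a ha => by
      rw [(h.comm b hb.1 _ (h.comm_mem hx ha)).eq, mul_inv_cancel_right,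
        (h.comm b hb.1 a ha).eq, mul_inv_cancel_right]⟩
  exact h.mem_tauImg.mpr ⟨_, h.conj_mem hs ha, h.conj_mem hs ha, (hT.2 a ha).symm⟩

theorem commutator_eq_tauImg {x : Ω} (hx : x ∈ S) (hxA : x ∉ A) :
    ⁅S, S⁆ = h.tauImg x hx A := by
  set T := h.tauImg x hx A with hT
  refine le_antisymm ?_ ?_
  swap
  · rintro _ hy
    obtain ⟨a, ha, -, rfl⟩ := h.mem_tauImg.mp hy
    exact Subgroup.commutator_mem_commutator (h.le ha) hx
  let C : Ω → Subgroup Ω := fun u =>
    { carrier := {y | y ∈ S ∧ ⁅u, y⁆ ∈ T}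
      one_mem' := ⟨S.one_mem, by rw [commutatorElement_one_right]; exact T.one_mem⟩
      mul_mem' := by
        rintro y z ⟨hy, hy'⟩ ⟨hz, hz'⟩
        refine ⟨S.mul_mem hy hz, ?_⟩
        rw [show ⁅u, y * z⁆ = ⁅u, y⁆ * (y * ⁅u, z⁆ * y⁻¹) by simp only [commutatorElement_def]; group]
        exact T.mul_mem hy' (h.conj_mem_tauImg hx hxA hy hz')
      inv_mem' := by
        rintro y ⟨hy, hy'⟩
        refine ⟨S.inv_mem hy, ?_⟩
        have := h.conj_mem_tauImg hx hxA (S.inv_mem hy) (T.inv_mem hy')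
        convert this using 1
        simp only [commutatorElement_def]; group }
  have hax : ∀ a ∈ A, ⁅a, x⁆ ∈ T := fun a ha => h.mem_tauImg.mpr ⟨a, ha, ha, rfl⟩
  rw [Subgroup.commutator_le]
  intro u hu v hv
  refine (h.mem_of_dec hx hxA (C u) ⟨hx, ?_⟩ hv fun b hb => ⟨hb.2, ?_⟩).2
  · have := (h.mem_of_dec hx hxA (C x) ⟨hx, by rw [commutatorElement_self]; exact T.one_mem⟩ hu
      fun b hb => ⟨hb.2, by rw [← commutatorElement_inv]; exact T.inv_mem (hax b hb.1)⟩).2
    rw [← commutatorElement_inv]; exact T.inv_mem this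
  · have := (h.mem_of_dec hx hxA (C b) ⟨hx, hax b hb.1⟩ hu fun c hc => ⟨hc.2, by
      rw [commutatorElement_eq_one_iff_mul_comm.mpr (h.comm b hb.1 c hc.1).eq]
      exact T.one_mem⟩).2
    rw [← commutatorElement_inv]; exact T.inv_mem this

theorem tauImg_sup_centralizerIn {x : Ω} (hx : x ∈ S) {H : Subgroup Ω} (hH : H ≤ A) :
    h.tauImg x hx (centralizerIn S S ⊔ H) = h.tauImg x hx H := by
  rw [tauImg, tauImg, Subgroup.subgroupOf_sup h.zs_le hH, Subgroup.map_sup]
  refine sup_eq_right.mpr ?_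
  rintro _ ⟨a, ha, rfl⟩
  have e : h.tau x hx a = 1 := commutatorElement_eq_one_iff_mul_comm.mpr
    ((mem_centralizerIn.mp (show (a : Ω) ∈ centralizerIn S S from ha)).2 x hx).symm
  rw [e]
  exact Subgroup.one_mem _

/-- Iterated commutators of `A` with `x`. -/
theorem card_le_pow_mul_card {x : Ω} (hx : x ∈ S) (hxA : x ∉ A)
    (hK : Nat.card (h.sec x hx) = p * Nat.card (centralizerIn S S)) (j : ℕ) :
    ∃ V, V ≤ A ∧ V ≤ Subgroup.lowerCentralSeries S j ∧
      Nat.card A ≤ p ^ j * Nat.card (centralizerIn S S ⊔ V : Subgroup Ω) := by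
  induction j with
  | zero =>
    refine ⟨A, le_rfl, h.le, ?_⟩
    rw [pow_zero, one_mul, sup_eq_right.mpr h.zs_le]
  | succ j ih =>
    obtain ⟨V, hVA, hVL, hV⟩ := ih
    refine ⟨h.tauImg x hx V, h.tauImg_le _, ?_, hV.trans ?_⟩
    · rintro _ hy
      obtain ⟨a, -, ha, rfl⟩ := h.mem_tauImg.mp hy
      exact Subgroup.commutator_mem_commutator (hVL ha) hx
    rw [pow_succ, mul_assoc]
    refine Nat.mul_le_mul_left _ ?_
    have hUA : centralizerIn S S ⊔ V ≤ A := sup_le h.zs_le hVA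
    have h1 := h.card_tauImg hx hxA hUA le_sup_left
    rw [h.tauImg_sup_centralizerIn hx hVA] at h1
    set T := h.tauImg x hx V
    have hc := card_sup_mul_card_inf' (H := centralizerIn S S) (K := T) fun t ht =>
      Subgroup.mem_centralizer_iff.mpr fun z hz =>
        (h.comm z (h.zs_le hz) t (h.tauImg_le _ ht)).eq
    rw [← h1, mul_comm (Nat.card T), ← hc, mul_comm p]
    refine Nat.mul_le_mul_left _ ?_
    have hle : centralizerIn S S ⊓ T ≤ h.tauImg x hx (h.sec x hx) := by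
      rintro y ⟨hyZ, hy⟩
      obtain ⟨a, ha, -, rfl⟩ := h.mem_tauImg.mp hy
      exact h.mem_tauImg.mpr ⟨a, ha, ⟨ha, hyZ⟩, rfl⟩
    have := finite_of_le ((h.tauImg_le (x := x) (hx := hx) (h.sec x hx)).trans h.le)
    refine (Subgroup.card_le_of_le hle).trans (le_of_eq ?_)
    have hZsec : centralizerIn S S ≤ h.sec x hx := fun z hz => ⟨h.zs_le hz, by
      rw [commutatorElement_eq_one_iff_mul_comm.mpr ((mem_centralizerIn.mp hz).2 x hx).symm]
      exact Subgroup.one_mem _⟩
    have h2 := h.card_tauImg hx hxA (H := h.sec x hx) (fun a ha => ha.1) hZsec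
    have := finite_of_le (centralizerIn_le (S := S) (P := S))
    exact Nat.eq_of_mul_eq_mul_right Nat.card_pos (h2.trans hK)

theorem card_inf_commutator {x : Ω} (hx : x ∈ S) (hxA : x ∉ A)
    (hK : Nat.card (h.sec x hx) = p * Nat.card (centralizerIn S S)) :
    Nat.card ↥(centralizerIn S S ⊓ ⁅S, S⁆) = p := by
  have hZsec : centralizerIn S S ≤ h.sec x hx := fun z hz => ⟨h.zs_le hz, by
    rw [commutatorElement_eq_one_iff_mul_comm.mpr ((mem_centralizerIn.mp hz).2 x hx).symm]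
    exact Subgroup.one_mem _⟩
  have h2 := h.card_tauImg hx hxA (H := h.sec x hx) (fun a ha => ha.1) hZsec
  have := finite_of_le (centralizerIn_le (S := S) (P := S))
  rw [← Nat.eq_of_mul_eq_mul_right Nat.card_pos (h2.trans hK), h.commutator_eq_tauImg hx hxA]
  congr 2
  ext y
  constructor
  · rintro ⟨hyZ, hy⟩
    obtain ⟨a, ha, -, rfl⟩ := h.mem_tauImg.mp hy
    exact h.mem_tauImg.mpr ⟨a, ha, ⟨ha, hyZ⟩, rfl⟩
  · intro hy
    obtain ⟨a, ha, haK, rfl⟩ := h.mem_tauImg.mp hy
    exact ⟨haK.2, h.mem_tauImg.mpr ⟨a, ha, ha, rfl⟩⟩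

theorem relIndex_sup_commutator {x : Ω} (hx : x ∈ S) (hxA : x ∉ A)
    (hK : Nat.card (h.sec x hx) = p * Nat.card (centralizerIn S S)) :
    (centralizerIn S S ⊔ ⁅S, S⁆).relIndex A = p := by
  have h1 := h.card_inf_commutator hx hxA hK
  rw [h.commutator_eq_tauImg hx hxA] at h1 ⊢
  set T := h.tauImg x hx A
  have hc := card_sup_mul_card_inf' (H := centralizerIn S S) (K := T) fun t ht =>
    Subgroup.mem_centralizer_iff.mpr fun z hz =>
      (h.comm z (h.zs_le hz) t (h.tauImg_le _ ht)).eq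
  rw [h1, mul_comm (Nat.card (centralizerIn S S)),
    h.card_tauImg hx hxA le_rfl h.zs_le] at hc
  have h3 := card_mul_relIndex (sup_le h.zs_le (h.tauImg_le A) : centralizerIn S S ⊔ T ≤ A)
  have := finite_of_le ((sup_le h.zs_le (h.tauImg_le A) : centralizerIn S S ⊔ T ≤ A).trans h.le)
  rw [← hc] at h3
  exact Nat.eq_of_mul_eq_mul_left Nat.card_pos h3

end AbIndexP

end Cfsg.Agent.Fusion
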