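import Cfsg.Agent.Lib.Fusion.AbelianIndexP
import Cfsg.Agent.Lib.Fusion.CoreDecomp

/-!
The centre of `S` when `S` has an abelian subgroup of index `p` which is not essential and the
system has no normal subgroup.
-/

set_option autoImplicit false
set_option linter.unusedSectionVars false

namespace Cfsg.Agent.Fusion

open Cfsg.FusionSystem (centralizerIn normalizerIn)
open scoped commutatorElement

universe u

variable {Ω : Type u} [Group Ω] {S : Subgroup Ω} {F : FusionSystem S} [Finite S] {p : ℕ}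
  [hp : Fact p.Prime]

theorem card_mul_le_of_lt {G : Type*} [Group G] {H K : Subgroup G} [Finite K]
    (hK : IsPGroup p K) (hlt : H < K) : p * Nat.card H ≤ Nat.card K := by
  have h1 := card_mul_relIndex hlt.le
  obtain ⟨n, hn⟩ := IsPGroup.iff_card.mp hK
  obtain ⟨j, -, hj⟩ := (Nat.dvd_prime_pow hp.out).mp
    (hn ▸ (Subgroup.index_dvd_card _ : H.relIndex K ∣ Nat.card K))
  have hj0 : j ≠ 0 := fun h0 => hlt.not_ge (Subgroup.relIndex_eq_one.mp (by
    show (H.subgroupOf K).index = 1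
    rw [hj, h0, pow_zero]))
  rw [← h1, mul_comm p]
  refine Nat.mul_le_mul_left _ ?_
  show p ≤ (H.subgroupOf K).index
  rw [hj]
  exact Nat.le_self_pow hj0 p

/-- An abelian essential subgroup other than `A` splits the centre. -/
theorem abelian_essential_split (hF : F.IsSaturated p) {A : Subgroup Ω}
    (h : AbIndexP p S A) {P : Subgroup Ω} (hP : F.IsEssential p P) {x : Ω} (hxS : x ∈ S)
    (hxP : x ∈ P) (hxA : x ∉ A) (hab : ∀ a ∈ P, ∀ b ∈ P, Commute a b) {k₀ : Ω}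
    (hk₀ : k₀ ∈ h.sec x hxS) (hz₀1 : ⁅k₀, x⁆ ≠ 1) (hz₀p : ⁅k₀, x⁆ ^ p = 1) :
    ∃ W : Subgroup Ω, W ≤ centralizerIn S S ∧
      centralizerIn S S = W ⊔ Subgroup.zpowers ⁅k₀, x⁆ ∧ ⁅k₀, x⁆ ∉ W ∧
      (∀ β ∈ F.autGroup P, ∀ w ∈ W, autFun β w ∈ W) ∧
      ∃ δ ∈ F.autGroup (centralizerIn S S), (∀ w ∈ W, autFun δ w = w) ∧
        autFun δ ⁅k₀, x⁆ = (⁅k₀, x⁆)⁻¹ := by
  have hS := h.pgroup
  have hPS : P ≤ S := hP.1.1
  have := finite_of_le hPS
  have := finite_mulAut P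
  set Zs := centralizerIn S S with hZs
  set z₀ := ⁅k₀, x⁆ with hz₀def
  have hZP : Zs ≤ P := le_trans
    (fun z hz => mem_centralizerIn.mpr ⟨(mem_centralizerIn.mp hz).1,
      fun y hy => (mem_centralizerIn.mp hz).2 y (hPS hy)⟩) (centralizerIn_le_of_isCentric hP.1)
  have hPAZ : P ⊓ A = Zs := le_antisymm (fun a ha => h.mem_zs hxS hxA ha.2 (hab a ha.1 x hxP))
    (le_inf hZP h.zs_le)
  have := finite_of_le (hZP.trans hPS)
  have hz₀Z : z₀ ∈ Zs := hk₀.2
  have hk₀Z : k₀ ∉ Zs := fun hk => hz₀1 (commutatorElement_eq_one_iff_mul_comm.mpr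
    ((mem_centralizerIn.mp hk).2 x hxS).symm)
  have hk₀S : k₀ ∈ S := h.le hk₀.1
  have hzfix : ∀ z ∈ Zs, k₀ * z * k₀⁻¹ = z := fun z hz => by
    rw [(mem_centralizerIn.mp hz).2 k₀ hk₀S, mul_inv_cancel_right]
  have hxk : k₀ * x * k₀⁻¹ = z₀ * x := by rw [hz₀def, commutatorElement_def]; group
  -- the action of `k₀` on `P`
  have hconj : ∀ y ∈ P, ∃ i : ℕ, k₀ * y * k₀⁻¹ = y * z₀ ^ i := by
    intro y hy
    obtain ⟨i, hi⟩ := h.dec hxS hxA (hPS hy)
    set z := (x ^ i)⁻¹ * y with hz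
    have hzZ : z ∈ Zs := hPAZ ▸ ⟨P.mul_mem (P.inv_mem (P.pow_mem hxP i)) hy, hi⟩
    refine ⟨i, ?_⟩
    have hy' : y = x ^ i * z := by rw [hz, mul_inv_cancel_left]
    calc k₀ * y * k₀⁻¹ = (k₀ * x * k₀⁻¹) ^ i * (k₀ * z * k₀⁻¹) := by rw [hy', conj_pow]; group
      _ = (z₀ * x) ^ i * z := by rw [hxk, hzfix z hzZ]
      _ = z₀ ^ i * y := by
        rw [(hab z₀ (hZP hz₀Z) x hxP).mul_pow, mul_assoc, ← hy']
      _ = y * z₀ ^ i := ((hab y hy z₀ (hZP hz₀Z)).pow_right i).eq.symm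
  have hkN : k₀ ∈ normalizerIn S P := mem_normalizerIn_of_forall hPS hk₀S fun y hy => by
    obtain ⟨i, hi⟩ := hconj y hy
    rw [hi]; exact P.mul_mem hy (P.pow_mem (hZP hz₀Z) i)
  obtain ⟨γ, hγ⟩ := exists_conjAut hkN.2
  have hγF : γ ∈ F.autGroup P :=
    autInducedBy_le_autGroup hPS (mem_autInducedBy_iff_cj.mpr ⟨k₀, hk₀S, hγ⟩)
  have hγZ : ∀ z ∈ Zs, autFun γ z = z := fun z hz => by rw [hγ z (hZP hz)]; exact hzfix z hz
  have hgam : ∀ y ∈ P, ∃ i : ℕ, autFun γ y = y * z₀ ^ i ∧ (p ∣ i → y ∈ Zs) := by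
    intro y hy
    obtain ⟨i, hi⟩ := hconj y hy
    refine ⟨i, by rw [hγ y hy]; exact hi, fun ⟨q, hq⟩ => ?_⟩
    rw [hq, pow_mul, hz₀p, one_pow, mul_one] at hi
    by_contra hyZ
    have hyA : y ∉ A := fun hyA => hyZ (hPAZ ▸ ⟨hy, hyA⟩)
    exact hk₀Z (h.mem_zs (hPS hy) hyA hk₀.1 (mul_inv_eq_iff_eq_mul.mp hi))
  have hmove0 : ∃ α ∈ F.autGroup P, ∃ zm ∈ Zs, autFun α zm ∉ Zs := by
    by_contra hno
    push Not at hno
    refine hk₀Z (hPAZ ▸ ⟨?_, hk₀.1⟩ : k₀ ∈ Zs)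
    refine mem_of_stabilizes_series hS hP.1 (isRadical_of_isEssential hS hP) hkN (n := 2)
      ![⊥, Zs, P] rfl rfl ?_ ?_ ?_
    · intro i; fin_cases i
      · exact bot_le
      · exact hZP
      · exact le_rfl
    · intro i α hα y hy
      fin_cases i
      · change y ∈ (⊥ : Subgroup Ω) at hy
        show autFun α y ∈ (⊥ : Subgroup Ω)
        rw [Subgroup.mem_bot] at hy ⊢
        rw [hy]; exact (mapTo_of_mem_autGroup hPS hα).map_one
      · exact hno α hα y hy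
      · exact autFun_mem α hy
    · intro i y hy
      fin_cases i
      · change y ∈ Zs at hy
        show y⁻¹ * (k₀ * y * k₀⁻¹) ∈ (⊥ : Subgroup Ω)
        rw [hzfix y hy, inv_mul_cancel]; exact Subgroup.one_mem _
      · change y ∈ P at hy
        show y⁻¹ * (k₀ * y * k₀⁻¹) ∈ Zs
        obtain ⟨i, hi⟩ := hconj y hy
        rw [hi, inv_mul_cancel_left]; exact Subgroup.pow_mem _ hz₀Z i
  obtain ⟨α, hα, zm, hzm, hαzm⟩ := hmove0
  have hcap : ∀ β ∈ F.autGroup P, z₀ ∈ img (autFun β) Zs → img (autFun β) Zs = Zs := by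
    intro β hβ hin
    refine img_eq_self_of_forall ((mapTo_of_mem_autGroup hPS hβ).restrict hZP) fun z hz => ?_
    by_contra hbz
    exact hz₀1 (eq_one_of_mem_img hF h hP hxS hxP hxA hab hPAZ hβ hz hbz k₀ hk₀ hin)
  have hαm := mapTo_of_mem_autGroup hPS hα
  have hαi := mapTo_of_mem_autGroup hPS (Subgroup.inv_mem _ hα)
  set B := img (autFun α) Zs with hB
  have hBP : B ≤ P := img_le_of_forall fun z hz => autFun_mem α (hZP hz)
  have hBne : B ≠ Zs := fun he => hαzm (he.le (mem_img_of_mem hzm))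
  have hz₀B : z₀ ∉ B := fun hin => hBne (hcap α hα hin)
  set c := autFun α z₀ with hc
  have hcP : c ∈ P := autFun_mem α (hZP hz₀Z)
  have hcp : c ^ p = 1 := by rw [hc, ← hαm.map_pow (hZP hz₀Z), hz₀p, hαm.map_one]
  have hcZ : c ∉ Zs := by
    intro hcZ
    have h1 : z₀ ∈ img (autFun α⁻¹) Zs := by
      have := mem_img_of_mem (f := autFun α⁻¹) hcZ
      rwa [hc, autFun_inv_autFun α (hZP hz₀Z)] at this
    have h2 := hcap _ (Subgroup.inv_mem _ hα) h1
    obtain ⟨u, hu, hue⟩ := ((hαi.restrict hZP).mem_img_iff le_rfl).mp (h2.ge hzm)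
    apply hαzm
    rw [← hue, autFun_autFun_inv α (hZP hu)]
    exact hu
  set W := Zs ⊓ B with hW
  have hWP : W ≤ P := inf_le_right.trans hBP
  set s := α * γ * α⁻¹ with hs
  have hsF : s ∈ F.autGroup P :=
    Subgroup.mul_mem _ (Subgroup.mul_mem _ hα hγF) (Subgroup.inv_mem _ hα)
  have hsB : ∀ b ∈ B, autFun s b = b := by
    intro b hb
    obtain ⟨z, hz, rfl⟩ := (hαm.mem_img_iff hZP).mp hb
    rw [hs, autFun_mul _ _ (autFun_mem _ (hZP hz)), autFun_inv_autFun _ (hZP hz),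
      autFun_mul _ _ (hZP hz), hγZ z hz]
  obtain ⟨l, hl, hlp⟩ := hgam c hcP
  obtain ⟨m, hm, hmp⟩ := hgam _ (autFun_mem α⁻¹ (hZP hz₀Z))
  have hsz : autFun s z₀ = z₀ * c ^ m := by
    rw [hs, autFun_mul _ _ (hZP hz₀Z), autFun_mul _ _ (autFun_mem _ (hZP hz₀Z)), hm,
      hαm.map_mul (autFun_mem _ (hZP hz₀Z)) (P.pow_mem (hZP hz₀Z) m),
      autFun_autFun_inv α (hZP hz₀Z), hαm.map_pow (hZP hz₀Z), ← hc]
  have hl' : ¬ p ∣ l := fun hd => hcZ (hlp hd)
  have hm' : ¬ p ∣ m := fun hd => hz₀B (by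
    have := mem_img_of_mem (f := autFun α) (hmp hd)
    rwa [autFun_autFun_inv α (hZP hz₀Z)] at this)
  have hpowfix : ∀ (φ : MulAut P) (y : Ω), y ∈ P → autFun φ y = y → ∀ n : ℕ,
      autFun (φ ^ n) y = y := by
    intro φ y hy he n
    induction n with
    | zero => rw [pow_zero, autFun_one hy]
    | succ n ih => rw [autFun_pow_succ _ _ hy, he, ih]
  have hγpow : ∀ n : ℕ, autFun (γ ^ n) c = c * z₀ ^ (l * n) := by
    intro n
    induction n with
    | zero => rw [pow_zero, autFun_one hcP, mul_zero, pow_zero, mul_one]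
    | succ n ih =>
      rw [pow_succ', autFun_mul _ _ hcP, ih,
        (mapTo_of_mem_autGroup hPS hγF).map_mul hcP (P.pow_mem (hZP hz₀Z) _), hl,
        hγZ _ (Subgroup.pow_mem _ hz₀Z _), mul_assoc, ← pow_add, mul_add, mul_one, add_comm]
  have hspow : ∀ n : ℕ, autFun (s ^ n) z₀ = z₀ * c ^ (m * n) := by
    intro n
    induction n with
    | zero => rw [pow_zero, autFun_one (hZP hz₀Z), mul_zero, pow_zero, mul_one]
    | succ n ih =>
      rw [pow_succ', autFun_mul _ _ (hZP hz₀Z), ih,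
        (mapTo_of_mem_autGroup hPS hsF).map_mul (hZP hz₀Z) (P.pow_mem hcP _), hsz,
        hsB _ (Subgroup.pow_mem _ (mem_img_of_mem hz₀Z) _), mul_assoc, ← pow_add, mul_add,
        mul_one, add_comm]
  have key : ∀ a b : ℕ, ¬ p ∣ b → ∃ η ∈ F.autGroup P,
      (∀ w ∈ W, autFun η w = w) ∧ autFun η z₀ = z₀ ^ a * c ^ b := by
    intro a b hb
    obtain ⟨k, hk⟩ : ∃ k : ℕ, (m : ZMod p) * k = b := ⟨((b : ZMod p) * (m : ZMod p)⁻¹).val, by
      rw [ZMod.natCast_zmod_val, mul_comm (b : ZMod p), ← mul_assoc, mul_inv_cancel₀, one_mul]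
      rwa [Ne, ZMod.natCast_eq_zero_iff]⟩
    obtain ⟨j, hj⟩ : ∃ j : ℕ, 1 + (l : ZMod p) * j * b = a :=
      ⟨(((a : ZMod p) - 1) * ((l : ZMod p) * b)⁻¹).val, by
        rw [ZMod.natCast_zmod_val, mul_right_comm, mul_comm ((a : ZMod p) - 1), ← mul_assoc,
          mul_inv_cancel₀, one_mul]
        · ring
        · exact mul_ne_zero (by rwa [Ne, ZMod.natCast_eq_zero_iff])
            (by rwa [Ne, ZMod.natCast_eq_zero_iff])⟩
    have hγj := Subgroup.pow_mem _ hγF j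
    refine ⟨γ ^ j * s ^ k, Subgroup.mul_mem _ hγj (Subgroup.pow_mem _ hsF k), fun w hw => ?_, ?_⟩
    · rw [autFun_mul _ _ (hWP hw), hpowfix s w (hWP hw) (hsB w hw.2) k,
        hpowfix γ w (hWP hw) (hγZ w hw.1) j]
    · have hm := mapTo_of_mem_autGroup hPS hγj
      rw [autFun_mul _ _ (hZP hz₀Z), hspow, hm.map_mul (hZP hz₀Z) (P.pow_mem hcP _),
        hpowfix γ z₀ (hZP hz₀Z) (hγZ z₀ hz₀Z) j, hm.map_pow hcP, hγpow,
        (hab c hcP _ (P.pow_mem (hZP hz₀Z) (l * j))).mul_pow, ← pow_mul,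
        ((hab c hcP z₀ (hZP hz₀Z)).pow_pow (m * k) (l * j * (m * k))).eq, ← mul_assoc, ← pow_succ']
      congr 1
      · refine pow_eq_pow_iff_modEq.mpr ?_
        rw [orderOf_eq_prime hz₀p hz₀1, ← ZMod.natCast_eq_natCast_iff]
        push_cast
        linear_combination hj + ((l : ZMod p) * j) * hk
      · refine pow_eq_pow_iff_modEq.mpr ?_
        rw [orderOf_eq_prime hcp fun hc1 => hcZ (hc1 ▸ Subgroup.one_mem _),
          ← ZMod.natCast_eq_natCast_iff]
        push_cast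
        exact hk
  have hcardP : Nat.card P = p * Nat.card Zs := by
    rw [h.relIndex_eq hPS hxP hxA, hPAZ]
  -- every image of the centre contains `W`
  have hall : ∀ β ∈ F.autGroup P, ∀ w ∈ W, w ∈ img (autFun β) Zs := by
    intro β hβ w hw
    by_cases hst : img (autFun β) Zs = Zs
    · exact hst.ge hw.1
    set B' := img (autFun β) Zs with hB'
    have hB'P : B' ≤ P := img_le_of_forall fun z hz => autFun_mem β (hZP hz)
    have hlt : B' < B' ⊔ Subgroup.zpowers z₀ := lt_of_le_of_ne le_sup_left fun he =>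
      hst (hcap β hβ (he.ge (Subgroup.mem_sup_right (Subgroup.mem_zpowers z₀))))
    have hle : B' ⊔ Subgroup.zpowers z₀ ≤ P := sup_le hB'P (Subgroup.zpowers_le.mpr (hZP hz₀Z))
    have := finite_of_le (hle.trans hPS)
    have htop : B' ⊔ Subgroup.zpowers z₀ = P := Subgroup.eq_of_le_of_card_ge hle (by
      rw [hcardP, ← (mapTo_of_mem_autGroup hPS hβ).card_img hZP]
      exact card_mul_le_of_lt (hS.to_le (hle.trans hPS)) hlt)
    obtain ⟨b, hb, a, ha⟩ : ∃ b ∈ B', ∃ a : ℕ, c = b * z₀ ^ a := by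
      have hcm := htop.ge hcP
      have hn : Subgroup.zpowers z₀ ≤ Subgroup.normalizer (B' : Set Ω) := by
        refine Subgroup.zpowers_le.mpr (Subgroup.centralizer_le_normalizer _ ?_)
        exact Subgroup.mem_centralizer_iff.mpr fun y hy =>
          (hab y (hB'P hy) z₀ (hZP hz₀Z)).eq
      have hcm' : c ∈ ((B' ⊔ Subgroup.zpowers z₀ : Subgroup Ω) : Set Ω) := hcm
      rw [Subgroup.coe_mul_of_right_le_normalizer_left B' _ hn] at hcm'
      obtain ⟨b, hb, y, hy, he⟩ := hcm'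
      obtain ⟨a, rfl⟩ := ((isOfFinOrder_iff_pow_eq_one.mpr ⟨p, hp.out.pos, hz₀p⟩).mem_powers_iff_mem_zpowers.mpr hy :)
      exact ⟨b, hb, a, he.symm⟩
    obtain ⟨η, hη, hηW, hηz⟩ := key ((p - 1) * a) 1 (by
      rw [Nat.dvd_one]; exact hp.out.ne_one)
    have hηzB : autFun η z₀ ∈ B' := by
      rw [hηz, pow_one, ha, ← mul_assoc, ((hab z₀ (hZP hz₀Z) b (hB'P hb)).pow_left _).eq, mul_assoc,
        ← pow_add, show (p - 1) * a + a = p * a by
          rw [← Nat.succ_mul, Nat.succ_eq_add_one, Nat.sub_add_cancel hp.out.pos],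
        pow_mul, hz₀p, one_pow, mul_one]
      exact hb
    have hβm := mapTo_of_mem_autGroup hPS hβ
    obtain ⟨z, hz, hze⟩ := (hβm.mem_img_iff hZP).mp hηzB
    have hin : z₀ ∈ img (autFun (η⁻¹ * β)) Zs := by
      have := mem_img_of_mem (f := autFun (η⁻¹ * β)) hz
      rwa [autFun_mul _ _ (hZP hz), hze, autFun_inv_autFun η (hZP hz₀Z)] at this
    obtain ⟨y, hy, hye⟩ := (((mapTo_of_mem_autGroup hPS
      (Subgroup.mul_mem _ (Subgroup.inv_mem _ hη) hβ))).mem_img_iff hZP).mp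
        ((hcap _ (Subgroup.mul_mem _ (Subgroup.inv_mem _ hη) hβ) hin).ge hw.1)
    rw [autFun_mul _ _ (hZP hy)] at hye
    have h1 := congrArg (autFun η) hye
    rw [autFun_autFun_inv η (autFun_mem β (hZP hy)), hηW w hw] at h1
    exact h1 ▸ mem_img_of_mem hy
  have hinv : ∀ β ∈ F.autGroup P, ∀ w ∈ W, autFun β w ∈ W := by
    have key2 : ∀ β ∈ F.autGroup P, ∀ w ∈ W, autFun β w ∈ Zs := by
      intro β hβ w hw
      obtain ⟨z, hz, hze⟩ := ((mapTo_of_mem_autGroup hPS (Subgroup.inv_mem _ hβ)).mem_img_iff hZP).mp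
        (hall _ (Subgroup.inv_mem _ hβ) w hw)
      rw [← hze, autFun_autFun_inv β (hZP hz)]
      exact hz
    intro β hβ w hw
    refine ⟨key2 β hβ w hw, ?_⟩
    have h1 := key2 _ (Subgroup.mul_mem _ (Subgroup.inv_mem _ hα) hβ) w hw
    rw [autFun_mul _ _ (hWP hw)] at h1
    have := mem_img_of_mem (f := autFun α) h1
    rwa [autFun_autFun_inv α (autFun_mem β (hWP hw))] at this
  have hz₀W : z₀ ∉ W := fun hin => hz₀B hin.2
  have hsplit : Zs = W ⊔ Subgroup.zpowers z₀ := by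
    have hle : W ⊔ Subgroup.zpowers z₀ ≤ Zs := sup_le inf_le_left (Subgroup.zpowers_le.mpr hz₀Z)
    have := finite_of_le (hle.trans (hZP.trans hPS))
    refine (Subgroup.eq_of_le_of_card_ge hle ?_).symm
    have hlt : W < W ⊔ Subgroup.zpowers z₀ := lt_of_le_of_ne le_sup_left fun he =>
      hz₀W (he.ge (Subgroup.mem_sup_right (Subgroup.mem_zpowers z₀)))
    refine le_trans ?_ (card_mul_le_of_lt (hS.to_le (hle.trans (hZP.trans hPS))) hlt)
    have hr : Zs.relIndex P = p := by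
      have h1 := card_mul_relIndex hZP
      rw [hcardP, mul_comm p] at h1
      exact Nat.eq_of_mul_eq_mul_left Nat.card_pos h1
    have h2 := card_mul_relIndex (inf_le_right : W ≤ B)
    rw [Subgroup.inf_relIndex_right, hαm.card_img hZP] at h2
    rw [← h2, mul_comm p]
    refine Nat.mul_le_mul_left _ ((Subgroup.relIndex_le_of_le_right hBP ?_).trans hr.le)
    rw [hr]; exact hp.out.ne_zero
  obtain ⟨η₁, hη₁, hη₁W, hη₁z⟩ := key 1 1 (by rw [Nat.dvd_one]; exact hp.out.ne_one)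
  obtain ⟨η₂, hη₂, hη₂W, hη₂z⟩ := key (p - 1) (p - 1) (fun hd => by
    have := Nat.le_of_dvd (Nat.sub_pos_of_lt hp.out.one_lt) hd
    have := hp.out.pos
    omega)
  set δ₀ := η₂⁻¹ * η₁
  have hδ₀F : δ₀ ∈ F.autGroup P := Subgroup.mul_mem _ (Subgroup.inv_mem _ hη₂) hη₁
  have hδ₀W : ∀ w ∈ W, autFun δ₀ w = w := fun w hw => by
    rw [autFun_mul _ _ (hWP hw), hη₁W w hw]
    conv_lhs => rw [← hη₂W w hw, autFun_inv_autFun η₂ (hWP hw)]
  have hδ₀z : autFun δ₀ z₀ = z₀⁻¹ := by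
    rw [autFun_mul _ _ (hZP hz₀Z)]
    have h2 : autFun η₂ z₀⁻¹ = autFun η₁ z₀ := by
      rw [(mapTo_of_mem_autGroup hPS hη₂).map_inv (hZP hz₀Z), hη₂z, hη₁z, pow_one, pow_one]
      have e : ∀ u : Ω, u ^ p = 1 → u ^ (p - 1) = u⁻¹ := fun u hu =>
        eq_inv_of_mul_eq_one_left (by rw [← pow_succ, Nat.sub_add_cancel hp.out.pos, hu])
      rw [e z₀ hz₀p, e c hcp, mul_inv_rev, inv_inv, inv_inv, (hab c hcP z₀ (hZP hz₀Z)).eq]
    rw [← h2, autFun_inv_autFun η₂ (P.inv_mem (hZP hz₀Z))]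
  have hδm := (mapTo_of_mem_autGroup hPS hδ₀F).restrict hZP
  have hδimg : img (autFun δ₀) Zs = Zs := by
    refine img_eq_self_of_forall hδm fun z hz => ?_
    have hle : img (autFun δ₀) (W ⊔ Subgroup.zpowers z₀) ≤ Zs := by
      rw [hδm.img_sup inf_le_left (Subgroup.zpowers_le.mpr hz₀Z)]
      refine sup_le (img_le_of_forall fun w hw => (hδ₀W w hw).symm ▸ hw.1)
        (img_le_of_forall fun y hy => ?_)
      obtain ⟨i, rfl⟩ := ((isOfFinOrder_iff_pow_eq_one.mpr ⟨p, hp.out.pos, hz₀p⟩).mem_powers_iff_mem_zpowers.mpr hy :)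
      rw [hδm.map_pow hz₀Z, hδ₀z]
      exact Subgroup.pow_mem _ (Subgroup.inv_mem _ hz₀Z) i
    exact hle (mem_img_of_mem (hsplit.le hz))
  exact ⟨W, inf_le_left, hsplit, hz₀W, hinv, autOf hδm hδimg, autOf_mem hδm hδimg,
    fun w hw => (autFun_autOf hδm hδimg hw.1).trans (hδ₀W w hw),
    (autFun_autOf hδm hδimg hz₀Z).trans hδ₀z⟩

/-- Automorphisms of the centre are of order prime to `p`: two reflections with the same centre
have the same fixed points. -/
theorem le_of_reflections (hS : IsPGroup p S) (hF : F.IsSaturated p) {z₀ : Ω}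
    (hz₀ : z₀ ∈ centralizerIn S S) (hz₀p : z₀ ^ p = 1) {W₁ W₂ : Subgroup Ω}
    (hW₁ : W₁ ≤ centralizerIn S S) (hsplit : centralizerIn S S = W₁ ⊔ Subgroup.zpowers z₀)
    (hW₂ : W₂ ≤ centralizerIn S S) {δ₁ δ₂ : MulAut (centralizerIn S S)}
    (hδ₁ : δ₁ ∈ F.autGroup (centralizerIn S S)) (hδ₂ : δ₂ ∈ F.autGroup (centralizerIn S S))
    (h₁ : ∀ w ∈ W₁, autFun δ₁ w = w) (h₁z : autFun δ₁ z₀ = z₀⁻¹)
    (h₂ : ∀ w ∈ W₂, autFun δ₂ w = w) (h₂z : autFun δ₂ z₀ = z₀⁻¹) :
    ∀ w ∈ W₂, autFun δ₁ w = w := by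
  have hZS : (centralizerIn S S) ≤ S := centralizerIn_le
  have := finite_of_le hZS
  have := finite_mulAut (centralizerIn S S)
  have hN : normalizerIn S (centralizerIn S S) = S := le_antisymm normalizerIn_le fun s hs =>
    mem_normalizerIn_of_forall hZS hs fun z hz => by
      rw [(mem_centralizerIn.mp hz).2 s hs, mul_inv_cancel_right]; exact hz
  have hfn : F.IsFullyNormalized (centralizerIn S S) := ⟨hZS, fun Q _ => by
    rw [hN]; exact Subgroup.card_le_of_le normalizerIn_le⟩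
  have hbot : autInducedBy S (centralizerIn S S) = ⊥ := (Subgroup.eq_bot_iff_forall _).mpr fun γ hγ => by
    obtain ⟨s, hs, hsγ⟩ := mem_autInducedBy_iff_cj.mp hγ
    exact autFun_ext fun z hz => by
      rw [hsγ z hz, autFun_one hz, cj_apply, (mem_centralizerIn.mp hz).2 s hs, mul_inv_cancel_right]
  have hnd : ¬ p ∣ Nat.card (F.autGroup (centralizerIn S S)) := by
    have := ((isFullyAutomized_iff hS).mp (isFullyAutomized_of_isFullyNormalized hS hF hfn)).2
    rwa [hbot, Subgroup.relIndex_bot_left] at this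
  have hm₁ := mapTo_of_mem_autGroup hZS hδ₁
  have hm₂ := mapTo_of_mem_autGroup hZS hδ₂
  have hzc : ∀ y ∈ (centralizerIn S S), Commute z₀ y := fun y hy =>
    ((mem_centralizerIn.mp hz₀).2 y (hZS hy)).symm
  have hfin : IsOfFinOrder z₀ := isOfFinOrder_iff_pow_eq_one.mpr ⟨p, hp.out.pos, hz₀p⟩
  set c := δ₁ * δ₂ with hc
  have hcm := mapTo_of_mem_autGroup hZS (Subgroup.mul_mem _ hδ₁ hδ₂)
  have hcz : autFun c z₀ = z₀ := by
    rw [hc, autFun_mul _ _ hz₀, h₂z, hm₁.map_inv hz₀, h₁z, inv_inv]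
  have hmod : ∀ (δ : MulAut (centralizerIn S S)), MapTo F (centralizerIn S S) (autFun δ) → (∀ w ∈ W₁, w⁻¹ * autFun δ w ∈ Subgroup.zpowers z₀) →
      autFun δ z₀ ∈ Subgroup.zpowers z₀ → ∀ y ∈ (centralizerIn S S), y⁻¹ * autFun δ y ∈ Subgroup.zpowers z₀ := by
    intro δ hδ hw hz y hy
    let T : Subgroup Ω :=
      { carrier := {y | y ∈ (centralizerIn S S) ∧ y⁻¹ * autFun δ y ∈ Subgroup.zpowers z₀}
        one_mem' := ⟨(centralizerIn S S).one_mem, by rw [hδ.map_one, inv_mul_cancel]; exact Subgroup.one_mem _⟩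
        mul_mem' := by
          rintro a b ⟨ha, ha'⟩ ⟨hb, hb'⟩
          refine ⟨(centralizerIn S S).mul_mem ha hb, ?_⟩
          obtain ⟨i, hi⟩ := Subgroup.mem_zpowers_iff.mp ha'
          rw [hδ.map_mul ha hb, show (a * b)⁻¹ * (autFun δ a * autFun δ b) =
            b⁻¹ * (a⁻¹ * autFun δ a) * autFun δ b by group, ← hi,
            ← ((hzc _ ((centralizerIn S S).inv_mem hb)).zpow_left i).eq, mul_assoc]
          exact Subgroup.mul_mem _ (Subgroup.zpow_mem _ (Subgroup.mem_zpowers z₀) i) hb'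
        inv_mem' := by
          rintro a ⟨ha, ha'⟩
          refine ⟨(centralizerIn S S).inv_mem ha, ?_⟩
          obtain ⟨i, hi⟩ := Subgroup.mem_zpowers_iff.mp ha'
          have h1 : (autFun δ a)⁻¹ * a ∈ Subgroup.zpowers z₀ := by
            have := Subgroup.inv_mem _ ha'
            rwa [mul_inv_rev, inv_inv] at this
          rw [hδ.map_inv ha, show a⁻¹⁻¹ * (autFun δ a)⁻¹ = a * ((autFun δ a)⁻¹ * a) * a⁻¹ by group]
          obtain ⟨j, hj⟩ := Subgroup.mem_zpowers_iff.mp h1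
          rw [← hj, ← ((hzc a ha).zpow_left j).eq, mul_inv_cancel_right]
          exact Subgroup.zpow_mem _ (Subgroup.mem_zpowers z₀) j }
    refine ((sup_le (fun w hw' => ⟨hW₁ hw', hw w hw'⟩) (Subgroup.zpowers_le.mpr ⟨hz₀,
      Subgroup.mul_mem _ (Subgroup.inv_mem _ (Subgroup.mem_zpowers z₀)) hz⟩) :
        W₁ ⊔ Subgroup.zpowers z₀ ≤ T) (hsplit.le hy)).2
  have hmod₁ : ∀ y ∈ (centralizerIn S S), y⁻¹ * autFun δ₁ y ∈ Subgroup.zpowers z₀ := hmod δ₁ hm₁
    (fun w hw => by rw [h₁ w hw, inv_mul_cancel]; exact Subgroup.one_mem _)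
    (h₁z ▸ Subgroup.inv_mem _ (Subgroup.mem_zpowers z₀))
  have hcy : ∀ w ∈ W₂, w⁻¹ * autFun c w ∈ Subgroup.zpowers z₀ := fun w hw => by
    rw [hc, autFun_mul _ _ (hW₂ hw), h₂ w hw]
    exact hmod₁ w (hW₂ hw)
  -- `δ₁ δ₂` fixes `W₂` modulo `z₀` and `z₀`
  intro w hw
  obtain ⟨i, hi⟩ := (hfin.mem_powers_iff_mem_zpowers.mpr (hcy w hw) :)
  have hit : ∀ n : ℕ, autFun (c ^ n) w = w * (z₀ ^ i) ^ n := by
    intro n
    induction n with
    | zero => rw [pow_zero, pow_zero, mul_one, autFun_one (hW₂ hw)]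
    | succ n ih =>
      have e : autFun c w = w * z₀ ^ i := by
        rw [show z₀ ^ i = w⁻¹ * autFun c w from hi, mul_inv_cancel_left]
      rw [pow_succ', autFun_mul _ _ (hW₂ hw), ih,
        hcm.map_mul (hW₂ hw) ((centralizerIn S S).pow_mem ((centralizerIn S S).pow_mem hz₀ i) n), e,
        hcm.map_pow ((centralizerIn S S).pow_mem hz₀ i), hcm.map_pow hz₀, hcz, mul_assoc, ← pow_succ']
  have hzi : (z₀ ^ i) ^ orderOf c = 1 := by
    have h0 := hit (orderOf c)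
    rw [pow_orderOf_eq_one, autFun_one (hW₂ hw)] at h0
    exact left_eq_mul.mp h0
  have hd : orderOf (z₀ ^ i) = 1 := Nat.eq_one_of_dvd_coprimes (k := orderOf (z₀ ^ i))
    (a := p) (b := orderOf c) (hp.out.coprime_iff_not_dvd.mpr fun hpc => hnd (hpc.trans (by
      rw [← Subgroup.orderOf_mk c (Subgroup.mul_mem _ hδ₁ hδ₂)]
      exact orderOf_dvd_natCard _)))
    (orderOf_dvd_of_pow_eq_one (by rw [← pow_mul, mul_comm, pow_mul, hz₀p, one_pow]))
    (orderOf_dvd_of_pow_eq_one hzi)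
  rw [orderOf_eq_one_iff] at hd
  have hcw := hit 1
  rw [pow_one, pow_one, hd, mul_one, hc, autFun_mul _ _ (hW₂ hw), h₂ w hw] at hcw
  exact hcw

/-- The conclusions on `S` when `A` is not essential and the core is trivial. -/
theorem abelianIndexP_core (hF : F.IsSaturated p) (hp2 : p ≠ 2) {A : Subgroup Ω}
    (h : AbIndexP p S A)
    (huniq : ∀ B : Subgroup Ω, B ≤ S → (∀ a ∈ B, ∀ b ∈ B, Commute a b) →
      (B.subgroupOf S).index = p → B = A)
    (hcore : F.core = ⊥) (hAe : ¬ F.IsEssential p A) :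
    (∃ x ∈ S, x ∉ A ∧ F.IsEssential p (centralizerIn S S ⊔ Subgroup.zpowers x)) ∧
      centralizerIn S S ≤ ⁅S, S⁆ ∧ Nat.card (centralizerIn S S) = p ∧
      ∃ (x : Ω) (hx : x ∈ S), x ∉ A ∧ Nat.card (h.sec x hx) = p * Nat.card (centralizerIn S S) := by
  have hS := h.pgroup
  set Zs := centralizerIn S S with hZs
  have hZS : Zs ≤ S := centralizerIn_le
  have := finite_of_le hZS
  have hnot : ∀ W : Subgroup Ω, F.IsNormal W → W = ⊥ := fun W hW => by
    refine le_bot_iff.mp ?_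
    rw [← hcore]; exact le_core hW
  have hZP : ∀ P : Subgroup Ω, P = S ∨ F.IsEssential p P → Zs ≤ P := by
    rintro P (rfl | hP)
    · exact hZS
    · exact le_trans (fun z hz => mem_centralizerIn.mpr ⟨(mem_centralizerIn.mp hz).1,
        fun y hy => (mem_centralizerIn.mp hz).2 y (hP.1.1 hy)⟩) (centralizerIn_le_of_isCentric hP.1)
  -- invariance of the centre off the abelian essential subgroups
  have hinv : ∀ P : Subgroup Ω, P = S ∨ F.IsEssential p P → ¬ (∀ a ∈ P, ∀ b ∈ P, Commute a b) →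
      ∀ α ∈ F.autGroup P, ∀ z ∈ Zs, autFun α z ∈ Zs := by
    intro P hP hnab α hα z hz
    have hPS : P ≤ S := by
      rcases hP with rfl | hP
      · exact le_rfl
      · exact hP.1.1
    have hαm := mapTo_of_mem_autGroup hPS hα
    have hy := autFun_mem α (hZP P hP hz)
    set y := autFun α z
    have hyc : ∀ w ∈ P, Commute y w := fun w hw => by
      obtain ⟨w', hw', rfl⟩ : ∃ w' ∈ P, autFun α w' = w :=
        ⟨_, autFun_mem _ hw, autFun_autFun_inv _ hw⟩
      show _ * _ = _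
      rw [← hαm.map_mul (hZP P hP hz) hw', ← hαm.map_mul hw' (hZP P hP hz),
        (mem_centralizerIn.mp hz).2 w' (hPS hw')]
    by_cases hyA : y ∈ A
    · obtain ⟨x, hxP, hxA⟩ : ∃ x ∈ P, x ∉ A := by
        by_contra hno
        push Not at hno
        exact hnab fun a ha b hb => h.comm a (hno a ha) b (hno b hb)
      exact h.mem_zs (hPS hxP) hxA hyA (hyc x hxP)
    · exfalso
      have hA' : ∀ a ∈ P, a ∈ A → ∀ b ∈ P, Commute a b := fun a ha haA b hb => by
        obtain ⟨i, hi⟩ := h.dec (hPS hy) hyA (hPS hb)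
        have := ((hyc a ha).symm.pow_right i).mul_right (h.comm a haA _ hi)
        rwa [mul_inv_cancel_left] at this
      refine hnab fun a ha b hb => ?_
      obtain ⟨i, hi⟩ := h.dec (hPS hy) hyA (hPS ha)
      have := ((hyc b hb).pow_left i).mul_left
        (hA' _ (P.mul_mem (P.inv_mem (P.pow_mem hy i)) ha) hi b hb)
      rwa [mul_inv_cancel_left] at this
  have hSnab : ¬ ∀ a ∈ S, ∀ b ∈ S, Commute a b := h.nonab
  -- some essential subgroup is abelian
  obtain ⟨P, hP, hPab⟩ : ∃ P, F.IsEssential p P ∧ ∀ a ∈ P, ∀ b ∈ P, Commute a b := by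
    by_contra hno
    push Not at hno
    have hZn : F.IsNormal Zs := isNormal_of_forall_essential hS hF fun P hP => ⟨hZP P hP,
      hinv P hP (by
        rcases hP with rfl | hP'
        · exact hSnab
        · intro hc
          obtain ⟨a, ha, b, hb, hne⟩ := hno P hP'
          exact hne (hc a ha b hb))⟩
    obtain ⟨x, hx, hxA⟩ := h.exists_not_mem
    have hne : S ≠ ⊥ := fun hb => hxA (by
      rw [hb, Subgroup.mem_bot] at hx; rw [hx]; exact A.one_mem)
    haveI : Nontrivial S := (Subgroup.nontrivial_iff_ne_bot S).mpr hne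
    obtain ⟨c, hc, hc1⟩ := SetLike.exists_of_lt hS.bot_lt_center
    refine hc1 (Subgroup.mem_bot.mpr (Subtype.ext (Subgroup.mem_bot.mp ((hnot Zs hZn).le ?_))))
    exact mem_centralizerIn.mpr ⟨c.2, fun s hs =>
      congrArg Subtype.val (Subgroup.mem_center_iff.mp hc ⟨s, hs⟩)⟩
  have hPA : P ≠ A := fun he => hAe (he ▸ hP)
  obtain ⟨x, hxS, hxA, hxP, hform, -, hK, -⟩ := essential_data hF h huniq hP hPA
  have hPform : P = Zs ⊔ Subgroup.zpowers x := by
    refine le_antisymm ?_ (sup_le (hZP P (Or.inr hP)) (Subgroup.zpowers_le.mpr hxP))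
    intro y hy
    obtain ⟨i, hi⟩ := h.dec hxS hxA (hP.1.1 hy)
    rw [show y = x ^ i * ((x ^ i)⁻¹ * y) by group]
    refine Subgroup.mul_mem _ (Subgroup.pow_mem _ (Subgroup.mem_sup_right (Subgroup.mem_zpowers x)) i)
      (Subgroup.mem_sup_left (h.mem_zs hxS hxA hi ?_))
    exact hPab _ (P.mul_mem (P.inv_mem (P.pow_mem hxP i)) hy) x hxP
  have hT := h.card_inf_commutator hxS hxA hK
  set Z₀ := Zs ⊓ ⁅S, S⁆ with hZ₀
  obtain ⟨z₀, hz₀, hz₀1⟩ : ∃ z ∈ Z₀, z ≠ 1 := by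
    by_contra hno
    push Not at hno
    have hb : Z₀ = ⊥ := (Subgroup.eq_bot_iff_forall _).mpr hno
    rw [hb, Subgroup.card_bot] at hT
    exact hp.out.one_lt.ne hT
  have := finite_of_le ((inf_le_left : Z₀ ≤ Zs).trans hZS)
  have hz₀o : orderOf z₀ = p := by
    refine ((Nat.dvd_prime hp.out).mp ?_).resolve_left fun h1 => hz₀1 (orderOf_eq_one_iff.mp h1)
    rw [← hT, show z₀ = ((⟨z₀, hz₀⟩ : Z₀) : Ω) from rfl, Subgroup.orderOf_coe]
    exact orderOf_dvd_natCard _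
  have hz₀p : z₀ ^ p = 1 := hz₀o ▸ pow_orderOf_eq_one z₀
  have hgen : Subgroup.zpowers z₀ = Z₀ := Subgroup.eq_of_le_of_card_ge
    (Subgroup.zpowers_le.mpr hz₀) (by rw [hT, Nat.card_zpowers, hz₀o])
  -- the data for an abelian essential subgroup
  have hdata : ∀ Q, F.IsEssential p Q → (∀ a ∈ Q, ∀ b ∈ Q, Commute a b) →
      ∃ W : Subgroup Ω, W ≤ Zs ∧ Zs = W ⊔ Subgroup.zpowers z₀ ∧ z₀ ∉ W ∧
      (∀ β ∈ F.autGroup Q, ∀ w ∈ W, autFun β w ∈ W) ∧
      ∃ δ ∈ F.autGroup Zs, (∀ w ∈ W, autFun δ w = w) ∧ autFun δ z₀ = z₀⁻¹ := by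
    intro Q hQ hQab
    obtain ⟨y, hyS, hyA, hyQ, -, -, -, -⟩ :=
      essential_data hF h huniq hQ (fun he => hAe (he ▸ hQ))
    have hz₀T : z₀ ∈ h.tauImg y hyS A := by
      rw [← h.commutator_eq_tauImg hyS hyA]; exact hz₀.2
    obtain ⟨k, hkA, -, hk⟩ := h.mem_tauImg.mp hz₀T
    have hksec : k ∈ h.sec y hyS := ⟨hkA, by rw [hk]; exact hz₀.1⟩
    have := abelian_essential_split hF h hQ hyS hyQ hyA hQab hksec
      (by rw [hk]; exact hz₀1) (by rw [hk]; exact hz₀p)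
    rw [hk] at this
    exact this
  obtain ⟨W, hWZ, hsplit, hz₀W, hWinv, δ, hδ, hδW, hδz⟩ := hdata P hP hPab
  have hfix : ∀ y ∈ Zs, autFun δ y = y → y ∈ W := by
    intro y hy hfy
    have hn : Subgroup.zpowers z₀ ≤ Subgroup.normalizer (W : Set Ω) :=
      Subgroup.zpowers_le.mpr (Subgroup.centralizer_le_normalizer _
        (Subgroup.mem_centralizer_iff.mpr fun w hw =>
          (mem_centralizerIn.mp hz₀.1).2 w (hZS (hWZ hw))))
    have hy' : y ∈ ((W ⊔ Subgroup.zpowers z₀ : Subgroup Ω) : Set Ω) := hsplit.le hy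
    rw [Subgroup.coe_mul_of_right_le_normalizer_left W _ hn] at hy'
    obtain ⟨w, hw, v, hv, rfl⟩ := hy'
    obtain ⟨i, rfl⟩ := ((isOfFinOrder_iff_pow_eq_one.mpr
      ⟨p, hp.out.pos, hz₀p⟩).mem_powers_iff_mem_zpowers.mpr hv :)
    have hm := mapTo_of_mem_autGroup hZS hδ
    change autFun δ (w * z₀ ^ i) = w * z₀ ^ i at hfy
    rw [hm.map_mul (hWZ hw) (Zs.pow_mem hz₀.1 i), hδW w hw, hm.map_pow hz₀.1, hδz,
      mul_right_inj, inv_pow] at hfy
    have h2 : (z₀ ^ i) ^ 2 = 1 := by rw [pow_two]; exact mul_eq_one_iff_eq_inv.mpr hfy.symm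
    have h1 : z₀ ^ i = 1 := by
      refine orderOf_eq_one_iff.mp (Nat.eq_one_of_dvd_coprimes (a := p) (b := 2)
        ((Nat.coprime_primes hp.out Nat.prime_two).mpr hp2)
        (orderOf_dvd_of_pow_eq_one ?_) (orderOf_dvd_of_pow_eq_one h2))
      rw [← pow_mul, mul_comm, pow_mul, hz₀p, one_pow]
    show w * z₀ ^ i ∈ W
    rw [h1, mul_one]; exact hw
  -- automorphisms preserving `Z₀` preserve `W`
  have hΔ : ∀ φ ∈ F.autGroup Zs, autFun φ z₀ ∈ Z₀ → ∀ w ∈ W, autFun φ w ∈ W := by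
    intro φ hφ hφz w hw
    have hm := mapTo_of_mem_autGroup hZS hφ
    obtain ⟨i, hi⟩ := ((isOfFinOrder_iff_pow_eq_one.mpr
      ⟨p, hp.out.pos, hz₀p⟩).mem_powers_iff_mem_zpowers.mpr (hgen.ge hφz) :)
    refine hfix _ (autFun_mem φ (hWZ hw)) ?_
    have hconjF : φ⁻¹ * δ * φ ∈ F.autGroup Zs :=
      Subgroup.mul_mem _ (Subgroup.mul_mem _ (Subgroup.inv_mem _ hφ) hδ) hφ
    have hdm := mapTo_of_mem_autGroup hZS hδ
    have hzφ : autFun (φ⁻¹ * δ * φ) z₀ = z₀⁻¹ := by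
      rw [autFun_mul _ _ hz₀.1, autFun_mul _ _ (autFun_mem _ hz₀.1),
        show autFun φ z₀ = z₀ ^ i from hi.symm, hdm.map_pow hz₀.1, hδz, inv_pow,
        show z₀ ^ i = autFun φ z₀ from hi, ← hm.map_inv hz₀.1,
        autFun_inv_autFun φ (Zs.inv_mem hz₀.1)]
    have h1 := le_of_reflections hS hF hz₀.1 hz₀p hWZ hsplit (W₂ := (Zs ⊓ img (autFun φ⁻¹) W))
      inf_le_left hδ hconjF hδW hδz (fun u hu => ?_) hzφ
    · -- so the fixed points of the conjugate reflection are those of `δ`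
      have hmi := mapTo_of_mem_autGroup hZS (Subgroup.inv_mem _ hφ)
      have hu : autFun φ⁻¹ w ∈ W := hfix _ (autFun_mem _ (hWZ hw))
        (h1 _ ⟨autFun_mem _ (hWZ hw), mem_img_of_mem hw⟩)
      have hWimg : img (autFun φ⁻¹) W = W := by
        have := finite_of_le (hWZ.trans hZS)
        refine img_eq_self_of_forall (hmi.restrict hWZ) fun u hu => ?_
        exact hfix _ (autFun_mem _ (hWZ hu)) (h1 _ ⟨autFun_mem _ (hWZ hu), mem_img_of_mem hu⟩)
      obtain ⟨w', hw', hwe⟩ := (hmi.mem_img_iff hWZ).mp (hWimg.ge hw)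
      have hφw : autFun φ w = w' := by rw [← hwe, autFun_autFun_inv φ (hWZ hw')]
      rw [hφw, hδW w' hw']
    · obtain ⟨u', hu', rfl⟩ :=
        ((mapTo_of_mem_autGroup hZS (Subgroup.inv_mem _ hφ)).mem_img_iff hWZ).mp hu.2
      rw [autFun_mul _ _ (autFun_mem _ (hWZ hu')), autFun_autFun_inv φ (hWZ hu'),
        autFun_mul _ _ (hWZ hu'), hδW u' hu']
  have hWbot : W = ⊥ := by
    refine hnot W (isNormal_of_forall_essential hS hF fun Q hQ => ⟨hWZ.trans (hZP Q hQ), ?_⟩)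
    intro β hβ w hw
    have hQS : Q ≤ S := by
      rcases hQ with rfl | hQ
      · exact le_rfl
      · exact hQ.1.1
    by_cases hQab : ∀ a ∈ Q, ∀ b ∈ Q, Commute a b
    · have hQ' : F.IsEssential p Q := hQ.resolve_left fun he => hSnab (he ▸ hQab)
      obtain ⟨W', hW'Z, hsplit', -, hW'inv, δ', hδ', hδ'W, hδ'z⟩ := hdata Q hQ' hQab
      have hW'W : W' ≤ W := fun u hu => hfix u (hW'Z hu)
        (le_of_reflections hS hF hz₀.1 hz₀p hWZ hsplit hW'Z hδ hδ' hδW hδz hδ'W hδ'z u hu)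
      have hWW' : W ≤ W' := fun u hu => by
        have hfu := le_of_reflections hS hF hz₀.1 hz₀p hW'Z hsplit' hWZ hδ' hδ hδ'W hδ'z hδW hδz u hu
        have hn : Subgroup.zpowers z₀ ≤ Subgroup.normalizer (W' : Set Ω) :=
          Subgroup.zpowers_le.mpr (Subgroup.centralizer_le_normalizer _
            (Subgroup.mem_centralizer_iff.mpr fun v hv =>
              (mem_centralizerIn.mp hz₀.1).2 v (hZS (hW'Z hv))))
        have hu' : u ∈ ((W' ⊔ Subgroup.zpowers z₀ : Subgroup Ω) : Set Ω) := hsplit'.le (hWZ hu)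
        rw [Subgroup.coe_mul_of_right_le_normalizer_left W' _ hn] at hu'
        obtain ⟨v, hv, v₀, hv₀, hve⟩ := hu'
        have hv₀W : v₀ ∈ W := by
          have := W.mul_mem (W.inv_mem (hW'W hv)) (show v * v₀ ∈ W from (show v * v₀ = u from hve) ▸ hu)
          rwa [inv_mul_cancel_left] at this
        have hv₀1 : v₀ = 1 := by
          by_contra hne
          apply hz₀W
          have hh : Subgroup.zpowers v₀ = Subgroup.zpowers z₀ := by
            have : Finite ↥(Subgroup.zpowers z₀) :=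
              finite_of_le (Subgroup.zpowers_le.mpr (hZS hz₀.1))
            refine Subgroup.eq_of_le_of_card_ge (Subgroup.zpowers_le.mpr hv₀) ?_
            rw [Nat.card_zpowers, Nat.card_zpowers, hz₀o]
            obtain ⟨i, rfl⟩ := ((isOfFinOrder_iff_pow_eq_one.mpr
              ⟨p, hp.out.pos, hz₀p⟩).mem_powers_iff_mem_zpowers.mpr hv₀ :)
            exact (orderOf_eq_prime (show (z₀ ^ i) ^ p = 1 by
              rw [← pow_mul, mul_comm, pow_mul, hz₀p, one_pow]) hne).ge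
          exact Subgroup.zpowers_le.mpr hv₀W (hh.ge (Subgroup.mem_zpowers z₀))
        rw [← hve]
        show v * v₀ ∈ W'
        rw [hv₀1, mul_one]; exact hv
      exact hW'W (hW'inv β hβ w (hWW' hw))
    · have hβm := mapTo_of_mem_autGroup hQS hβ
      have := finite_of_le hQS
      have hZimg : img (autFun β) Zs = Zs :=
        img_eq_self_of_forall (hβm.restrict (hZP Q hQ)) (hinv Q hQ hQab β hβ)
      set φ := autOf (hβm.restrict (hZP Q hQ)) hZimg
      have hφ : φ ∈ F.autGroup Zs := autOf_mem _ _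
      have hφv : ∀ y ∈ Zs, autFun φ y = autFun β y := fun y hy => autFun_autOf _ _ hy
      have hz₀Q : autFun β z₀ ∈ ⁅S, S⁆ := by
        obtain ⟨y, hyQ, hyA, hksec⟩ : ∃ (y : Ω) (_ : y ∈ Q) (_ : y ∉ A),
            ∃ k, k ∈ Q ∧ ⁅k, y⁆ = z₀ := by
          rcases hQ with rfl | hQ'
          · obtain ⟨k, hkA, -, hk⟩ := h.mem_tauImg.mp
              (show z₀ ∈ h.tauImg x hxS A by rw [← h.commutator_eq_tauImg hxS hxA]; exact hz₀.2)
            exact ⟨x, hxS, hxA, k, h.le hkA, hk⟩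
          · obtain ⟨y, hyS, hyA, hyQ, hform', -, -, -⟩ :=
              essential_data hF h huniq hQ' (fun he => hAe (he ▸ hQ'))
            obtain ⟨k, hkA, -, hk⟩ := h.mem_tauImg.mp
              (show z₀ ∈ h.tauImg y hyS A by rw [← h.commutator_eq_tauImg hyS hyA]; exact hz₀.2)
            refine ⟨y, hyQ, hyA, k, ?_, hk⟩
            rcases hform' with he | he
            · exfalso
              apply hQab
              intro a ha b hb
              rw [he] at ha hb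
              have hc : Zs ⊔ Subgroup.zpowers y ≤ Subgroup.centralizer
                  ((Zs ⊔ Subgroup.zpowers y : Subgroup Ω) : Set Ω) := by
                refine sup_le (fun u hu => Subgroup.mem_centralizer_iff.mpr fun v hv => ?_)
                  (Subgroup.zpowers_le.mpr (Subgroup.mem_centralizer_iff.mpr fun v hv => ?_))
                · have hvS : v ∈ S := (sup_le hZS (Subgroup.zpowers_le.mpr hyS)) hv
                  exact (mem_centralizerIn.mp hu).2 v hvS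
                · refine (Subgroup.mem_centralizer_singleton_iff.mp
                    ((sup_le (fun u hu => Subgroup.mem_centralizer_singleton_iff.mpr
                      ((mem_centralizerIn.mp hu).2 y hyS).symm)
                      (Subgroup.zpowers_le.mpr (Subgroup.mem_centralizer_singleton_iff.mpr rfl)) :
                        Zs ⊔ Subgroup.zpowers y ≤ Subgroup.centralizer ({y} : Set Ω)) hv))
              exact (Subgroup.mem_centralizer_iff.mp (hc hb) a ha)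
            · exact he ▸ Subgroup.mem_sup_left ⟨hkA, by rw [hk]; exact hz₀.1⟩
        obtain ⟨k, hkQ, hk⟩ := hksec
        rw [← hk, commutatorElement_def, hβm.map_mul (Q.mul_mem (Q.mul_mem hkQ hyQ) (Q.inv_mem hkQ))
          (Q.inv_mem hyQ), hβm.map_mul (Q.mul_mem hkQ hyQ) (Q.inv_mem hkQ), hβm.map_mul hkQ hyQ,
          hβm.map_inv hkQ, hβm.map_inv hyQ, ← commutatorElement_def]
        exact Subgroup.commutator_mem_commutator (hQS (autFun_mem _ hkQ)) (hQS (autFun_mem _ hyQ))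
      rw [← hφv w (hWZ hw)]
      exact hΔ φ hφ (by rw [hφv z₀ hz₀.1]; exact ⟨hinv Q hQ hQab β hβ z₀ hz₀.1, hz₀Q⟩) w hw
  have hZZ₀ : Zs = Z₀ := by rw [hsplit, hWbot, bot_sup_eq, hgen]
  exact ⟨⟨x, hxS, hxA, hPform ▸ hP⟩, hZZ₀.le.trans inf_le_right,
    (congrArg (fun H : Subgroup Ω => Nat.card H) hZZ₀).trans hT, x, hxS, hxA, hK⟩

/-- Maximal class. -/
theorem lowerCentralSeries_ne_bot {A : Subgroup Ω} (h : AbIndexP p S A) {x : Ω} (hxS : x ∈ S)
    (hxA : x ∉ A) (hK : Nat.card (h.sec x hxS) = p * Nat.card (centralizerIn S S))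
    (hZ : Nat.card (centralizerIn S S) = p) {n : ℕ} (hn : Nat.card S = p ^ n) (h3 : 3 ≤ n) :
    Subgroup.lowerCentralSeries S (n - 2) ≠ ⊥ := by
  intro hbot
  obtain ⟨V, hVA, hVL, hV⟩ := h.card_le_pow_mul_card hxS hxA hK (n - 3)
  have hA : Nat.card A = p ^ (n - 1) := by
    have h1 := h.relIndex_eq le_rfl hxS hxA
    rw [inf_eq_right.mpr h.le, hn, show n = (n - 1) + 1 by omega, pow_succ'] at h1
    exact (Nat.eq_of_mul_eq_mul_left hp.out.pos h1).symm
  by_cases hle : V ≤ centralizerIn S S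
  · rw [sup_eq_left.mpr hle, hZ, hA, ← pow_succ] at hV
    exact absurd hV (Nat.pow_lt_pow_right hp.out.one_lt (by omega)).not_ge
  · obtain ⟨a, ha, haZ⟩ := SetLike.not_le_iff_exists.mp hle
    refine haZ (h.mem_zs hxS hxA (hVA ha) (commutatorElement_eq_one_iff_mul_comm.mp ?_))
    have h1 : ⁅a, x⁆ ∈ Subgroup.lowerCentralSeries S (n - 3 + 1) :=
      Subgroup.commutator_mem_commutator (hVL ha) hxS
    rw [show n - 3 + 1 = n - 2 by omega, hbot, Subgroup.mem_bot] at h1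
    exact h1

end Cfsg.Agent.Fusion
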