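import Cfsg.Agent.Lib.Fusion.NormalizerSaturated
import Cfsg.Agent.Lib.Fusion.ImageSaturation
import Cfsg.Agent.Lib.Fusion.Transfer
import Cfsg.Agent.Lib.Fusion.NormalizerModel

/-!
Saturated systems over abelian groups, and control of the normalizers between `[S, S]` and `Φ(S)`.
-/

set_option autoImplicit false

namespace Cfsg.Agent.Fusion

open Cfsg.FusionSystem (centralizerIn normalizerIn imageAlong preimageAlong)
open scoped commutatorElement

universe u

variable {Ω : Type u} [Group Ω] {S : Subgroup Ω} {F : FusionSystem S} {P Q : Subgroup Ω} {p : ℕ}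
variable {f : Ω → Ω}

/-- Over an abelian group every map of a saturated system extends to the whole group. -/
theorem exists_extend_of_commute [Finite S] [Fact p.Prime] (hS : IsPGroup p S)
    (hF : F.IsSaturated p) (hab : ∀ x ∈ S, ∀ y ∈ S, x * y = y * x) (hf : MapTo F P f) :
    ∃ g, MapTo F S g ∧ ∀ x ∈ P, g x = f x := by
  have hC : ∀ R : Subgroup Ω, R ≤ S → centralizerIn S R = S := fun R hR =>
    le_antisymm centralizerIn_le fun x hx =>
      mem_centralizerIn.mpr ⟨hx, fun y hy => hab y (hR hy) x hx⟩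
  have hfc : F.IsFullyCentralized (img f P) :=
    ⟨hf.img_le, fun R hR => by rw [hC _ hf.img_le]; exact Subgroup.card_le_of_le centralizerIn_le⟩
  obtain ⟨g, hg, hgf⟩ :=
    (isReceptive_iff.mp (isReceptive_of_isFullyCentralized hS hF hfc)).2 P f hf rfl
  exact ⟨g, hg.restrict ((hC P hf.le).symm.le.trans (centralizerIn_le_extSub hf)), hgf⟩

theorem normalizerSystem_eq_inner_of_le_frattini [Finite S] [Fact p.Prime] (hS : IsPGroup p S)
    (hF : F.IsSaturated p)
    (hN : ∀ N : FusionSystem (normalizerIn S S), F.IsNormalizerSystem S N →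
      ∀ P : Subgroup Ω, N.Hom P = (innerFusionSystem (normalizerIn S S)).Hom P)
    (h1 : (commutator S).map S.subtype ≤ Q) (h2 : Q ≤ (frattini S).map S.subtype)
    {N : FusionSystem (normalizerIn S Q)} (hQN : F.IsNormalizerSystem Q N) :
    N = innerFusionSystem (normalizerIn S Q) := by
  rw [Subgroup.map_subtype_commutator] at h1
  have hQS : Q ≤ S := h2.trans (Subgroup.map_subtype_le _)
  have hcomm : ∀ a ∈ S, ∀ b ∈ S, ⁅a, b⁆ ∈ Q := fun a ha b hb =>
    h1 (Subgroup.commutator_mem_commutator ha hb)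
  have := finite_of_le hQS
  have hTS : (normalizerIn S Q) = S := le_antisymm normalizerIn_le fun s hs =>
    mem_normalizerIn_of_forall hQS hs fun x hx => by
      have h := Q.mul_mem (hcomm s hs x (hQS hx)) hx
      rwa [commutatorElement_def, inv_mul_cancel_right] at h
  have hQn : F.IsFullyNormalized Q := by
    refine ⟨hQS, fun R _ => ?_⟩
    rw [hTS]
    exact Subgroup.card_le_of_le normalizerIn_le
  have hNsat := isSaturated_normalizerSystem hS hF hQn hQN
  have hQnorm := isNormal_normalizerSystem hQS hQN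
  have hTle : (normalizerIn S Q) ≤ S := normalizerIn_le
  have hQT : Q ≤ (normalizerIn S Q) := le_normalizerIn hQS
  have := finite_of_le hTle
  have hTp : IsPGroup p (normalizerIn S Q) := hS.to_le hTle
  have : (Q.subgroupOf (normalizerIn S Q)).Normal :=
    ⟨fun x hx t => conj_mem_of_mem_normalizerIn (S := S) (P := Q) (x := (t : Ω)) (y := (x : Ω)) t.2 hx⟩
  let θ : (normalizerIn S Q) →* (normalizerIn S Q) ⧸ Q.subgroupOf (normalizerIn S Q) := QuotientGroup.mk' (Q.subgroupOf (normalizerIn S Q))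
  have hker : kerIn θ = Q := by
    show θ.ker.map (normalizerIn S Q).subtype = Q
    rw [QuotientGroup.ker_mk', Subgroup.map_subgroupOf_eq_of_le hQT]
  have hsc : N.StronglyClosed (kerIn θ) := by rw [hker]; exact IsNormal.stronglyClosed hQnorm
  have hr : θ.range = ⊤ := MonoidHom.range_eq_top.mpr (QuotientGroup.mk'_surjective _)
  let E := factorSys N θ hr hsc
  have hE := isFactorSystem_factorSys N θ hr hsc
  have hsurj := IsFactorSystem.isSurjectiveMorphism hTp hNsat hsc hE
  have hEsat : E.IsSaturated p := isSaturated_image hTp hNsat hsurj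
  have hTop : IsPGroup p (⊤ : Subgroup ((normalizerIn S Q) ⧸ Q.subgroupOf (normalizerIn S Q))) :=
    (hTp.to_quotient _).to_subgroup _
  have hab : ∀ x ∈ (⊤ : Subgroup ((normalizerIn S Q) ⧸ Q.subgroupOf (normalizerIn S Q))), ∀ y ∈ (⊤ : Subgroup ((normalizerIn S Q) ⧸ Q.subgroupOf (normalizerIn S Q))),
      x * y = y * x := by
    intro x _ y _
    obtain ⟨a, rfl⟩ := QuotientGroup.mk_surjective x
    obtain ⟨b, rfl⟩ := QuotientGroup.mk_surjective y
    rw [← commutatorElement_eq_one_iff_mul_comm]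
    show ⁅θ a, θ b⁆ = 1
    rw [← map_commutatorElement]
    exact (QuotientGroup.eq_one_iff _).mpr (hcomm _ (hTle a.2) _ (hTle b.2))
  have hbase : ∀ (P : Subgroup Ω) (f : Ω → Ω), MapTo N P f → ∀ x ∈ P, x⁻¹ * f x ∈ Q := by
    intro P f hf x hx
    obtain ⟨f', hf', hff⟩ := IsMorphism.exists_map hsurj.1 hf
    obtain ⟨g', hg', hg'f⟩ := exists_extend_of_commute hTop hEsat hab hf'
    obtain ⟨-, g, hg, hgg⟩ := IsSurjectiveMorphism.exists_lift hsurj hg'
    have hxT := hf.le hx
    have hTpre : (normalizerIn S Q) ≤ preimageAlong θ ⊤ := fun t ht =>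
      mem_preimageAlong.mpr ⟨ht, Subgroup.mem_top _⟩
    have hgT := hg.restrict hTpre
    -- `g` is a map of the normalizer system of `S`
    obtain ⟨-, -, k, hk, hkg, -⟩ := (mapTo_nSys_iff hQN).mp hgT
    have hkS : MapTo F S k := hk.restrict (hTS.symm.le.trans le_sup_left)
    have hSS : normalizerIn S S = S := le_antisymm normalizerIn_le (le_normalizerIn le_rfl)
    have hk' : MapTo (nSys F (le_refl S)) S k :=
      (mapTo_nSys_iff (isNormalizerSystem_nSys F le_rfl)).mpr
        ⟨hSS.symm.le, fun z hz => hSS.symm.le (hkS.mem hz), k,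
          by rwa [sup_idem], fun _ _ => rfl, img_eq_self_of_forall hkS fun z hz => hkS.mem hz⟩
    obtain ⟨φ, hφ, hφk⟩ := hk'
    rw [hN _ (isNormalizerSystem_nSys F le_rfl)] at hφ
    obtain ⟨-, s, hs, hsk⟩ := hφ
    have hxS : x ∈ S := hTle hxT
    have hgx : g x = s * x * s⁻¹ :=
      (hkg x hxT).symm.trans ((hφk ⟨x, hxS⟩).symm.trans (hsk ⟨x, hxS⟩))
    have hsS : s ∈ S := normalizerIn_le hs
    have hgQ : x⁻¹ * g x ∈ Q := by
      have h := hcomm x⁻¹ (S.inv_mem hxS) s hsS
      rw [hgx]
      simpa [commutatorElement_def, mul_assoc] using h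
    have e1 := hgg x (hTpre hxT)
    rw [hg'f _ (th_mem_imageAlong hf.le hx), hff x hx] at e1
    have e2 : (g x)⁻¹ * f x ∈ kerIn θ := (th_eq_iff (hgT.mem hxT) (hf.mem hx)).mp e1.symm
    rw [hker] at e2
    have := Q.mul_mem hgQ e2
    rwa [mul_assoc, mul_inv_cancel_left] at this
  refine eq_inner_of_hyperfocal_eq_bot hTp hNsat (hyperfocal_eq_bot_of_le_frattini hTp hNsat ?_)
  refine (hyperfocal_le_focal.trans (focal_le_iff.mpr hbase)).trans ?_
  show Q ≤ (fun U : Subgroup Ω => (frattini U).map U.subtype) (normalizerIn S Q)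
  rw [hTS]
  exact h2

end Cfsg.Agent.Fusion
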