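import Cfsg.Agent.Lib.Fusion.Group
import Cfsg.Agent.Lib.Fusion.Hyperfocal
import Cfsg.Agent.Lib.Fusion.Alperin
import Cfsg.Agent.Lib.Transfer.Fusion

/-!
The hyperfocal subgroup of the fusion system of a finite group.
-/

set_option autoImplicit false

namespace Cfsg.Agent.Fusion

open Cfsg.FusionSystem (centralizerIn normalizerIn)
open scoped commutatorElement

variable {G : Type*} [Group G] [Finite G] {p : ℕ} [Fact p.Prime]

theorem hyperfocal_gfs_le (S : Sylow p G) :
    (groupFusionSystem (S : Subgroup G)).hyperfocalSubgroup p ≤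
      (S : Subgroup G) ⊓ pResidual p G := by
  refine le_inf hyperfocal_le (hyperfocal_le_iff.mpr fun P hP α hα x hx => ?_)
  refine oP_induction (C := fun β => ∀ y ∈ P, y⁻¹ * autFun β y ∈ pResidual p G) (fun y hy => by
    rw [autFun_one hy, inv_mul_cancel]; exact Subgroup.one_mem _) (fun a b _ _ ha hb y hy => ?_)
    (fun a _ ha y hy => ?_) (fun a ha hcop y hy => ?_) α hα x hx
  · rw [autFun_mul _ _ hy]
    have h1 := Subgroup.mul_mem _ (hb y hy) (ha _ (autFun_mem b hy))
    rwa [mul_assoc, mul_inv_cancel_left] at h1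
  · have h1 := Subgroup.inv_mem _ (ha _ (autFun_mem a⁻¹ hy))
    rwa [autFun_autFun_inv a hy, mul_inv_rev, inv_inv] at h1
  · rw [autGroup_gfs hP] at ha
    obtain ⟨g, -, hg⟩ := mem_autInducedBy_iff_cj.mp ha
    obtain ⟨k, hk, hkcop⟩ := exists_pow_coprime (p := p) g hcop
    have hak : a ^ k = a := by
      conv_rhs => rw [← pow_one a]
      exact pow_eq_pow_iff_modEq.mpr hk
    have hpow : ∀ n : ℕ, autFun (a ^ n) y = g ^ n * y * (g ^ n)⁻¹ := by
      intro n
      induction n with
      | zero => simp [autFun_one hy]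
      | succ n ih =>
        rw [pow_succ' a, autFun_mul _ _ hy, hg _ (autFun_mem _ hy), ih, cj_apply, pow_succ']
        group
    rw [← hak, hpow k]
    have hgm : g ^ k ∈ pResidual p G := Cfsg.Agent.Transfer.mem_pResidual_of_coprime hkcop
    have : (pResidual p G).Normal := by
      have := Cfsg.Agent.Transfer.pResidual_characteristic G p
      infer_instance
    have h1 := Subgroup.mul_mem _ (this.conj_mem _ hgm y⁻¹) (Subgroup.inv_mem _ hgm)
    simpa [mul_assoc] using h1

/-- The hyperfocal subgroup theorem. -/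
theorem hyperfocal_gfs (S : Sylow p G) :
    (groupFusionSystem (S : Subgroup G)).hyperfocalSubgroup p =
      (S : Subgroup G) ⊓ pResidual p G := by
  have : (pResidual p G).Normal := by
    have := Cfsg.Agent.Transfer.pResidual_characteristic G p
    infer_instance
  set F := groupFusionSystem (S : Subgroup G) with hF
  set H := F.hyperfocalSubgroup p with hH
  refine le_antisymm (hyperfocal_gfs_le S) ?_
  refine Cfsg.Agent.Transfer.inf_pResidual_le_of_fusion S H (hyperfocal_gfs_le S) ?_ ?_
  · intro s hs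
    have := finite_of_le (hyperfocal_le (F := F) (p := p))
    exact mem_normalizer_of_forall fun y hy => hyperfocal_conj_mem hs hy
  intro x hx g _ hy
  set Q := (S : Subgroup G) ⊓ pResidual p G with hQ
  let W := H ⊔ ⁅Q, (S : Subgroup G)⁆
  have hmap : MapTo F (Subgroup.zpowers x) (cj g⁻¹) :=
    mapTo_gfs_cj (Subgroup.zpowers_le.mpr hx.1) fun z hz => by
      obtain ⟨j, rfl⟩ := Subgroup.mem_zpowers_iff.mp hz
      rw [← conj_zpow]
      refine Subgroup.zpow_mem _ ?_ j
      rw [inv_inv]
      exact hy.1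
  have key : ∀ (P : Subgroup G) (f : G → G), MapTo F P f → ∀ z ∈ P, z ∈ pResidual p G →
      f z ∈ pResidual p G ∧ z⁻¹ * f z ∈ W := by
    intro P f hf
    refine alperin_prop S.2 (isSaturated_gfs S)
      (fun P f => ∀ z ∈ P, z ∈ pResidual p G → f z ∈ pResidual p G ∧ z⁻¹ * f z ∈ W) ?_ ?_ ?_ ?_ ?_ hf
    · intro P f g _ hC hgf z hz hzM
      rw [hgf z hz]
      exact hC z hz hzM
    · intro P s hP hs z hz hzM
      refine ⟨(inferInstance : (pResidual p G).Normal).conj_mem z hzM s, ?_⟩
      refine Subgroup.mem_sup_right ?_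
      have := Subgroup.commutator_mem_commutator (H₁ := Q) (H₂ := (S : Subgroup G))
        (Subgroup.inv_mem _ ⟨hP hz, hzM⟩) hs
      simpa [commutatorElement_def, mul_assoc] using this
    · intro P R f g _ _ hfR h1 h2 z hz hzM
      obtain ⟨a, b⟩ := h1 z hz hzM
      obtain ⟨c, d⟩ := h2 _ (hfR z hz) a
      refine ⟨c, ?_⟩
      have := W.mul_mem b d
      rwa [mul_assoc, mul_inv_cancel_left] at this
    · intro P f g hf' hg hgf hC y hy hyM
      obtain ⟨z, hz, rfl⟩ := (hf'.mem_img_iff le_rfl).mp hy
      rw [hgf z hz]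
      have hzM : z ∈ pResidual p G := by
        obtain ⟨-, a, ha⟩ := mapTo_gfs_iff.mp hf'
        rw [(ha z hz).1] at hyM
        have h3 := (inferInstance : (pResidual p G).Normal).conj_mem _ hyM a⁻¹
        simpa [mul_assoc] using h3
      refine ⟨hzM, ?_⟩
      have := W.inv_mem (hC z hz hzM).2
      rwa [mul_inv_rev, inv_inv] at this
    · intro P hP α hα z hz hzM
      have hPn := isFullyNormalized_of_eq_top_or_essential hP
      obtain ⟨β, hβ, c, hc, rfl⟩ :=
        exists_eq_mul_of_isFullyNormalized S.2 (isSaturated_gfs S) hPn hα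
      obtain ⟨s, hs, hsc⟩ := mem_autInducedBy_iff_cj.mp hc
      rw [autFun_mul _ _ hz]
      have hcM : autFun c z ∈ pResidual p G := by
        rw [hsc z hz]
        exact (inferInstance : (pResidual p G).Normal).conj_mem z hzM s
      have h2 : (autFun c z)⁻¹ * autFun β (autFun c z) ∈ H :=
        mem_hyperfocal hPn.1 hβ (autFun_mem c hz)
      refine ⟨?_, ?_⟩
      · have := Subgroup.mul_mem _ hcM (hyperfocal_gfs_le S h2).2
        rwa [mul_inv_cancel_left] at this
      · have h1 : z⁻¹ * autFun c z ∈ W := by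
          refine Subgroup.mem_sup_right ?_
          rw [hsc z hz]
          have := Subgroup.commutator_mem_commutator (H₁ := Q) (H₂ := (S : Subgroup G))
            (Subgroup.inv_mem _ ⟨hPn.1 hz, hzM⟩) hs
          simpa [commutatorElement_def, mul_assoc] using this
        have := W.mul_mem h1 ((le_sup_left : H ≤ W) h2)
        rwa [mul_assoc, mul_inv_cancel_left] at this
  have h := (key _ _ hmap x (Subgroup.mem_zpowers x) hx.2).2
  rw [cj_apply, inv_inv] at h
  exact h

end Cfsg.Agent.Fusion
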