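import Cfsg.Agent.Lib.Fusion.Group
import Cfsg.Agent.Lib.Fusion.Realized

/-!
The fusion system of a normal subgroup is a normal subsystem.
-/

set_option autoImplicit false

namespace Cfsg.Agent.Fusion

open Cfsg.FusionSystem (centralizerIn normalizerIn)

universe u

variable {G : Type u} [Group G] [Finite G] {p : ℕ} [Fact p.Prime]

omit [Finite G] [Fact p.Prime] in
theorem mapTo_fsSub_iff {H T P : Subgroup G} {hTH : T ≤ H} {f : G → G} :
    MapTo (fusionSystemOfSubgroup H T hTH) P f ↔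
      P ≤ T ∧ ∃ g ∈ H, ∀ x ∈ P, f x = g * x * g⁻¹ ∧ g * x * g⁻¹ ∈ T := by
  constructor
  · rintro ⟨φ, ⟨hP, hT, g, hg, hgx⟩, hφ⟩
    refine ⟨hP, g, hg, fun x hx => ⟨?_, ?_⟩⟩
    · rw [← hφ ⟨x, hx⟩]; exact hgx ⟨x, hx⟩
    · exact hgx ⟨x, hx⟩ ▸ hT ⟨x, hx⟩
  · rintro ⟨hP, g, hg, hgx⟩
    exact ⟨conjHom P g, ⟨hP, fun x => (hgx x x.2).2, g, hg, fun _ => rfl⟩,
      fun x => (hgx x x.2).1.symm⟩

omit [Finite G] [Fact p.Prime] in
theorem isSubsystemOf_fsSub {H T S : Subgroup G} (hTH : T ≤ H) (hTS : T ≤ S) :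
    (fusionSystemOfSubgroup H T hTH).IsSubsystemOf (groupFusionSystem S) := by
  rintro P φ ⟨hP, hT, g, -, hg⟩
  exact ⟨hP.trans hTS, fun x => hTS (hT x), g, hg⟩

/-- The intersection of a Sylow subgroup with a normal subgroup, as a Sylow subgroup of it. -/
theorem exists_sylow_inf (S : Sylow p G) (H : Subgroup G) [H.Normal] :
    ∃ T : Sylow p H, (T : Subgroup H) = ((S : Subgroup G) ⊓ H).subgroupOf H := by
  have hsyl : IsSylowIn p (S : Subgroup G) ⊤ :=
    (isSylowIn_iff_exists le_top).mpr ⟨S.subtype le_top, rfl⟩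
  exact (isSylowIn_iff_exists inf_le_right).mp (hsyl.inf_normal le_top
    (by rw [Subgroup.normalizer_eq_top]))

theorem isSaturated_fsSub (S : Sylow p G) (H : Subgroup G) [H.Normal] :
    (fusionSystemOfSubgroup H ((S : Subgroup G) ⊓ H) inf_le_right).IsSaturated p := by
  obtain ⟨T, hT⟩ := exists_sylow_inf S H
  set U := (S : Subgroup G) ⊓ H with hU
  refine IsRealizedBy.isSaturated (ι := Subgroup.inclusion (inf_le_right : U ≤ H)) ?_ T ?_
  · refine ⟨Subgroup.inclusion_injective _, fun P hP φ hφ => ⟨?_, ?_⟩⟩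
    · rintro ⟨-, -, g, hg, hgx⟩
      exact ⟨⟨g, hg⟩, fun x => Subtype.ext (hgx x)⟩
    · rintro ⟨g, hg⟩
      exact ⟨hP, hφ, g, g.2, fun x => congrArg Subtype.val (hg x)⟩
  · rw [hT, Subgroup.inclusion_range]

/-- The fusion system of a normal subgroup is normal. -/
theorem isNormalIn_fsSub (S : Sylow p G) (H : Subgroup G) [H.Normal] :
    (fusionSystemOfSubgroup H ((S : Subgroup G) ⊓ H) inf_le_right).IsNormalIn
      (groupFusionSystem (S : Subgroup G)) p := by
  obtain ⟨TH, hTH⟩ := exists_sylow_inf S H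
  set T := (S : Subgroup G) ⊓ H with hT
  have hTS : T ≤ (S : Subgroup G) := inf_le_left
  have hTleH : T ≤ H := inf_le_right
  have hHc : ∀ (g : G) {x : G}, x ∈ H → g * x * g⁻¹ ∈ H := fun g x hx =>
    (inferInstance : H.Normal).conj_mem x hx g
  refine ⟨⟨isSaturated_fsSub S H, isSaturated_gfs S, isSubsystemOf_fsSub _ hTS, ?_, ?_, ?_⟩, ?_⟩
  · refine stronglyClosed_iff.mpr ⟨hTS, fun R f hR hf x hx => ?_⟩
    obtain ⟨-, g, hg⟩ := mapTo_gfs_iff.mp hf
    rw [(hg x hx).1]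
    exact ⟨(hg x hx).2, hHc g (hR hx).2⟩
  · rintro P hPT φ ⟨-, hφT, h, hh, hhx⟩ α hα
    rw [autGroup_gfs hTS] at hα
    obtain ⟨a, -, ha⟩ := mem_autInducedBy_iff.mp hα
    refine ⟨conjHom _ (a * h * a⁻¹), ⟨(Subgroup.map_le_range _ _).trans (by
      rintro _ ⟨y, rfl⟩; exact (α y).2), ?_, _, hHc a hh, fun _ => rfl⟩, fun x hφx hαx => ?_⟩
    · rintro ⟨_, y, hy, rfl⟩
      show a * h * a⁻¹ * ((α y : T) : G) * (a * h * a⁻¹)⁻¹ ∈ T
      rw [ha y]
      have h1 := (α ⟨φ ⟨(y : G), hy⟩, hφT _⟩).2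
      rw [ha ⟨φ ⟨(y : G), hy⟩, hφT _⟩] at h1
      change a * φ ⟨(y : G), hy⟩ * a⁻¹ ∈ T at h1
      rw [hhx ⟨(y : G), hy⟩] at h1
      convert h1 using 1
      group
    · show a * h * a⁻¹ * ((α ⟨(x : G), hPT x.2⟩ : T) : G) * (a * h * a⁻¹)⁻¹ = _
      rw [ha ⟨(x : G), hPT x.2⟩, ha ⟨φ x, hφx⟩]
      show _ = a * φ x * a⁻¹
      rw [hhx x]
      group
  · rintro P hPT φ ⟨-, hφS, g, hg⟩
    have htop := Sylow.normalizer_sup_eq_top TH
    have hmap : (TH : Subgroup H).map H.subtype = T := by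
      rw [hTH]; exact Subgroup.map_subgroupOf_eq_of_le hTleH
    rw [hmap] at htop
    obtain ⟨n, hn, k, hk, rfl⟩ : ∃ n ∈ Subgroup.normalizer (T : Set G), ∃ k ∈ H, n * k = g := by
      have hmem : g ∈ Subgroup.normalizer (T : Set G) ⊔ H := htop ▸ Subgroup.mem_top g
      rw [← SetLike.mem_coe, Subgroup.mul_normal] at hmem
      exact Set.mem_mul.mp hmem
    have hval : ∀ x : P, k * (x : G) * k⁻¹ ∈ T := by
      intro x
      have h1 : φ x ∈ T := ⟨hφS x, hg x ▸ hHc _ (hPT x.2).2⟩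
      rw [hg x] at h1
      refine (Subgroup.mem_normalizer_iff.mp hn _).mpr ?_
      convert h1 using 1
      group
    refine ⟨T.normalizerMonoidHom ⟨n, hn⟩, ?_, conjHom P k, ⟨hPT, hval, k, hk, fun _ => rfl⟩,
      fun x hx => ?_⟩
    · rw [autGroup_gfs hTS]
      exact mem_autInducedBy_iff.mpr ⟨n, Subgroup.mem_top _, fun _ => rfl⟩
    · rw [hg x]
      show _ = n * (k * (x : G) * k⁻¹) * n⁻¹
      group
  · intro α hα
    obtain ⟨-, h, hh, hhα⟩ := mapTo_fsSub_iff.mp (mapTo_of_mem_autGroup le_rfl hα)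
    set R := centralizerIn (S : Subgroup G) T with hR
    set D := H ⊓ Subgroup.centralizer (T : Set G) with hD
    have hhN : ∀ {x : G}, x ∈ T → h * x * h⁻¹ ∈ T := fun hx => (hhα _ hx).2
    have hhN' : h ∈ Subgroup.normalizer (T : Set G) := mem_normalizer_of_forall fun y hy => hhN hy
    have hcent : ∀ {z : G}, z ∈ R → ∀ t ∈ T, z * t * z⁻¹ = t := fun hz t ht => by
      rw [← (mem_centralizerIn.mp hz).2 t ht, mul_inv_cancel_right]
    have hRnD : R ≤ Subgroup.normalizer (D : Set G) := by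
      intro z hz
      refine mem_normalizer_of_forall fun d hd => ⟨hHc z hd.1, ?_⟩
      refine Subgroup.mem_centralizer_iff.mpr fun t ht => ?_
      have h1 := Subgroup.mem_centralizer_iff.mp hd.2 t ht
      have h2 := (mem_centralizerIn.mp hz).2 t ht
      calc t * (z * d * z⁻¹) = z * (t * d) * z⁻¹ := by rw [← mul_assoc, ← mul_assoc, h2]; group
        _ = z * (d * t) * z⁻¹ := by rw [h1]
        _ = z * d * (z⁻¹ * (t * z)) * z⁻¹ := by rw [h2]; group
        _ = z * d * z⁻¹ * t := by group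
    set X := R ⊔ D with hX
    have hXmem : ∀ x ∈ X, ∃ z ∈ R, ∃ d ∈ D, z * d = x := by
      intro x hx
      rw [hX, ← SetLike.mem_coe, Subgroup.coe_mul_of_left_le_normalizer_right R D hRnD] at hx
      exact Set.mem_mul.mp hx
    have hRp : IsPGroup p R := S.2.to_le centralizerIn_le
    -- `R` is a Sylow subgroup of `X`
    have hmax : ∀ Q : Subgroup X, IsPGroup p Q → R.subgroupOf X ≤ Q → Q = R.subgroupOf X := by
      intro Q hQ hle
      refine le_antisymm (fun x hx => ?_) hle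
      obtain ⟨z, hz, d, hd, hzd⟩ := hXmem x x.2
      have hzQ : (⟨z, Subgroup.mem_sup_left hz⟩ : X) ∈ Q := hle hz
      have hdQ : (⟨d, Subgroup.mem_sup_right hd⟩ : X) ∈ Q := by
        have := Q.mul_mem (Q.inv_mem hzQ) hx
        convert this using 1
        exact Subtype.ext (by show d = z⁻¹ * (x : G); rw [← hzd, inv_mul_cancel_left])
      have hdp : IsPGroup p (Subgroup.zpowers (⟨d, hd.1⟩ : H)) := by
        obtain ⟨i, hi⟩ := hQ ⟨_, hdQ⟩
        have hdi : d ^ p ^ i = 1 :=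
          congrArg (fun w : Q => ((w : X) : G)) hi
        rintro ⟨w, hw⟩
        obtain ⟨j, rfl⟩ := Subgroup.mem_zpowers_iff.mp hw
        refine ⟨i, Subtype.ext (Subtype.ext ?_)⟩
        show (d ^ j) ^ p ^ i = 1
        rw [← zpow_natCast, ← zpow_mul, mul_comm, zpow_mul, zpow_natCast, hdi, one_zpow]
      have hsup : IsPGroup p ((TH : Subgroup H) ⊔ Subgroup.zpowers (⟨d, hd.1⟩ : H) : Subgroup H) :=
        TH.isPGroup'.to_sup_of_normal_left' hdp (by
          refine Subgroup.zpowers_le.mpr (mem_normalizer_of_forall fun t ht => ?_)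
          rw [hTH, Subgroup.mem_subgroupOf] at ht ⊢
          show d * (t : G) * d⁻¹ ∈ T
          rw [← Subgroup.mem_centralizer_iff.mp hd.2 _ ht, mul_inv_cancel_right]
          exact ht)
      have hdT : d ∈ T := by
        have h1 := (TH.is_maximal' hsup le_sup_left).le
          (Subgroup.mem_sup_right (Subgroup.mem_zpowers (⟨d, hd.1⟩ : H)))
        rw [hTH, Subgroup.mem_subgroupOf] at h1
        exact h1
      rw [Subgroup.mem_subgroupOf, ← hzd]
      exact R.mul_mem hz ⟨hTS hdT, hd.2⟩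
    let SX : Sylow p X := ⟨R.subgroupOf X,
      hRp.of_equiv (Subgroup.subgroupOfEquivOfLe le_sup_left).symm, fun {Q} hQ hle => hmax Q hQ hle⟩
    have hR' : R.map (MulAut.conj h).toMonoidHom ≤ X := by
      rintro _ ⟨z, hz, rfl⟩
      have h1 : z⁻¹ * (h * z * h⁻¹) ∈ D := by
        refine ⟨?_, ?_⟩
        · have := H.mul_mem (hHc z⁻¹ hh) (H.inv_mem hh)
          show _ ∈ H
          convert this using 1
          group
        · refine (Subgroup.centralizer _).mul_mem ((Subgroup.centralizer _).inv_mem hz.2) ?_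
          refine Subgroup.mem_centralizer_iff.mpr fun t ht => ?_
          have h2 : h⁻¹ * t * h ∈ T := by
            have := (Subgroup.mem_normalizer_iff.mp (Subgroup.inv_mem _ hhN') t).mp ht
            rwa [inv_inv] at this
          calc t * (h * z * h⁻¹) = h * ((h⁻¹ * t * h) * z) * h⁻¹ := by group
            _ = h * (z * (h⁻¹ * t * h)) * h⁻¹ := by rw [(mem_centralizerIn.mp hz).2 _ h2]
            _ = _ := by group
      have := X.mul_mem (Subgroup.mem_sup_left hz) (Subgroup.mem_sup_right h1)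
      show h * z * h⁻¹ ∈ X
      rwa [mul_inv_cancel_left] at this
    obtain ⟨RX, hRX⟩ := ((hRp.map _).of_equiv
      (Subgroup.subgroupOfEquivOfLe hR').symm).exists_le_sylow
    obtain ⟨u, hu⟩ := MulAction.exists_smul_eq X RX SX
    obtain ⟨z, hz, d, hd, hzd⟩ := hXmem u u.2
    set k := d * h with hk
    have hkT : ∀ t ∈ T, k * t * k⁻¹ = h * t * h⁻¹ := fun t ht => by
      have h1 := Subgroup.mem_centralizer_iff.mp hd.2 _ (hhN ht)
      calc k * t * k⁻¹ = d * (h * t * h⁻¹) * d⁻¹ := by rw [hk]; group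
        _ = _ := by rw [← h1, mul_inv_cancel_right]
    have hkR : ∀ y ∈ R, k * y * k⁻¹ ∈ R := by
      intro y hy
      have h1 : u * ⟨h * y * h⁻¹, hR' ⟨y, hy, rfl⟩⟩ * u⁻¹ ∈ (SX : Subgroup X) := by
        rw [← hu, Sylow.coe_subgroup_smul]
        exact Subgroup.smul_mem_pointwise_smul _ _ _ (hRX ⟨y, hy, rfl⟩)
      have h2 : (u : G) * (h * y * h⁻¹) * (u : G)⁻¹ ∈ R := h1
      have h3 := R.mul_mem (R.mul_mem (R.inv_mem hz) h2) hz
      rw [← hzd] at h3
      convert h3 using 1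
      rw [hk]
      group
    have hkH : k ∈ H := H.mul_mem hd.1 hh
    have hTR : T ⊔ R ≤ (S : Subgroup G) := sup_le hTS centralizerIn_le
    have hkn : k ∈ Subgroup.normalizer ((T ⊔ R : Subgroup G) : Set G) := by
      refine mem_normalizer_of_forall fun y hy => ?_
      have hle : T ⊔ R ≤ (T ⊔ R).comap (MulAut.conj k).toMonoidHom := sup_le
        (fun t ht => Subgroup.mem_sup_left (show k * t * k⁻¹ ∈ T by rw [hkT t ht]; exact hhN ht))
        (fun y hy => Subgroup.mem_sup_right (hkR y hy))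
      exact hle hy
    refine ⟨(T ⊔ R).normalizerMonoidHom ⟨k, hkn⟩, ?_, fun x => ?_, fun c hc => ?_⟩
    · rw [autGroup_gfs hTR]
      exact mem_autInducedBy_iff.mpr ⟨k, Subgroup.mem_top _, fun _ => rfl⟩
    · show k * (x : G) * k⁻¹ = _
      rw [hkT x x.2, ← autFun_coe, (hhα x x.2).1]
    · show (c : G)⁻¹ * (k * (c : G) * k⁻¹) ∈ T ⊓ Subgroup.centralizer (T : Set G)
      have h1 : (c : G)⁻¹ * (k * (c : G) * k⁻¹) ∈ R := R.mul_mem (R.inv_mem hc) (hkR _ hc)
      refine ⟨⟨h1.1, ?_⟩, h1.2⟩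
      have := H.mul_mem (hHc (c : G)⁻¹ hkH) (H.inv_mem hkH)
      show _ ∈ H
      convert this using 1
      group

end Cfsg.Agent.Fusion
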