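import Cfsg.Agent.Lib.Fusion.LocalControl
import Cfsg.Agent.Lib.Fusion.NormalizerSaturated
import Cfsg.Agent.Lib.Fusion.NormalCriteria
import Cfsg.Agent.Lib.Fusion.AlperinStrong
import Cfsg.Agent.Lib.Fusion.CoreDecomp
import Cfsg.Agent.Lib.Fusion.GroupHyperfocal
import Cfsg.Agent.Lib.Fusion.NormalSubgroupSystem
import Cfsg.Agent.Lib.Fusion.SolvableSystem
import Cfsg.Agent.Lib.Transfer.Replacement
import Cfsg.Agent.Lib.Transfer.MaxAbelian

/-!
A saturated system is generated by the centralizer of the `p`-th powers of `Z(S)` and the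
normalizer of `J(S)`.
-/

set_option autoImplicit false
set_option linter.style.haveILetI false

namespace Cfsg.Agent.Fusion

open Cfsg.FusionSystem (centralizerIn normalizerIn)
open Cfsg.Agent.Transfer (JAb IsMaxAbIn AbExp)
open scoped commutatorElement

/-- If `J(P)` does not centralize the abelian normal subgroup `Z`, an element outside the
centralizer fixes the `p`-th powers of `Z`. -/
theorem exists_fix_pow {P : Type*} [Group P] [Finite P] {p : ℕ} [hp : Fact p.Prime]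
    (hP : IsPGroup p P) (Z : Subgroup P) [Z.Normal] (hZ : IsMulCommutative Z)
    (hJ : ¬ JAb 0 (⊤ : Subgroup P) ≤ Subgroup.centralizer (Z : Set P)) :
    ∃ a, a ∉ Subgroup.centralizer (Z : Set P) ∧ ∀ z ∈ Z, a * z ^ p * a⁻¹ = z ^ p := by
  classical
  set C := Subgroup.centralizer (Z : Set P) with hC
  haveI : Fintype {A : Subgroup P // IsMaxAbIn 0 (⊤ : Subgroup P) A ∧ ¬ A ≤ C} := Fintype.ofFinite _
  obtain ⟨A₀, hA₀⟩ : ∃ A, IsMaxAbIn 0 (⊤ : Subgroup P) A ∧ ¬ A ≤ C := by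
    by_contra h
    push Not at h
    exact hJ (sSup_le h)
  obtain ⟨⟨A, hA, hAC⟩, -, hmax⟩ := Finset.exists_max_image
    (Finset.univ : Finset {A : Subgroup P // IsMaxAbIn 0 (⊤ : Subgroup P) A ∧ ¬ A ≤ C})
    (fun A => Nat.card (A.1 ⊓ Z : Subgroup P)) ⟨⟨A₀, hA₀⟩, Finset.mem_univ _⟩
  have hZZ : ⁅Z, Z⁆ = ⊥ := Subgroup.commutator_eq_bot_iff_le_centralizer.mpr fun x hx y hy =>
    congrArg Subtype.val (mul_comm' (⟨y, hy⟩ : Z) ⟨x, hx⟩)
  have hnorm : Z ≤ Subgroup.normalizer (A : Set P) := by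
    by_contra hnot
    obtain ⟨b, hb, hbN, hbA⟩ := Transfer.exists_normalizing_element hP Z A hnot
    obtain ⟨h1, h2, -, h4, h5, -, -, -, -, -, -⟩ :=
      Transfer.replaced_spec hP Z (fun _ => hZ) A hA.2.1.1 (hZZ ▸ bot_le) b hb hbN hbA
    have hR : IsMaxAbIn 0 (⊤ : Subgroup P) (Transfer.replaced A b) :=
      ⟨le_top, ⟨h2, fun _ _ => pow_zero _⟩, fun D hD hDe => h1 ▸ hA.2.2 D hD hDe⟩
    by_cases hRC : Transfer.replaced A b ≤ C
    · refine h5.ne (inf_eq_right.mpr fun z hz => ?_)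
      exact Transfer.mem_of_commute_maxAb hR (Subgroup.mem_top z) (pow_zero z)
        fun w hw => (Subgroup.mem_centralizer_iff.mp (hRC hw) z hz).symm
    · exact absurd (Basics.card_lt_of_lt h4)
        (not_lt.mpr (hmax ⟨Transfer.replaced A b, hR, hRC⟩ (Finset.mem_univ _)))
  obtain ⟨a₀, ha₀, ha₀C⟩ := SetLike.not_le_iff_exists.mp hAC
  obtain ⟨a, ha, haC, hapC⟩ : ∃ a ∈ A, a ∉ C ∧ a ^ p ∈ C := by
    have hex : ∃ i, a₀ ^ p ^ i ∈ C := by
      obtain ⟨i, hi⟩ := hP a₀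
      exact ⟨i, hi ▸ C.one_mem⟩
    have hpos : Nat.find hex ≠ 0 := fun h0 => ha₀C (by simpa [h0] using Nat.find_spec hex)
    obtain ⟨j, hj⟩ := Nat.exists_eq_succ_of_ne_zero hpos
    refine ⟨a₀ ^ p ^ j, pow_mem ha₀ _, Nat.find_min hex (by omega), ?_⟩
    rw [← pow_mul, ← pow_succ, ← Nat.succ_eq_add_one, ← hj]
    exact Nat.find_spec hex
  refine ⟨a, haC, fun z hz => ?_⟩
  set d := z⁻¹ * (a * z * a⁻¹) with hd
  have hdA : d ∈ A := by
    have h1 := (Subgroup.mem_normalizer_iff.mp (hnorm (Z.inv_mem hz)) a).mp ha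
    have h2 := A.mul_mem h1 (A.inv_mem ha)
    simpa [hd, mul_assoc] using h2
  have hdZ : d ∈ Z := Z.mul_mem (Z.inv_mem hz) (‹Z.Normal›.conj_mem z hz a)
  have hda : a * d * a⁻¹ = d := by
    rw [(Transfer.AbExp.commute hA.2.1 ha hdA).eq, mul_inv_cancel_right]
  have hz1 : a * z * a⁻¹ = z * d := by rw [hd, mul_inv_cancel_left]
  have hiter : ∀ i : ℕ, a ^ i * z * (a ^ i)⁻¹ = z * d ^ i := by
    intro i
    induction i with
    | zero => simp
    | succ i ih =>
      calc a ^ (i + 1) * z * (a ^ (i + 1))⁻¹ = a * (a ^ i * z * (a ^ i)⁻¹) * a⁻¹ := by group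
        _ = (a * z * a⁻¹) * (a * d ^ i * a⁻¹) := by rw [ih]; group
        _ = z * d ^ (i + 1) := by rw [hz1, ← conj_pow, hda, pow_succ', mul_assoc]
  have hdp : d ^ p = 1 := by
    have h1 := hiter p
    rw [(Subgroup.mem_centralizer_iff.mp hapC z hz).symm, mul_inv_cancel_right] at h1
    exact left_eq_mul.mp h1
  have hcm : Commute z d := congrArg Subtype.val (mul_comm' (⟨z, hz⟩ : Z) ⟨d, hdZ⟩)
  rw [← conj_pow, hz1, hcm.mul_pow, hdp, mul_one]

variable {Ω : Type*} [Group Ω] {S : Subgroup Ω} {F : FusionSystem S} {P Q R T : Subgroup Ω}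
variable {f : Ω → Ω} {p : ℕ}

theorem img_JAb_zero (hf : MapTo F T f) : img f (JAb 0 T) = JAb 0 (img f T) := by
  obtain ⟨φ, hφ, hφf⟩ := id hf
  have h1 : (JAb 0 T).subgroupOf T = JAb 0 (⊤ : Subgroup T) := by
    apply Subgroup.map_injective T.subtype_injective
    rw [Subgroup.subgroupOf_map_subtype, inf_eq_left.mpr (Transfer.JAb_le T),
      Transfer.map_JAb _ _ T.subtype_injective.injOn, ← MonoidHom.range_eq_map,
      Subgroup.range_subtype]
  rw [← map_subgroupOf_eq_img hφf (Transfer.JAb_le T), h1,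
    Transfer.map_JAb _ _ (F.injective_of_mem hφ).injOn, ← MonoidHom.range_eq_map,
    range_eq_img hφf]

theorem map_subtype_JAb (hT : T ≤ S) :
    (JAb 0 (T.subgroupOf S)).map S.subtype = JAb 0 T := by
  rw [Transfer.map_JAb _ _ S.subtype_injective.injOn, Subgroup.map_subgroupOf_eq_of_le hT]

variable [Finite S]

theorem JAb_eq_of_le_finite (hRT : R ≤ T) (hT : T ≤ S) (hJ : JAb 0 T ≤ R) :
    JAb 0 R = JAb 0 T := by
  rw [← map_subtype_JAb (hRT.trans hT), ← map_subtype_JAb hT,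
    Transfer.JAb_eq_of_le (S := T.subgroupOf S) (T := R.subgroupOf S)
    (fun x hx => hRT hx) fun x hx => hJ ?_]
  rw [← map_subtype_JAb hT]
  exact ⟨x, hx, rfl⟩

theorem mem_JAb_of_commute (hT : T ≤ S) {c : Ω} (hc : c ∈ T)
    (h : ∀ x ∈ JAb 0 T, Commute x c) : c ∈ JAb 0 T := by
  obtain ⟨A, hA⟩ := Transfer.exists_isMaxAbIn (e := 0) (T.subgroupOf S)
  have hle := Transfer.le_JAb hA
  rw [← map_subtype_JAb hT]
  refine ⟨⟨c, hT hc⟩, hle (Transfer.mem_of_commute_maxAb hA hc (pow_zero _) fun a ha => ?_), rfl⟩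
  exact Subtype.ext (h a (map_subtype_JAb hT ▸ ⟨a, hle ha, rfl⟩))

/-- The hypotheses on the subsystem. -/
structure AgemoHyp (F E : FusionSystem S) (p : ℕ) : Prop where
  cen : ∀ (P : Subgroup Ω) (f : Ω → Ω),
    MapTo F (P ⊔ Cfsg.powerClosure p 1 (S ⊓ Subgroup.centralizer (S : Set Ω))) f →
    (∀ x ∈ Cfsg.powerClosure p 1 (S ⊓ Subgroup.centralizer (S : Set Ω)), f x = x) → MapTo E P f
  nor : ∀ (P : Subgroup Ω) (f g : Ω → Ω), MapTo F (P ⊔ JAb 0 S) g → (∀ x ∈ P, g x = f x) →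
    img g (JAb 0 S) = JAb 0 S → MapTo E P f

/-- The statement proved by induction. -/
def AgemoGen (p : ℕ) {S : Subgroup Ω} (F : FusionSystem S) : Prop :=
  ∀ E : FusionSystem S, AgemoHyp F E p → ∀ (P : Subgroup Ω) (f : Ω → Ω), MapTo F P f → MapTo E P f

variable [Fact p.Prime]

omit [Finite S] [Fact p.Prime] in
theorem powerClosure_mono {A B : Subgroup Ω} (h : A ≤ B) :
    Cfsg.powerClosure p 1 A ≤ Cfsg.powerClosure p 1 B :=
  Subgroup.closure_mono fun _ ⟨x, hx, e⟩ => ⟨x, h hx, e⟩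

/-- Maps in a proper normalizer system. -/
theorem mapTo_of_nSys (hS : IsPGroup p S) (hF : F.IsSaturated p) {E : FusionSystem S}
    (hE : AgemoHyp F E p)
    (IH : ∀ (T : Subgroup Ω) [Finite T] (F' : FusionSystem T), IsPGroup p T → F'.IsSaturated p →
      (Nat.card T < Nat.card S ∨ (Nat.card T = Nat.card S ∧ mapsCard F' < mapsCard F)) →
      AgemoGen p F')
    {U : Subgroup Ω} (hU : F.IsFullyNormalized U) (hn : ¬ F.IsNormal U)
    (hJ : ∀ (P : Subgroup Ω) (f g : Ω → Ω), P ≤ normalizerIn S U →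
      (∀ x ∈ P, f x ∈ normalizerIn S U) → MapTo F (P ⊔ JAb 0 (normalizerIn S U)) g →
      (∀ x ∈ P, g x = f x) → img g (JAb 0 (normalizerIn S U)) = JAb 0 (normalizerIn S U) →
      MapTo E P f) :
    ∀ (P : Subgroup Ω) (f : Ω → Ω), MapTo (nSys F hU.1) P f → MapTo E P f := by
  set T := normalizerIn S U with hT
  have hTS : T ≤ S := normalizerIn_le
  haveI := finite_of_le hTS
  set N := nSys F hU.1 with hN
  have hsub : ∀ (P : Subgroup Ω) (f : Ω → Ω), MapTo N P f → MapTo F P f := by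
    intro P f hf
    obtain ⟨-, -, g, hg, hgf, -⟩ :=
      (mapTo_nSys_iff (isNormalizerSystem_nSys F hU.1)).mp hf
    exact (hg.restrict le_sup_left).congr' fun x hx => (hgf x hx).symm
  let E' : FusionSystem T := restrictSys N (fun P f => MapTo E P f)
    (fun _ h hfg => h.congr' hfg)
    (fun {P g} hP hg => mapTo_cj (hP.trans hTS) (hTS hg))
    (fun _ _ hm h h' => h.comp h' hm)
    (fun {P f g} hf _ hgf h => by
      obtain ⟨k, hk, hkf, -, -⟩ := h.exists_iso_inverse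
      refine hk.congr' fun y hy => ?_
      obtain ⟨x, hx, rfl⟩ := (hf.mem_img_iff le_rfl).mp hy
      rw [hgf x hx, hkf x hx])
  have hE'mk : ∀ (P : Subgroup Ω) (f : Ω → Ω), MapTo N P f → MapTo E P f → MapTo E' P f := by
    rintro P f ⟨φ, hφ, hφf⟩ hEf
    exact ⟨φ, ⟨hφ, hEf.congr' fun x hx => (ev_apply φ hx).trans (hφf ⟨x, hx⟩)⟩, hφf⟩
  have hE'of : ∀ (P : Subgroup Ω) (f : Ω → Ω), MapTo E' P f → MapTo E P f := by
    rintro P f ⟨φ, ⟨-, hEφ⟩, hφf⟩
    exact hEφ.congr' fun x hx => ((ev_apply φ hx).trans (hφf ⟨x, hx⟩)).symm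
  intro P f hf
  refine hE'of P f (IH T N (hS.to_le hTS)
    (isSaturated_normalizerSystem hS hF hU (isNormalizerSystem_nSys F hU.1))
    (card_lt_or_mapsCard_lt hTS N hsub fun _ => ?_) E' ⟨fun P f hg hfix => ?_, fun P f g hg hgf hgJ => ?_⟩
    P f hf)
  · by_contra h
    push Not at h
    refine hn (isNormal_iff.mpr ⟨hU.1, fun P f hf => ?_⟩)
    exact ((mapTo_nSys_iff (isNormalizerSystem_nSys F hU.1)).mp (h P f hf)).2.2
  · refine hE'mk P f (hg.restrict le_sup_left) (hE.cen P f ?_ fun x hx => hfix x ?_)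
    · refine (hsub _ _ hg).restrict (sup_le_sup_left (powerClosure_mono ?_) P)
      intro z hz
      have hzT : z ∈ T := mem_normalizerIn_of_forall hU.1 hz.1 fun y hy => by
        rw [← Subgroup.mem_centralizer_iff.mp hz.2 y (hU.1 hy), mul_inv_cancel_right]
        exact hy
      exact ⟨hzT, Subgroup.mem_centralizer_iff.mpr fun y hy =>
        Subgroup.mem_centralizer_iff.mp hz.2 y (hTS hy)⟩
    · refine powerClosure_mono ?_ hx
      intro z hz
      have hzT : z ∈ T := mem_normalizerIn_of_forall hU.1 hz.1 fun y hy => by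
        rw [← Subgroup.mem_centralizer_iff.mp hz.2 y (hU.1 hy), mul_inv_cancel_right]
        exact hy
      exact ⟨hzT, Subgroup.mem_centralizer_iff.mpr fun y hy =>
        Subgroup.mem_centralizer_iff.mp hz.2 y (hTS hy)⟩
  · have hfN : MapTo N P f := (hg.restrict le_sup_left).congr' fun x hx => (hgf x hx).symm
    exact hE'mk P f hfN
      (hJ P f g hfN.le (fun x hx => hfN.mem hx) (hsub _ _ hg) hgf hgJ)

/-- The constrained case. -/
theorem agemoGen_of_constrained (hS : IsPGroup p S) (hF : F.IsSaturated p)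
    (hc : F.IsCentric F.core)
    (IH : ∀ (T : Subgroup Ω) [Finite T] (F' : FusionSystem T), IsPGroup p T → F'.IsSaturated p →
      (Nat.card T < Nat.card S ∨ (Nat.card T = Nat.card S ∧ mapsCard F' < mapsCard F)) →
      AgemoGen p F') : AgemoGen p F := by
  intro E hE P₀ f₀ hf₀
  set Q := F.core
  have hQ : F.IsNormal Q := isNormal_core F
  have hQS := hQ.1
  haveI := finite_of_le hQS
  by_cases hJQ : JAb 0 S ≤ Q
  · obtain ⟨g, hg, hgf, hgQ⟩ := (isNormal_iff.mp hQ).2 P₀ f₀ hf₀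
    refine hE.nor P₀ f₀ g (hg.restrict (sup_le_sup_left hJQ _)) hgf ?_
    rw [← JAb_eq_of_le_finite hQS le_rfl hJQ, img_JAb_zero (hg.restrict le_sup_right), hgQ]
  set Z := Q ⊓ Subgroup.centralizer (Q : Set Ω) with hZ
  set W := Cfsg.powerClosure p 1 Z with hW
  have hWZ : W ≤ Z := (Subgroup.closure_le _).mpr (by
    rintro _ ⟨x, hx, rfl⟩; exact Z.pow_mem hx _)
  have hWQ : W ≤ Q := hWZ.trans inf_le_left
  have hZgen : ∀ z ∈ Z, z ^ p ^ 1 ∈ W := fun z hz => Subgroup.subset_closure ⟨z, hz, rfl⟩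
  have hZinv : ∀ {X : Subgroup Ω} {g : Ω → Ω}, MapTo F X g → Q ≤ X → ∀ x ∈ W, g x ∈ W := by
    intro X g hg hQX x hx
    have hgQ := StronglyClosed.img_eq (IsNormal.stronglyClosed hQ) hg hQX
    have hgZ : ∀ z ∈ Z, g z ∈ Z := fun z hz =>
      ⟨StronglyClosed.map_mem (IsNormal.stronglyClosed hQ) hg (hQX hz.1) hz.1,
        Subgroup.mem_centralizer_iff.mpr fun y hy => by
          obtain ⟨w, hw, rfl⟩ := (hg.mem_img_iff hQX).mp (hgQ.symm ▸ hy : y ∈ img g Q)
          rw [← hg.map_mul (hQX hw) (hQX hz.1), ← hg.map_mul (hQX hz.1) (hQX hw),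
            Subgroup.mem_centralizer_iff.mp hz.2 w hw]⟩
    induction hx using Subgroup.closure_induction with
    | mem y hy =>
      obtain ⟨z, hz, rfl⟩ := hy
      obtain ⟨φ, -, hφ⟩ := id hg
      have e : g (z ^ p ^ 1) = g z ^ p ^ 1 := by
        rw [← hφ ⟨_, X.pow_mem (hQX hz.1) _⟩, ← hφ ⟨z, hQX hz.1⟩, ← map_pow]
        rfl
      exact e ▸ hZgen _ (hgZ z hz)
    | one => rw [hg.map_one]; exact W.one_mem
    | mul a b ha hb iha ihb => rw [hg.map_mul (hQX (hWQ ha)) (hQX (hWQ hb))]; exact W.mul_mem iha ihb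
    | inv a ha iha => rw [hg.map_inv (hQX (hWQ ha))]; exact W.inv_mem iha
  have hWn : F.IsNormal W := by
    haveI := finite_of_le (hWQ.trans hQS)
    refine isNormal_iff.mpr ⟨hWQ.trans hQS, fun X f hf => ?_⟩
    obtain ⟨g, hg, hgf, -⟩ := (isNormal_iff.mp hQ).2 X f hf
    exact ⟨g, hg.restrict (sup_le_sup_left hWQ _), hgf, img_eq_self_of_forall
      (hg.restrict (hWQ.trans le_sup_right)) (hZinv hg le_sup_right)⟩
  set R₀ := centralizerIn S W with hR₀
  have hR₀c : F.StronglyClosed R₀ := stronglyClosed_centralizerIn hWn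
  have hR₀n : S ≤ Subgroup.normalizer (R₀ : Set Ω) := StronglyClosed.le_normalizer hR₀c
  have hNR₀ : normalizerIn S R₀ = S := le_antisymm normalizerIn_le (le_inf le_rfl hR₀n)
  have hR₀f : F.IsFullyNormalized R₀ := ⟨centralizerIn_le, fun X _ => by
    rw [hNR₀]; exact Subgroup.card_le_of_le normalizerIn_le⟩
  have hVW : Cfsg.powerClosure p 1 (S ⊓ Subgroup.centralizer (S : Set Ω)) ≤ W := by
    refine powerClosure_mono fun z hz => ⟨centralizerIn_le_of_isCentric hc
      (mem_centralizerIn.mpr ⟨hz.1, fun y hy => Subgroup.mem_centralizer_iff.mp hz.2 y (hQS hy)⟩),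
      Subgroup.mem_centralizer_iff.mpr fun y hy =>
        Subgroup.mem_centralizer_iff.mp hz.2 y (hQS hy)⟩
  have hR₀not : ¬ F.IsNormal R₀ := by
    intro hn
    have hle : R₀ ≤ Q := le_core hn
    haveI : (Q.subgroupOf S).Normal :=
      (Subgroup.normal_subgroupOf_iff_le_normalizer hQS).mpr (IsNormal.le_normalizer hQ)
    haveI : (Z.subgroupOf S).Normal := by
      have h := (inferInstance : ((Q.subgroupOf S) ⊓
        Subgroup.centralizer ((Q.subgroupOf S : Subgroup S) : Set S)).Normal)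
      convert h using 1
      ext x
      refine ⟨fun hx => ⟨hx.1, Subgroup.mem_centralizer_iff.mpr fun y hy =>
        Subtype.ext (Subgroup.mem_centralizer_iff.mp hx.2 y hy)⟩, fun hx => ⟨hx.1,
        Subgroup.mem_centralizer_iff.mpr fun y hy => ?_⟩⟩
      exact congrArg Subtype.val (Subgroup.mem_centralizer_iff.mp hx.2 ⟨y, hQS hy⟩ hy)
    haveI hZc : IsMulCommutative (Z.subgroupOf S) := ⟨⟨fun a b => Subtype.ext (Subtype.ext
      (Subgroup.mem_centralizer_iff.mp b.2.2 _ a.2.1))⟩⟩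
    have hnotle : ¬ JAb 0 (⊤ : Subgroup S) ≤ Subgroup.centralizer ((Z.subgroupOf S : Subgroup S) : Set S) := by
      intro hle'
      refine hJQ ?_
      rw [← map_subtype_JAb le_rfl, Subgroup.subgroupOf_self]
      rintro _ ⟨s, hs, rfl⟩
      refine hle (mem_centralizerIn.mpr ⟨s.2, fun w hw => ?_⟩)
      exact congrArg Subtype.val
        (Subgroup.mem_centralizer_iff.mp (hle' hs) ⟨w, hQS (hWQ hw)⟩ (hWZ hw))
    obtain ⟨a, haC, hfix⟩ := exists_fix_pow hS (Z.subgroupOf S) hZc hnotle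
    refine haC (Subgroup.mem_centralizer_iff.mpr fun y hy => Subtype.ext ?_)
    refine (Subgroup.mem_centralizer_iff.mp (hy : (y : Ω) ∈ Z).2 _ (hle ?_)).symm
    refine mem_centralizerIn.mpr ⟨a.2, fun w hw => ?_⟩
    induction hw using Subgroup.closure_induction with
    | mem w hw =>
      obtain ⟨z, hz, rfl⟩ := hw
      have h1 := congrArg Subtype.val (hfix ⟨z, hQS hz.1⟩ hz)
      simp only [Subgroup.coe_mul, Subgroup.coe_pow, InvMemClass.coe_inv] at h1
      rw [pow_one]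
      exact (mul_inv_eq_iff_eq_mul.mp h1).symm
    | one => simp
    | mul x y _ _ hx hy => exact ((Commute.mul_left (show Commute x (a : Ω) from hx) hy)).eq
    | inv x _ hx => exact ((show Commute x (a : Ω) from hx).inv_left).eq
  have hnSys : ∀ (P : Subgroup Ω) (f : Ω → Ω), MapTo (nSys F hR₀f.1) P f → MapTo E P f :=
    mapTo_of_nSys hS hF hE IH hR₀f hR₀not fun P f g _ _ hg hgf hgJ => by
      rw [hNR₀] at hg hgJ
      exact hE.nor P f g hg hgf hgJ
  refine alperin_prop_strong hS hF (fun P f => MapTo E P f) (fun _ h h' => h.congr' h')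
    (fun hP hg => mapTo_cj hP hg) (fun _ _ hm h h' => h.comp h' hm)
    (fun {P f g} hf _ hgf h => ?_) (fun X hX hbig α hα => ?_) hf₀
  · obtain ⟨k, hk, hkf, -, -⟩ := h.exists_iso_inverse
    refine hk.congr' fun y hy => ?_
    obtain ⟨x, hx, rfl⟩ := (hf.mem_img_iff le_rfl).mp hy
    rw [hgf x hx, hkf x hx]
  obtain ⟨hQX, -⟩ := le_and_invariant_of_isNormal hS hQ X hX
  have hXS : X ≤ S := by
    rcases hX with rfl | h
    · exact le_rfl
    · exact h.1.1
  haveI := finite_of_le hXS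
  haveI := finite_mulAut X
  have hfα := mapTo_of_mem_autGroup hXS hα
  by_cases hR₀X : R₀ ≤ X
  · refine hnSys X _ ((mapTo_nSys_iff (isNormalizerSystem_nSys F hR₀f.1)).mpr
      ⟨hNR₀.symm ▸ hXS, fun x hx => hNR₀.symm ▸ hfα.mem hx, autFun α,
        by rwa [sup_eq_left.mpr hR₀X], fun _ _ => rfl, StronglyClosed.img_eq hR₀c hfα hR₀X⟩)
  have hess : F.IsEssential p X := hX.resolve_left fun h => hR₀X (h ▸ centralizerIn_le)
  obtain ⟨k, hkR, hkX, hkN⟩ :=
    exists_mem_normalizer_not_mem hS hXS centralizerIn_le (hXS.trans hR₀n) hR₀X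
  let K : Subgroup (F.autGroup X) :=
    { carrier := {γ | ∀ x ∈ W, autFun (γ : MulAut X) x = x}
      one_mem' := fun x hx => autFun_one (hQX (hWQ hx))
      mul_mem' := fun {u v} hu hv x hx => by
        rw [Subgroup.coe_mul, autFun_mul _ _ (hQX (hWQ hx)), hv x hx, hu x hx]
      inv_mem' := fun {u} hu x hx => by
        conv_lhs => rw [← hu x hx]
        rw [InvMemClass.coe_inv, autFun_inv_autFun _ (hQX (hWQ hx))] }
  have hKn : K.Normal := ⟨fun γ hγ δ x hx => by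
    have hxX := hQX (hWQ hx)
    have hb := hZinv (mapTo_of_mem_autGroup hXS ((F.autGroup X).inv_mem δ.2)) hQX x hx
    show autFun ((δ : MulAut X) * (γ : MulAut X) * (δ : MulAut X)⁻¹) x = x
    rw [autFun_mul _ _ hxX, autFun_mul _ _ (autFun_mem _ hxX), hγ _ hb,
      autFun_autFun_inv _ hxX]⟩
  obtain ⟨-, T, hT⟩ := isFullyAutomized_of_isFullyNormalized hS hF hess.2.1
  obtain ⟨γ, hγ⟩ := exists_conjAut hkN.2
  have hγI : γ ∈ autInducedBy S X := mem_autInducedBy_iff_cj.mpr ⟨k, hkN.1, hγ⟩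
  have hγK : (⟨γ, autInducedBy_le_autGroup hXS hγI⟩ : F.autGroup X) ∈ K := fun x hx => by
    show autFun γ x = x
    rw [hγ x (hQX (hWQ hx)), cj_apply, ← (mem_centralizerIn.mp hkR).2 x hx, mul_inv_cancel_right]
  obtain ⟨TK, hTK⟩ := exists_sylow_inf T K
  have htop := Sylow.normalizer_sup_eq_top TK
  have hmap : (TK : Subgroup K).map K.subtype = (T : Subgroup (F.autGroup X)) ⊓ K := by
    rw [hTK]; exact Subgroup.map_subgroupOf_eq_of_le inf_le_right
  rw [hmap] at htop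
  obtain ⟨β, hβ, κ, hκ, hβκ⟩ : ∃ β ∈ Subgroup.normalizer
      (((T : Subgroup (F.autGroup X)) ⊓ K : Subgroup (F.autGroup X)) : Set (F.autGroup X)),
      ∃ κ ∈ K, β * κ = ⟨α, hα⟩ := by
    have hmem := (htop ▸ Subgroup.mem_top (⟨α, hα⟩ : F.autGroup X) :
      (⟨α, hα⟩ : F.autGroup X) ∈ Subgroup.normalizer _ ⊔ K)
    rw [← SetLike.mem_coe, Subgroup.mul_normal] at hmem
    exact Set.mem_mul.mp hmem
  have hext : Extends F X (β : MulAut X) := by
    refine extends_of_conj_mem hS hF hess.2.1 β.2 hkN hkX hγ ?_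
    have h1 := ((Subgroup.mem_normalizer_iff.mp hβ ⟨γ, autInducedBy_le_autGroup hXS hγI⟩).mp
      ⟨show _ ∈ (T : Subgroup (F.autGroup X)) from hT ▸ hγI, hγK⟩).1
    rw [hT] at h1
    exact h1
  obtain ⟨X', g, hlt, hg, hgβ⟩ := hext
  haveI := finite_of_le hg.le
  have hβE : MapTo E X (autFun (β : MulAut X)) := by
    refine ((hbig X' g ?_ hg).restrict hlt.le).congr' fun x hx => (hgβ x hx).symm
    refine lt_of_le_of_ne (Subgroup.card_le_of_le hlt.le) fun he => ?_
    exact hlt.ne (Subgroup.eq_of_le_of_card_ge hlt.le he.ge)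
  have hκE : MapTo E X (autFun (κ : MulAut X)) := by
    refine hE.cen X _ ?_ fun x hx => hκ x (hVW hx)
    rw [sup_eq_left.mpr (hVW.trans (hWQ.trans hQX))]
    exact mapTo_of_mem_autGroup hXS κ.2
  have e : α = (β : MulAut X) * (κ : MulAut X) := (congrArg Subtype.val hβκ).symm
  refine (hκE.comp hβE fun x hx => autFun_mem _ hx).congr' fun x hx => ?_
  rw [e, autFun_mul _ _ hx]

end Cfsg.Agent.Fusion
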