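import Cfsg.Agent.Lib.Fusion.AgemoGeneration

/-!
Generation by the centralizer of `℧¹(Z(S))` and the normalizer of `J(S)`: the induction.
-/

set_option autoImplicit false
set_option linter.style.haveILetI false

namespace Cfsg.Agent.Fusion

open Cfsg.FusionSystem (centralizerIn normalizerIn)
open Cfsg.Agent.Transfer (JAb)

variable {Ω : Type*} [Group Ω] {S : Subgroup Ω} {F : FusionSystem S} {p : ℕ}
variable [Finite S] [Fact p.Prime]

/-- In a non-constrained system `J(R)` is not normal, `R` centric radical or `S`. -/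
theorem not_isNormal_JAb (hS : IsPGroup p S) (hc : ¬ F.IsCentric F.core) {R : Subgroup Ω}
    (hR : F.IsCentric R) (hr : R = S ∨ F.IsRadical p R) (hQR : F.core ≤ R) :
    ¬ F.IsNormal (JAb 0 R) := by
  intro hW
  set Q := F.core
  have hQ : F.IsNormal Q := isNormal_core F
  have hWQ := le_core hW
  have hJQ : JAb 0 Q = JAb 0 R := JAb_eq_of_le_finite hQR hR.1 hWQ
  have hin : R ⊓ centralizerIn S Q ≤ Q := fun c hc' => hWQ (mem_JAb_of_commute hR.1 hc'.1
    fun x hx => (mem_centralizerIn.mp hc'.2).2 x (hWQ hx))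
  have hfc : F.IsFullyCentralized Q := ⟨hQ.1, fun X hX => by
    obtain ⟨f, hf, rfl⟩ := isConj_iff.mp hX
    rw [StronglyClosed.img_eq (IsNormal.stronglyClosed hQ) hf le_rfl]⟩
  by_cases hle : centralizerIn S Q ≤ R
  · exact hc (isCentric_of_isFullyCentralized hfc fun c hc' => hin ⟨hle hc', hc'⟩)
  have hC := stronglyClosed_centralizerIn hQ
  have hrad : F.IsRadical p R := hr.resolve_left fun h => hle (h ▸ centralizerIn_le)
  obtain ⟨k, hkC, hkR, hkN⟩ := exists_mem_normalizer_not_mem hS hR.1 centralizerIn_le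
    (hR.1.trans (StronglyClosed.le_normalizer hC)) hle
  refine hkR (mem_of_stabilizes_series hS hR hrad hkN ![⊥, Q, R] rfl rfl (fun i => ?_)
    (fun i α hα x hx => ?_) fun i x hx => ?_)
  · fin_cases i
    · exact bot_le
    · exact hQR
    · exact le_rfl
  · have hm := mapTo_of_mem_autGroup hR.1 hα
    fin_cases i
    · have hx1 : x = 1 := Subgroup.mem_bot.mp hx
      show autFun α x ∈ (⊥ : Subgroup Ω)
      rw [hx1, hm.map_one]
      exact Subgroup.one_mem _
    · exact StronglyClosed.map_mem (IsNormal.stronglyClosed hQ) hm (hQR hx) hx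
    · exact autFun_mem α hx
  · fin_cases i
    · have h1 := (mem_centralizerIn.mp hkC).2 x hx
      show x⁻¹ * (k * x * k⁻¹) ∈ (⊥ : Subgroup Ω)
      rw [Subgroup.mem_bot, ← h1]
      group
    · show x⁻¹ * (k * x * k⁻¹) ∈ Q
      refine hin ⟨R.mul_mem (R.inv_mem hx) (conj_mem_of_mem_normalizerIn hkN hx), ?_⟩
      rw [show x⁻¹ * (k * x * k⁻¹) = x⁻¹ * k * x * k⁻¹ by group]
      refine (centralizerIn S Q).mul_mem ?_ ((centralizerIn S Q).inv_mem hkC)
      simpa using StronglyClosed.conj_mem hC (S.inv_mem (hR.1 hx)) hkC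

theorem agemoGen_of_not_constrained (hS : IsPGroup p S) (hF : F.IsSaturated p)
    (hc : ¬ F.IsCentric F.core)
    (IH : ∀ (T : Subgroup Ω) [Finite T] (F' : FusionSystem T), IsPGroup p T → F'.IsSaturated p →
      (Nat.card T < Nat.card S ∨ (Nat.card T = Nat.card S ∧ mapsCard F' < mapsCard F)) →
      AgemoGen p F') : AgemoGen p F := by
  intro E hE
  set Q := F.core
  have hQ : F.IsNormal Q := isNormal_core F
  have hQc := IsNormal.stronglyClosed hQ
  let Pre : Subgroup Ω → Prop := fun U => ¬ F.IsNormal U ∧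
    ∃ R, Q ≤ R ∧ ¬ F.IsNormal (JAb 0 R) ∧ R ≤ normalizerIn S U
  have hinv : ∀ {P : Subgroup Ω} {f g : Ω → Ω}, MapTo F P f → (∀ x ∈ P, g (f x) = x) →
      MapTo E P f → MapTo E (img f P) g := by
    intro P f g hf hgf h
    obtain ⟨k, hk, hkf, -, -⟩ := h.exists_iso_inverse
    refine hk.congr' fun y hy => ?_
    obtain ⟨x, hx, rfl⟩ := (hf.mem_img_iff le_rfl).mp hy
    rw [hgf x hx, hkf x hx]
  -- maps with big domain
  have big : ∀ n : ℕ, (∀ (U : Subgroup Ω) (hU : F.IsFullyNormalized U), Pre U →
      n < Nat.card (normalizerIn S U : Subgroup Ω) →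
      ∀ (P : Subgroup Ω) (f : Ω → Ω), MapTo (nSys F hU.1) P f → MapTo E P f) →
      ∀ (P : Subgroup Ω) (f : Ω → Ω), MapTo F P f → n < Nat.card P → MapTo E P f := by
    intro n h P₀ f₀ hf₀ hn₀
    refine alperin_prop hS hF (fun P f => n < Nat.card P → MapTo E P f)
      (fun {P f g} _ hC hfg hn => (hC hn).congr' hfg)
      (fun {P g} hP hg _ => mapTo_cj hP hg)
      (fun {P R f g} hf hg hfR h₁ h₂ hn => (h₁ hn).comp (h₂ ?_) hfR)
      (fun {P f g} hf _ hgf h₁ hn => hinv hf hgf (h₁ ?_))
      (fun R hR α hα hn => ?_) hf₀ hn₀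
    · have := finite_of_le hg.le
      refine hn.trans_le ?_
      rw [← hf.card_img le_rfl]
      exact Subgroup.card_le_of_le (img_le_of_forall hfR)
    · rwa [hf.card_img le_rfl] at hn
    · have hR' : F.IsFullyNormalized R ∧ F.IsCentric R ∧ (R = S ∨ F.IsRadical p R) := by
        rcases hR with rfl | hR
        · exact ⟨isFullyNormalized_top, isCentric_top, Or.inl rfl⟩
        · exact ⟨hR.2.1, hR.1, Or.inr (isRadical_of_isEssential hS hR)⟩
      have hRS := hR'.1.1
      have hQR := (le_and_invariant_of_isNormal hS hQ R hR).1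
      have hnot : ¬ F.IsNormal R := fun hn' => hc (isCentric_mono hR'.2.1 (le_core hn') hQ.1)
      have := finite_of_le (normalizerIn_le (S := S) (P := R))
      refine h R hR'.1 ⟨hnot, R, hQR, not_isNormal_JAb hS hc hR'.2.1 hR'.2.2 hQR,
          le_normalizerIn hRS⟩ (hn.trans_le (Subgroup.card_le_of_le (le_normalizerIn hRS))) R _
        ((mapTo_nSys_iff (isNormalizerSystem_nSys F hRS)).mpr
          ⟨le_normalizerIn hRS, fun x hx => le_normalizerIn hRS (autFun_mem α hx), autFun α,
            by rw [sup_idem]; exact mapTo_of_mem_autGroup hRS hα, fun _ _ => rfl, img_autFun α⟩)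
  have key : ∀ k : ℕ, ∀ (U : Subgroup Ω) (hU : F.IsFullyNormalized U), Pre U →
      Nat.card S ≤ Nat.card (normalizerIn S U : Subgroup Ω) + k →
      ∀ (P : Subgroup Ω) (f : Ω → Ω), MapTo (nSys F hU.1) P f → MapTo E P f := by
    intro k
    induction k using Nat.strong_induction_on with
    | _ k ih =>
      intro U hU hPre hk
      obtain ⟨hUn, R, hQR, hJR, hRU⟩ := hPre
      refine mapTo_of_nSys hS hF hE IH hU hUn fun P f g hP hfT hg hgf hgW => ?_
      set T := normalizerIn S U with hT
      have hTS : T ≤ S := normalizerIn_le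
      rcases eq_or_lt_of_le hTS with hTeq | hlt
      · rw [hTeq] at hg hgW
        exact hE.nor P f g hg hgf hgW
      set W := JAb 0 T with hW
      have hWT : W ≤ T := Transfer.JAb_le T
      have hWS := hWT.trans hTS
      set N := normalizerIn S W with hN
      haveI := finite_of_le hTS
      have hTnorm : normalizerIn S T ≤ N := by
        intro s hs
        haveI := finite_of_le hWS
        refine mem_normalizerIn_of_forall hWS hs.1 fun x hx => ?_
        have h1 : img (cj s) T = T := by
          rw [img_cj]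
          exact Subgroup.mem_normalizer_iff_map_conj_eq.mp hs.2
        have h2 := img_JAb_zero (mapTo_cj (F := F) hTS hs.1)
        rw [h1] at h2
        exact h2.le (mem_img_of_mem hx)
      haveI := finite_of_le (normalizerIn_le (S := S) (P := W))
      have hTN : T ≤ N := (le_normalizerIn hTS).trans hTnorm
      have hTlt : Nat.card T < Nat.card N := by
        haveI := finite_of_le (normalizerIn_le (S := S) (P := T))
        refine lt_of_lt_of_le ?_ (Subgroup.card_le_of_le hTnorm)
        have h1 := lt_normalizerIn hS hlt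
        exact lt_of_le_of_ne (Subgroup.card_le_of_le h1.le) fun e =>
          h1.ne (Subgroup.eq_of_le_of_card_ge h1.le e.ge)
      obtain ⟨U', hWU', hU'⟩ := exists_isFullyNormalized (F := F) hWS
      obtain ⟨γ, hγ, hγW⟩ := exists_map_normalizerIn hS
        (isFullyAutomized_of_isFullyNormalized hS hF hU')
        (isReceptive_of_isFullyNormalized hS hF hU') hWU'
      have hbigN : Nat.card N ≤ Nat.card (normalizerIn S U' : Subgroup Ω) :=
        hU'.2 W (isConj_symm hWU')
      obtain ⟨δ, hδ, hδγ, -, hδimg⟩ := hγ.exists_iso_inverse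
      have hγnorm : ∀ x ∈ N, γ x ∈ normalizerIn S U' := fun x hx => by
        haveI := finite_of_le hU'.1
        refine mem_normalizerIn_of_forall hU'.1 (hγ.mem hx) fun z hz => ?_
        obtain ⟨w, hw, rfl⟩ := (hγ.mem_img_iff (hWT.trans hTN)).mp (hγW.ge hz)
        rw [← hγ.map_conj hx (hWT.trans hTN hw), ← hγW]
        exact mem_img_of_mem (conj_mem_of_mem_normalizerIn hx hw)
      have hback : ∀ X, X ≤ N → F.IsNormal (img γ X) → F.IsNormal X := by
        intro X hX hn
        have h1 := StronglyClosed.img_eq (IsNormal.stronglyClosed hn) (hδ.restrict (img_mono hX))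
          le_rfl
        rw [hδimg X hX] at h1
        rwa [h1]
      have hPre' : Pre U' := by
        have hWn : ¬ F.IsNormal W := fun hWn => hJR
          ((JAb_eq_of_le_finite hRU hTS ((le_core hWn).trans hQR)).symm ▸ hWn)
        refine ⟨fun h => hWn (hback W (hWT.trans hTN) (hγW.symm ▸ h)), img γ R, ?_, fun h => ?_,
          img_le_of_forall fun x hx => hγnorm x (hTN (hRU hx))⟩
        · exact (StronglyClosed.img_eq hQc hγ (hQR.trans (hRU.trans hTN))).ge.trans (img_mono hQR)
        · rw [← img_JAb_zero (hγ.restrict (hRU.trans hTN))] at h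
          exact hJR (hback _ ((Transfer.JAb_le R).trans (hRU.trans hTN)) h)
      have hG : ∀ (X : Subgroup Ω) (e : Ω → Ω), MapTo F X e → Nat.card T < Nat.card X →
          MapTo E X e := by
        intro X e he hX
        refine big (Nat.card T) (fun U₁ hU₁ hP₁ hbig => ?_) X e he hX
        have := Subgroup.card_le_of_le (normalizerIn_le (S := S) (P := U₁))
        exact ih (k - 1) (by omega) U₁ hU₁ hP₁ (by omega)
      have hγE : MapTo E N γ := hG N γ hγ hTlt
      set D := P ⊔ W with hD
      have hPN : P ≤ N := hP.trans hTN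
      have hDN : D ≤ N := sup_le hPN (hWT.trans hTN)
      have hgD : ∀ x ∈ D, g x ∈ N := by
        have : img g D ≤ N := by
          rw [hD, hg.img_sup le_sup_left le_sup_right, hgW, img_congr hgf]
          exact sup_le (img_le_of_forall fun x hx => hTN (hfT x hx)) (hWT.trans hTN)
        exact fun x hx => this (mem_img_of_mem hx)
      have hδD : ∀ y ∈ img γ D, δ y ∈ D := fun y hy => by
        obtain ⟨x, hx, rfl⟩ := (hγ.mem_img_iff hDN).mp hy
        rw [hδγ x (hDN hx)]; exact hx
      have hh3 : MapTo F (img γ D) (fun y => γ (g (δ y))) :=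
        ((hδ.restrict (img_mono hDN)).comp hg hδD).comp hγ fun y hy => hgD _ (hδD y hy)
      have himgD : img γ D = img γ P ⊔ U' := by
        rw [hD, hγ.img_sup hPN (hWT.trans hTN), hγW]
      have himgU' : img (fun y => γ (g (δ y))) U' = U' := by
        haveI := finite_of_le hU'.1
        refine img_eq_self_of_forall (hh3.restrict (himgD ▸ le_sup_right)) fun y hy => ?_
        obtain ⟨w, hw, rfl⟩ := (hγ.mem_img_iff (hWT.trans hTN)).mp (hγW.ge hy)
        show γ (g (δ (γ w))) ∈ U'
        rw [hδγ w (hWT.trans hTN hw), ← hγW]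
        exact mem_img_of_mem (hgW.le (mem_img_of_mem hw))
      have hf3 : MapTo (nSys F hU'.1) (img γ P) (fun y => γ (g (δ y))) :=
        (mapTo_nSys_iff (isNormalizerSystem_nSys F hU'.1)).mpr
          ⟨img_le_of_forall fun x hx => hγnorm x (hPN hx),
            fun y hy => hγnorm _ (hgD _ (hδD y (img_mono le_sup_left hy))),
            _, himgD ▸ hh3, fun _ _ => rfl, himgU'⟩
      have hE3 : MapTo E (img γ P) (fun y => γ (g (δ y))) := by
        have := Subgroup.card_le_of_le (normalizerIn_le (S := S) (P := U'))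
        exact ih (k - 1) (by omega) U' hU' hPre' (by omega) _ _ hf3
      have hfP : img f P ≤ N := img_le_of_forall fun x hx => hTN (hfT x hx)
      obtain ⟨k', hk', hk'γ, -, -⟩ := (hγE.restrict hfP).exists_iso_inverse
      have h1 := (hγE.restrict hPN).comp hE3 fun x hx => mem_img_of_mem hx
      have hmem : ∀ x ∈ P, γ (g (δ (γ x))) ∈ img γ (img f P) := fun x hx => by
        rw [hδγ x (hPN hx), hgf x hx]
        exact mem_img_of_mem (mem_img_of_mem hx)
      refine (h1.comp hk' hmem).congr' fun x hx => ?_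
      show f x = k' (γ (g (δ (γ x))))
      rw [hδγ x (hPN hx), hgf x hx, hk'γ _ (mem_img_of_mem hx)]
  intro P f hf
  refine big 0 (fun U hU hP _ => key (Nat.card S) U hU hP (Nat.le_add_left _ _)) P f hf ?_
  have := finite_of_le hf.le
  exact Nat.card_pos

/-- A saturated system is generated by `C_F(℧¹(Z(S)))` and `N_F(J(S))`. -/
theorem agemoGen (hS : IsPGroup p S) (hF : F.IsSaturated p) : AgemoGen p F := by
  suffices key : ∀ (n m : ℕ) (S : Subgroup Ω) [Finite S] (F : FusionSystem S), IsPGroup p S →
      F.IsSaturated p → Nat.card S = n → mapsCard F = m → AgemoGen p F from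
    key _ _ S F hS hF rfl rfl
  intro n
  induction n using Nat.strong_induction_on with
  | _ n ihn =>
    intro m
    induction m using Nat.strong_induction_on with
    | _ m ihm =>
      intro S _ F hS hF hn hm
      have IH : ∀ (T : Subgroup Ω) [Finite T] (F' : FusionSystem T), IsPGroup p T →
          F'.IsSaturated p →
          (Nat.card T < Nat.card S ∨ (Nat.card T = Nat.card S ∧ mapsCard F' < mapsCard F)) →
          AgemoGen p F' := by
        intro T _ F' hT hF' h
        rcases h with h | ⟨h, h'⟩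
        · exact ihn _ (hn ▸ h) _ T F' hT hF' rfl rfl
        · exact ihm _ (hm ▸ h') T F' hT hF' (h.trans hn) rfl
      by_cases hc : F.IsCentric F.core
      · exact agemoGen_of_constrained hS hF hc IH
      · exact agemoGen_of_not_constrained hS hF hc IH

end Cfsg.Agent.Fusion
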