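import Cfsg.Agent.Lib.Fusion.AltModel

/-!
# Strongly closed subgroups of Sylow subgroups of alternating groups
-/

set_option autoImplicit false

namespace Cfsg.Agent.AltModel

open Equiv

variable {p r : ℕ} [Fact p.Prime] {ι : Type*} [Fintype ι] [DecidableEq ι]

local notation "Pm" => Perm ((ι × ZMod p) ⊕ Fin r)

/-- The indicator vector of a set of blocks. -/
def ind (s : Finset ι) : ι → ZMod p := fun i => if i ∈ s then 1 else 0

theorem card_support_ind (s : Finset ι) : (bv (r := r) (ind (p := p) s)).support.card = s.card * p := by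
  rw [card_support_bv]
  congr 2
  ext i
  by_cases h : i ∈ s <;> simp [ind, h]

theorem card_support_single (i : ι) {c : ZMod p} (hc : c ≠ 0) :
    (bv (r := r) (Pi.single i c)).support.card = 1 * p := by
  rw [card_support_bv]
  congr 1
  rw [Finset.card_eq_one]
  exact ⟨i, by ext j; by_cases h : j = i <;> simp [Pi.single_apply, h, hc]⟩

theorem sign_eq_one_of_pow (hp : p ≠ 2) {β : Type*} [Fintype β] [DecidableEq β] {x : Perm β} (hx : x ^ p = 1) :
    Perm.sign x = 1 := by
  have h := congrArg Perm.sign hx
  rw [map_pow, map_one] at h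
  obtain ⟨k, hk⟩ := (Fact.out : p.Prime).odd_of_ne_two hp
  rw [hk, pow_succ, pow_mul, Int.units_sq, one_pow, one_mul] at h
  exact h

theorem sign_eq_neg_one_pow_of_sq {β : Type*} [Fintype β] [DecidableEq β] {x : Perm β} (hx : x ^ 2 = 1) (k : ℕ)
    (hk : x.support.card = k * 2) : Perm.sign x = (-1) ^ k := by
  haveI : Fact (Nat.Prime 2) := ⟨Nat.prime_two⟩
  have h1 : ∀ n ∈ x.cycleType, n = 2 := by
    intro n hn
    have hd : n ∣ 2 := (Perm.dvd_of_mem_cycleType hn).trans (orderOf_dvd_of_pow_eq_one hx)
    have := Perm.two_le_of_mem_cycleType hn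
    have := Nat.le_of_dvd two_pos hd
    omega
  have h2 := Multiset.eq_replicate_card.2 h1
  rw [← Perm.sum_cycleType, h2, Multiset.sum_replicate, smul_eq_mul] at hk
  rw [Perm.sign_of_cycleType, h2, Multiset.sum_replicate, Multiset.card_replicate, smul_eq_mul]
  rw [pow_add, pow_mul', neg_one_sq, one_pow, one_mul]
  congr 1
  omega

theorem sign_lift_swap (hp : p ≠ 2) {i j : ι} (h : i ≠ j) :
    Perm.sign (lift (p := p) (r := r) (swap i j)) = -1 := by
  obtain ⟨k, hk⟩ := (Fact.out : p.Prime).odd_of_ne_two hp
  rw [sign_lift, Perm.sign_swap h, hk, pow_succ, pow_mul, Int.units_sq, one_pow, one_mul]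

/-- Indicator permutations have odd centralisers. -/
theorem exists_odd_commute (hm : 3 ≤ Fintype.card ι) (s : Finset ι) :
    ∃ c : Pm, Perm.sign c = -1 ∧ Commute c (bv (ind s)) := by
  by_cases hp : p = 2
  · subst hp
    obtain ⟨i⟩ : Nonempty ι := Fintype.card_pos_iff.1 (by omega)
    refine ⟨bv (Pi.single i 1), ?_, bv_comm _ _⟩
    rw [sign_eq_neg_one_pow_of_sq (bv_pow_p _) 1 (card_support_single i one_ne_zero), pow_one]
  · obtain ⟨i, j, hij, he⟩ := Fintype.exists_ne_map_eq_of_card_lt (fun i => decide (i ∈ s))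
      (by rw [Fintype.card_bool]; omega)
    refine ⟨lift (swap i j), sign_lift_swap hp hij, ?_⟩
    show lift (swap i j) * bv (ind s) = bv (ind s) * lift (swap i j)
    rw [← mul_inv_eq_iff_eq_mul, lift_conj_bv]
    congr 1
    funext k
    have : (swap i j k ∈ s) ↔ k ∈ s := by
      rw [decide_eq_decide] at he
      rcases eq_or_ne k i with rfl | h1
      · rw [swap_apply_left]; exact he.symm
      rcases eq_or_ne k j with rfl | h2
      · rw [swap_apply_right]; exact he
      rw [swap_apply_of_ne_of_ne h1 h2]
    by_cases h : k ∈ s <;> simp [ind, symm_swap, h, this]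

theorem card_points : Fintype.card ((ι × ZMod p) ⊕ Fin r) = Fintype.card ι * p + r := by
  simp [Fintype.card_sum, Fintype.card_prod, ZMod.card]

/-- Elements of order `p` with supports of the same size are conjugate by an even permutation. -/
theorem exists_even_conj (hm : 3 ≤ Fintype.card ι) (hr : r < p) {x y : Pm} (hx : x ^ p = 1) (hy : y ^ p = 1)
    (h : x.support.card = y.support.card) : ∃ g : Pm, Perm.sign g = 1 ∧ g * x * g⁻¹ = y := by
  have canon : ∀ {x : Pm}, x ^ p = 1 → ∀ s : Finset ι, x.support.card = s.card * p →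
      ∃ g : Pm, Perm.sign g = 1 ∧ g * x * g⁻¹ = bv (ind s) := by
    intro x hx s hs
    obtain ⟨g, hg⟩ := isConj_iff.1 (isConj_of_card_support hx (bv_pow_p (r := r) (ind s))
      (hs.trans (card_support_ind s).symm))
    rcases Int.units_eq_one_or (Perm.sign g) with h1 | h1
    · exact ⟨g, h1, hg⟩
    obtain ⟨c, hc, hcc⟩ := exists_odd_commute (p := p) (r := r) hm s
    refine ⟨c * g, by rw [map_mul, hc, h1]; rfl, ?_⟩
    calc c * g * x * (c * g)⁻¹ = c * (g * x * g⁻¹) * c⁻¹ := by group
      _ = bv (ind s) := by rw [hg, hcc.eq, mul_inv_cancel_right]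
  obtain ⟨k, hk⟩ := dvd_card_support hx
  have hkm : k ≤ Fintype.card ι := by
    have h1 : x.support.card ≤ Fintype.card ι * p + r := card_points (p := p) (r := r) (ι := ι) ▸ Finset.card_le_univ _
    rw [hk] at h1
    by_contra hlt
    have : (Fintype.card ι + 1) * p ≤ k * p := Nat.mul_le_mul_right p (by omega)
    rw [Nat.mul_comm p k] at h1
    rw [Nat.add_mul, one_mul] at this
    omega
  obtain ⟨s, -, hs⟩ := Finset.exists_subset_card_eq (s := (Finset.univ : Finset ι)) (n := k) (by rwa [Finset.card_univ])
  have hs' : x.support.card = s.card * p := by rw [hk, hs, mul_comm]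
  obtain ⟨g, hg, hgx⟩ := canon hx s hs'
  obtain ⟨g', hg', hgy⟩ := canon hy s (h ▸ hs')
  refine ⟨g'⁻¹ * g, by rw [map_mul, map_inv, hg, hg', inv_one, one_mul], ?_⟩
  calc g'⁻¹ * g * x * (g'⁻¹ * g)⁻¹ = g'⁻¹ * (g * x * g⁻¹) * g' := by group
    _ = y := by rw [hgx, ← hgy]; group

/-- A non-trivial strongly closed subgroup contains all elements of order `p`. -/
theorem closed_all (hm : 3 ≤ Fintype.card ι) (hr : r < p) (Sp T : Subgroup Pm)
    (hSp : IsPGroup p Sp) (hev : ∀ x ∈ Sp, Perm.sign x = 1) (hT : T ≤ Sp) (hT1 : T ≠ ⊥)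
    (hcl : ∀ g : Pm, Perm.sign g = 1 → ∀ x ∈ T, g * x * g⁻¹ ∈ Sp → g * x * g⁻¹ ∈ T)
    (hB : ∀ v : ι → ZMod p, Perm.sign (bv (r := r) v) = 1 → bv v ∈ Sp)
    (hlift : p = 2 → ∃ a b : ι, a ≠ b ∧ lift (swap a b) ∈ Sp) :
    ∀ x ∈ Sp, x ^ p = 1 → x ∈ T := by
  classical
  have key : ∀ {x y : Pm}, x ∈ T → x ^ p = 1 → y ∈ Sp → y ^ p = 1 → x.support.card = y.support.card → y ∈ T := by
    intro x y hx hxp hy hyp hc
    obtain ⟨g, hg, rfl⟩ := exists_even_conj hm hr hxp hyp hc
    exact hcl g hg x hx hy
  obtain ⟨x₀, hx₀, hx₀p, hx₀1⟩ : ∃ x ∈ T, x ^ p = 1 ∧ x ≠ 1 := by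
    have hd : p ∣ Nat.card T := by
      obtain ⟨k, hk⟩ := IsPGroup.iff_card.1 (hSp.to_le hT)
      rcases k with _ | k
      · exact absurd (Subgroup.card_eq_one.1 (by simpa using hk)) hT1
      · exact hk ▸ dvd_pow_self p k.succ_ne_zero
    obtain ⟨x, hx⟩ := exists_prime_orderOf_dvd_card' p hd
    refine ⟨x, x.2, ?_, fun h => ?_⟩
    · have := pow_orderOf_eq_one x
      rw [hx] at this
      simpa using congrArg Subtype.val this
    · rw [show x = 1 from Subtype.ext h, orderOf_one] at hx
      exact (Fact.out : p.Prime).ne_one hx.symm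
  obtain ⟨k, hk⟩ := dvd_card_support hx₀p
  rw [mul_comm] at hk
  have hk0 : k ≠ 0 := fun h => hx₀1 (Perm.support_eq_empty_iff.1 (Finset.card_eq_zero.1 (by rw [hk, h, zero_mul])))
  have hkm : k ≤ Fintype.card ι := by
    have h1 : x₀.support.card ≤ Fintype.card ι * p + r := card_points (p := p) (r := r) (ι := ι) ▸ Finset.card_le_univ _
    rw [hk] at h1
    by_contra hlt
    have : (Fintype.card ι + 1) * p ≤ k * p := Nat.mul_le_mul_right p (by omega)
    rw [Nat.add_mul, one_mul] at this
    omega
  obtain ⟨s, -, hs⟩ := Finset.exists_subset_card_eq (s := (Finset.univ : Finset ι)) (n := k) (by rwa [Finset.card_univ])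
  suffices hall : ∀ v : ι → ZMod p, Perm.sign (bv (r := r) v) = 1 → bv v ∈ T by
    intro y hy hyp
    obtain ⟨l, hl⟩ := dvd_card_support hyp
    have hlm : l ≤ Fintype.card ι := by
      have h1 : y.support.card ≤ Fintype.card ι * p + r := card_points (p := p) (r := r) (ι := ι) ▸ Finset.card_le_univ _
      rw [hl, mul_comm p l] at h1
      by_contra hlt
      have : (Fintype.card ι + 1) * p ≤ l * p := Nat.mul_le_mul_right p (by omega)
      rw [Nat.add_mul, one_mul] at this
      omega
    obtain ⟨t, -, ht⟩ := Finset.exists_subset_card_eq (s := (Finset.univ : Finset ι)) (n := l) (by rwa [Finset.card_univ])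
    have hc : y.support.card = (bv (r := r) (ind (p := p) t)).support.card := by
      rw [card_support_ind, ht, hl, mul_comm]
    obtain ⟨g, -, hgy⟩ := exists_even_conj hm hr hyp (bv_pow_p _) hc
    have hsg : Perm.sign (bv (r := r) (ind (p := p) t)) = 1 := by
      rw [← hgy]; simp [hev y hy]
    exact key (hall _ hsg) (bv_pow_p _) hy hyp hc.symm
  by_cases hp : p = 2
  · subst hp
    have hkev : Even k := by
      have h := sign_eq_neg_one_pow_of_sq hx₀p k hk
      rw [hev x₀ (hT hx₀)] at h
      rcases Nat.even_or_odd k with he | ho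
      · exact he
      · rw [ho.neg_one_pow] at h; exact absurd h (by decide)
    have hsgn : ∀ t : Finset ι, Perm.sign (bv (r := r) (ind (p := 2) t)) = (-1) ^ t.card := fun t =>
      sign_eq_neg_one_pow_of_sq (bv_pow_p _) _ (card_support_ind t)
    have hvT : ∀ t : Finset ι, t.card = k → bv (ind t) ∈ T := fun t ht =>
      key hx₀ hx₀p (hB _ (by rw [hsgn, ht, hkev.neg_one_pow])) (bv_pow_p _) (by rw [card_support_ind, ht, hk])
    have hpair : ∃ z ∈ T, z ^ 2 = 1 ∧ z.support.card = 2 * 2 := by
      rcases eq_or_lt_of_le hkm with hkm | hkm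
      · obtain ⟨a, b, hab, hl⟩ := hlift rfl
        set t : Finset ι := Finset.univ \ {a, b} with ht
        have htc : t.card = k - 2 := by
          rw [ht, Finset.card_sdiff, Finset.inter_univ, Finset.card_univ, Finset.card_pair hab, hkm]
        have hw : lift (swap a b) * bv (ind t) ∈ Sp :=
          mul_mem hl (hB _ (by rw [hsgn, htc]; exact ((Nat.even_sub (by omega)).2 (iff_of_true hkev even_two)).neg_one_pow))
        obtain ⟨v, hv⟩ : ∃ v : Perm ((ι × ZMod 2) ⊕ Fin r), v = bv (ind Finset.univ) := ⟨_, rfl⟩
        obtain ⟨w, hwd⟩ : ∃ w : Perm ((ι × ZMod 2) ⊕ Fin r), w = lift (swap a b) * bv (ind t) := ⟨_, rfl⟩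
        rw [← hwd] at hw
        have hcomm : Commute (lift (p := 2) (r := r) (swap a b)) (bv (ind t)) := by
          show _ = _
          rw [← mul_inv_eq_iff_eq_mul, lift_conj_bv]
          congr 1
          funext i
          rcases eq_or_ne i a with rfl | h1
          · simp [ind, ht]
          rcases eq_or_ne i b with rfl | h2
          · simp [ind, ht]
          simp [swap_apply_of_ne_of_ne h1 h2]
        have hw2 : w ^ 2 = 1 := by
          rw [hwd, hcomm.mul_pow, bv_pow_p, mul_one, ← map_pow, pow_two, swap_mul_self, map_one]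
        have hvw : Commute v w := by
          rw [hv, hwd]
          refine Commute.mul_right ?_ (bv_comm _ _)
          show _ = _
          rw [eq_comm, ← mul_inv_eq_iff_eq_mul, lift_conj_bv]
          congr 1
          funext i
          simp [ind]
        have hws : w.support.card = k * 2 := by
          have e : w.support = (Finset.univ : Finset (ι × ZMod 2)).map ⟨Sum.inl, Sum.inl_injective⟩ := by
            ext x
            rcases x with ⟨i, z⟩ | x
            · simp only [Perm.mem_support, Finset.mem_map, Finset.mem_univ, true_and, ne_eq]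
              refine iff_of_true ?_ ⟨(i, z), rfl⟩
              rcases eq_or_ne i a with rfl | h1
              · simp [hwd, ind, ht, hab.symm]
              rcases eq_or_ne i b with rfl | h2
              · simp [hwd, ind, ht, hab]
              simp [hwd, ind, ht, h1, h2, swap_apply_of_ne_of_ne h1 h2]
            · simp [hwd]
          rw [e, Finset.card_map, Finset.card_univ, Fintype.card_prod, ZMod.card, hkm]
        refine ⟨v * w, mul_mem (hv ▸ hvT _ (by rw [Finset.card_univ, hkm]))
          (key hx₀ hx₀p hw hw2 (by rw [hws, hk])), by rw [hvw.mul_pow, hw2, hv, bv_pow_p, one_mul], ?_⟩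
        have e : (v * w).support = (({a, b} : Finset ι) ×ˢ (Finset.univ : Finset (ZMod 2))).map
            ⟨Sum.inl, Sum.inl_injective⟩ := by
          ext x
          rcases x with ⟨i, z⟩ | x
          · simp only [Perm.mem_support, Finset.mem_map, Finset.mem_product, Finset.mem_univ, and_true, ne_eq,
              Function.Embedding.coeFn_mk, Sum.inl.injEq, exists_eq_right]
            rcases eq_or_ne i a with rfl | h1
            · simp [hv, hwd, ind, ht, hab.symm]
            rcases eq_or_ne i b with rfl | h2
            · simp [hv, hwd, ind, ht, hab]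
            simp [hv, hwd, ind, ht, h1, h2, swap_apply_of_ne_of_ne h1 h2, ← add_assoc, CharTwo.add_self_eq_zero]
          · simp [hv, hwd]
        rw [e, Finset.card_map, Finset.card_product, Finset.card_pair hab, Finset.card_univ, ZMod.card]
      · obtain ⟨a, ha⟩ := Finset.card_pos.1 (show 0 < s.card by omega)
        obtain ⟨b, hb⟩ : ∃ b, b ∉ s := by
          by_contra hc
          push_neg at hc
          rw [Finset.eq_univ_iff_forall.2 hc, Finset.card_univ] at hs
          omega
        have hab : a ≠ b := fun h => hb (h ▸ ha)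
        have ht : (insert b (s.erase a)).card = k := by
          rw [Finset.card_insert_of_notMem (by simp [hb]), Finset.card_erase_of_mem ha, hs]; omega
        refine ⟨bv (ind s) * bv (ind (insert b (s.erase a))), mul_mem (hvT _ hs) (hvT _ ht), ?_, ?_⟩
        · rw [← bv_add, bv_pow_p]
        · rw [← bv_add, show (ind s + ind (insert b (s.erase a)) : ι → ZMod 2) = ind {a, b} from ?_,
            card_support_ind, Finset.card_pair hab]
          funext i
          rcases eq_or_ne i a with rfl | h1
          · simp [ind, ha, hab]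
          rcases eq_or_ne i b with rfl | h2
          · simp [ind, hb]
          by_cases h : i ∈ s <;> simp [ind, h, h1, h2, CharTwo.add_self_eq_zero]
    obtain ⟨z, hz, hz2, hzc⟩ := hpair
    have h2T : ∀ t : Finset ι, t.card = 2 → bv (ind t) ∈ T := fun t ht =>
      key hz hz2 (hB _ (by rw [hsgn, ht]; rfl)) (bv_pow_p _) (by rw [card_support_ind, ht, hzc])
    have hsets : ∀ (l : ℕ) (t : Finset ι), t.card = l → Even l → bv (ind t) ∈ T := by
      intro l
      induction l using Nat.strong_induction_on with
      | _ l ih =>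
        intro t ht hl
        rcases Nat.eq_zero_or_pos l with rfl | hpos
        · rw [Finset.card_eq_zero.1 ht]
          rw [show (ind (∅ : Finset ι) : ι → ZMod 2) = 0 from funext fun i => by simp [ind], bv_zero]
          exact one_mem T
        obtain ⟨q, hq⟩ := hl
        obtain ⟨u, hu, huc⟩ := Finset.exists_subset_card_eq (s := t) (show 2 ≤ t.card by omega)
        have he : (ind t : ι → ZMod 2) = ind u + ind (t \ u) := by
          funext i
          by_cases h : i ∈ u
          · simp [ind, h, hu h]
          · by_cases h' : i ∈ t <;> simp [ind, h, h']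
        rw [he, bv_add]
        refine mul_mem (h2T u huc) (ih (l - 2) (by omega) _ ?_ ⟨q - 1, by omega⟩)
        rw [Finset.card_sdiff, Finset.inter_eq_left.2 hu, ht, huc]
    intro v hv
    have hv' : v = ind (Finset.univ.filter fun i => v i ≠ 0) := by
      funext i
      by_cases h : v i = 0
      · simp [ind, h]
      · have : v i = 1 := (Fin.eq_one_of_ne_zero (v i) h)
        simp [ind, this]
    rw [hv'] at hv ⊢
    rw [hsgn] at hv
    refine hsets _ _ rfl ?_
    rcases Nat.even_or_odd (Finset.univ.filter fun i => v i ≠ 0).card with he | ho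
    · exact he
    · rw [ho.neg_one_pow] at hv; exact absurd hv (by decide)
  · have hsg : ∀ v : ι → ZMod p, Perm.sign (bv (r := r) v) = 1 := fun v => sign_eq_one_of_pow hp (bv_pow_p v)
    have hvT : ∀ v : ι → ZMod p, (bv (r := r) v).support.card = k * p → bv v ∈ T := fun v hv =>
      key hx₀ hx₀p (hB _ (hsg v)) (bv_pow_p _) (by rw [hv, hk])
    obtain ⟨a, ha⟩ := Finset.card_pos.1 (show 0 < s.card by omega)
    have h2 : (2 : ZMod p) ≠ 0 := by
      intro h
      have := (ZMod.natCast_eq_zero_iff 2 p).1 (by simpa using h)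
      exact hp ((Nat.prime_dvd_prime_iff_eq Fact.out Nat.prime_two).1 this)
    have h1 : bv (Pi.single a 1) ∈ T := by
      have hw : bv (r := r) (Pi.single a (1 : ZMod p) + ind s) ∈ T := by
        refine hvT _ ?_
        rw [card_support_bv]
        congr 1
        rw [← hs]
        congr 1
        ext i
        rcases eq_or_ne i a with rfl | h
        · rw [Finset.mem_filter]; simp [ind, ha, one_add_one_eq_two, h2]
        · rw [Finset.mem_filter]; by_cases h' : i ∈ s <;> simp [ind, h', h]
      have := mul_mem hw (inv_mem (hvT (ind s) (by rw [card_support_ind, hs])))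
      rwa [bv_add, mul_inv_cancel_right] at this
    intro v _
    rw [← Finset.univ_sum_single v]
    refine Finset.sum_induction _ (fun w => bv (r := r) w ∈ T) (fun u w hu hw => by rw [bv_add]; exact mul_mem hu hw)
      (by rw [bv_zero]; exact one_mem T) fun i _ => ?_
    by_cases hi : v i = 0
    · rw [hi, Pi.single_zero, bv_zero]; exact one_mem T
    · exact key h1 (bv_pow_p _) (hB _ (hsg _)) (bv_pow_p _)
        (by rw [card_support_single a one_ne_zero, card_support_single i hi])

end Cfsg.Agent.AltModel
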