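import Cfsg.Agent.Lib.Fusion.AltClosed

/-!
# The automorphisms of the base seen from a plane of translations
-/

set_option autoImplicit false

namespace Cfsg.Agent.AltModel

open Equiv

variable {p r s : ℕ} [Fact p.Prime]

local notation "Idx" => ZMod p ⊕ Fin s
local notation "Pm" => Perm (((ZMod p ⊕ Fin s) × ZMod p) ⊕ Fin r)

/-- The translations of a plane and of the remaining cycles. -/
def qHom : Multiplicative (ZMod p × ZMod p × (Fin s → ZMod p)) →* Pm where
  toFun t := bv (Sum.elim (fun _ => t.toAdd.2.1) t.toAdd.2.2) *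
    lift (Equiv.sumCongr (Equiv.addRight t.toAdd.1) (Equiv.refl _))
  map_one' := by
    ext a
    rcases a with ⟨i | i, z⟩ | a <;> simp
  map_mul' t u := by
    ext a
    rcases a with ⟨i | i, z⟩ | a <;> simp <;> ring_nf <;> trivial

/-- The elements of the plane subgroup. -/
def qel (a b : ZMod p) (w : Fin s → ZMod p) : Pm := qHom (Multiplicative.ofAdd (a, b, w))

@[simp] theorem qel_inl (a b : ZMod p) (w : Fin s → ZMod p) (i z : ZMod p) :
    qel (r := r) a b w (Sum.inl (Sum.inl i, z)) = Sum.inl (Sum.inl (i + a), b + z) := by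
  simp [qel, qHom]

@[simp] theorem qel_inr (a b : ZMod p) (w : Fin s → ZMod p) (j : Fin s) (z : ZMod p) :
    qel (r := r) a b w (Sum.inl (Sum.inr j, z)) = Sum.inl (Sum.inr j, w j + z) := by
  simp [qel, qHom]

@[simp] theorem qel_fix (a b : ZMod p) (w : Fin s → ZMod p) (k : Fin r) :
    qel a b w (Sum.inr k) = Sum.inr k := by
  simp [qel, qHom]

/-- The subgroup of translations of the plane. -/
def planeSub : Subgroup Pm := (qHom (p := p) (r := r) (s := s)).range

theorem qel_mem (a b : ZMod p) (w : Fin s → ZMod p) : qel (r := r) a b w ∈ planeSub (r := r) :=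
  ⟨Multiplicative.ofAdd (a, b, w), rfl⟩

theorem exists_qel {x : Pm} (hx : x ∈ planeSub (p := p) (r := r) (s := s)) : ∃ a b w, x = qel a b w := by
  obtain ⟨t, rfl⟩ := hx
  exact ⟨t.toAdd.1, t.toAdd.2.1, t.toAdd.2.2, rfl⟩

/-- The base: all translations of the cycles. -/
def baseSub : Subgroup Pm := (bvHom (p := p) (r := r) (ι := ZMod p ⊕ Fin s)).range

theorem bv_mem_base (v : Idx → ZMod p) : bv (r := r) v ∈ baseSub (r := r) := ⟨Multiplicative.ofAdd v, rfl⟩

theorem exists_bv {x : Pm} (hx : x ∈ baseSub (p := p) (r := r) (s := s)) : ∃ v, x = bv v := by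
  obtain ⟨t, rfl⟩ := hx
  exact ⟨t.toAdd, rfl⟩

theorem plane_conj_base {x : Pm} (hx : x ∈ planeSub (p := p) (r := r) (s := s)) (v : Idx → ZMod p) :
    ∃ w, x * bv v * x⁻¹ = bv (r := r) w := by
  obtain ⟨t, rfl⟩ := hx
  set σ : Perm Idx := Equiv.sumCongr (Equiv.addRight t.toAdd.1) (Equiv.refl _)
  set c : Pm := bv (Sum.elim (fun _ => t.toAdd.2.1) t.toAdd.2.2) with hc
  refine ⟨fun i => v (σ.symm i), ?_⟩
  show c * lift σ * bv v * (c * lift σ)⁻¹ = _
  rw [mul_inv_rev, show c * lift σ * bv v * ((lift σ)⁻¹ * c⁻¹) = c * (lift σ * bv v * (lift σ)⁻¹) * c⁻¹ by group,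
    lift_conj_bv, hc, bv_comm, mul_inv_cancel_right]

/-- The shear of the plane in the second coordinate. -/
def uu (a : ZMod p) : Pm := bv (Sum.elim (fun i => a * i) 0)

/-- The shear of the plane in the first coordinate. -/
def ll (a : ZMod p) : Pm where
  toFun := Sum.map (fun x => (Sum.map (fun i => i + a * x.2) id x.1, x.2)) id
  invFun := Sum.map (fun x => (Sum.map (fun i => i - a * x.2) id x.1, x.2)) id
  left_inv x := by rcases x with ⟨i | i, z⟩ | x <;> simp
  right_inv x := by rcases x with ⟨i | i, z⟩ | x <;> simp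

@[simp] theorem ll_inl (a i z : ZMod p) :
    ll (r := r) (s := s) a (Sum.inl (Sum.inl i, z)) = Sum.inl (Sum.inl (i + a * z), z) := rfl

@[simp] theorem ll_inr (a : ZMod p) (j : Fin s) (z : ZMod p) :
    ll (r := r) a (Sum.inl (Sum.inr j, z)) = Sum.inl (Sum.inr j, z) := rfl

@[simp] theorem ll_fix (a : ZMod p) (k : Fin r) : ll (s := s) a (Sum.inr k) = Sum.inr k := rfl

theorem ll_pow (a : ZMod p) (k : ℕ) : ll (r := r) (s := s) a ^ k = ll (k • a) := by
  induction k with
  | zero => ext x; rcases x with ⟨i | i, z⟩ | x <;> simp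
  | succ k ih => rw [pow_succ, ih]; ext x; rcases x with ⟨i | i, z⟩ | x <;> simp [succ_nsmul, add_mul] <;> ring

theorem ll_pow_p (a : ZMod p) : ll (r := r) (s := s) a ^ p = 1 := by
  rw [ll_pow, show p • a = 0 by simp]; ext x; rcases x with ⟨i | i, z⟩ | x <;> simp

/-- The rotation of the plane. -/
def rot : Pm := uu 1 * ll (-1) * uu 1

@[simp] theorem rot_inl (i z : ZMod p) :
    rot (r := r) (s := s) (Sum.inl (Sum.inl i, z)) = Sum.inl (Sum.inl (-z), i) := by
  simp [rot, uu]

@[simp] theorem rot_inr (j : Fin s) (z : ZMod p) :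
    rot (r := r) (Sum.inl (Sum.inr j, z)) = Sum.inl (Sum.inr j, z) := by
  simp [rot, uu]

@[simp] theorem rot_fix (k : Fin r) : rot (p := p) (s := s) (Sum.inr k) = Sum.inr k := by
  simp [rot, uu]

theorem sign_rot (hp : p ≠ 2) : Perm.sign (rot (p := p) (r := r) (s := s)) = 1 := by
  simp [rot, uu, sign_eq_one_of_pow hp (bv_pow_p _), sign_eq_one_of_pow hp (ll_pow_p _)]

theorem rot_conj_plane {x : Pm} (hx : x ∈ planeSub (p := p) (r := r) (s := s)) :
    rot * x * rot⁻¹ ∈ planeSub (r := r) := by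
  obtain ⟨a, b, w, rfl⟩ := exists_qel hx
  rw [show rot * qel (r := r) a b w * rot⁻¹ = qel (-b) a w from ?_]
  · exact qel_mem _ _ _
  rw [mul_inv_eq_iff_eq_mul]
  ext x
  rcases x with ⟨i | i, z⟩ | x <;> simp <;> ring_nf <;> trivial

theorem rot_conj_uu (a : ZMod p) : rot * uu a * rot⁻¹ = ll (r := r) (s := s) (-a) := by
  rw [mul_inv_eq_iff_eq_mul]
  ext x
  rcases x with ⟨i | i, z⟩ | x <;> simp [uu] <;> ring_nf <;> trivial

/-- The diagonal element of the plane. -/
def diag (a : (ZMod p)ˣ) : Pm :=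
  lift (Equiv.sumCongr (a⁻¹).mulLeft (Equiv.refl _)) * mult (Sum.elim (fun _ => a) 1)

theorem diag_eq (a : (ZMod p)ˣ) :
    uu (a : ZMod p) * ll (-((a⁻¹ : (ZMod p)ˣ) : ZMod p)) * uu (a : ZMod p) * rot⁻¹ = diag (r := r) (s := s) a := by
  rw [mul_inv_eq_iff_eq_mul]
  have e : ((a⁻¹ : (ZMod p)ˣ) : ZMod p) * (a : ZMod p) = 1 := Units.inv_mul a
  ext x
  rcases x with ⟨i | i, z⟩ | x
  · simp only [Perm.mul_apply, rot_inl, diag, uu, bv_inl, ll_inl, Sum.elim_inl, mult_inl, lift_inl,
      Equiv.sumCongr_apply, Sum.map_inl, Units.mulLeft_apply, Sum.inl.injEq, Prod.mk.injEq]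
    constructor
    · linear_combination (-i) * e
    · linear_combination (-((a : ZMod p) * i + z)) * e
  · simp only [Perm.mul_apply, rot_inr, diag, uu, bv_inl, ll_inr, Sum.elim_inr, mult_inl, lift_inl,
      Equiv.sumCongr_apply, Sum.map_inr, Pi.zero_apply, zero_add, Pi.one_apply, Units.val_one, one_mul,
      Equiv.refl_apply, id_eq]
  · simp only [Perm.mul_apply, rot_fix, diag, uu, bv_inr, ll_fix, mult_inr, lift_inr]

/-- A `p`-subgroup containing the base and the plane. -/
def bigSub : Subgroup Pm := baseSub (p := p) (r := r) (s := s) ⊔ planeSub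

theorem isPGroup_bigSub : IsPGroup p (bigSub (p := p) (r := r) (s := s)) := by
  have hpow : ∀ {H : Subgroup Pm}, (∀ x ∈ H, x ^ p = 1) → IsPGroup p H :=
    fun {H} h x => ⟨1, by rw [pow_one]; exact Subtype.ext (h x x.2)⟩
  have h1 : IsPGroup p (baseSub (p := p) (r := r) (s := s)) := hpow fun x hx => by
    obtain ⟨v, rfl⟩ := exists_bv hx
    exact bv_pow_p v
  have h2 : IsPGroup p (planeSub (p := p) (r := r) (s := s)) := hpow fun x hx => by
    obtain ⟨t, rfl⟩ := hx
    rw [← map_pow, ← map_one (qHom (p := p) (r := r) (s := s))]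
    congr 1
    refine Multiplicative.toAdd.injective ?_
    rw [toAdd_pow, toAdd_one]
    exact Prod.ext (by simp) (Prod.ext (by simp) (funext fun i => by simp))
  refine IsPGroup.to_sup_of_normal_left' h1 h2 fun x hx => ?_
  refine Subgroup.mem_normalizer_fintype ?_
  intro y hy
  obtain ⟨v, rfl⟩ := exists_bv hy
  obtain ⟨w, hw⟩ := plane_conj_base hx v
  rw [hw]; exact bv_mem_base w

theorem sign_bigSub (hp : p ≠ 2) {x : Pm} (hx : x ∈ bigSub (p := p) (r := r) (s := s)) : Perm.sign x = 1 := by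
  obtain ⟨k, hk⟩ := isPGroup_bigSub (⟨x, hx⟩ : bigSub (p := p) (r := r) (s := s))
  have h := congrArg (fun y : bigSub (p := p) (r := r) (s := s) => Perm.sign (y : Pm)) hk
  simp only [SubmonoidClass.coe_pow, map_pow, OneMemClass.coe_one, map_one] at h
  obtain ⟨q, hq⟩ := ((Fact.out : p.Prime).odd_of_ne_two hp).pow (n := k)
  rw [hq, pow_succ, pow_mul, Int.units_sq, one_pow, one_mul] at h
  exact h

theorem diag_conj_big (a : (ZMod p)ˣ) {x : Pm} (hx : x ∈ bigSub (p := p) (r := r) (s := s)) :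
    diag a * x * (diag a)⁻¹ ∈ bigSub (r := r) := by
  suffices h : bigSub (p := p) (r := r) (s := s) ≤ (bigSub).comap (MulAut.conj (diag a)).toMonoidHom from h hx
  refine sup_le ?_ ?_
  · intro y hy
    obtain ⟨v, rfl⟩ := exists_bv hy
    show diag a * bv v * (diag a)⁻¹ ∈ bigSub
    refine Subgroup.mem_sup_left ?_
    rw [diag, show ∀ A B : Pm, A * B * bv v * (A * B)⁻¹ = A * (B * bv v * B⁻¹) * A⁻¹ from fun A B => by group,
      mult_conj_bv, lift_conj_bv]
    exact bv_mem_base _
  · intro y hy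
    obtain ⟨i, b, w, rfl⟩ := exists_qel hy
    show diag a * qel i b w * (diag a)⁻¹ ∈ bigSub
    refine Subgroup.mem_sup_right ?_
    rw [show diag a * qel (r := r) i b w * (diag a)⁻¹ = qel (((a⁻¹ : (ZMod p)ˣ) : ZMod p) * i) ((a : ZMod p) * b) w
      from ?_]
    · exact qel_mem _ _ _
    rw [mul_inv_eq_iff_eq_mul]
    ext x
    rcases x with ⟨j | j, z⟩ | x <;>
      simp only [Perm.mul_apply, diag, qel_inl, qel_inr, qel_fix, mult_inl, mult_inr, lift_inl, lift_inr,
        Sum.elim_inl, Sum.elim_inr, Equiv.sumCongr_apply, Sum.map_inl, Sum.map_inr, Units.mulLeft_apply,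
        Pi.one_apply, Units.val_one, one_mul, mul_add, Equiv.refl_apply, id_eq]

theorem centralizer_plane (hr : r ≤ 1) (g : Pm) (hg : ∀ x ∈ planeSub (p := p) (r := r) (s := s), g * x = x * g) :
    g ∈ planeSub (p := p) (r := r) (s := s) := by
  have hc : ∀ a b w x, g (qel a b w x) = qel a b w (g x) := fun a b w x =>
    congrArg (fun f : Pm => f x) (hg _ (qel_mem (r := r) a b w))
  obtain ⟨i₀, z₀, h0⟩ : ∃ i z, g (Sum.inl (Sum.inl 0, 0)) = Sum.inl (Sum.inl i, z) := by
    have e := hc 1 0 0 (Sum.inl (Sum.inl 0, 0))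
    rcases hv : g (Sum.inl (Sum.inl 0, 0)) with ⟨i | j, z⟩ | k
    · exact ⟨i, z, rfl⟩
    · rw [hv] at e
      simp only [qel_inl, qel_inr, Pi.zero_apply, zero_add] at e
      rw [← hv] at e
      exact absurd (g.injective e) (by simp)
    · rw [hv] at e
      simp only [qel_inl, qel_fix, zero_add] at e
      rw [← hv] at e
      exact absurd (g.injective e) (by simp)
  have h1 : ∀ i z, g (Sum.inl (Sum.inl i, z)) = Sum.inl (Sum.inl (i₀ + i), z + z₀) := fun i z => by
    have e := hc i z 0 (Sum.inl (Sum.inl 0, 0))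
    rw [h0] at e
    simpa [qel_inl] using e
  have h2 : ∀ j, ∃ w, g (Sum.inl (Sum.inr j, 0)) = Sum.inl (Sum.inr j, w) := by
    intro j
    have e := hc 0 0 (Pi.single j 1) (Sum.inl (Sum.inr j, 0))
    rcases hv : g (Sum.inl (Sum.inr j, 0)) with ⟨i | j', z⟩ | k
    · rw [hv] at e
      simp only [qel_inl, qel_inr, Pi.single_eq_same, zero_add, add_zero] at e
      rw [← hv] at e
      exact absurd (g.injective e) (by simp)
    · by_cases hj : j' = j
      · exact ⟨z, by rw [hj]⟩
      · rw [hv] at e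
        simp only [qel_inr, Pi.single_eq_same, Pi.single_eq_of_ne hj, zero_add, add_zero] at e
        rw [← hv] at e
        exact absurd (g.injective e) (by simp)
    · rw [hv] at e
      simp only [qel_inr, qel_fix, Pi.single_eq_same, add_zero] at e
      rw [← hv] at e
      exact absurd (g.injective e) (by simp)
  choose w hw using h2
  have h3 : ∀ j z, g (Sum.inl (Sum.inr j, z)) = Sum.inl (Sum.inr j, z + w j) := fun j z => by
    have e := hc 0 0 (fun _ => z) (Sum.inl (Sum.inr j, 0))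
    rw [hw] at e
    simpa [qel_inr] using e
  convert qel_mem (r := r) i₀ z₀ w using 1
  ext x
  rcases x with ⟨i | j, z⟩ | k
  · rw [h1, qel_inl, add_comm i₀, add_comm z₀]
  · rw [h3, qel_inr, add_comm]
  · rw [qel_fix]
    rcases hv : g (Sum.inr k) with ⟨i | j, z⟩ | k'
    · have : g (Sum.inl (Sum.inl (i - i₀), z - z₀)) = g (Sum.inr k) := by rw [h1, hv]; simp
      exact absurd (g.injective this) (by simp)
    · have : g (Sum.inl (Sum.inr j, z - w j)) = g (Sum.inr k) := by rw [h3, hv]; simp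
      exact absurd (g.injective this) (by simp)
    · haveI : Subsingleton (Fin r) := Fin.subsingleton_iff_le_one.2 hr
      rw [Subsingleton.elim k' k]

/-- A permutation normalising the base is a monomial one. -/
theorem exists_monomial (hr : r ≤ 1) (g : Pm) (hg : ∀ v : Idx → ZMod p, ∃ w, g * bv v * g⁻¹ = bv (r := r) w) :
    ∃ (v : Idx → ZMod p) (σ : Perm Idx) (u : Idx → (ZMod p)ˣ), g = bv v * lift σ * mult u := by
  choose W hW using hg
  have hsingle : ∀ i, ∃ j c, c ≠ 0 ∧ W (Pi.single i 1) = Pi.single j c := by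
    intro i
    have h : (bv (r := r) (W (Pi.single i 1))).support.card = 1 * p := by
      rw [← hW, Perm.card_support_conj, card_support_single i one_ne_zero]
    rw [card_support_bv] at h
    obtain ⟨j, hj⟩ := Finset.card_eq_one.1 (Nat.eq_of_mul_eq_mul_right (Fact.out : p.Prime).pos h)
    refine ⟨j, W (Pi.single i 1) j, ?_, funext fun k => ?_⟩
    · simpa using hj.ge (Finset.mem_singleton_self j)
    · rcases eq_or_ne k j with rfl | hk
      · simp
      · rw [Pi.single_eq_of_ne hk]
        by_contra hne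
        exact hk (Finset.mem_singleton.1 (hj.le (Finset.mem_filter.2 ⟨Finset.mem_univ _, hne⟩)))
  choose f c hc hfc using hsingle
  have hinj : Function.Injective f := by
    intro i j hij
    by_contra hne
    obtain ⟨k, hk⟩ : ∃ k : ℕ, k • c i = c j := ⟨(c j / c i).val, by
      rw [nsmul_eq_mul, ZMod.natCast_val, ZMod.cast_id', id_eq, div_mul_cancel₀ _ (hc i)]⟩
    have e : g * bv (k • (Pi.single i 1 : Idx → ZMod p)) * g⁻¹ = g * bv (Pi.single j 1) * g⁻¹ := by
      rw [hW (Pi.single j 1), ← bv_pow, ← conj_pow, hW, bv_pow, hfc, hfc, hij, ← hk]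
      congr 1
      funext t
      by_cases ht : t = f j <;> simp [ht]
    have := congrFun (bv_injective (mul_left_cancel (mul_right_cancel e))) j
    simp [Pi.single_eq_of_ne (Ne.symm hne)] at this
  let σ : Perm Idx := Equiv.ofBijective f (Finite.injective_iff_bijective.1 hinj)
  let u : Idx → (ZMod p)ˣ := fun i => Units.mk0 (c i) (hc i)
  have hcomm : ∀ i, (lift σ * mult u)⁻¹ * g * bv (Pi.single i 1) = bv (Pi.single i 1) * ((lift σ * mult u)⁻¹ * g) := by
    intro i
    have e : lift σ * mult u * bv (Pi.single i 1) * (lift σ * mult u)⁻¹ = g * bv (Pi.single i 1) * g⁻¹ := by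
      rw [show ∀ A B C : Pm, A * B * C * (A * B)⁻¹ = A * (B * C * B⁻¹) * A⁻¹ from fun A B C => by group,
        mult_conj_bv, lift_conj_bv, hW, hfc]
      congr 1
      funext k
      rcases eq_or_ne k (f i) with rfl | hk
      · rw [show σ.symm (f i) = i from σ.symm_apply_apply i]; simp [u]
      · have : σ.symm k ≠ i := fun h => hk (by rw [← h]; exact (σ.apply_symm_apply k).symm)
        simp [Pi.single_eq_of_ne this, Pi.single_eq_of_ne hk]
    calc (lift σ * mult u)⁻¹ * g * bv (Pi.single i 1)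
        = (lift σ * mult u)⁻¹ * (g * bv (Pi.single i 1) * g⁻¹) * g := by group
      _ = bv (Pi.single i 1) * ((lift σ * mult u)⁻¹ * g) := by rw [← e]; group
  obtain ⟨v, hv⟩ := eq_bv_of_commute hr _ hcomm
  rw [inv_mul_eq_iff_eq_mul] at hv
  obtain ⟨w, hw⟩ : ∃ w, lift σ * mult u * bv v = bv (r := r) w * (lift σ * mult u) := by
    refine ⟨fun i => (u (σ.symm i) : ZMod p) * v (σ.symm i), ?_⟩
    rw [← mul_inv_eq_iff_eq_mul,
      show ∀ A B C : Pm, A * B * C * (A * B)⁻¹ = A * (B * C * B⁻¹) * A⁻¹ from fun A B C => by group,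
      mult_conj_bv, lift_conj_bv]
  exact ⟨w, σ, u, by rw [hv, hw, mul_assoc]⟩

/-- A `p`-group containing the base is normalised only inside the normaliser of the base. -/
theorem base_of_normalizes (hr : r ≤ 1) {S : Subgroup Pm} (hS : IsPGroup p S)
    (hB : baseSub (p := p) (r := r) (s := s) ≤ S) {g : Pm} (hg : ∀ x ∈ S, g * x * g⁻¹ ∈ S) (v : Idx → ZMod p) :
    ∃ w, g * bv v * g⁻¹ = bv (r := r) w := by
  have key : ∀ i, ∃ w, g * bv (Pi.single i 1) * g⁻¹ = bv (r := r) w := fun i => by
    refine eq_bv_of_commute hr _ fun j => ?_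
    refine (commute_of_cycles hS (hg _ (hB (bv_mem_base _))) (hB (bv_mem_base _)) ?_ ?_).eq
    · rw [Perm.card_support_conj, card_support_single i one_ne_zero, one_mul]
    · rw [card_support_single j one_ne_zero, one_mul]
  rw [← Finset.univ_sum_single v]
  refine Finset.sum_induction _ (fun x => ∃ w, g * bv x * g⁻¹ = bv (r := r) w) ?_ ?_ fun i _ => ?_
  · rintro x y ⟨w, hw⟩ ⟨w', hw'⟩
    exact ⟨w + w', by rw [bv_add, bv_add, ← hw, ← hw']; group⟩
  · exact ⟨0, by simp⟩
  · obtain ⟨w, hw⟩ := key i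
    refine ⟨(v i).val • w, ?_⟩
    rw [show Pi.single i (v i) = (v i).val • (Pi.single i (1 : ZMod p) : Idx → ZMod p) by
      rw [← Pi.single_smul', nsmul_eq_mul, mul_one, ZMod.natCast_val, ZMod.cast_id', id_eq],
      ← bv_pow, ← conj_pow, hw, bv_pow]

theorem addOne_inv :
    ∀ x : ZMod 3, Equiv.addRight 1 (swap 1 (-1) (Equiv.addRight 1 x)) = swap (1 : ZMod 3) (-1) x := by
  decide

/-- The gluing: everything normalising the base is reached. -/
theorem normalizer_base_le (hp : p ≠ 2) (hr : r ≤ 1) (A₁ A₂ : Subgroup Pm)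
    (hA₂ev : ∀ x ∈ A₂, Perm.sign x = 1)
    (hbig : bigSub (p := p) (r := r) (s := s) ≤ A₁)
    (hconj₁ : ∀ n : Pm, Perm.sign n = 1 → (∀ v : Idx → ZMod p, n * bv v * n⁻¹ ∈ baseSub (r := r)) →
      ∀ a ∈ A₁, n * a * n⁻¹ ∈ A₁)
    (huu : ∀ a : ZMod p, uu (r := r) (s := s) a ∈ A₂)
    (hconj₂ : ∀ n : Pm, Perm.sign n = 1 → (∀ x ∈ planeSub (p := p) (r := r) (s := s), n * x * n⁻¹ ∈ planeSub) →
      ∀ a ∈ A₂, n * a * n⁻¹ ∈ A₂)
    (hclimb : ∀ h ∈ A₂, (∀ x ∈ bigSub (p := p) (r := r) (s := s), h * x * h⁻¹ ∈ bigSub) → h ∈ A₁)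
    (g : Pm) (hge : Perm.sign g = 1) (hg : ∀ v : Idx → ZMod p, ∃ w, g * bv v * g⁻¹ = bv (r := r) w) :
    g ∈ A₁ := by
  classical
  -- the diagonal elements
  have hll : ∀ a : ZMod p, ll (r := r) (s := s) a ∈ A₂ := fun a => by
    rw [← neg_neg a, ← rot_conj_uu]
    exact hconj₂ rot (sign_rot hp) (fun x hx => rot_conj_plane hx) _ (huu _)
  have hrot : rot (p := p) (r := r) (s := s) ∈ A₂ := mul_mem (mul_mem (huu 1) (hll _)) (huu 1)
  have hdiag : ∀ a, diag (r := r) (s := s) a ∈ A₂ := fun a =>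
    diag_eq a ▸ mul_mem (mul_mem (mul_mem (huu _) (hll _)) (huu _)) (inv_mem hrot)
  have hdiag₁ : ∀ a, diag (r := r) (s := s) a ∈ A₁ := fun a => hclimb _ (hdiag a) fun x hx => diag_conj_big a hx
  -- elements normalising the base
  have hlm : ∀ (σ : Perm Idx) (u : Idx → (ZMod p)ˣ) (v : Idx → ZMod p),
      lift σ * mult u * bv v * (lift σ * mult u)⁻¹ ∈ baseSub (r := r) := fun σ u v => by
    rw [show ∀ A B C : Pm, A * B * C * (A * B)⁻¹ = A * (B * C * B⁻¹) * A⁻¹ from fun A B C => by group,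
      mult_conj_bv, lift_conj_bv]
    exact bv_mem_base _
  have hliftn : ∀ σ : Perm Idx, Perm.sign σ = 1 → ∀ a ∈ A₁, lift σ * a * (lift σ)⁻¹ ∈ A₁ := fun σ hσ a ha => by
    refine hconj₁ _ (by rw [sign_lift, hσ, one_pow]) (fun v => ?_) a ha
    rw [lift_conj_bv]; exact bv_mem_base _
  -- the lifted alternating group
  set σ₀ : Perm Idx := Equiv.sumCongr (Equiv.addRight (1 : ZMod p)) (Equiv.refl _) with hσ₀
  have hσ₀e : Perm.sign σ₀ = 1 := by
    refine sign_eq_one_of_pow hp ?_
    have : ∀ k : ℕ, σ₀ ^ k = Equiv.sumCongr (Equiv.addRight (k : ZMod p)) (Equiv.refl _) := by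
      intro k
      induction k with
      | zero => ext x; rcases x with x | x <;> simp
      | succ k ih => rw [pow_succ, ih]; ext x; rcases x with x | x <;> simp [hσ₀] <;> ring
    rw [this]
    ext x; rcases x with x | x <;> simp
  have hσ₀A : lift (p := p) (r := r) σ₀ ∈ A₁ := by
    refine hbig (Subgroup.mem_sup_right ?_)
    convert qel_mem (r := r) (p := p) (s := s) 1 0 0 using 1
    ext x; rcases x with ⟨i | i, z⟩ | x <;> simp [hσ₀]
  set P : Subgroup (alternatingGroup Idx) := A₁.comap ((lift (p := p) (r := r)).comp (alternatingGroup Idx).subtype)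
    with hP
  haveI hPn : P.Normal := ⟨fun a ha n => by
    show lift ((n * a * n⁻¹ : alternatingGroup Idx) : Perm Idx) ∈ A₁
    rw [Subgroup.coe_mul, Subgroup.coe_mul, Subgroup.coe_inv, map_mul, map_mul, map_inv]
    exact hliftn _ n.2 _ ha⟩
  have hA : ∀ σ : Perm Idx, Perm.sign σ = 1 → lift (p := p) (r := r) σ ∈ A₁ := by
    suffices h : P = ⊤ by
      intro σ hσ
      exact (h.ge (Subgroup.mem_top (⟨σ, hσ⟩ : alternatingGroup Idx)) :)
    have hp3 : 3 ≤ p := by have := (Fact.out : p.Prime).two_le; omega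
    have hcard : Nat.card Idx = p + s := by simp [Nat.card_sum]
    by_cases h5 : 5 ≤ p + s
    · haveI := alternatingGroup.isSimpleGroup (α := Idx) (hcard ▸ h5)
      refine (IsSimpleGroup.eq_bot_or_eq_top_of_normal P hPn).resolve_left fun h => ?_
      have hmem : (⟨σ₀, hσ₀e⟩ : alternatingGroup Idx) ∈ P := hσ₀A
      rw [h, Subgroup.mem_bot] at hmem
      have := congrArg (fun x : alternatingGroup Idx => (x : Perm Idx) (Sum.inl 0)) hmem
      simp [hσ₀] at this
    · have hp' : p = 3 := by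
        rcases (show p = 3 ∨ p = 4 by omega) with h | h
        · exact h
        · exact absurd (h ▸ (Fact.out : p.Prime)) (by decide)
      have hσ₀3 : σ₀.IsThreeCycle := by
        have hsupp : σ₀.support = (Finset.univ : Finset (ZMod p)).map ⟨Sum.inl, Sum.inl_injective⟩ := by
          ext x; rcases x with x | x <;> simp [hσ₀]
        have hc : σ₀.support.card = 3 := by rw [hsupp, Finset.card_map, Finset.card_univ, ZMod.card, hp']
        exact card_support_eq_three_iff.1 hc
      rw [eq_top_iff]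
      rintro ⟨σ, hσ⟩ -
      have hle : alternatingGroup Idx ≤ Subgroup.comap (lift (p := p) (r := r)) A₁ := by
        rw [← Perm.closure_three_cycles_eq_alternating, Subgroup.closure_le]
        intro d hd
        show lift d ∈ A₁
        obtain ⟨c, hc⟩ := isConj_iff.1 (Perm.isConj_iff_cycleType_eq.2 (hσ₀3.trans hd.symm) : IsConj σ₀ d)
        rcases Int.units_eq_one_or (Perm.sign c) with h1 | h1
        · rw [← hc, map_mul, map_mul, map_inv]
          exact hliftn c h1 _ hσ₀A
        · set t : Perm Idx := Equiv.sumCongr (swap (1 : ZMod p) (-1)) (Equiv.refl _) with ht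
          have h2 : (2 : ZMod p) ≠ 0 := by
            intro h
            have := (ZMod.natCast_eq_zero_iff 2 p).1 (by simpa using h)
            have := Nat.le_of_dvd two_pos this
            omega
          have hne : (1 : ZMod p) ≠ -1 := fun h => h2 (by linear_combination h)
          have hinv : σ₀ = t * σ₀⁻¹ * t⁻¹ := by
            subst hp'
            rw [eq_mul_inv_iff_mul_eq, eq_mul_inv_iff_mul_eq]
            ext x
            rcases x with x | x
            · simp only [hσ₀, ht, Perm.mul_apply, Equiv.sumCongr_apply, Sum.map_inl, Sum.inl.injEq]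
              exact addOne_inv x
            · rfl
          rw [← hc, hinv, show c * (t * σ₀⁻¹ * t⁻¹) * c⁻¹ = (c * t) * σ₀⁻¹ * (c * t)⁻¹ by group,
            map_mul, map_mul, map_inv (lift (p := p) (r := r)) (c * t)]
          refine hliftn (c * t) (by rw [map_mul, h1, ht, Perm.sign_sumCongr, Perm.sign_swap hne, Perm.sign_refl]; rfl) _ ?_
          rw [map_inv]; exact inv_mem hσ₀A
      exact hle hσ
  -- the multiplications of product one
  have hd : ∀ (i l : Idx) (a : (ZMod p)ˣ), i ≠ l →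
      mult (r := r) (Pi.mulSingle l a * (Pi.mulSingle i a)⁻¹) ∈ A₁ := by
    intro i l a hil
    obtain ⟨j, hji, hjl⟩ : ∃ j : Idx, j ≠ i ∧ j ≠ l := by
      have h3 : 2 < Fintype.card Idx := by
        have := (Fact.out : p.Prime).two_le
        simp [ZMod.card]; omega
      obtain ⟨j, hj⟩ : ∃ j, j ∉ ({i, l} : Finset Idx) := by
        by_contra h
        push_neg at h
        have := Finset.eq_univ_iff_forall.2 h ▸ Finset.card_le_two (a := i) (b := l)
        rw [Finset.card_univ] at this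
        omega
      simp at hj
      exact ⟨j, hj.1, hj.2⟩
    set σ : Perm Idx := swap i j * swap j l with hσ
    have hse : Perm.sign σ = 1 := by
      rw [hσ, map_mul, Perm.sign_swap (Ne.symm hji), Perm.sign_swap hjl]; rfl
    set v : Idx → (ZMod p)ˣ := Pi.mulSingle i a * Pi.mulSingle j a with hv
    have hve : Perm.sign (mult (r := r) v) = 1 := by
      rw [sign_mult, hv]
      simp only [Pi.mul_apply]
      rw [Finset.prod_mul_distrib, Finset.prod_pi_mulSingle', Finset.prod_pi_mulSingle', if_pos (Finset.mem_univ _),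
        if_pos (Finset.mem_univ _), map_mul, Int.units_mul_self]
    have h1 := mul_mem (hA σ hse) (hconj₁ (mult v) hve (fun w => by rw [mult_conj_bv]; exact bv_mem_base _) _
      (inv_mem (hA σ hse)))
    rw [show lift σ * (mult v * (lift (p := p) (r := r) σ)⁻¹ * (mult v)⁻¹) =
      lift σ * mult v * (lift σ)⁻¹ * (mult v)⁻¹ by group, lift_conj_mult, ← map_inv, ← map_mul] at h1
    convert h1 using 2
    funext k
    have hσs : σ.symm k = swap j l (swap i j k) := by simp [hσ, symm_swap, Perm.mul_def]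
    simp only [hv, hσs, Pi.mul_apply, Pi.inv_apply]
    rcases eq_or_ne k i with rfl | hki
    · rw [swap_apply_left, swap_apply_left]; simp [hil, Ne.symm hil, hji, Ne.symm hji, hjl, Ne.symm hjl]
    rcases eq_or_ne k j with rfl | hkj
    · rw [swap_apply_right, swap_apply_of_ne_of_ne (Ne.symm hji) hil]
      simp [hil, hji, Ne.symm hji, hjl, Ne.symm hjl]
    rw [swap_apply_of_ne_of_ne hki hkj]
    rcases eq_or_ne k l with rfl | hkl
    · rw [swap_apply_right]; simp [hil, Ne.symm hil, hji, Ne.symm hji, hjl, Ne.symm hjl]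
    rw [swap_apply_of_ne_of_ne hkj hkl]
    simp [hki, hkj, hkl]
  have hu1 : ∀ u : Idx → (ZMod p)ˣ, ∏ i, u i = 1 → mult (r := r) u ∈ A₁ := by
    intro u hu
    set i₀ : Idx := Sum.inl 0
    have e : u = ∏ i, (Pi.mulSingle i (u i) * (Pi.mulSingle i₀ (u i))⁻¹) := by
      rw [Finset.prod_mul_distrib, Finset.prod_inv_distrib, Finset.univ_prod_mulSingle]
      rw [show (∏ i, Pi.mulSingle i₀ (u i) : Idx → (ZMod p)ˣ) = Pi.mulSingle i₀ (∏ i, u i) from ?_, hu,
        Pi.mulSingle_one, inv_one, mul_one]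
      exact (map_prod (MonoidHom.mulSingle (fun _ : Idx => (ZMod p)ˣ) i₀) u _).symm
    rw [e]
    refine Finset.prod_induction _ (fun w => mult (r := r) w ∈ A₁)
      (fun x y hx hy => by rw [map_mul]; exact mul_mem hx hy) (by rw [map_one]; exact one_mem _) fun i _ => ?_
    by_cases h : i = i₀
    · rw [h, mul_inv_cancel, map_one]; exact one_mem _
    · exact hd i₀ i (u i) (Ne.symm h)
  -- conclusion
  obtain ⟨v, σ, u, rfl⟩ := exists_monomial hr g hg
  set a := ∏ i, u i with ha
  have hbv : bv (r := r) v ∈ A₁ := hbig (Subgroup.mem_sup_left (bv_mem_base v))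
  set σh : Perm Idx := Equiv.sumCongr (a⁻¹).mulLeft (Equiv.refl _) with hσh
  set uh : Idx → (ZMod p)ˣ := Sum.elim (fun _ => a) 1 with huh
  have hde : diag (r := r) (s := s) a = lift σh * mult uh := rfl
  have hpa : ∏ i, uh i = a := by
    rw [huh, Fintype.prod_sum_type]
    simp only [Sum.elim_inl, Sum.elim_inr, Pi.one_apply, Finset.prod_const_one, mul_one, Finset.prod_const,
      Finset.card_univ, ZMod.card]
    rw [Units.ext_iff, Units.val_pow_eq_pow_val, ZMod.pow_card]
  have hσσ : Perm.sign (σ * σh⁻¹) = 1 := by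
    have hpo := (Fact.out : p.Prime).odd_of_ne_two hp
    have hpow : ∀ x : ℤˣ, x ^ p = x := fun x => by
      obtain ⟨q, hq⟩ := hpo
      rw [hq, pow_succ, pow_mul, Int.units_sq, one_pow, one_mul]
    have h1 : Perm.sign σ * chi a = 1 := by
      rw [map_mul, map_mul, sign_eq_one_of_pow hp (bv_pow_p v), one_mul, sign_lift, sign_mult, hpow] at hge
      exact hge
    have h2 : Perm.sign σh * chi a = 1 := by
      have := hA₂ev _ (hdiag a)
      rw [hde, map_mul, sign_lift, sign_mult, hpa, hpow] at this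
      exact this
    rw [map_mul, map_inv, eq_inv_of_mul_eq_one_left h1, eq_inv_of_mul_eq_one_left h2]
    simp
  have e : bv (r := r) v * lift σ * mult u =
      bv v * lift (σ * σh⁻¹) * (lift σh * mult uh) * mult (uh⁻¹ * u) := by
    rw [map_mul, map_inv, map_mul, map_inv]
    group
  rw [e]
  refine mul_mem (mul_mem (mul_mem hbv (hA _ hσσ)) (hde ▸ hdiag₁ a)) (hu1 _ ?_)
  simp only [Pi.mul_apply, Pi.inv_apply]
  rw [Finset.prod_mul_distrib, Finset.prod_inv_distrib, hpa, ← ha, inv_mul_cancel]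

end Cfsg.Agent.AltModel
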