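import Mathlib

/-!
# Block permutations: the elementary abelian subgroup generated by disjoint `p`-cycles
-/

set_option autoImplicit false

namespace Cfsg.Agent.AltModel

open Equiv

variable {p r : ℕ} [Fact p.Prime] {ι : Type*} [Fintype ι] [DecidableEq ι]

local notation "Pt" => (ι × ZMod p) ⊕ Fin r

/-- Translate the block `i` by `v i`. -/
def bv (v : ι → ZMod p) : Perm ((ι × ZMod p) ⊕ Fin r) where
  toFun := Sum.map (fun a => (a.1, v a.1 + a.2)) id
  invFun := Sum.map (fun a => (a.1, -v a.1 + a.2)) id
  left_inv a := by rcases a with ⟨i, z⟩ | a <;> simp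
  right_inv a := by rcases a with ⟨i, z⟩ | a <;> simp

@[simp] theorem bv_inl (v : ι → ZMod p) (i : ι) (z : ZMod p) :
    bv (r := r) v (Sum.inl (i, z)) = Sum.inl (i, v i + z) := rfl

@[simp] theorem bv_inr (v : ι → ZMod p) (k : Fin r) : bv v (Sum.inr k) = Sum.inr k := rfl

@[simp] theorem bv_zero : bv (r := r) (0 : ι → ZMod p) = 1 := by
  ext a; rcases a with ⟨i, z⟩ | a <;> simp

theorem bv_add (v w : ι → ZMod p) : bv (r := r) (v + w) = bv v * bv w := by
  ext a; rcases a with ⟨i, z⟩ | a <;> simp [add_assoc]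

/-- The translations of the blocks as a homomorphism. -/
def bvHom : Multiplicative (ι → ZMod p) →* Perm ((ι × ZMod p) ⊕ Fin r) where
  toFun v := bv v.toAdd
  map_one' := bv_zero
  map_mul' v w := bv_add v.toAdd w.toAdd

theorem bv_injective : Function.Injective (bv (p := p) (r := r) (ι := ι)) := fun v w h => funext fun i => by
  have := congrArg (fun f : Perm _ => f (Sum.inl (i, (0 : ZMod p)))) h
  simpa using this

theorem bv_neg (v : ι → ZMod p) : bv (r := r) (-v) = (bv v)⁻¹ :=
  eq_inv_of_mul_eq_one_left (by rw [← bv_add, neg_add_cancel, bv_zero])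

theorem bv_pow (v : ι → ZMod p) (k : ℕ) : bv (r := r) v ^ k = bv (k • v) := by
  induction k with
  | zero => simp
  | succ k ih => rw [pow_succ, ih, ← bv_add, succ_nsmul]

theorem bv_pow_p (v : ι → ZMod p) : bv (r := r) v ^ p = 1 := by
  rw [bv_pow, show p • v = 0 from funext fun i => by simp, bv_zero]

theorem bv_comm (v w : ι → ZMod p) : bv (r := r) v * bv w = bv w * bv v := by
  rw [← bv_add, ← bv_add, add_comm]

theorem card_support_bv (v : ι → ZMod p) :
    (bv (r := r) v).support.card = (Finset.univ.filter fun i => v i ≠ 0).card * p := by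
  have h : (bv (r := r) v).support =
      ((Finset.univ.filter fun i => v i ≠ 0) ×ˢ (Finset.univ : Finset (ZMod p))).map ⟨Sum.inl, Sum.inl_injective⟩ := by
    ext a
    rcases a with ⟨i, z⟩ | a <;> simp [Perm.mem_support]
  rw [h, Finset.card_map, Finset.card_product, Finset.card_univ, ZMod.card]

/-- Permute the blocks. -/
def lift : Perm ι →* Perm ((ι × ZMod p) ⊕ Fin r) where
  toFun σ := Equiv.sumCongr (Equiv.prodCongrLeft fun _ => σ) (Equiv.refl _)
  map_one' := Equiv.ext fun a => by rcases a with ⟨i, z⟩ | a <;> simp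
  map_mul' σ τ := Equiv.ext fun a => by rcases a with ⟨i, z⟩ | a <;> simp

@[simp] theorem lift_inl (σ : Perm ι) (i : ι) (z : ZMod p) :
    lift (r := r) σ (Sum.inl (i, z)) = Sum.inl (σ i, z) := rfl

@[simp] theorem lift_inr (σ : Perm ι) (k : Fin r) : lift (p := p) σ (Sum.inr k) = Sum.inr k := rfl

theorem sign_lift (σ : Perm ι) : Perm.sign (lift (p := p) (r := r) σ) = Perm.sign σ ^ p := by
  show Perm.sign (Equiv.sumCongr (Equiv.prodCongrLeft fun _ : ZMod p => σ) (Equiv.refl (Fin r))) = _
  rw [Perm.sign_sumCongr, Perm.sign_prodCongrLeft, Perm.sign_refl, mul_one, Finset.prod_const,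
    Finset.card_univ, ZMod.card]

/-- Multiply the block `i` by `u i`. -/
def mult : (ι → (ZMod p)ˣ) →* Perm ((ι × ZMod p) ⊕ Fin r) where
  toFun u := Equiv.sumCongr (Equiv.prodCongrRight fun i => (u i).mulLeft) (Equiv.refl _)
  map_one' := Equiv.ext fun a => by rcases a with ⟨i, z⟩ | a <;> simp
  map_mul' u w := Equiv.ext fun a => by rcases a with ⟨i, z⟩ | a <;> simp [mul_assoc]

@[simp] theorem mult_inl (u : ι → (ZMod p)ˣ) (i : ι) (z : ZMod p) :
    mult (r := r) u (Sum.inl (i, z)) = Sum.inl (i, (u i : ZMod p) * z) := rfl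

@[simp] theorem mult_inr (u : ι → (ZMod p)ˣ) (k : Fin r) : mult u (Sum.inr k) = Sum.inr k := rfl

/-- The sign of a multiplication. -/
noncomputable def chi : (ZMod p)ˣ →* ℤˣ where
  toFun a := Perm.sign a.mulLeft
  map_one' := by rw [show ((1 : (ZMod p)ˣ).mulLeft) = 1 from Equiv.ext fun z => by simp, map_one]
  map_mul' a b := by rw [← map_mul]; congr 1; ext z; simp [mul_assoc]

theorem sign_mult (u : ι → (ZMod p)ˣ) : Perm.sign (mult (r := r) u) = chi (∏ i, u i) := by
  show Perm.sign (Equiv.sumCongr (Equiv.prodCongrRight fun i => (u i).mulLeft) (Equiv.refl (Fin r))) = _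
  rw [Perm.sign_sumCongr, Perm.sign_prodCongrRight, Perm.sign_refl, mul_one, map_prod]
  rfl

theorem lift_conj_bv (σ : Perm ι) (v : ι → ZMod p) :
    lift (r := r) σ * bv v * (lift σ)⁻¹ = bv fun i => v (σ.symm i) := by
  rw [mul_inv_eq_iff_eq_mul]; ext a; rcases a with ⟨i, z⟩ | a <;> simp

theorem mult_conj_bv (u : ι → (ZMod p)ˣ) (v : ι → ZMod p) :
    mult (r := r) u * bv v * (mult u)⁻¹ = bv fun i => (u i : ZMod p) * v i := by
  rw [mul_inv_eq_iff_eq_mul]; ext a; rcases a with ⟨i, z⟩ | a <;> simp [mul_add]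

theorem lift_conj_mult (σ : Perm ι) (u : ι → (ZMod p)ˣ) :
    lift (r := r) σ * mult u * (lift σ)⁻¹ = mult fun i => u (σ.symm i) := by
  rw [mul_inv_eq_iff_eq_mul]; ext a; rcases a with ⟨i, z⟩ | a <;> simp

/-- A permutation commuting with all the cycles is a translation of the blocks. -/
theorem eq_bv_of_commute (hr : r ≤ 1) (g : Perm ((ι × ZMod p) ⊕ Fin r))
    (h : ∀ i, g * bv (Pi.single i 1) = bv (Pi.single i 1) * g) : ∃ v, g = bv v := by
  have hc : ∀ (i : ι) (k : ℕ) a, g (bv (r := r) (k • Pi.single i (1 : ZMod p)) a) =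
      bv (k • Pi.single i (1 : ZMod p)) (g a) := fun i k a => by
    have := congrArg (fun f : Perm _ => f a) ((Commute.pow_right (h i : Commute g _) k).eq)
    simpa [bv_pow] using this
  have h1 : ∀ i, ∃ b, g (Sum.inl (i, 0)) = Sum.inl (i, b) := by
    intro i
    have e := hc i 1 (Sum.inl (i, 0))
    rw [one_smul] at e
    rcases hg : g (Sum.inl (i, 0)) with ⟨j, b⟩ | k
    · refine ⟨b, ?_⟩
      by_cases hj : j = i
      · rw [hj]
      · rw [hg] at e
        simp only [bv_inl, Pi.single_eq_same, add_zero, Pi.single_eq_of_ne hj, zero_add] at e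
        rw [← hg] at e
        simpa using g.injective e
    · rw [hg] at e
      simp only [bv_inl, Pi.single_eq_same, add_zero, bv_inr] at e
      rw [← hg] at e
      exact absurd (g.injective e) (by simp)
  choose v hv using h1
  have h2 : ∀ i z, g (Sum.inl (i, z)) = Sum.inl (i, v i + z) := by
    intro i z
    have e := hc i z.val (Sum.inl (i, 0))
    have e1 : (z.val • Pi.single i (1 : ZMod p) : ι → ZMod p) i = z := by simp
    rw [bv_inl, e1, add_zero, hv, bv_inl, e1] at e
    rw [e, add_comm]
  refine ⟨v, Equiv.ext fun a => ?_⟩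
  rcases a with ⟨i, z⟩ | k
  · rw [h2, bv_inl]
  · rw [bv_inr]
    rcases hg : g (Sum.inr k) with ⟨j, b⟩ | k'
    · have : g (Sum.inl (j, -v j + b)) = g (Sum.inr k) := by rw [h2, hg]; simp
      exact absurd (g.injective this) (by simp)
    · haveI : Subsingleton (Fin r) := Fin.subsingleton_iff_le_one.2 hr
      rw [Subsingleton.elim k' k]

/-- Permutations of prime order with supports of the same size are conjugate. -/
theorem isConj_of_card_support {β : Type*} [Fintype β] [DecidableEq β] {x y : Perm β} (hx : x ^ p = 1)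
    (hy : y ^ p = 1) (h : x.support.card = y.support.card) : IsConj x y := by
  have key : ∀ {x : Perm β}, x ^ p = 1 → x.cycleType = Multiset.replicate (x.support.card / p) p := by
    intro x hx
    have h1 : ∀ n ∈ x.cycleType, n = p := by
      intro n hn
      have hd : n ∣ p := (Perm.dvd_of_mem_cycleType hn).trans (orderOf_dvd_of_pow_eq_one hx)
      exact ((Fact.out : p.Prime).eq_one_or_self_of_dvd n hd).resolve_left
        (by have := Perm.two_le_of_mem_cycleType hn; omega)
    refine Multiset.eq_replicate.2 ⟨?_, h1⟩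
    rw [← Perm.sum_cycleType, Multiset.eq_replicate_card.2 h1, Multiset.sum_replicate, smul_eq_mul,
      Multiset.card_replicate, Nat.mul_div_cancel _ (Fact.out : p.Prime).pos]
  rw [Perm.isConj_iff_cycleType_eq, key hx, key hy, h]

theorem dvd_card_support {β : Type*} [Fintype β] [DecidableEq β] {x : Perm β} (hx : x ^ p = 1) :
    p ∣ x.support.card := by
  rw [← Perm.sum_cycleType]
  refine Multiset.dvd_sum fun n hn => ?_
  have hd : n ∣ p := (Perm.dvd_of_mem_cycleType hn).trans (orderOf_dvd_of_pow_eq_one hx)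
  rw [((Fact.out : p.Prime).eq_one_or_self_of_dvd n hd).resolve_left
    (by have := Perm.two_le_of_mem_cycleType hn; omega)]

/-- In a `p`-group, two `p`-cycles commute. -/
theorem commute_of_cycles {β : Type*} [Fintype β] [DecidableEq β] {S : Subgroup (Perm β)} (hS : IsPGroup p S)
    {c d : Perm β} (hc : c ∈ S) (hd : d ∈ S) (hcc : c.support.card = p) (hdd : d.support.card = p) :
    Commute c d := by
  by_cases hdis : c.Disjoint d
  · exact hdis.commute
  set U := c.support ∪ d.support with hU
  have hUc : U.card < 2 * p := by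
    have h := Finset.card_union_add_card_inter c.support d.support
    rw [← hU] at h
    have : 0 < (c.support ∩ d.support).card := Finset.card_pos.2 (by
      by_contra he
      exact hdis (Perm.disjoint_iff_disjoint_support.2
        (Finset.disjoint_iff_inter_eq_empty.2 (Finset.not_nonempty_iff_eq_empty.1 he))))
    omega
  set K : Subgroup (Perm β) := (Perm.ofSubtype (p := fun b => b ∈ U)).range with hK
  have hmem : ∀ g : Perm β, g.support ⊆ U → g ∈ K := fun g hg =>
    ⟨g.subtypePerm (fun x => by
        by_cases hx : g x = x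
        · rw [hx]
        · exact iff_of_true (hg (Perm.apply_mem_support.2 (Perm.mem_support.2 hx)))
            (hg (Perm.mem_support.2 hx))),
      Perm.ofSubtype_subtypePerm _ fun x hx => hg (Perm.mem_support.2 hx)⟩
  set H := Subgroup.closure ({c, d} : Set (Perm β)) with hH
  have hHS : H ≤ S := (Subgroup.closure_le _).2 (by rintro _ (rfl | rfl) <;> assumption)
  have hHK : H ≤ K := (Subgroup.closure_le _).2 (by
    rintro _ (rfl | rfl)
    exacts [hmem _ Finset.subset_union_left, hmem _ Finset.subset_union_right])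
  obtain ⟨k, hk⟩ := IsPGroup.iff_card.1 (hS.to_le hHS)
  have hdvd : Nat.card H ∣ U.card.factorial := by
    refine (Subgroup.card_dvd_of_le hHK).trans ?_
    rw [hK, ← Nat.card_congr (MonoidHom.ofInjective Perm.ofSubtype_injective).toEquiv, Nat.card_perm]
    simp
  have hk1 : k ≤ 1 := by
    by_contra hk2
    have h2 : p ^ 2 ∣ U.card.factorial := ((pow_dvd_pow p (by omega)).trans (dvd_of_eq hk.symm)).trans hdvd
    haveI := (Fact.out : p.Prime)
    rw [padicValNat_dvd_iff_le (Nat.factorial_ne_zero _)] at h2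
    have h3 := padicValNat_factorial_mul_add (p := p) (U.card / p) (Nat.mod_lt U.card (Fact.out : p.Prime).pos)
    rw [Nat.div_add_mod, padicValNat_factorial_mul] at h3
    have : U.card / p ≤ 1 := by
      have := Nat.div_lt_iff_lt_mul (Fact.out : p.Prime).pos |>.2 hUc
      omega
    interval_cases h4 : U.card / p <;>
      simp only [Nat.factorial_zero, Nat.factorial_one, padicValNat.one, add_zero, zero_add] at h3 <;> omega
  haveI : IsCyclic H := by
    rcases Nat.le_one_iff_eq_zero_or_eq_one.1 hk1 with rfl | rfl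
    · rw [pow_zero] at hk
      haveI := (Nat.card_eq_one_iff_unique.1 hk).1
      exact isCyclic_of_subsingleton
    · exact isCyclic_of_prime_card (hk.trans (pow_one p))
  letI := IsCyclic.commGroup (α := H)
  exact congrArg Subtype.val (mul_comm (⟨c, Subgroup.subset_closure (Or.inl rfl)⟩ : H)
    ⟨d, Subgroup.subset_closure (Or.inr rfl)⟩)

end Cfsg.Agent.AltModel
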