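import Cfsg.Agent.Lib.Fusion.SimpleGroupSystem

/-!
# Climbing inside a fusion system of a group from self-centralising subgroups
-/

set_option autoImplicit false

namespace Cfsg.Agent.Fusion

open Cfsg.FusionSystem (centralizerIn normalizerIn)

universe u

variable {G : Type u} [Group G] [Finite G] {p : ℕ} [Fact p.Prime]

omit [Finite G] [Fact p.Prime] in
theorem centralizer_conj_le {Q : Subgroup G} (hC : Subgroup.centralizer (Q : Set G) ≤ Q) (g : G) :
    Subgroup.centralizer ((Q.map (MulAut.conj g).toMonoidHom : Subgroup G) : Set G) ≤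
      Q.map (MulAut.conj g).toMonoidHom := by
  intro z hz
  refine ⟨g⁻¹ * z * g, hC (Subgroup.mem_centralizer_iff.2 fun q hq => ?_), by simp [mul_assoc]⟩
  have h := Subgroup.mem_centralizer_iff.1 hz (g * q * g⁻¹) ⟨q, hq, rfl⟩
  calc q * (g⁻¹ * z * g) = g⁻¹ * (g * q * g⁻¹ * z) * g := by group
    _ = g⁻¹ * z * g * q := by rw [h]; group

/-- A self-centralising subgroup is centric. -/
theorem isCentric_of_centralizer_le {S : Sylow p G} {Q : Subgroup G} (hQ : Q ≤ (S : Subgroup G))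
    (hC : Subgroup.centralizer (Q : Set G) ≤ Q) :
    (groupFusionSystem (S : Subgroup G)).IsCentric Q := by
  refine ⟨hQ, fun R hR z hz => ?_⟩
  obtain ⟨f, hf, rfl⟩ := isConj_iff.mp hR
  obtain ⟨-, g, hg⟩ := mapTo_gfs_iff.mp hf
  have he : img f Q = Q.map (MulAut.conj g).toMonoidHom := by
    rw [← img_cj]; exact img_congr fun x hx => (hg x hx).1
  rw [he] at hz ⊢
  exact centralizer_conj_le hC g (Subgroup.mem_centralizer_iff.2 (mem_centralizerIn.mp hz).2)

/-- A map of a weakly normal subsystem on a self-centralising subgroup climbs inside any `p`-subgroup which it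
normalises. -/
theorem mapTo_climb {S : Sylow p G} {E : FusionSystem (S : Subgroup G)}
    (hE : E.IsWeaklyNormalIn (groupFusionSystem (S : Subgroup G)) p) {g : G} {R₀ R : Subgroup G}
    (hR₀ : R₀ ≤ (S : Subgroup G)) (hg : ∀ x ∈ R₀, g * x * g⁻¹ ∈ R₀) (hRR : R ≤ R₀)
    (hC : Subgroup.centralizer (R : Set G) ≤ R) (hgR : ∀ x ∈ R, g * x * g⁻¹ ∈ R)
    (hRE : MapTo E R (cj g)) : MapTo E R₀ (cj g) := by
  induction hk : Nat.card R₀ - Nat.card R using Nat.strong_induction_on generalizing R with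
  | h k ih =>
  rcases eq_or_lt_of_le hRR with rfl | hlt
  · exact hRE
  set F := groupFusionSystem (S : Subgroup G)
  have hF : F.IsSaturated p := isSaturated_gfs S
  have hc : F.IsCentric R := isCentric_of_centralizer_le (hRR.trans hR₀) hC
  have hEF : E.IsSubsystemOf F := hE.2.2.1
  have hcE : E.IsCentric R := ⟨hc.1, fun Q hQ => hc.2 Q (IsSubsystemOf.isConj hEF hQ)⟩
  have hf : MapTo F R₀ (cj g) := mapTo_gfs_cj hR₀ fun x hx => hR₀ (hg x hx)
  have hRimg : img (cj g) R = R := img_eq_self_of_forall hRE hgR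
  obtain ⟨ψ, hψ, hψx⟩ := (isReceptive_iff.mp
    (isReceptive_of_isFullyCentralized S.2 hE.1 (isFullyCentralized_of_isCentric hcE))).2 R (cj g) hRE hRimg
  set R₁ := normalizerIn R₀ R with hR₁
  have hlt' : R < R₁ := lt_normalizerIn (S.2.to_le hR₀) hlt
  have hR₁R₀ : R₁ ≤ R₀ := normalizerIn_le
  have hgR₁ : ∀ z ∈ R₁, g * z * g⁻¹ ∈ R₁ := by
    intro z hz
    have := hf.map_mem_normalizerIn hRR (hR₁R₀ hz) (mem_normalizerIn.2 ⟨hR₀ (hR₁R₀ hz), (mem_normalizerIn.1 hz).2⟩)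
    rw [hRimg] at this
    exact mem_normalizerIn.2 ⟨hg z (hR₁R₀ hz), (mem_normalizerIn.1 this).2⟩
  have hext : R₁ ≤ extSub (S : Subgroup G) hRE := fun z hz =>
    ⟨⟨hR₀ hz.1, hz.2⟩, cj g z, hf.mem hz.1, fun x hx => hf.map_conj hz.1 (hRR hx)⟩
  have hψ₁ := hψ.restrict hext
  obtain ⟨z, hz, -, hzy⟩ := eq_conj_of_eqOn_centric S.2 hF hc hlt'.le
    (IsSubsystemOf.mapTo hEF hψ₁) (hf.restrict hR₁R₀) hψx
  have hzR₁ := hlt'.le hz
  have hfE : MapTo E R₁ (cj g) :=
    ((mapTo_cj (hR₁R₀.trans hR₀) (hc.1 hz)).comp hψ₁ fun y hy =>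
      Subgroup.mul_mem _ (Subgroup.mul_mem _ hzR₁ hy) (Subgroup.inv_mem _ hzR₁)).congr'
      fun y hy => hzy y hy
  have hC₁ : Subgroup.centralizer (R₁ : Set G) ≤ R₁ :=
    (Subgroup.centralizer_le hlt'.le).trans (hC.trans hlt'.le)
  refine ih _ ?_ hR₁R₀ hC₁ hgR₁ hfE rfl
  have h1 : Nat.card R < Nat.card R₁ := by
    refine lt_of_le_of_ne (Subgroup.card_le_of_le hlt'.le) fun he => ?_
    exact hlt'.ne (Subgroup.eq_of_le_of_card_ge hlt'.le he.ge)
  have h2 : Nat.card R₁ ≤ Nat.card R₀ := Subgroup.card_le_of_le hR₁R₀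
  omega

/-- The elements which a subsystem sees in the automizer of `Q`. -/
def seen {T : Subgroup G} (E : FusionSystem T) (Q : Subgroup G) : Subgroup G :=
  ((E.autGroup Q).comap Q.normalizerMonoidHom).map (Subgroup.normalizer (Q : Set G)).subtype

section seen

variable {S : Sylow p G} {E : FusionSystem (S : Subgroup G)} {Q : Subgroup G}

theorem mem_seen (hQ : Q ≤ (S : Subgroup G)) {g : G} :
    g ∈ seen E Q ↔ (∀ x ∈ Q, g * x * g⁻¹ ∈ Q) ∧ MapTo E Q (cj g) := by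
  constructor
  · rintro ⟨a, ha, rfl⟩
    exact ⟨fun x hx => (Subgroup.mem_normalizer_iff.mp a.2 x).mp hx,
      (mapTo_of_mem_autGroup hQ ha).congr' fun x hx => (autFun_normalizerMonoidHom a hx).symm⟩
  · rintro ⟨h1, h2⟩
    refine ⟨⟨g, mem_normalizer_of_forall h1⟩, (mem_autGroup_iff hQ).mpr ?_, rfl⟩
    exact h2.congr' fun x hx => autFun_normalizerMonoidHom _ hx

theorem inf_normalizer_le_seen (hQ : Q ≤ (S : Subgroup G)) :
    (S : Subgroup G) ⊓ Subgroup.normalizer (Q : Set G) ≤ seen E Q := by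
  intro g hg
  exact (mem_seen hQ).2 ⟨fun x hx => (Subgroup.mem_normalizer_iff.mp hg.2 x).mp hx, mapTo_cj hQ hg.1⟩

theorem conj_mem_seen (hE : E.IsWeaklyNormalIn (groupFusionSystem (S : Subgroup G)) p) (hQ : Q ≤ (S : Subgroup G))
    {n a : G} (hn : ∀ x ∈ Q, n * x * n⁻¹ ∈ Q) (ha : a ∈ seen E Q) : n * a * n⁻¹ ∈ seen E Q := by
  obtain ⟨a, ha, rfl⟩ := ha
  let n' : Subgroup.normalizer (Q : Set G) := ⟨n, mem_normalizer_of_forall hn⟩
  refine ⟨n' * a * n'⁻¹, ?_, rfl⟩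
  have hE' := IsInvariantIn.normal_autGroup hE.2.2 hQ
  have hsub : E.autGroup Q ≤ (groupFusionSystem (S : Subgroup G)).autGroup Q :=
    IsSubsystemOf.autGroup_le hE.2.2.1 Q
  have h := hE'.conj_mem ⟨Q.normalizerMonoidHom a, hsub ha⟩ (Subgroup.mem_subgroupOf.mpr ha)
    ⟨Q.normalizerMonoidHom n', normalizerMonoidHom_mem_autGroup hQ n'⟩
  have h' := Subgroup.mem_subgroupOf.mp h
  show Q.normalizerMonoidHom (n' * a * n'⁻¹) ∈ E.autGroup Q
  rw [map_mul, map_mul, map_inv]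
  exact h'

end seen

/-- Simplicity from a self-centralising subgroup whose normaliser is seen by every weakly normal subsystem. -/
theorem isSimple_of_seen (S : Sylow p G) (hS1 : (S : Subgroup G) ≠ ⊥)
    (hsc : ∀ T : Subgroup G, T ≤ S → T ≠ ⊥ →
      (∀ g : G, ∀ x ∈ T, g * x * g⁻¹ ∈ (S : Subgroup G) → g * x * g⁻¹ ∈ T) →
      (S : Subgroup G) ≤ T)
    (hgen : ∀ E : FusionSystem (S : Subgroup G), E.IsWeaklyNormalIn (groupFusionSystem (S : Subgroup G)) p →
      ∀ g ∈ Subgroup.normalizer ((S : Subgroup G) : Set G), ∃ Q ≤ (S : Subgroup G),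
        Subgroup.centralizer (Q : Set G) ≤ Q ∧ g ∈ seen E Q) :
    (groupFusionSystem (S : Subgroup G)).IsSimple p := by
  refine isSimple_of_forall (isSaturated_gfs S) hS1 (fun T hT => ?_) fun E hE α hα => ?_
  · by_cases h : T = ⊥
    · exact Or.inl h
    refine Or.inr (le_antisymm hT.1 (hsc T hT.1 h fun g x hx hgx => ?_))
    have hm : MapTo (groupFusionSystem (S : Subgroup G)) (Subgroup.zpowers x) (cj g) :=
      mapTo_gfs_cj (Subgroup.zpowers_le.mpr (hT.1 hx)) fun y hy => by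
        obtain ⟨k, rfl⟩ := Subgroup.mem_zpowers_iff.mp hy
        rw [← conj_zpow]
        exact Subgroup.zpow_mem _ hgx k
    exact (stronglyClosed_iff.mp hT).2 _ _ (Subgroup.zpowers_le.mpr hx) hm x
      (Subgroup.mem_zpowers x)
  rw [autGroup_gfs le_rfl, mem_autInducedBy_iff_cj] at hα
  obtain ⟨g, -, hg⟩ := hα
  have hgS : ∀ y ∈ (S : Subgroup G), g * y * g⁻¹ ∈ (S : Subgroup G) := fun y hy => by
    show cj g y ∈ (S : Subgroup G)
    rw [← hg y hy]
    exact autFun_mem α hy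
  obtain ⟨Q, hQ, hC, hgQ⟩ := hgen E hE g (mem_normalizer_of_forall hgS)
  obtain ⟨h1, h2⟩ := (mem_seen hQ).1 hgQ
  exact (mem_autGroup_iff le_rfl).mpr
    ((mapTo_climb hE le_rfl hgS hQ hC h1 h2).congr' fun y hy => hg y hy)

end Cfsg.Agent.Fusion
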