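import Cfsg.Agent.Lib.Fusion.AltGen
import Cfsg.Agent.Lib.Fusion.CentricClimb
import Cfsg.Agent.Lib.SymSylow.OrderP
import Cfsg.Agent.Lib.SymSylow.Two

/-!
# The fusion system of an alternating group
-/

set_option autoImplicit false

namespace Cfsg.Agent.AltFusion

open Equiv Cfsg.Agent.AltModel

variable {p n : ℕ} [Fact p.Prime] {α : Type} [Fintype α] [DecidableEq α]

/-- Read an alternating group through a labelling of the points. -/
def jHom (e : α ≃ Fin n) : alternatingGroup (Fin n) →* Perm α :=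
  e.symm.permCongrHom.toMonoidHom.comp (alternatingGroup (Fin n)).subtype

theorem jHom_apply (e : α ≃ Fin n) (z : alternatingGroup (Fin n)) :
    jHom e z = e.symm.permCongr (z : Perm (Fin n)) := rfl

theorem jHom_injective (e : α ≃ Fin n) : Function.Injective (jHom e) := fun a b h =>
  Subtype.ext ((Equiv.permCongr e.symm).injective h)

theorem sign_jHom (e : α ≃ Fin n) (z : alternatingGroup (Fin n)) : Perm.sign (jHom e z) = 1 := by
  rw [jHom_apply, Perm.sign_permCongr]; exact z.2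

theorem exists_jHom (e : α ≃ Fin n) {x : Perm α} (hx : Perm.sign x = 1) : ∃ z, jHom e z = x := by
  refine ⟨⟨e.permCongr x, by rw [Perm.mem_alternatingGroup, Perm.sign_permCongr]; exact hx⟩, ?_⟩
  rw [jHom_apply]
  ext a; simp [Equiv.permCongr_apply]

theorem exists_equiv (e₀ : α ≃ Fin n) (S : Sylow p (alternatingGroup (Fin n))) (W : Subgroup (Perm α))
    (hW : IsPGroup p W) : ∃ e : α ≃ Fin n, W.comap (jHom e) ≤ (S : Subgroup (alternatingGroup (Fin n))) := by
  obtain ⟨S₁, hS₁⟩ := (hW.comap_of_injective (jHom e₀) (jHom_injective e₀)).exists_le_sylow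
  obtain ⟨y, hy⟩ := MulAction.exists_smul_eq (alternatingGroup (Fin n)) S₁ S
  refine ⟨e₀.trans (y : Perm (Fin n)), fun z hz => ?_⟩
  have e : jHom (e₀.trans (y : Perm (Fin n))) z = jHom e₀ (y⁻¹ * z * y) := by
    ext a
    simp [jHom_apply, Equiv.permCongr_apply, Perm.inv_def]
  rw [← hy, Sylow.coe_subgroup_smul]
  refine ⟨y⁻¹ * z * y, hS₁ ?_, by simp [mul_assoc]⟩
  show jHom e₀ (y⁻¹ * z * y) ∈ W
  rw [← e]; exact hz

theorem mem_map_of_sign {S : Subgroup (alternatingGroup (Fin n))} {e : α ≃ Fin n} {W : Subgroup (Perm α)}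
    (h : W.comap (jHom e) ≤ S) {x : Perm α} (hx : x ∈ W) (hs : Perm.sign x = 1) : x ∈ S.map (jHom e) := by
  obtain ⟨z, rfl⟩ := exists_jHom e hs
  exact ⟨z, h hx, rfl⟩

/-- A Sylow subgroup of an alternating group is generated by its elements of order `p`. -/
theorem sylow_genByP (S : Sylow p (alternatingGroup (Fin n))) :
    (S : Subgroup (alternatingGroup (Fin n))) ≤
      Subgroup.closure {g | g ∈ (S : Subgroup (alternatingGroup (Fin n))) ∧ g ^ p = 1} := by
  obtain ⟨P, hP⟩ := (S.2.map (alternatingGroup (Fin n)).subtype).exists_le_sylow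
  obtain ⟨W, c, hgen, hev, hPW⟩ := SymSylow.exists_conj_witness n P
  have hle : (P : Subgroup (Perm (Fin n))).comap (alternatingGroup (Fin n)).subtype = S :=
    S.3 (P.2.comap_of_injective _ Subtype.val_injective) fun x hx => hP ⟨x, hx, rfl⟩
  have key : ∀ V : Subgroup (Perm (Fin n)), SymSylow.GenByP p V →
      V.map (MulAut.conj c).toMonoidHom ≤ alternatingGroup (Fin n) →
      V.map (MulAut.conj c).toMonoidHom ≤ (P : Subgroup (Perm (Fin n))) →
      V.map (MulAut.conj c).toMonoidHom ≤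
        (Subgroup.closure {g | g ∈ (S : Subgroup (alternatingGroup (Fin n))) ∧ g ^ p = 1}).map
          (alternatingGroup (Fin n)).subtype := by
    intro V hV hVa hVP
    refine (SymSylow.genByP_map _ hV).trans ?_
    rw [Subgroup.closure_le]
    rintro x ⟨hx, hxp⟩
    refine ⟨⟨x, hVa hx⟩, Subgroup.subset_closure ⟨?_, Subtype.ext hxp⟩, rfl⟩
    rw [← hle]; exact hVP hx
  intro z hz
  have hzP : (z : Perm (Fin n)) ∈ (P : Subgroup (Perm (Fin n))) := hP ⟨z, hz, rfl⟩
  rw [hPW] at hzP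
  obtain ⟨w, hw, hwz⟩ := hzP
  have hcc : ∀ u : ℤˣ, Perm.sign c * u * Perm.sign c = u := fun u => by
    rw [mul_comm, ← mul_assoc, Int.units_mul_self, one_mul]
  have hws : Perm.sign w = 1 := by
    have := z.2
    rw [Perm.mem_alternatingGroup, ← hwz] at this
    simpa [hcc] using this
  have hsub : ∀ V ≤ W, V.map (MulAut.conj c).toMonoidHom ≤ (P : Subgroup (Perm (Fin n))) := fun V hV =>
    hPW ▸ Subgroup.map_mono hV
  have main : ∀ V : Subgroup (Perm (Fin n)), w ∈ V → SymSylow.GenByP p V → V ≤ W →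
      (∀ x ∈ V, Perm.sign x = 1) →
      z ∈ Subgroup.closure {g | g ∈ (S : Subgroup (alternatingGroup (Fin n))) ∧ g ^ p = 1} := by
    intro V hwV hV hVW hVs
    obtain ⟨z', hz', hzz⟩ := key V hV (by
      rintro _ ⟨x, hx, rfl⟩
      rw [Perm.mem_alternatingGroup]; simpa [hcc] using hVs x hx) (hsub V hVW) ⟨w, hwV, hwz⟩
    rwa [show z = z' from Subtype.ext hzz.symm]
  by_cases h2 : p = 2
  · exact main _ (Subgroup.mem_inf.2 ⟨hw, hws⟩) (hev h2) inf_le_left fun x hx => (Subgroup.mem_inf.1 hx).2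
  · refine main W hw hgen le_rfl fun x hx => ?_
    have hxP : (MulAut.conj c) x ∈ (P : Subgroup (Perm (Fin n))) := hPW ▸ ⟨x, hx, rfl⟩
    obtain ⟨k, hk⟩ := P.2 ⟨_, hxP⟩
    have h := congrArg Perm.sign (congrArg Subtype.val hk)
    obtain ⟨q, hq⟩ := ((Fact.out : p.Prime).odd_of_ne_two h2).pow (n := k)
    simp only [SubmonoidClass.coe_pow, map_pow, OneMemClass.coe_one, map_one] at h
    rw [hq, pow_succ, pow_mul, Int.units_sq, one_pow, one_mul] at h
    simpa [hcc] using h

theorem closed_top {r : ℕ} {ι : Type} [Fintype ι] [DecidableEq ι] (hm : 3 ≤ Fintype.card ι) (hr : r < p)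
    (e : (ι × ZMod p) ⊕ Fin r ≃ Fin n) (S : Sylow p (alternatingGroup (Fin n)))
    (hB : ∀ v : ι → ZMod p, Perm.sign (bv (r := r) v) = 1 →
      bv v ∈ (S : Subgroup (alternatingGroup (Fin n))).map (jHom e))
    (hlift : p = 2 → ∃ a b : ι, a ≠ b ∧
      lift (swap a b) ∈ (S : Subgroup (alternatingGroup (Fin n))).map (jHom e))
    (T : Subgroup (alternatingGroup (Fin n))) (hT : T ≤ S) (hT1 : T ≠ ⊥)
    (hcl : ∀ g, ∀ x ∈ T, g * x * g⁻¹ ∈ (S : Subgroup (alternatingGroup (Fin n))) → g * x * g⁻¹ ∈ T) :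
    (S : Subgroup (alternatingGroup (Fin n))) ≤ T := by
  refine (sylow_genByP S).trans ((Subgroup.closure_le T).2 ?_)
  rintro y ⟨hy, hyp⟩
  have hj := jHom_injective e
  have h := closed_all hm hr ((S : Subgroup (alternatingGroup (Fin n))).map (jHom e)) (T.map (jHom e))
    (S.2.map _) (by rintro _ ⟨z, -, rfl⟩; exact sign_jHom e z) (Subgroup.map_mono hT)
    (fun hbot => hT1 ((Subgroup.map_eq_bot_iff_of_injective _ hj).1 hbot)) (fun g hg x hx hgx => ?_) hB hlift
    (jHom e y) ⟨y, hy, rfl⟩ (by rw [← map_pow, hyp, map_one])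
  · obtain ⟨t, ht, hty⟩ := h
    exact hj hty ▸ ht
  · obtain ⟨t, ht, rfl⟩ := hx
    obtain ⟨g, rfl⟩ := exists_jHom e hg
    rw [← map_inv, ← map_mul, ← map_mul] at hgx ⊢
    obtain ⟨s', hs', hss⟩ := hgx
    exact Subgroup.mem_map_of_mem _ (hcl g t ht (hj hss ▸ hs'))

theorem simple_two (hp : p = 2) (hn : 6 ≤ n) (S : Sylow p (alternatingGroup (Fin n))) :
    (groupFusionSystem (S : Subgroup (alternatingGroup (Fin n)))).IsSimple p := by
  subst hp
  have hm : 3 ≤ Fintype.card (Fin (n / 2)) := by rw [Fintype.card_fin]; omega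
  have e₀ : (Fin (n / 2) × ZMod 2) ⊕ Fin (n % 2) ≃ Fin n := Fintype.equivFinOfCardEq (by
    simp only [Fintype.card_sum, Fintype.card_prod, Fintype.card_fin, ZMod.card]; omega)
  set a : Fin (n / 2) := ⟨0, by omega⟩
  set b : Fin (n / 2) := ⟨1, by omega⟩
  have hab : a ≠ b := by simp [a, b]
  set l : Perm ((Fin (n / 2) × ZMod 2) ⊕ Fin (n % 2)) := lift (swap a b) with hl
  set B : Subgroup (Perm ((Fin (n / 2) × ZMod 2) ⊕ Fin (n % 2))) :=
    (bvHom (p := 2) (r := n % 2) (ι := Fin (n / 2))).range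
  have hB : IsPGroup 2 B := fun x => ⟨1, Subtype.ext (by
    obtain ⟨v, hv⟩ := x.2
    rw [pow_one, SubmonoidClass.coe_pow, ← hv]
    exact bv_pow_p _)⟩
  have hZ : IsPGroup 2 (Subgroup.zpowers l) := by
    rintro ⟨x, hx⟩
    obtain ⟨k, rfl⟩ := Subgroup.mem_zpowers_iff.1 hx
    refine ⟨1, Subtype.ext ?_⟩
    show (l ^ k) ^ (2 ^ 1) = 1
    rw [pow_one, ← zpow_natCast, ← zpow_mul, mul_comm, zpow_mul, zpow_natCast, hl, ← map_pow, pow_two,
      swap_mul_self, map_one, one_zpow]
  have hnorm : Subgroup.zpowers l ≤ Subgroup.normalizer (B : Set (Perm ((Fin (n / 2) × ZMod 2) ⊕ Fin (n % 2)))) := by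
    rw [Subgroup.zpowers_le]
    refine Subgroup.mem_normalizer_fintype ?_
    rintro _ ⟨v, rfl⟩
    exact ⟨Multiplicative.ofAdd fun i => v.toAdd ((swap a b).symm i), (lift_conj_bv _ _).symm⟩
  obtain ⟨e, he⟩ := exists_equiv e₀ S (B ⊔ Subgroup.zpowers l) (IsPGroup.to_sup_of_normal_left' hB hZ hnorm)
  have hS1 : (S : Subgroup (alternatingGroup (Fin n))) ≠ ⊥ := by
    intro h
    have h1 : lift (p := 2) (r := n % 2) (swap a b) ∈ (S : Subgroup (alternatingGroup (Fin n))).map (jHom e) :=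
      mem_map_of_sign he (Subgroup.mem_sup_right (Subgroup.mem_zpowers _)) (by rw [sign_lift, Int.units_sq])
    rw [h, Subgroup.map_bot, Subgroup.mem_bot] at h1
    have := congrArg (fun f : Perm _ => f (Sum.inl (a, (0 : ZMod 2)))) h1
    simp [hab.symm] at this
  refine Fusion.isSimple_of_seen S hS1 (fun T hT hT1 hcl => ?_) fun E hE g hg => ?_
  · exact closed_top hm (Nat.mod_lt _ two_pos) e S
      (fun v hv => mem_map_of_sign he (Subgroup.mem_sup_left ⟨Multiplicative.ofAdd v, rfl⟩) hv)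
      (fun _ => ⟨a, b, hab, mem_map_of_sign he (Subgroup.mem_sup_right (Subgroup.mem_zpowers _))
        (by rw [sign_lift, Int.units_sq])⟩) T hT hT1 hcl
  · have hgS : g ∈ (S : Subgroup (alternatingGroup (Fin n))) :=
      SymSylow.normalizer_sylow_alt (by rwa [Fintype.card_fin]) S hg
    refine ⟨S, le_rfl, fun z hz => ?_, (Fusion.mem_seen le_rfl).2
      ⟨fun x hx => mul_mem (mul_mem hgS hx) (inv_mem hgS), Fusion.mapTo_cj le_rfl hgS⟩⟩
    exact SymSylow.normalizer_sylow_alt (by rwa [Fintype.card_fin]) S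
      (Subgroup.centralizer_le_normalizer _ hz)

theorem simple_odd (hp : p ≠ 2) (hn : p ^ 2 ≤ n) (hb : n % p ≤ 1) (S : Sylow p (alternatingGroup (Fin n))) :
    (groupFusionSystem (S : Subgroup (alternatingGroup (Fin n)))).IsSimple p := by
  have hpm : p ≤ n / p := (Nat.le_div_iff_mul_le (Fact.out : p.Prime).pos).2 (by rwa [← pow_two])
  have hp3 : 3 ≤ p := by have := (Fact.out : p.Prime).two_le; omega
  set s := n / p - p with hs
  set r := n % p with hr
  have hm : 3 ≤ Fintype.card (ZMod p ⊕ Fin s) := by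
    simp only [Fintype.card_sum, Fintype.card_fin, ZMod.card]; omega
  have e₀ : ((ZMod p ⊕ Fin s) × ZMod p) ⊕ Fin r ≃ Fin n := Fintype.equivFinOfCardEq (by
    simp only [Fintype.card_sum, Fintype.card_prod, Fintype.card_fin, ZMod.card]
    rw [hs, hr, Nat.add_sub_cancel' hpm, Nat.div_add_mod' n p])
  obtain ⟨e, he⟩ := exists_equiv e₀ S (bigSub (p := p) (r := r) (s := s)) isPGroup_bigSub
  set j := jHom e with hjdef
  have hj : Function.Injective j := jHom_injective e
  have hsign : ∀ x ∈ bigSub (p := p) (r := r) (s := s), Perm.sign x = 1 := fun x hx => sign_bigSub hp hx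
  have hbS : bigSub ≤ (S : Subgroup (alternatingGroup (Fin n))).map j := fun x hx =>
    mem_map_of_sign he hx (hsign x hx)
  have hSp : IsPGroup p ((S : Subgroup (alternatingGroup (Fin n))).map j) := S.2.map _
  have hbase : baseSub ≤ (S : Subgroup (alternatingGroup (Fin n))).map j := le_sup_left.trans hbS
  set Q₁ := (baseSub (p := p) (r := r) (s := s)).comap j with hQ₁
  set Q₂ := (planeSub (p := p) (r := r) (s := s)).comap j with hQ₂
  set R₀ := (bigSub (p := p) (r := r) (s := s)).comap j with hR₀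
  have hQ₁S : Q₁ ≤ (S : Subgroup (alternatingGroup (Fin n))) :=
    (Subgroup.comap_mono le_sup_left).trans he
  have hQ₂S : Q₂ ≤ (S : Subgroup (alternatingGroup (Fin n))) :=
    (Subgroup.comap_mono le_sup_right).trans he
  have hC₁ : Subgroup.centralizer (Q₁ : Set (alternatingGroup (Fin n))) ≤ Q₁ := by
    intro z hz
    obtain ⟨v, hv⟩ := eq_bv_of_commute (r := r) hb (j z) fun i => by
      obtain ⟨q, hq⟩ := exists_jHom e (hsign _ (Subgroup.mem_sup_left (bv_mem_base (r := r) (Pi.single i 1))))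
      rw [← hq, ← map_mul, ← map_mul, Subgroup.mem_centralizer_iff.1 hz q
        (show j q ∈ baseSub by rw [hjdef, hq]; exact bv_mem_base _)]
    show j z ∈ baseSub
    rw [hv]; exact bv_mem_base v
  have hC₂ : Subgroup.centralizer (Q₂ : Set (alternatingGroup (Fin n))) ≤ Q₂ := by
    intro z hz
    refine centralizer_plane hb (j z) fun x hx => ?_
    obtain ⟨q, hq⟩ := exists_jHom e (hsign x (Subgroup.mem_sup_right hx))
    rw [← hq, ← map_mul, ← map_mul, Subgroup.mem_centralizer_iff.1 hz q (show j q ∈ planeSub by rw [hjdef, hq]; exact hx)]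
  -- normalising the base
  have hnorm₁ : ∀ z : alternatingGroup (Fin n), (∀ v, ∃ w, j z * bv v * (j z)⁻¹ = bv (r := r) w) →
      ∀ x ∈ Q₁, z * x * z⁻¹ ∈ Q₁ := by
    intro z hz x hx
    obtain ⟨v, hv⟩ := exists_bv (show j x ∈ baseSub from hx)
    obtain ⟨w, hw⟩ := hz v
    show j (z * x * z⁻¹) ∈ baseSub
    rw [map_mul, map_mul, map_inv, hv, hw]; exact bv_mem_base w
  refine Fusion.isSimple_of_seen S (fun h => ?_) (fun T hT hT1 hcl => ?_) fun E hE g hg => ?_
  · have h1 := hbase (bv_mem_base (r := r) (Pi.single (Sum.inl 0 : ZMod p ⊕ Fin s) 1))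
    rw [h, Subgroup.map_bot, Subgroup.mem_bot, ← bv_zero] at h1
    have := congrFun (bv_injective h1) (Sum.inl 0)
    simp at this
  · exact closed_top hm (Nat.mod_lt _ (Fact.out : p.Prime).pos) e S (fun v _ => hbase (bv_mem_base v))
      (fun h => absurd h hp) T hT hT1 hcl
  refine ⟨Q₁, hQ₁S, hC₁, ?_⟩
  have hgS : ∀ x ∈ (S : Subgroup (alternatingGroup (Fin n))).map j, j g * x * (j g)⁻¹ ∈
      (S : Subgroup (alternatingGroup (Fin n))).map j := by
    rintro _ ⟨y, hy, rfl⟩
    rw [← map_inv, ← map_mul, ← map_mul]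
    exact ⟨_, (Subgroup.mem_normalizer_iff.1 hg y).1 hy, rfl⟩
  have hmem : j g ∈ (Fusion.seen E Q₁).map j := by
    refine normalizer_base_le hp hb _ ((Fusion.seen E Q₂).map j) ?_ ?_ ?_ ?_ ?_ ?_ (j g) (sign_jHom e g)
      fun v => base_of_normalizes hb hSp hbase hgS v
    · rintro _ ⟨z, -, rfl⟩; exact sign_jHom e z
    · intro x hx
      obtain ⟨z, rfl⟩ := exists_jHom e (hsign x hx)
      have hzS : z ∈ (S : Subgroup (alternatingGroup (Fin n))) := he hx
      refine ⟨z, Fusion.inf_normalizer_le_seen hQ₁S ⟨hzS, Fusion.mem_normalizer_of_forall (hnorm₁ z fun v =>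
        base_of_normalizes hb isPGroup_bigSub le_sup_left (fun y hy => mul_mem (mul_mem hx hy) (inv_mem hx)) v)⟩, rfl⟩
    · rintro m hm hmn _ ⟨z, hz, rfl⟩
      obtain ⟨m, rfl⟩ := exists_jHom e hm
      refine ⟨m * z * m⁻¹, Fusion.conj_mem_seen hE hQ₁S (hnorm₁ m fun v => ?_) hz, by simp [hjdef]⟩
      exact exists_bv (hmn v)
    · intro a
      have hub : uu (r := r) (s := s) a ∈ baseSub := bv_mem_base _
      obtain ⟨z, hz⟩ := exists_jHom e (hsign _ (Subgroup.mem_sup_left hub))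
      have hzS : z ∈ (S : Subgroup (alternatingGroup (Fin n))) :=
        he (show j z ∈ bigSub by rw [hjdef, hz]; exact Subgroup.mem_sup_left hub)
      refine ⟨z, Fusion.inf_normalizer_le_seen hQ₂S ⟨hzS, Fusion.mem_normalizer_of_forall fun x hx => ?_⟩, hz⟩
      obtain ⟨i, b, w, hx⟩ := exists_qel (show j x ∈ planeSub from hx)
      show j (z * x * z⁻¹) ∈ planeSub
      rw [map_mul, map_mul, map_inv, hx, hjdef, hz,
        show uu a * qel (r := r) i b w * (uu a)⁻¹ = qel i (b + a * i) w from ?_]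
      · exact qel_mem _ _ _
      rw [mul_inv_eq_iff_eq_mul]
      ext y
      rcases y with ⟨k | k, c⟩ | y <;> simp [uu] <;> ring
    · rintro m hm hmn _ ⟨z, hz, rfl⟩
      obtain ⟨m, rfl⟩ := exists_jHom e hm
      refine ⟨m * z * m⁻¹, Fusion.conj_mem_seen hE hQ₂S (fun x hx => ?_) hz, by simp [hjdef]⟩
      show j (m * x * m⁻¹) ∈ planeSub
      rw [map_mul, map_mul, map_inv]
      exact hmn _ hx
    · rintro _ ⟨z, hz, rfl⟩ hzbig
      obtain ⟨hz1, hz2⟩ := (Fusion.mem_seen hQ₂S).1 hz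
      have hzR : ∀ x ∈ R₀, z * x * z⁻¹ ∈ R₀ := fun x hx => by
        show j (z * x * z⁻¹) ∈ bigSub
        rw [map_mul, map_mul, map_inv]
        exact hzbig _ hx
      have hclimb := Fusion.mapTo_climb hE he hzR (Subgroup.comap_mono le_sup_right) hC₂ hz1 hz2
      exact ⟨z, (Fusion.mem_seen hQ₁S).2 ⟨hnorm₁ z (base_of_normalizes hb isPGroup_bigSub le_sup_left hzbig),
        hclimb.restrict (Subgroup.comap_mono le_sup_left)⟩, rfl⟩
  obtain ⟨z, hz, hzg⟩ := hmem
  exact hj hzg ▸ hz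

end Cfsg.Agent.AltFusion
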