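import Cfsg.Agent.Lib.Fusion.Basic

/-!
Automizers, induced automorphisms, transport along isomorphisms of the system, extenders,
receptive and fully automized subgroups in the language of `MapTo`.
-/

set_option autoImplicit false

namespace Cfsg.Agent.Fusion

open Cfsg.FusionSystem (centralizerIn normalizerIn)

variable {Ω : Type*} [Group Ω] {S : Subgroup Ω}
variable {F : FusionSystem S} {P Q R : Subgroup Ω} {f g : Ω → Ω}

theorem finite_mulAut (G : Type*) [Group G] [Finite G] : Finite (MulAut G) :=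
  Finite.of_injective (fun α : MulAut G => (α : G → G)) DFunLike.coe_injective

/-- The function on `Ω` given by an automorphism of a subgroup. -/
noncomputable def autFun (α : MulAut P) : Ω → Ω := ev (P.subtype.comp α.toMonoidHom)

@[simp] theorem autFun_coe (α : MulAut P) (x : P) : autFun α x = α x :=
  ev_coe _ x

theorem autFun_apply (α : MulAut P) {x : Ω} (hx : x ∈ P) : autFun α x = α ⟨x, hx⟩ :=
  ev_apply _ hx

theorem autFun_mem (α : MulAut P) {x : Ω} (hx : x ∈ P) : autFun α x ∈ P := by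
  rw [autFun_apply α hx]; exact (α ⟨x, hx⟩).2

theorem autFun_mul (α β : MulAut P) {x : Ω} (hx : x ∈ P) :
    autFun (α * β) x = autFun α (autFun β x) := by
  rw [autFun_apply β hx, autFun_coe, autFun_apply _ hx]; rfl

theorem autFun_one {x : Ω} (hx : x ∈ P) : autFun (1 : MulAut P) x = x := by
  rw [autFun_apply _ hx]; rfl

theorem autFun_inv_autFun (α : MulAut P) {x : Ω} (hx : x ∈ P) :
    autFun α⁻¹ (autFun α x) = x := by
  rw [← autFun_mul α⁻¹ α hx, inv_mul_cancel, autFun_one hx]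

theorem autFun_autFun_inv (α : MulAut P) {x : Ω} (hx : x ∈ P) :
    autFun α (autFun α⁻¹ x) = x := by
  rw [← autFun_mul α α⁻¹ hx, mul_inv_cancel, autFun_one hx]

theorem autFun_ext {α β : MulAut P} (h : ∀ x ∈ P, autFun α x = autFun β x) : α = β :=
  MulEquiv.ext fun x => Subtype.ext (by simpa using h x x.2)

theorem img_autFun (α : MulAut P) : img (autFun α) P = P := by
  refine le_antisymm (img_le_of_forall fun x hx => autFun_mem α hx) fun x hx => ?_
  rw [← autFun_autFun_inv α hx]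
  exact mem_img_of_mem (autFun_mem α⁻¹ hx)

theorem mapTo_autFun_iff_hom {α : MulAut P} :
    MapTo F P (autFun α) ↔ P.subtype.comp α.toMonoidHom ∈ F.Hom P :=
  mapTo_ev_iff

/-- For `P ≤ S` the automizer consists exactly of the automorphisms which are maps of the system. -/
theorem mem_autGroup_iff (hP : P ≤ S) {α : MulAut P} :
    α ∈ F.autGroup P ↔ MapTo F P (autFun α) := by
  refine ⟨fun h => ?_, fun h => Subgroup.subset_closure (mapTo_autFun_iff_hom.mp h)⟩
  unfold FusionSystem.autGroup at h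
  induction h using Subgroup.closure_induction with
  | mem x hx => exact mapTo_autFun_iff_hom.mpr hx
  | one => exact (mapTo_id F hP).congr' fun x hx => autFun_one hx
  | mul a b _ _ ha hb =>
      exact (hb.comp ha fun x hx => autFun_mem b hx).congr' fun x hx => autFun_mul a b hx
  | inv a _ ha =>
      obtain ⟨g, hg, hga, -, -⟩ := ha.exists_iso_inverse
      rw [img_autFun] at hg
      refine hg.congr' fun x hx => ?_
      calc autFun a⁻¹ x = g (autFun a (autFun a⁻¹ x)) := (hga _ (autFun_mem a⁻¹ hx)).symm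
        _ = g x := by rw [autFun_autFun_inv a hx]

theorem autGroup_eq_bot_of_not_le (hP : ¬ P ≤ S) : F.autGroup P = ⊥ := by
  rw [eq_bot_iff]
  exact (Subgroup.closure_le _).mpr fun α hα => absurd (F.le_of_mem hα).1 hP

theorem mapTo_of_mem_autGroup (hP : P ≤ S) {α : MulAut P} (h : α ∈ F.autGroup P) :
    MapTo F P (autFun α) :=
  (mem_autGroup_iff hP).mp h

/-- A map of the system, as a homomorphism onto its image. -/
def isoHom (h : MapTo F P f) (hQ : img f P = Q) : P →* Q where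
  toFun x := ⟨f x, hQ ▸ mem_img_of_mem x.2⟩
  map_one' := Subtype.ext h.map_one
  map_mul' a b := Subtype.ext (h.map_mul a.2 b.2)

theorem isoHom_bijective (h : MapTo F P f) (hQ : img f P = Q) :
    Function.Bijective (isoHom h hQ) :=
  ⟨fun a b hab => Subtype.ext (h.inj a.2 b.2 (congrArg Subtype.val hab)), fun y => by
    obtain ⟨x, hx, hxy⟩ := (h.mem_img_iff le_rfl).mp (hQ ▸ y.2 : (y : Ω) ∈ img f P)
    exact ⟨⟨x, hx⟩, Subtype.ext hxy⟩⟩

/-- An isomorphism of the system, as a `MulEquiv` onto the image. -/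
noncomputable def isoEquiv (h : MapTo F P f) (hQ : img f P = Q) : P ≃* Q :=
  MulEquiv.ofBijective (isoHom h hQ) (isoHom_bijective h hQ)

@[simp] theorem isoEquiv_coe (h : MapTo F P f) (hQ : img f P = Q) (x : P) :
    ((isoEquiv h hQ x : Q) : Ω) = f x := rfl

/-- The automorphism of `P` given by a map of the system of `P` onto itself. -/
noncomputable def autOf (h : MapTo F P f) (hP : img f P = P) : MulAut P := isoEquiv h hP

theorem autFun_autOf (h : MapTo F P f) (hP : img f P = P) {x : Ω} (hx : x ∈ P) :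
    autFun (autOf h hP) x = f x := by
  rw [autFun_apply _ hx]; rfl

theorem autOf_mem (h : MapTo F P f) (hP : img f P = P) : autOf h hP ∈ F.autGroup P :=
  (mem_autGroup_iff h.le).mpr (h.congr' fun _ hx => autFun_autOf h hP hx)

theorem img_eq_self_of_forall [Finite P] (h : MapTo F P f) (hmem : ∀ x ∈ P, f x ∈ P) :
    img f P = P :=
  Subgroup.eq_of_le_of_card_ge (img_le_of_forall hmem) (h.card_img le_rfl).ge

/-! ### Automorphisms induced by conjugation -/

theorem mem_normalizer_of_conjAut {α : MulAut P} {k : Ω}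
    (h : ∀ x : P, ((α x : P) : Ω) = k * (x : Ω) * k⁻¹) : k ∈ Subgroup.normalizer (P : Set Ω) := by
  refine Subgroup.mem_normalizer_iff.mpr fun y => ⟨fun hy => h ⟨y, hy⟩ ▸ (α ⟨y, hy⟩).2, fun hy => ?_⟩
  obtain ⟨x, hx⟩ := α.surjective ⟨k * y * k⁻¹, hy⟩
  have := h x
  rw [hx] at this
  exact mul_left_cancel (mul_right_cancel this) ▸ x.2

theorem autInducedBy_eq_map (K P : Subgroup Ω) :
    autInducedBy K P =
      (K.subgroupOf (Subgroup.normalizer (P : Set Ω))).map P.normalizerMonoidHom := by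
  refine le_antisymm ((Subgroup.closure_le _).mpr ?_) ?_
  · rintro α ⟨k, hk, hα⟩
    refine ⟨⟨k, mem_normalizer_of_conjAut hα⟩, hk, MulEquiv.ext fun x => Subtype.ext ?_⟩
    exact (hα x).symm
  · rintro α ⟨k, hk, rfl⟩
    exact Subgroup.subset_closure ⟨k, hk, fun x => rfl⟩

theorem mem_autInducedBy_iff {K P : Subgroup Ω} {α : MulAut P} :
    α ∈ autInducedBy K P ↔ ∃ k ∈ K, ∀ x : P, ((α x : P) : Ω) = k * (x : Ω) * k⁻¹ := by
  refine ⟨fun h => ?_, fun h => Subgroup.subset_closure h⟩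
  rw [autInducedBy_eq_map] at h
  obtain ⟨k, hk, rfl⟩ := h
  exact ⟨k, hk, fun x => rfl⟩

theorem mem_autInducedBy_iff_cj {K P : Subgroup Ω} {α : MulAut P} :
    α ∈ autInducedBy K P ↔ ∃ k ∈ K, ∀ x ∈ P, autFun α x = cj k x := by
  rw [mem_autInducedBy_iff]
  constructor
  · rintro ⟨k, hk, h⟩
    exact ⟨k, hk, fun x hx => by rw [autFun_apply α hx]; exact h ⟨x, hx⟩⟩
  · rintro ⟨k, hk, h⟩
    exact ⟨k, hk, fun x => by simpa using h x x.2⟩

theorem autInducedBy_mono {K L : Subgroup Ω} (h : K ≤ L) (P : Subgroup Ω) :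
    autInducedBy K P ≤ autInducedBy L P :=
  Subgroup.closure_mono fun _ ⟨k, hk, hα⟩ => ⟨k, h hk, hα⟩

theorem autInducedBy_le_autGroup (hP : P ≤ S) : autInducedBy S P ≤ F.autGroup P := by
  intro α hα
  obtain ⟨k, hk, hkα⟩ := mem_autInducedBy_iff_cj.mp hα
  exact (mem_autGroup_iff hP).mpr ((mapTo_cj hP hk).congr' hkα)

theorem inn_le_autInducedBy {K P : Subgroup Ω} (hP : P ≤ K) : Inn P ≤ autInducedBy K P := by
  rintro α ⟨x, rfl⟩
  exact mem_autInducedBy_iff.mpr ⟨x, hP x.2, fun y => rfl⟩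

theorem inn_eq_autInducedBy (P : Subgroup Ω) : Inn P = autInducedBy P P := by
  refine le_antisymm (inn_le_autInducedBy le_rfl) fun α hα => ?_
  obtain ⟨k, hk, h⟩ := mem_autInducedBy_iff.mp hα
  exact ⟨⟨k, hk⟩, MulEquiv.ext fun y => Subtype.ext (h y).symm⟩

theorem inn_le_autGroup (hP : P ≤ S) : Inn P ≤ F.autGroup P :=
  (inn_le_autInducedBy hP).trans (autInducedBy_le_autGroup hP)

theorem isPGroup_autInducedBy {p : ℕ} {K : Subgroup Ω} (hK : IsPGroup p K) (P : Subgroup Ω) :
    IsPGroup p (autInducedBy K P) := by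
  rw [autInducedBy_eq_map]
  exact (hK.comap_of_injective _ (Subgroup.subtype_injective _)).map _

theorem normalizerIn_subgroupOf_normalizer (P : Subgroup Ω) :
    (normalizerIn S P).subgroupOf (Subgroup.normalizer (P : Set Ω)) =
      S.subgroupOf (Subgroup.normalizer (P : Set Ω)) := by
  ext x
  simp only [Subgroup.mem_subgroupOf, FusionSystem.normalizerIn, Subgroup.mem_inf]
  exact ⟨fun h => h.1, fun h => ⟨h, x.2⟩⟩

theorem card_autInducedBy_mul (S P : Subgroup Ω) :
    Nat.card (autInducedBy S P) * Nat.card (centralizerIn S P) =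
      Nat.card (normalizerIn S P) := by
  set φ : ↥(normalizerIn S P) →* MulAut P :=
    P.normalizerMonoidHom.comp (Subgroup.inclusion inf_le_right) with hφ
  have hr : φ.range = autInducedBy S P := by
    ext α
    rw [mem_autInducedBy_iff]
    constructor
    · rintro ⟨k, rfl⟩
      exact ⟨k, k.2.1, fun x => rfl⟩
    · rintro ⟨k, hk, h⟩
      exact ⟨⟨k, hk, mem_normalizer_of_conjAut h⟩, MulEquiv.ext fun x => Subtype.ext (h x).symm⟩
  have hk : φ.ker = (centralizerIn S P).subgroupOf (normalizerIn S P) := by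
    ext x
    rw [hφ, MonoidHom.mem_ker, MonoidHom.comp_apply, ← MonoidHom.mem_ker,
      Subgroup.normalizerMonoidHom_ker, Subgroup.mem_subgroupOf, Subgroup.mem_subgroupOf]
    exact ⟨fun h => ⟨x.2.1, h⟩, fun h => h.2⟩
  rw [← hr, ← Subgroup.index_ker, mul_comm, hk,
    ← Nat.card_congr (Subgroup.subgroupOfEquivOfLe
      (centralizerIn_le_normalizerIn (S := S) (P := P))).toEquiv,
    Subgroup.card_mul_index]

/-! ### Transport of automorphisms along an isomorphism of the system -/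

theorem autFun_congr (h : MapTo F P f) (hQ : img f P = Q) (α : MulAut P) {x : Ω} (hx : x ∈ P) :
    autFun (MulAut.congr (isoEquiv h hQ) α) (f x) = f (autFun α x) := by
  have hfx : f x ∈ Q := hQ ▸ mem_img_of_mem hx
  rw [autFun_apply _ hfx, autFun_apply α hx]
  have : (⟨f x, hfx⟩ : Q) = isoEquiv h hQ ⟨x, hx⟩ := Subtype.ext rfl
  rw [this]
  simp [MulAut.congr]

theorem map_congr_autGroup (h : MapTo F P f) (hQ : img f P = Q) :
    (F.autGroup P).map (MulAut.congr (isoEquiv h hQ)).toMonoidHom = F.autGroup Q := by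
  have hPS := h.le
  have hQS : Q ≤ S := hQ ▸ h.img_le
  obtain ⟨g, hg, hgf, hfg, -⟩ := h.exists_iso_inverse
  rw [hQ] at hg hfg
  have hgP : ∀ y ∈ Q, g y ∈ P := fun y hy => by
    obtain ⟨x, hx, rfl⟩ := (h.mem_img_iff le_rfl).mp (hQ ▸ hy : y ∈ img f P)
    rw [hgf x hx]; exact hx
  ext β
  constructor
  · rintro ⟨α, hα, rfl⟩
    have hα' := mapTo_of_mem_autGroup hPS hα
    refine (mem_autGroup_iff hQS).mpr
      (((hg.comp hα' hgP).comp h fun y hy => autFun_mem α (hgP y hy)).congr' fun y hy => ?_)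
    obtain ⟨x, hx, rfl⟩ := (h.mem_img_iff le_rfl).mp (hQ ▸ hy : y ∈ img f P)
    show autFun (MulAut.congr (isoEquiv h hQ) α) (f x) = f (autFun α (g (f x)))
    rw [hgf x hx, autFun_congr h hQ α hx]
  · intro hβ
    have hβ' := mapTo_of_mem_autGroup hQS hβ
    obtain ⟨α, rfl⟩ : ∃ α, MulAut.congr (isoEquiv h hQ) α = β :=
      (MulAut.congr (isoEquiv h hQ)).surjective β
    refine ⟨α, (mem_autGroup_iff hPS).mpr ?_, rfl⟩
    refine ((h.comp hβ' fun x hx => hQ ▸ mem_img_of_mem hx).comp hg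
      fun x hx => autFun_mem _ (hQ ▸ mem_img_of_mem hx)).congr' fun x hx => ?_
    show autFun α x = g (autFun (MulAut.congr (isoEquiv h hQ) α) (f x))
    rw [autFun_congr h hQ α hx, hgf _ (autFun_mem α hx)]

theorem isConj_card_autGroup (h : F.IsConj P Q) :
    Nat.card (F.autGroup Q) = Nat.card (F.autGroup P) := by
  obtain ⟨f, hf, hQ⟩ := isConj_iff.mp h
  rw [← map_congr_autGroup hf hQ,
    Subgroup.card_map_of_injective (MulAut.congr (isoEquiv hf hQ)).injective]

/-! ### The extender and receptive subgroups -/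

/-- The extender of `f` on `P`. -/
def extSub (S : Subgroup Ω) {F : FusionSystem S} {P : Subgroup Ω} {f : Ω → Ω}
    (hf : MapTo F P f) : Subgroup Ω where
  carrier := {g | g ∈ normalizerIn S P ∧ ∃ h ∈ S, ∀ x ∈ P, f (g * x * g⁻¹) = h * f x * h⁻¹}
  one_mem' := ⟨Subgroup.one_mem _, 1, S.one_mem, fun x _ => by simp⟩
  mul_mem' := by
    rintro a b ⟨ha, h, hh, hha⟩ ⟨hb, k, hk, hkb⟩
    refine ⟨Subgroup.mul_mem _ ha hb, h * k, S.mul_mem hh hk, fun x hx => ?_⟩
    have e : a * b * x * (a * b)⁻¹ = a * (b * x * b⁻¹) * a⁻¹ := by group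
    rw [e, hha _ (conj_mem_of_mem_normalizerIn hb hx), hkb x hx]
    group
  inv_mem' := by
    rintro a ⟨ha, h, hh, hha⟩
    refine ⟨Subgroup.inv_mem _ ha, h⁻¹, S.inv_mem hh, fun x hx => ?_⟩
    have := hha _ (conj_mem_of_mem_normalizerIn (Subgroup.inv_mem _ ha) hx)
    rw [show a * (a⁻¹ * x * a⁻¹⁻¹) * a⁻¹ = x by group] at this
    rw [this]
    group

theorem extender_eq {φ : P →* Ω} (hf : MapTo F P f) (hφ : ∀ x : P, φ x = f x) :
    FusionSystem.extender S P φ = extSub S hf := by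
  refine le_antisymm ((Subgroup.closure_le _).mpr ?_) fun g hg => Subgroup.subset_closure ?_
  · rintro g ⟨hgS, hgN, h, hh, hx⟩
    refine ⟨⟨hgS, hgN⟩, h, hh, fun x hxP => ?_⟩
    have := hx ⟨x, hxP⟩ ((Subgroup.mem_normalizer_iff.mp hgN x).mp hxP)
    rwa [hφ, hφ] at this
  · obtain ⟨hgN, h, hh, hx⟩ := hg
    exact ⟨hgN.1, hgN.2, h, hh, fun x _ => by rw [hφ, hφ]; exact hx x x.2⟩

theorem le_extSub (hf : MapTo F P f) : P ≤ extSub S hf := fun g hg =>
  ⟨le_normalizerIn hf.le hg, f g, hf.mem hg, fun _ hx => hf.map_conj hg hx⟩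

theorem extSub_le (hf : MapTo F P f) : extSub S hf ≤ normalizerIn S P := fun _ hg => hg.1

theorem centralizerIn_le_extSub (hf : MapTo F P f) : centralizerIn S P ≤ extSub S hf :=
  fun g hg => ⟨centralizerIn_le_normalizerIn hg, 1, S.one_mem, fun x hx => by
    rw [show g * x * g⁻¹ = x by rw [← (mem_centralizerIn.mp hg).2 x hx]; group]
    simp⟩

theorem isReceptive_iff : F.IsReceptive Q ↔ Q ≤ S ∧ ∀ (P : Subgroup Ω) (f : Ω → Ω)
    (hf : MapTo F P f), img f P = Q → ∃ g, MapTo F (extSub S hf) g ∧ ∀ x ∈ P, g x = f x := by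
  refine and_congr_right fun hQ => ⟨fun h P f hf hfQ => ?_, fun h P φ hφ hφQ => ?_⟩
  · obtain ⟨φ, hφ, hφf⟩ := id hf
    obtain ⟨ψ, hψ, hψe⟩ := h P φ hφ ((range_eq_img hφf).trans hfQ)
    refine ⟨ev ψ, extender_eq hf hφf ▸ mapTo_ev hψ, fun x hx => ?_⟩
    have hx' : x ∈ FusionSystem.extender S P φ := by
      rw [extender_eq hf hφf]; exact le_extSub hf hx
    rw [ev_apply ψ hx', hψe x hx hx', hφf]
  · obtain ⟨g, ⟨ψ, hψ, hψg⟩, hgf⟩ :=
      h P (ev φ) (mapTo_ev hφ) ((range_eq_img_ev φ).symm.trans hφQ)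
    have he := extender_eq (mapTo_ev hφ) (fun x => (ev_coe φ x).symm)
    rw [he]
    exact ⟨ψ, hψ, fun x hP hN => by rw [hψg]; exact (hgf x hP).trans (ev_apply φ hP)⟩

/-! ### Fully automized subgroups -/

theorem isFullyAutomized_iff {p : ℕ} [Fact p.Prime] [Finite S] (hS : IsPGroup p S) :
    F.IsFullyAutomized p P ↔
      P ≤ S ∧ ¬ p ∣ (autInducedBy S P).relIndex (F.autGroup P) := by
  refine and_congr_right fun hP => ?_
  have := finite_of_le hP
  have := finite_mulAut P
  constructor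
  · rintro ⟨R, hR⟩
    rw [Subgroup.relIndex, ← hR]
    exact Sylow.not_dvd_index R
  · intro h
    have hp : IsPGroup p ((autInducedBy S P).subgroupOf (F.autGroup P)) :=
      (isPGroup_autInducedBy hS P).of_equiv
        (Subgroup.subgroupOfEquivOfLe (autInducedBy_le_autGroup hP)).symm
    exact ⟨hp.toSylow h, rfl⟩

theorem exists_conj_le_autInducedBy {p : ℕ} [Fact p.Prime] [Finite S]
    (hQ : F.IsFullyAutomized p Q) {A : Subgroup (MulAut Q)} (hA : A ≤ F.autGroup Q)
    (hAp : IsPGroup p A) :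
    ∃ β ∈ F.autGroup Q, ∀ α ∈ A, β * α * β⁻¹ ∈ autInducedBy S Q := by
  obtain ⟨hQS, R, hR⟩ := hQ
  have := finite_of_le hQS
  have := finite_mulAut Q
  obtain ⟨R', hR'⟩ := (hAp.of_equiv (Subgroup.subgroupOfEquivOfLe hA).symm).exists_le_sylow
  obtain ⟨β, hβ⟩ := MulAction.exists_smul_eq (F.autGroup Q) R' R
  refine ⟨β, β.2, fun α hα => ?_⟩
  have h1 : β * ⟨α, hA hα⟩ * β⁻¹ ∈ (R : Subgroup (F.autGroup Q)) := by
    rw [← hβ, Sylow.coe_subgroup_smul]
    exact Subgroup.smul_mem_pointwise_smul _ _ _ (hR' hα)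
  rw [hR] at h1
  exact h1

end Cfsg.Agent.Fusion
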