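import Cfsg.Agent.Lib.Fusion.GlaubermanThompsonIff
import Cfsg.Agent.Lib.Transfer.AbstractZJ

/-!
# An axiomatic Glauberman–Thompson criterion

A family of abelian subgroups with invariance and replacement detects inner systems for odd `p`.
-/

set_option autoImplicit false
set_option linter.style.haveILetI false

namespace Cfsg.Agent.Fusion

open Cfsg.FusionSystem (centralizerIn normalizerIn imageAlong preimageAlong)
open Cfsg.Agent.Transfer (ZJAb)
open scoped commutatorElement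

universe u

variable {Ω : Type u} [Group Ω] {S : Subgroup Ω} [Finite S] {p : ℕ} [hp : Fact p.Prime]

/-- The intersection of the members of the family inside `Q` is invariant. -/
def FamilyInvariant (F : FusionSystem S) (𝒜 : Set (Subgroup Ω)) : Prop :=
  ∀ Q : Subgroup Ω, Q ≤ S → (∃ A ∈ 𝒜, A ≤ Q) → ∀ α ∈ F.autGroup Q, ∀ x ∈ Q,
    (∀ A ∈ 𝒜, A ≤ Q → x ∈ A) → ∀ A ∈ 𝒜, A ≤ Q → autFun α x ∈ A

/-- The replacement property. -/
def FamilyReplacement (S : Subgroup Ω) (𝒜 : Set (Subgroup Ω)) : Prop :=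
  ∀ B : Subgroup Ω, B ≤ S → ⁅⁅B, B⁆, B⁆ = ⊥ → (∃ A ∈ 𝒜, ⁅B, B⁆ ≤ A ∧ ¬ B ≤ A) →
    ∃ A ∈ 𝒜, ¬ B ≤ A ∧ ∀ b ∈ B, ∀ a ∈ A, b * a * b⁻¹ ∈ A

/-- In a stable model the intersection of the family is normal. -/
theorem imageAlong_biInf_normal {F : FusionSystem S} {𝒜 : Set (Subgroup Ω)} {U : Subgroup Ω}
    (hU : ∀ x, x ∈ U ↔ ∀ A ∈ 𝒜, x ∈ A) (hne : 𝒜.Nonempty)
    (h𝒜 : ∀ A ∈ 𝒜, A ≤ S ∧ ∀ a ∈ A, ∀ b ∈ A, Commute a b)
    (hinv : FamilyInvariant F 𝒜) (hrep : FamilyReplacement S 𝒜)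
    {G : Type u} [Group G] {ι : S →* G} (hmod : F.IsModel p G ι)
    (hst : Transfer.PStableElts p G) : (imageAlong ι U).Normal := by
  obtain ⟨hfin, hreal, ⟨T, hT⟩, hC⟩ := id hmod
  have hinj := hreal.1
  obtain ⟨A₀, hA₀⟩ := hne
  have hUS : U ≤ S := fun x hx => (h𝒜 A₀ hA₀).1 ((hU x).mp hx A₀ hA₀)
  let 𝒜' : Set (Subgroup G) := (fun A => imageAlong ι A) '' 𝒜
  have hcancel : ∀ {A : Subgroup Ω}, A ≤ S → ∀ {z : Ω}, z ∈ S → th ι z ∈ imageAlong ι A → z ∈ A := by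
    intro A hA z hz hm
    obtain ⟨w, hw, he⟩ := (mem_imageAlong hA).mp hm
    rwa [← th_inj hinj (hA hw) hz he]
  have key : (⨅ A ∈ 𝒜', A : Subgroup G) = imageAlong ι U := by
    ext y
    rw [Transfer.mem_biInf]
    constructor
    · intro h
      obtain ⟨z, hz, rfl⟩ := exists_th_eq (imageAlong_le_range (h _ ⟨A₀, hA₀, rfl⟩))
      exact th_mem_imageAlong hUS
        ((hU z).mpr fun A hA => hcancel (h𝒜 A hA).1 hz (h _ ⟨A, hA, rfl⟩))
    · rintro h _ ⟨A, hA, rfl⟩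
      obtain ⟨z, hz, rfl⟩ := (mem_imageAlong hUS).mp h
      exact th_mem_imageAlong (h𝒜 A hA).1 ((hU z).mp hz A hA)
  rw [← key]
  refine Transfer.biInf_normal hC hst T 𝒜' ⟨_, A₀, hA₀, rfl⟩ ?_ ?_ ?_
  · rintro _ ⟨A, hA, rfl⟩
    refine ⟨hT ▸ imageAlong_le_range, fun a ha b hb => ?_⟩
    obtain ⟨a', ha', rfl⟩ := (mem_imageAlong (h𝒜 A hA).1).mp ha
    obtain ⟨b', hb', rfl⟩ := (mem_imageAlong (h𝒜 A hA).1).mp hb
    show _ * _ = _
    rw [← th_mul ι ((h𝒜 A hA).1 ha') ((h𝒜 A hA).1 hb'),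
      ← th_mul ι ((h𝒜 A hA).1 hb') ((h𝒜 A hA).1 ha'), ((h𝒜 A hA).2 a' ha' b' hb').eq]
  · rintro R hR ⟨_, ⟨A₁, hA₁, rfl⟩, hA₁R⟩ g hg x hx _ ⟨A, hA, rfl⟩ hAR
    set Q := preimageAlong ι R with hQ
    have hQS : Q ≤ S := preimageAlong_le
    have hsub : ∀ B ∈ 𝒜, imageAlong ι B ≤ R → B ≤ Q := fun B hB hle z hz =>
      mem_preimageAlong.mpr ⟨(h𝒜 B hB).1 hz, hle (th_mem_imageAlong (h𝒜 B hB).1 hz)⟩
    have hsub' : ∀ B ∈ 𝒜, B ≤ Q → imageAlong ι B ≤ R := fun B hB hle y hy => by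
      obtain ⟨z, hz, rfl⟩ := (mem_imageAlong (h𝒜 B hB).1).mp hy
      exact (mem_preimageAlong.mp (hle hz)).2
    have hxA := hx _ ⟨A, hA, rfl⟩ hAR
    obtain ⟨z, hz, rfl⟩ := (mem_imageAlong (h𝒜 A hA).1).mp hxA
    obtain ⟨f, hf, hfg⟩ := IsRealizedBy.exists_mapTo hreal hQS g fun w hw => hT ▸
      hR ((Subgroup.mem_normalizer_iff.mp hg _).mp (mem_preimageAlong.mp hw).2)
    haveI := finite_of_le hQS
    have himg : img f Q = Q := img_eq_self_of_forall hf fun w hw => mem_preimageAlong.mpr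
      ⟨hf.mem hw, by
        rw [hfg w hw]
        exact (Subgroup.mem_normalizer_iff.mp hg _).mp (mem_preimageAlong.mp hw).2⟩
    have hzQ : z ∈ Q := hsub A hA hAR hz
    have h1 := hinv Q hQS ⟨A₁, hA₁, hsub A₁ hA₁ hA₁R⟩ _ (autOf_mem hf himg) z hzQ
      (fun B hB hBQ => hcancel (h𝒜 B hB).1 (hQS hzQ) (hx _ ⟨B, hB, rfl⟩ (hsub' B hB hBQ)))
      A hA (hsub A hA hAR)
    rw [autFun_autOf hf himg hzQ] at h1
    have h2 := th_mem_imageAlong (θ := ι) (h𝒜 A hA).1 h1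
    rwa [hfg z hzQ] at h2
  · rintro B hB hcl ⟨_, ⟨A₁, hA₁, rfl⟩, hBA, hnA⟩
    set B' := preimageAlong ι B with hB'
    have hB'S : B' ≤ S := preimageAlong_le
    have hmemB : ∀ {z : Ω}, z ∈ B' → th ι z ∈ B := fun hz => (mem_preimageAlong.mp hz).2
    have hcomm : ∀ {a b : Ω}, a ∈ S → b ∈ S → th ι ⁅a, b⁆ = ⁅th ι a, th ι b⁆ := fun ha hb => by
      rw [commutatorElement_def, commutatorElement_def,
        th_mul ι (S.mul_mem (S.mul_mem ha hb) (S.inv_mem ha)) (S.inv_mem hb), th_conj ι ha hb,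
        th_inv ι hb]
    have hmap : ∀ z ∈ ⁅B', B'⁆, z ∈ S ∧ th ι z ∈ ⁅B, B⁆ := by
      intro z hz
      rw [Subgroup.commutator_def] at hz
      induction hz using Subgroup.closure_induction with
      | mem y hy =>
        obtain ⟨a, ha, b, hb, rfl⟩ := hy
        refine ⟨?_, ?_⟩
        · rw [commutatorElement_def]
          exact S.mul_mem (S.mul_mem (S.mul_mem (hB'S ha) (hB'S hb)) (S.inv_mem (hB'S ha)))
            (S.inv_mem (hB'S hb))
        · rw [hcomm (hB'S ha) (hB'S hb)]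
          exact Subgroup.commutator_mem_commutator (hmemB ha) (hmemB hb)
      | one => exact ⟨S.one_mem, by
          rw [th_apply ι S.one_mem, show (⟨1, S.one_mem⟩ : S) = 1 from rfl, map_one]
          exact Subgroup.one_mem _⟩
      | mul y y' _ _ ih ih' =>
        exact ⟨S.mul_mem ih.1 ih'.1, by rw [th_mul ι ih.1 ih'.1]; exact Subgroup.mul_mem _ ih.2 ih'.2⟩
      | inv y _ ih => exact ⟨S.inv_mem ih.1, by rw [th_inv ι ih.1]; exact Subgroup.inv_mem _ ih.2⟩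
    have hcl' : ⁅⁅B', B'⁆, B'⁆ = ⊥ := by
      rw [Subgroup.commutator_eq_bot_iff_le_centralizer]
      intro z hz b hb
      rw [Subgroup.commutator_eq_bot_iff_le_centralizer] at hcl
      have h1 := hcl (hmap z hz).2 _ (hmemB hb)
      refine th_inj hinj (S.mul_mem (hB'S hb) (hmap z hz).1) (S.mul_mem (hmap z hz).1 (hB'S hb)) ?_
      rw [th_mul ι (hB'S hb) (hmap z hz).1, th_mul ι (hmap z hz).1 (hB'S hb), h1]
    obtain ⟨A, hA, hAB, hnorm⟩ := hrep B' hB'S hcl' ⟨A₁, hA₁,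
      fun z hz => hcancel (h𝒜 A₁ hA₁).1 (hmap z hz).1 (hBA (hmap z hz).2),
      fun hle => hnA fun y hy => by
        obtain ⟨z, hz, rfl⟩ := exists_th_eq (hT ▸ hB hy : y ∈ ι.range)
        exact th_mem_imageAlong (h𝒜 A₁ hA₁).1 (hle (mem_preimageAlong.mpr ⟨hz, hy⟩))⟩
    refine ⟨_, ⟨A, hA, rfl⟩, fun hle => hAB fun z hz =>
      hcancel (h𝒜 A hA).1 (hB'S hz) (hle (hmemB hz)), fun b hb a ha => ?_⟩
    obtain ⟨a', ha', rfl⟩ := (mem_imageAlong (h𝒜 A hA).1).mp ha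
    obtain ⟨b', hb', rfl⟩ := exists_th_eq (hT ▸ hB hb : b ∈ ι.range)
    rw [← th_conj ι hb' ((h𝒜 A hA).1 ha')]
    exact th_mem_imageAlong (h𝒜 A hA).1 (hnorm b' (mem_preimageAlong.mpr ⟨hb', hb⟩) a' ha')

/-- The criterion. -/
theorem eq_inner_of_family (hodd : p ≠ 2) (hS : IsPGroup p S) {𝒜 : Set (Subgroup Ω)}
    {U : Subgroup Ω} (hU : ∀ x, x ∈ U ↔ ∀ A ∈ 𝒜, x ∈ A) (hne : 𝒜.Nonempty)
    (h𝒜 : ∀ A ∈ 𝒜, A ≤ S ∧ ∀ a ∈ A, ∀ b ∈ A, Commute a b) (hrep : FamilyReplacement S 𝒜) :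
    ∀ (m : ℕ) (F : FusionSystem S), mapsCard F = m → F.IsSaturated p → FamilyInvariant F 𝒜 →
      (∀ (P : Subgroup Ω) (f g : Ω → Ω), MapTo F P f → MapTo F (P ⊔ U) g →
        (∀ x ∈ P, g x = f x) → img g U = U → MapTo (innerFusionSystem S) P f) →
      F = innerFusionSystem S := by
  intro m
  induction m using Nat.strong_induction_on with
  | _ m ihm =>
  intro F hm hF hinv hyp
  obtain ⟨A₀, hA₀⟩ := id hne
  have hUS : U ≤ S := fun x hx => (h𝒜 A₀ hA₀).1 ((hU x).mp hx A₀ hA₀)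
  haveI := finite_of_le hUS
  by_cases hUn : F.IsNormal U
  · refine eq_of_hom_eq_inner fun P f hf => ?_
    obtain ⟨g, hg, hgf, hgU⟩ := (isNormal_iff.mp hUn).2 P f hf
    exact hyp P f g hf hg hgf hgU
  have hsub : ∀ E : FusionSystem S, E.IsSaturated p →
      (∀ (P : Subgroup Ω) (f : Ω → Ω), MapTo E P f → MapTo F P f) →
      (∃ (P : Subgroup Ω) (f : Ω → Ω), MapTo F P f ∧ ¬ MapTo E P f) →
      E = innerFusionSystem S := by
    intro E hE hle ⟨P, f, hf, hnf⟩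
    exact ihm _ (hm ▸ mapsCard_lt hle hf hnf) E rfl hE
      (fun Q hQ hex α hα => hinv Q hQ hex α
        ((mem_autGroup_iff hQ).mpr (hle _ _ (mapTo_of_mem_autGroup hQ hα))))
      fun R e e' he he' hee heU => hyp R e e' (hle R e he) (hle _ e' he') hee heU
  have hnormal : ∀ V : Subgroup Ω, V ≤ S → S ≤ Subgroup.normalizer (V : Set Ω) → ¬ F.IsNormal V →
      ∀ (P : Subgroup Ω) (g : Ω → Ω), MapTo F (P ⊔ V) g → img g V = V →
        MapTo (innerFusionSystem S) P g := by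
    intro V hVS hVn hVF P g hg hgV
    have hNV : normalizerIn S V = S := inf_eq_left.mpr hVn
    have hVf : F.IsFullyNormalized V := isFullyNormalized_of_normal hVS hVn
    have hE := isNormalizerSystem_nSys F hVS
    have key : ∀ (T : Subgroup Ω) (E : FusionSystem T), T = S → E.IsSaturated p →
        (∀ R e, MapTo E R e ↔ R ≤ S ∧ (∀ x ∈ R, e x ∈ S) ∧
          ∃ e', MapTo F (R ⊔ V) e' ∧ (∀ x ∈ R, e' x = e x) ∧ img e' V = V) →
        MapTo (innerFusionSystem S) P g := by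
      rintro T E rfl hEs hEmap
      have hEi := hsub E hEs (fun R e he => by
        obtain ⟨-, -, e', he', hee, -⟩ := (hEmap R e).mp he
        exact (he'.restrict le_sup_left).congr' fun z hz => (hee z hz).symm) (by
          by_contra hcon
          push Not at hcon
          exact hVF (isNormal_iff.mpr ⟨hVS, fun R e he => ((hEmap R e).mp (hcon R e he)).2.2⟩))
      rw [← hEi]
      exact (hEmap P g).mpr ⟨(le_sup_left.trans hg.le), fun z hz => hg.mem (Subgroup.mem_sup_left hz),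
        g, hg, fun _ _ => rfl, hgV⟩
    exact key _ (nSys F hVS) hNV (isSaturated_normalizerSystem hS hF hVf hE) fun R e => by
      rw [mapTo_nSys_iff hE, hNV]
  set Q := F.core with hQdef
  have hQn : F.IsNormal Q := isNormal_core F
  have hQsc : F.StronglyClosed Q := IsNormal.stronglyClosed hQn
  -- the core is not `S`
  have hQne : Q ≠ S := by
    intro h
    refine hUn (isNormal_iff.mpr ⟨hUS, fun P f hf => ?_⟩)
    obtain ⟨g, hg, hgf, hgS⟩ := (isNormal_iff.mp hQn).2 P f hf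
    rw [h] at hg hgS
    have hgm := hg.restrict (le_sup_right : S ≤ P ⊔ S)
    refine ⟨g, hg.restrict (sup_le_sup_left hUS P), hgf, ?_⟩
    refine img_eq_self_of_forall (hg.restrict (hUS.trans le_sup_right)) fun x hx => ?_
    refine (hU _).mpr fun A hA => ?_
    have h1 := hinv S le_rfl ⟨A, hA, (h𝒜 A hA).1⟩ _ (autOf_mem hgm hgS) x (hUS hx)
      (fun B hB _ => (hU x).mp hx B hB) A hA (h𝒜 A hA).1
    rwa [autFun_autOf hgm hgS (hUS hx)] at h1
  -- the quotient by the core is inner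
  obtain ⟨Ω', _, S', θ, E, hmor, hk, hEsat, hS'fin, hS'p, hlt⟩ := exists_quotient hS hF hQsc
  have hS'sc : E.StronglyClosed S' := stronglyClosed_iff.mpr
    ⟨le_rfl, fun R g _ hg x hx => hg.mem hx⟩
  set U₁ := ZJAb 0 S' with hU₁
  have hU₁r : U₁ ≤ θ.range := (Transfer.ZJAb_le S').trans hmor.2.1.ge
  set V := preimageAlong θ U₁ with hV
  have hVS : V ≤ S := preimageAlong_le
  have hVn : S ≤ Subgroup.normalizer (V : Set Ω) := by
    intro y hy
    have hU₁n : th θ y ∈ Subgroup.normalizer (U₁ : Set Ω') :=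
      Transfer.normalizer_le_normalizer_ZJAb S'
        (StronglyClosed.le_normalizer hS'sc (hmor.2.1 ▸ th_mem_range θ y))
    have : y ∈ preimageAlong θ (normalizerIn S' U₁) := mem_preimageAlong.mpr
      ⟨hy, hmor.2.1 ▸ th_mem_range θ y, hU₁n⟩
    exact ((preimageAlong_normalizerIn hmor (hmor.2.1 ▸ hU₁r)).le this).2
  have hVF : ¬ F.IsNormal V := by
    intro h
    have hVQ : V ≤ kerIn θ := hk.symm ▸ le_core h
    have hU₁0 : U₁ = ⊥ := le_bot_iff.mp fun y hy => by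
      obtain ⟨v, hv, rfl⟩ := exists_preimage hU₁r hy
      exact Subgroup.mem_bot.mpr (mem_kerIn.mp (hVQ hv)).2
    have hS'0 : S' = ⊥ := by
      by_contra hne'
      exact ZJAb_ne_bot_of_finite hS'p hne' hU₁0
    refine hQne (le_antisymm hQn.1 fun y hy => hk.le (mem_kerIn.mpr ⟨hy, ?_⟩))
    exact Subgroup.mem_bot.mp (hS'0.le (hmor.2.1 ▸ th_mem_range θ y))
  have hyp' : NormZJInner E S' := by
    intro R' f' g' hf' hg' hge hgU
    obtain ⟨hle, g, hg, hgg⟩ := IsSurjectiveMorphism.exists_lift hmor hg'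
    have hR'r : R' ≤ θ.range := le_sup_left.trans hle
    have hVle : V ≤ preimageAlong θ (R' ⊔ U₁) := fun z hz => mem_preimageAlong.mpr
      ⟨(mem_preimageAlong.mp hz).1, Subgroup.mem_sup_right (mem_preimageAlong.mp hz).2⟩
    haveI := finite_of_le hVS
    have hgV : img g V = V := img_eq_self_of_forall (hg.restrict hVle) fun z hz => by
      refine mem_preimageAlong.mpr ⟨hg.mem (hVle hz), ?_⟩
      rw [← hgg z (hVle hz)]
      exact hgU.le (mem_img_of_mem (mem_preimageAlong.mp hz).2)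
    obtain ⟨-, s, hs, hsg⟩ := mapTo_inner_iff.mp
      (hnormal V hVS hVn hVF (preimageAlong θ (R' ⊔ U₁)) g (by rwa [sup_eq_left.mpr hVle]) hgV)
    refine mapTo_inner_iff.mpr ⟨hf'.le, th θ s, hmor.2.1 ▸ th_mem_range θ s, fun y hy => ?_⟩
    obtain ⟨z, hz, rfl⟩ := exists_preimage hR'r hy
    have hzR : z ∈ preimageAlong θ (R' ⊔ U₁) := mem_preimageAlong.mpr
      ⟨(mem_preimageAlong.mp hz).1, Subgroup.mem_sup_left hy⟩
    rw [← hge _ hy, hgg z hzR, hsg z hzR, th_conj θ hs (hg.le hzR)]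
  have hEi := eq_inner_of_normZJInner p hodd _ _ E rfl rfl hS'p hEsat S' hS'sc hyp'
  have hEle : ∀ (R : Subgroup Ω') (g : Ω' → Ω'), MapTo E R g →
      MapTo (innerFusionSystem S') R g := fun R g hg => hEi ▸ hg
  by_cases hQp : IsPGroup p (F.autGroup Q)
  · exact eq_inner_of_quotient hS hF hmor (hk.symm ▸ hQn) (hk.symm ▸ hQp) hS'p hEle
  -- `Q C_S(Q)` is normal, so the system is constrained
  set C := centralizerIn S Q with hCdef
  have hQCS : Q ⊔ C ≤ S := sup_le hQn.1 centralizerIn_le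
  have hQS := hQn.1
  haveI := finite_of_le hQS
  have hQCn : F.IsNormal (Q ⊔ C) := by
    by_contra hcon
    refine hQp ((isPGroup_autInducedBy hS Q).to_le fun α hα => ?_)
    have hm := mapTo_of_mem_autGroup hQS hα
    obtain ⟨e, he, heα⟩ := (isReceptive_iff.mp (isReceptive_of_isFullyNormalized hS hF
      (isFullyNormalized_of_normal hQS (IsNormal.le_normalizer hQn)))).2 _ _ hm (img_autFun α)
    have hCe : C ≤ extSub S hm := fun c hc => by
      refine ⟨centralizerIn_le_normalizerIn hc, 1, S.one_mem, fun q hq => ?_⟩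
      rw [← (mem_centralizerIn.mp hc).2 q hq, mul_inv_cancel_right, one_mul, inv_one, mul_one]
    have he' : MapTo F (Q ⊔ C) e := he.restrict (sup_le (le_extSub hm) hCe)
    have heQ : img e Q = Q := by rw [img_congr (g := autFun α) heα, img_autFun]
    haveI := finite_of_le hQCS
    have heQC : img e (Q ⊔ C) = Q ⊔ C := by
      refine img_eq_self_of_forall he' fun x hx => ?_
      have : img e (Q ⊔ C) ≤ Q ⊔ C := by
        rw [he'.img_sup le_sup_left le_sup_right, heQ]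
        refine sup_le le_sup_left (le_trans (img_le_of_forall fun c hc => ?_) le_sup_right)
        have := he'.map_mem_centralizerIn le_sup_left (Subgroup.mem_sup_right hc) hc
        rwa [heQ] at this
      exact this (mem_img_of_mem hx)
    have hQCN : S ≤ Subgroup.normalizer ((Q ⊔ C : Subgroup Ω) : Set Ω) := by
      intro y hy
      have hy' := mapTo_cj (F := F) hQCS hy
      refine (mem_normalizerIn_of_forall (S := S) hQCS hy fun z hz => ?_).2
      have h1 : img (cj y) (Q ⊔ C) ≤ Q ⊔ C := by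
        rw [hy'.img_sup le_sup_left le_sup_right,
          StronglyClosed.img_eq hQsc hy' le_sup_left]
        refine sup_le le_sup_left (le_trans (img_le_of_forall fun c hc => ?_) le_sup_right)
        have := hy'.map_mem_centralizerIn le_sup_left (Subgroup.mem_sup_right hc) hc
        rwa [StronglyClosed.img_eq hQsc hy' le_sup_left] at this
      exact h1 (mem_img_of_mem (f := cj y) hz)
    obtain ⟨-, s, hs, hse⟩ := mapTo_inner_iff.mp
      (hnormal _ hQCS hQCN hcon Q e (by rwa [sup_eq_right.mpr le_sup_left]) heQC)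
    exact mem_autInducedBy_iff_cj.mpr ⟨s, hs, fun q hq => (heα q hq).symm.trans (hse q hq)⟩
  have hcen : F.IsCentric (Q ⊔ C) := by
    refine ⟨hQCS, fun T hT' => ?_⟩
    obtain ⟨e, he, rfl⟩ := isConj_iff.mp hT'
    rw [StronglyClosed.img_eq (IsNormal.stronglyClosed hQCn) he le_rfl]
    exact (centralizerIn_anti le_sup_left).trans le_sup_right
  obtain ⟨G, _, ι, hmod⟩ := exists_model hS ⟨hF, _, hQCn, hcen⟩
  have htop := range_eq_top_of_normInner hodd hS hUS hyp hmod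
    (imageAlong_biInf_normal hU hne h𝒜 hinv hrep hmod) hsub hS'p hmor hk.le hEle
  refine eq_of_hom_eq_inner fun P f hf => ?_
  obtain ⟨a, ha⟩ := IsRealizedBy.exists_conj hmod.2.1 hf
  obtain ⟨s, hs, rfl⟩ := exists_th_eq (htop.symm ▸ Subgroup.mem_top a : a ∈ ι.range)
  refine mapTo_inner_iff.mpr ⟨hf.le, s, hs, fun x hx => th_inj hmod.2.1.1 (hf.mem hx)
    (S.mul_mem (S.mul_mem hs (hf.le hx)) (S.inv_mem hs)) ?_⟩
  rw [ha x hx, th_conj ι hs (hf.le hx)]

end Cfsg.Agent.Fusion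

namespace Cfsg.Agent.Fusion

open Cfsg.FusionSystem (centralizerIn normalizerIn imageAlong preimageAlong)

universe v

/-- The criterion in the form of normalizer systems. -/
theorem axiomaticGT_iff {Ω : Type v} [Group Ω] {S : Subgroup Ω} [Finite S] {p : ℕ}
    [Fact p.Prime] (hS : IsPGroup p S) {F : FusionSystem S} (hF : F.IsSaturated p) (hp : p ≠ 2)
    {𝒜 : Set (Subgroup Ω)} (hne : 𝒜.Nonempty)
    (h𝒜 : ∀ A ∈ 𝒜, A ≤ S ∧ ∀ a ∈ A, ∀ b ∈ A, Commute a b)
    (hinv : FamilyInvariant F 𝒜) (hrep : FamilyReplacement S 𝒜)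
    {U : Subgroup Ω} (hU : ∀ x, x ∈ U ↔ ∀ A ∈ 𝒜, x ∈ A) :
    (∀ P : Subgroup Ω, F.Hom P = (innerFusionSystem S).Hom P) ↔
      ∀ N : FusionSystem (normalizerIn S U), F.IsNormalizerSystem U N →
        ∀ P : Subgroup Ω, N.Hom P = (innerFusionSystem (normalizerIn S U)).Hom P := by
  obtain ⟨A₀, hA₀⟩ := id hne
  have hUS : U ≤ S := fun x hx => (h𝒜 A₀ hA₀).1 ((hU x).mp hx A₀ hA₀)
  haveI := finite_of_le hUS
  have hNS : normalizerIn S U = S := by
    refine le_antisymm normalizerIn_le fun s hs => mem_normalizerIn_of_forall hUS hs fun x hx => ?_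
    refine (hU _).mpr fun A hA => ?_
    obtain ⟨γ, hγ⟩ := exists_conjAut (P := S) (Subgroup.le_normalizer hs)
    have h1 := hinv S le_rfl ⟨A, hA, (h𝒜 A hA).1⟩ γ
      (autInducedBy_le_autGroup le_rfl (mem_autInducedBy_iff_cj.mpr ⟨s, hs, hγ⟩)) x (hUS hx)
      (fun B hB _ => (hU x).mp hx B hB) A hA (h𝒜 A hA).1
    rwa [hγ x (hUS hx)] at h1
  constructor
  · intro h N hN P
    have hFi : F = innerFusionSystem S := fusionSystem_ext fun R f =>
      ⟨fun ⟨φ, hφ, hf⟩ => ⟨φ, h R ▸ hφ, hf⟩, fun ⟨φ, hφ, hf⟩ => ⟨φ, (h R).symm ▸ hφ, hf⟩⟩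
    ext φ
    rw [← mapTo_ev_iff (F := N), ← mapTo_ev_iff (F := innerFusionSystem _), mapTo_nSys_iff hN,
      mapTo_inner_iff]
    constructor
    · rintro ⟨hP, -, g, hg, hgf, -⟩
      rw [hFi] at hg
      obtain ⟨-, s, hs, hsg⟩ := mapTo_inner_iff.mp hg
      exact ⟨hP, s, hNS.ge hs, fun x hx => by rw [← hgf x hx, hsg x (Subgroup.mem_sup_left hx)]⟩
    · rintro ⟨hP, s, hs, hsf⟩
      refine ⟨hP, fun x hx => ?_, cj s,
        mapTo_cj (sup_le (hP.trans normalizerIn_le) hUS) hs.1, fun x hx => (hsf x hx).symm, ?_⟩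
      · rw [hsf x hx]
        exact Subgroup.mul_mem _ (Subgroup.mul_mem _ hs (hP hx)) (Subgroup.inv_mem _ hs)
      · exact img_eq_self_of_forall (mapTo_cj (F := F) hUS hs.1)
          fun x hx => conj_mem_of_mem_normalizerIn hs hx
  · intro h P
    have hi := h (nSys F hUS) (isNormalizerSystem_nSys F hUS)
    rw [eq_inner_of_family hp hS hU hne h𝒜 hrep _ F rfl hF hinv fun R f g hf hg hgf hgU => by
      obtain ⟨φ, hφ, hφf⟩ := (mapTo_nSys_iff (isNormalizerSystem_nSys F hUS)).mpr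
        (⟨hf.le.trans hNS.ge, fun x hx => hNS.ge (hf.mem hx), g, hg, hgf, hgU⟩)
      obtain ⟨-, s, hs, hsx⟩ := mapTo_inner_iff.mp (⟨φ, hi R ▸ hφ, hφf⟩ :
        MapTo (innerFusionSystem (normalizerIn S U)) R f)
      exact mapTo_inner_iff.mpr ⟨hf.le, s, normalizerIn_le hs, hsx⟩]

end Cfsg.Agent.Fusion
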