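import Cfsg.Prelude.Def_FusionSystem

/-!
Fusion-system basics. Maps of a system are handled through plain functions `f : Ω → Ω`:
`MapTo F P f` says that `f` restricted to `P` is a map of `F`; `img f P` is the image subgroup.
-/

set_option autoImplicit false

namespace Cfsg.Agent.Fusion

variable {Ω : Type*} [Group Ω] {S : Subgroup Ω}

/-- `f`, restricted to `P`, is a map of the system. -/
def MapTo (F : FusionSystem S) (P : Subgroup Ω) (f : Ω → Ω) : Prop :=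
  ∃ φ ∈ F.Hom P, ∀ x : P, φ x = f x

open Classical in
/-- A homomorphism on a subgroup, extended by `1` outside it. -/
noncomputable def ev {P : Subgroup Ω} (φ : P →* Ω) : Ω → Ω :=
  fun x => if h : x ∈ P then φ ⟨x, h⟩ else 1

/-- The subgroup generated by the image of `P` under `f`. -/
def img (f : Ω → Ω) (P : Subgroup Ω) : Subgroup Ω := Subgroup.closure (f '' P)

/-- Conjugation by `g` as a plain function. -/
def cj (g : Ω) : Ω → Ω := fun x => g * x * g⁻¹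

@[simp] theorem cj_apply (g x : Ω) : cj g x = g * x * g⁻¹ := rfl

theorem cj_mul (g h x : Ω) : cj (g * h) x = cj g (cj h x) := by simp [cj, mul_assoc]

@[simp] theorem cj_one (x : Ω) : cj 1 x = x := by simp

theorem cj_inv_cancel (g x : Ω) : cj g⁻¹ (cj g x) = x := by simp [cj, mul_assoc]

theorem cj_cancel_inv (g x : Ω) : cj g (cj g⁻¹ x) = x := by simp [cj, mul_assoc]

theorem ev_apply {P : Subgroup Ω} (φ : P →* Ω) {x : Ω} (h : x ∈ P) : ev φ x = φ ⟨x, h⟩ := by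
  rw [ev, dif_pos h]

@[simp] theorem ev_coe {P : Subgroup Ω} (φ : P →* Ω) (x : P) : ev φ x = φ x :=
  ev_apply φ x.2

variable {F : FusionSystem S} {P Q R : Subgroup Ω} {f g : Ω → Ω}

theorem mapTo_ev {φ : P →* Ω} (h : φ ∈ F.Hom P) : MapTo F P (ev φ) :=
  ⟨φ, h, fun x => (ev_coe φ x).symm⟩

theorem mapTo_ev_iff {φ : P →* Ω} : MapTo F P (ev φ) ↔ φ ∈ F.Hom P := by
  refine ⟨fun ⟨ψ, hψ, h⟩ => ?_, mapTo_ev⟩
  have : φ = ψ := MonoidHom.ext fun x => by rw [h x, ev_coe]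
  exact this ▸ hψ

namespace MapTo

theorem hom_mem (h : MapTo F P f) {φ : P →* Ω} (hφ : ∀ x : P, φ x = f x) : φ ∈ F.Hom P := by
  obtain ⟨ψ, hψ, hψf⟩ := h
  have : φ = ψ := MonoidHom.ext fun x => by rw [hφ x, hψf x]
  exact this ▸ hψ

theorem congr' (h : MapTo F P f) (hfg : ∀ x ∈ P, g x = f x) : MapTo F P g := by
  obtain ⟨ψ, hψ, hψf⟩ := h
  exact ⟨ψ, hψ, fun x => by rw [hψf x, hfg x x.2]⟩

theorem le (h : MapTo F P f) : P ≤ S := by
  obtain ⟨ψ, hψ, -⟩ := h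
  exact (F.le_of_mem hψ).1

theorem mem (h : MapTo F P f) {x : Ω} (hx : x ∈ P) : f x ∈ S := by
  obtain ⟨ψ, hψ, hψf⟩ := h
  exact hψf ⟨x, hx⟩ ▸ (F.le_of_mem hψ).2 ⟨x, hx⟩

theorem injOn (h : MapTo F P f) : Set.InjOn f P := by
  obtain ⟨ψ, hψ, hψf⟩ := h
  intro a ha b hb hab
  have := F.injective_of_mem hψ (a₁ := ⟨a, ha⟩) (a₂ := ⟨b, hb⟩) (by rw [hψf, hψf]; exact hab)
  exact congrArg Subtype.val this

theorem inj (h : MapTo F P f) {x y : Ω} (hx : x ∈ P) (hy : y ∈ P) (hxy : f x = f y) : x = y :=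
  h.injOn hx hy hxy

theorem map_mul (h : MapTo F P f) {x y : Ω} (hx : x ∈ P) (hy : y ∈ P) : f (x * y) = f x * f y := by
  obtain ⟨ψ, -, hψf⟩ := h
  have := _root_.map_mul ψ ⟨x, hx⟩ ⟨y, hy⟩
  simpa [hψf] using this

theorem map_one (h : MapTo F P f) : f 1 = 1 := by
  obtain ⟨ψ, -, hψf⟩ := h
  simpa [hψf] using _root_.map_one ψ

theorem map_inv (h : MapTo F P f) {x : Ω} (hx : x ∈ P) : f x⁻¹ = (f x)⁻¹ := by
  obtain ⟨ψ, -, hψf⟩ := h
  simpa [hψf] using _root_.map_inv ψ ⟨x, hx⟩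

theorem map_conj (h : MapTo F P f) {x y : Ω} (hx : x ∈ P) (hy : y ∈ P) :
    f (x * y * x⁻¹) = f x * f y * (f x)⁻¹ := by
  rw [h.map_mul (P.mul_mem hx hy) (P.inv_mem hx), h.map_mul hx hy, h.map_inv hx]

theorem mem_img_iff (h : MapTo F P f) (hR : R ≤ P) {y : Ω} : y ∈ img f R ↔ ∃ x ∈ R, f x = y := by
  constructor
  · intro hy
    unfold img at hy
    induction hy using Subgroup.closure_induction with
    | mem z hz => obtain ⟨x, hx, rfl⟩ := hz; exact ⟨x, hx, rfl⟩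
    | one => exact ⟨1, R.one_mem, h.map_one⟩
    | mul a b _ _ ha hb =>
        obtain ⟨x, hx, rfl⟩ := ha
        obtain ⟨z, hz, rfl⟩ := hb
        exact ⟨x * z, R.mul_mem hx hz, h.map_mul (hR hx) (hR hz)⟩
    | inv a _ ha =>
        obtain ⟨x, hx, rfl⟩ := ha
        exact ⟨x⁻¹, R.inv_mem hx, h.map_inv (hR hx)⟩
  · rintro ⟨x, hx, rfl⟩
    exact Subgroup.subset_closure ⟨x, hx, rfl⟩

theorem img_le (h : MapTo F P f) : img f P ≤ S := by
  intro y hy
  obtain ⟨x, hx, rfl⟩ := (h.mem_img_iff le_rfl).mp hy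
  exact h.mem hx

theorem apply_mem_img_iff (h : MapTo F P f) (hR : R ≤ P) {x : Ω} (hx : x ∈ P) :
    f x ∈ img f R ↔ x ∈ R := by
  refine ⟨fun hy => ?_, fun hxR => Subgroup.subset_closure ⟨x, hxR, rfl⟩⟩
  obtain ⟨z, hz, hzx⟩ := (h.mem_img_iff hR).mp hy
  exact h.inj (hR hz) hx hzx ▸ hz

theorem card_img (h : MapTo F P f) (hR : R ≤ P) : Nat.card (img f R) = Nat.card R := by
  symm
  refine Nat.card_eq_of_bijective
    (fun x : R => (⟨f x, Subgroup.subset_closure ⟨x, x.2, rfl⟩⟩ : img f R)) ⟨?_, ?_⟩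
  · intro a b hab
    exact Subtype.ext (h.inj (hR a.2) (hR b.2) (congrArg Subtype.val hab))
  · rintro ⟨y, hy⟩
    obtain ⟨x, hx, rfl⟩ := (h.mem_img_iff hR).mp hy
    exact ⟨⟨x, hx⟩, rfl⟩

theorem img_le_img_iff (h : MapTo F P f) (hQ : Q ≤ P) (hR : R ≤ P) :
    img f Q ≤ img f R ↔ Q ≤ R := by
  refine ⟨fun hle x hx => ?_, fun hle => Subgroup.closure_mono (Set.image_mono hle)⟩
  exact (h.apply_mem_img_iff hR (hQ hx)).mp (hle ((h.apply_mem_img_iff hQ (hQ hx)).mpr hx))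

theorem img_inj (h : MapTo F P f) (hQ : Q ≤ P) (hR : R ≤ P) (he : img f Q = img f R) : Q = R :=
  le_antisymm ((h.img_le_img_iff hQ hR).mp he.le) ((h.img_le_img_iff hR hQ).mp he.ge)

theorem img_inf (h : MapTo F P f) (hQ : Q ≤ P) (hR : R ≤ P) :
    img f (Q ⊓ R) = img f Q ⊓ img f R := by
  refine le_antisymm (le_inf (Subgroup.closure_mono (Set.image_mono inf_le_left))
    (Subgroup.closure_mono (Set.image_mono inf_le_right))) ?_
  rintro y ⟨hy₁, hy₂⟩
  obtain ⟨x, hx, rfl⟩ := (h.mem_img_iff hQ).mp hy₁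
  exact Subgroup.subset_closure ⟨x, ⟨hx, (h.apply_mem_img_iff hR (hQ hx)).mp hy₂⟩, rfl⟩

theorem img_bot (h : MapTo F P f) : img f (⊥ : Subgroup Ω) = ⊥ := by
  rw [eq_bot_iff]
  intro y hy
  obtain ⟨x, hx, rfl⟩ := (h.mem_img_iff bot_le).mp hy
  rw [Subgroup.mem_bot.mp hx, h.map_one]
  exact Subgroup.one_mem _

end MapTo

theorem mem_img_of_mem {x : Ω} (hx : x ∈ P) : f x ∈ img f P :=
  Subgroup.subset_closure ⟨x, hx, rfl⟩

theorem img_mono (hPQ : P ≤ Q) : img f P ≤ img f Q :=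
  Subgroup.closure_mono (Set.image_mono hPQ)

theorem img_congr (h : ∀ x ∈ P, f x = g x) : img f P = img g P := by
  unfold img
  rw [Set.image_congr (fun x hx => h x hx)]

theorem img_le_of_forall (h : ∀ x ∈ P, f x ∈ Q) : img f P ≤ Q :=
  (Subgroup.closure_le Q).mpr (by rintro _ ⟨x, hx, rfl⟩; exact h x hx)

theorem range_eq_img {φ : P →* Ω} (h : ∀ x : P, φ x = f x) : φ.range = img f P := by
  refine le_antisymm ?_ (img_le_of_forall fun x hx => ⟨⟨x, hx⟩, h _⟩)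
  rintro _ ⟨x, rfl⟩
  rw [h x]
  exact mem_img_of_mem x.2

theorem range_eq_img_ev (φ : P →* Ω) : φ.range = img (ev φ) P :=
  range_eq_img fun x => (ev_coe φ x).symm

theorem map_subgroupOf_eq_img {φ : P →* Ω} (h : ∀ x : P, φ x = f x) (hR : R ≤ P) :
    (R.subgroupOf P).map φ = img f R := by
  refine le_antisymm ?_ (img_le_of_forall fun x hx => ⟨⟨x, hR hx⟩, hx, h _⟩)
  rintro _ ⟨x, hx, rfl⟩
  rw [h x]
  exact mem_img_of_mem (Subgroup.mem_subgroupOf.mp hx)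

theorem img_id : img (fun x : Ω => x) P = P := by
  simp [img]

theorem img_cj (g : Ω) : img (cj g) P = P.map (MulAut.conj g).toMonoidHom := by
  refine le_antisymm (img_le_of_forall fun x hx => ⟨x, hx, by simp⟩) ?_
  rintro _ ⟨x, hx, rfl⟩
  exact Subgroup.subset_closure ⟨x, hx, by simp⟩

theorem mapTo_cj (hP : P ≤ S) {g : Ω} (hg : g ∈ S) : MapTo F P (cj g) :=
  ⟨_, F.conj_mem hP hg, fun _ => rfl⟩

theorem mapTo_id (F : FusionSystem S) (hP : P ≤ S) : MapTo F P (fun x => x) :=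
  (mapTo_cj hP S.one_mem).congr' fun x _ => (cj_one x).symm

theorem mapTo_of_hom {φ : P →* Ω} (hφ : φ ∈ F.Hom P) (h : ∀ x : P, f x = φ x) : MapTo F P f :=
  ⟨φ, hφ, fun x => (h x).symm⟩

namespace MapTo

theorem comp (hf : MapTo F P f) (hg : MapTo F Q g) (hfQ : ∀ x ∈ P, f x ∈ Q) :
    MapTo F P (fun x => g (f x)) := by
  obtain ⟨φ, hφ, hφf⟩ := hf
  obtain ⟨ψ, hψ, hψg⟩ := hg
  have hQ : ∀ x : P, φ x ∈ Q := fun x => by rw [hφf x]; exact hfQ x x.2
  refine ⟨_, F.comp_mem hφ hψ hQ, fun x => ?_⟩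
  show ψ ⟨φ x, hQ x⟩ = _
  rw [hψg]
  exact congrArg g (hφf x)

theorem restrict (h : MapTo F P f) (hR : R ≤ P) : MapTo F R f :=
  (mapTo_id F (hR.trans h.le)).comp h hR

theorem exists_inverse (h : MapTo F P f) :
    ∃ g, MapTo F (img f P) g ∧ ∀ x ∈ P, g (f x) = x := by
  obtain ⟨φ, hφ, hφf⟩ := h
  obtain ⟨ψ, hψ, hψφ⟩ := F.inv_mem hφ
  refine ⟨ev ψ, range_eq_img hφf ▸ mapTo_ev hψ, fun x hx => ?_⟩
  rw [← hφf ⟨x, hx⟩, ev_apply ψ ⟨⟨x, hx⟩, rfl⟩]
  exact hψφ ⟨x, hx⟩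

theorem img_img (h : MapTo F P f) (hR : R ≤ P) (g : Ω → Ω) :
    img g (img f R) = img (fun x => g (f x)) R := by
  refine le_antisymm (img_le_of_forall fun y hy => ?_) (img_le_of_forall fun x hx => ?_)
  · obtain ⟨x, hx, rfl⟩ := (h.mem_img_iff hR).mp hy
    exact mem_img_of_mem (f := fun x => g (f x)) hx
  · exact mem_img_of_mem (mem_img_of_mem hx)

end MapTo

/-- A two-sided inverse, packaged. -/
theorem MapTo.exists_iso_inverse (h : MapTo F P f) :
    ∃ g, MapTo F (img f P) g ∧ (∀ x ∈ P, g (f x) = x) ∧ (∀ y ∈ img f P, f (g y) = y) ∧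
      ∀ R ≤ P, img g (img f R) = R := by
  obtain ⟨g, hg, hgf⟩ := h.exists_inverse
  refine ⟨g, hg, hgf, fun y hy => ?_, fun R hR => ?_⟩
  · obtain ⟨x, hx, rfl⟩ := (h.mem_img_iff le_rfl).mp hy
    rw [hgf x hx]
  · rw [h.img_img hR g, img_congr (g := fun x : Ω => x) (fun x hx => hgf x (hR hx)), img_id]

/-! ### Conjugacy -/

theorem isConj_iff : F.IsConj P Q ↔ ∃ f, MapTo F P f ∧ img f P = Q := by
  constructor
  · rintro ⟨φ, hφ, rfl⟩
    exact ⟨ev φ, mapTo_ev hφ, (range_eq_img_ev φ).symm⟩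
  · rintro ⟨f, ⟨φ, hφ, hφf⟩, rfl⟩
    exact ⟨φ, hφ, range_eq_img hφf⟩

theorem MapTo.isConj (h : MapTo F P f) : F.IsConj P (img f P) := isConj_iff.mpr ⟨f, h, rfl⟩

theorem isConj_refl (hP : P ≤ S) : F.IsConj P P :=
  isConj_iff.mpr ⟨_, mapTo_id F hP, img_id⟩

theorem isConj_le_left (h : F.IsConj P Q) : P ≤ S := by
  obtain ⟨φ, hφ, -⟩ := h
  exact (F.le_of_mem hφ).1

theorem isConj_le_right (h : F.IsConj P Q) : Q ≤ S := by
  obtain ⟨φ, hφ, rfl⟩ := h
  rintro _ ⟨x, rfl⟩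
  exact (F.le_of_mem hφ).2 x

theorem isConj_symm (h : F.IsConj P Q) : F.IsConj Q P := by
  obtain ⟨f, hf, rfl⟩ := isConj_iff.mp h
  obtain ⟨g, hg, -, -, himg⟩ := hf.exists_iso_inverse
  exact isConj_iff.mpr ⟨g, hg, himg P le_rfl⟩

theorem isConj_trans (h₁ : F.IsConj P Q) (h₂ : F.IsConj Q R) : F.IsConj P R := by
  obtain ⟨f, hf, rfl⟩ := isConj_iff.mp h₁
  obtain ⟨g, hg, rfl⟩ := isConj_iff.mp h₂
  exact isConj_iff.mpr ⟨_, hf.comp hg fun x hx => mem_img_of_mem hx, (hf.img_img le_rfl g).symm⟩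

theorem isConj_card (h : F.IsConj P Q) : Nat.card Q = Nat.card P := by
  obtain ⟨f, hf, rfl⟩ := isConj_iff.mp h
  exact hf.card_img le_rfl

/-! ### Centralizers and normalizers inside `S` -/

open Cfsg.FusionSystem (centralizerIn normalizerIn)

theorem mem_centralizerIn {x : Ω} :
    x ∈ centralizerIn S P ↔ x ∈ S ∧ ∀ y ∈ P, y * x = x * y := by
  simp [FusionSystem.centralizerIn, Subgroup.mem_centralizer_iff]

theorem mem_normalizerIn {x : Ω} :
    x ∈ normalizerIn S P ↔ x ∈ S ∧ ∀ y : Ω, y ∈ P ↔ x * y * x⁻¹ ∈ P := by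
  simp [FusionSystem.normalizerIn, Subgroup.mem_normalizer_iff]

theorem normalizerIn_le : normalizerIn S P ≤ S := inf_le_left

theorem centralizerIn_le : centralizerIn S P ≤ S := inf_le_left

theorem centralizerIn_le_normalizerIn : centralizerIn S P ≤ normalizerIn S P :=
  inf_le_inf_left S (Subgroup.centralizer_le_normalizer _)

theorem le_normalizerIn (hP : P ≤ S) : P ≤ normalizerIn S P :=
  le_inf hP Subgroup.le_normalizer

theorem conj_mem_of_mem_normalizerIn {x y : Ω} (hx : x ∈ normalizerIn S P) (hy : y ∈ P) :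
    x * y * x⁻¹ ∈ P :=
  ((mem_normalizerIn.mp hx).2 y).mp hy

theorem mem_normalizer_of_forall [Finite P] {x : Ω} (h : ∀ y ∈ P, x * y * x⁻¹ ∈ P) :
    x ∈ Subgroup.normalizer (P : Set Ω) := by
  refine Subgroup.mem_normalizer_iff.mpr fun y => ⟨h y, fun hy => ?_⟩
  have hbij : Function.Bijective (fun z : P => (⟨x * z * x⁻¹, h z z.2⟩ : P)) :=
    Finite.injective_iff_bijective.mp fun a b hab => by
      have := congrArg Subtype.val hab
      exact Subtype.ext (mul_left_cancel (mul_right_cancel this))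
  obtain ⟨z, hz⟩ := hbij.2 ⟨x * y * x⁻¹, hy⟩
  have hzy : x * (z : Ω) * x⁻¹ = x * y * x⁻¹ := congrArg Subtype.val hz
  exact mul_left_cancel (mul_right_cancel hzy) ▸ z.2

theorem finite_of_le [Finite S] (h : P ≤ S) : Finite P :=
  Finite.of_injective (Subgroup.inclusion h) (Subgroup.inclusion_injective h)

theorem mem_normalizerIn_of_forall [Finite S] (hP : P ≤ S) {x : Ω} (hx : x ∈ S)
    (h : ∀ y ∈ P, x * y * x⁻¹ ∈ P) : x ∈ normalizerIn S P := by
  have := finite_of_le hP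
  exact ⟨hx, mem_normalizer_of_forall h⟩

theorem MapTo.map_mem_centralizerIn (h : MapTo F R f) (hP : P ≤ R) {z : Ω} (hzR : z ∈ R)
    (hz : z ∈ centralizerIn S P) : f z ∈ centralizerIn S (img f P) := by
  refine mem_centralizerIn.mpr ⟨h.mem hzR, fun y hy => ?_⟩
  obtain ⟨x, hx, rfl⟩ := (h.mem_img_iff hP).mp hy
  rw [← h.map_mul (hP hx) hzR, ← h.map_mul hzR (hP hx), (mem_centralizerIn.mp hz).2 x hx]

theorem MapTo.map_mem_normalizerIn (h : MapTo F R f) (hP : P ≤ R) {z : Ω} (hzR : z ∈ R)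
    (hz : z ∈ normalizerIn S P) : f z ∈ normalizerIn S (img f P) := by
  refine mem_normalizerIn.mpr ⟨h.mem hzR, fun y => ⟨fun hy => ?_, fun hy => ?_⟩⟩
  · obtain ⟨x, hx, rfl⟩ := (h.mem_img_iff hP).mp hy
    rw [← h.map_conj hzR (hP hx)]
    exact mem_img_of_mem (conj_mem_of_mem_normalizerIn hz hx)
  · obtain ⟨x, hx, hxy⟩ := (h.mem_img_iff hP).mp hy
    have hz' : z⁻¹ ∈ normalizerIn S P := Subgroup.inv_mem _ hz
    have hy' : y = f z⁻¹ * f x * (f z⁻¹)⁻¹ := by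
      rw [hxy, h.map_inv hzR]; group
    rw [hy', ← h.map_conj (R.inv_mem hzR) (hP hx)]
    exact mem_img_of_mem (conj_mem_of_mem_normalizerIn hz' hx)

theorem MapTo.img_normalizerIn_le (h : MapTo F R f) (hP : P ≤ R) :
    img f (normalizerIn S P ⊓ R) ≤ normalizerIn S (img f P) :=
  img_le_of_forall fun _ hz => h.map_mem_normalizerIn hP hz.2 hz.1

theorem MapTo.img_centralizerIn_le (h : MapTo F R f) (hP : P ≤ R) :
    img f (centralizerIn S P ⊓ R) ≤ centralizerIn S (img f P) :=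
  img_le_of_forall fun _ hz => h.map_mem_centralizerIn hP hz.2 hz.1

theorem exists_isFullyNormalized [Finite S] (hP : P ≤ S) :
    ∃ Q, F.IsConj P Q ∧ F.IsFullyNormalized Q := by
  classical
  have hfin : {Q : Subgroup Ω | F.IsConj P Q}.Finite := by
    have : Finite {Q : Subgroup Ω // Q ≤ S} := by
      refine Finite.of_injective (fun Q => Q.1.subgroupOf S) ?_
      intro A B hAB
      refine Subtype.ext ?_
      have h' := congrArg (Subgroup.map S.subtype) hAB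
      simpa [Subgroup.map_subgroupOf_eq_of_le, A.2, B.2] using h'
    have : Finite {Q : Subgroup Ω | Q ≤ S} := this
    exact (Set.toFinite {Q : Subgroup Ω | Q ≤ S}).subset fun Q hQ => isConj_le_right hQ
  obtain ⟨Q, hQ, hmax⟩ := hfin.exists_maximalFor (fun Q => Nat.card (normalizerIn S Q))
    _ ⟨P, isConj_refl hP⟩
  refine ⟨Q, hQ, isConj_le_right hQ, fun R hR => ?_⟩
  rcases le_total (Nat.card (normalizerIn S R)) (Nat.card (normalizerIn S Q)) with h | h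
  · exact h
  · exact hmax (isConj_trans hQ hR) h

end Cfsg.Agent.Fusion
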