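import Cfsg.Agent.Lib.Fusion.Saturation
import Cfsg.Agent.Lib.Fusion.Normal
import Cfsg.Agent.Lib.Fusion.Marks
import Mathlib.GroupTheory.GroupAction.CardCommute
import Mathlib.Algebra.BigOperators.Group.Finset.Sigma

/-!
Stable `S`-sets of a fusion system: every finite `S`-set can be completed to one whose numbers
of fixed points are invariant under the system (after multiplying it when the system is not
saturated).
-/

set_option autoImplicit false

namespace Cfsg.Agent.Fusion

open Cfsg.FusionSystem (centralizerIn normalizerIn)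

universe u

variable {Ω : Type u} [Group Ω] {S : Subgroup Ω}

/-- A finite set with an action of `S`. -/
structure FSet (S : Subgroup Ω) where
  /-- The underlying type. -/
  carrier : Type u
  /-- The action. -/
  act : MulAction S carrier
  /-- Finiteness. -/
  fin : Finite carrier

attribute [instance] FSet.act FSet.fin

variable {X Y : FSet S} {P Q R : Subgroup Ω}

/-- Stabilizer of a point, inside the ambient group. -/
def stb (X : FSet S) (x : X.carrier) : Subgroup Ω := (MulAction.stabilizer S x).map S.subtype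

theorem stb_le (x : X.carrier) : stb X x ≤ S := Subgroup.map_subtype_le _

theorem mem_stb {x : X.carrier} {a : Ω} :
    a ∈ stb X x ↔ ∃ h : a ∈ S, (⟨a, h⟩ : S) • x = x :=
  ⟨fun ⟨s, hs, he⟩ => by subst he; exact ⟨s.2, hs⟩, fun ⟨h, hx⟩ => ⟨⟨a, h⟩, hx, rfl⟩⟩

theorem coe_mem_stb {x : X.carrier} {a : S} : (a : Ω) ∈ stb X x ↔ a • x = x := by
  rw [mem_stb]
  exact ⟨fun ⟨_, hx⟩ => hx, fun hx => ⟨a.2, hx⟩⟩

theorem stb_smul (s : S) (x : X.carrier) :
    stb X (s • x) = (stb X x).map (MulAut.conj (s : Ω)).toMonoidHom := by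
  ext a
  constructor
  · rintro ha
    obtain ⟨haS, hax⟩ := mem_stb.mp ha
    refine ⟨(s : Ω)⁻¹ * a * s, mem_stb.mpr
      ⟨S.mul_mem (S.mul_mem (S.inv_mem s.2) haS) s.2, ?_⟩, by simp [mul_assoc]⟩
    show (s⁻¹ * ⟨a, haS⟩ * s : S) • x = x
    rw [mul_smul, mul_smul, hax, inv_smul_smul]
  · rintro ⟨b, hb, rfl⟩
    obtain ⟨hbS, hbx⟩ := mem_stb.mp hb
    refine mem_stb.mpr ⟨S.mul_mem (S.mul_mem s.2 hbS) (S.inv_mem s.2), ?_⟩
    show (s * ⟨b, hbS⟩ * s⁻¹ : S) • s • x = s • x
    rw [mul_smul, mul_smul, inv_smul_smul, hbx]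

/-- The number of points fixed by `Q`. -/
noncomputable def nfix (X : FSet S) (Q : Subgroup Ω) : ℕ :=
  Nat.card {x : X.carrier // Q ≤ stb X x}

theorem nfix_bot (X : FSet S) : nfix X ⊥ = Nat.card X.carrier :=
  Nat.card_congr (Equiv.subtypeUnivEquiv fun _ => bot_le)

theorem nfix_pos {x : X.carrier} (h : Q ≤ stb X x) : 0 < nfix X Q :=
  Nat.card_pos_iff.mpr ⟨⟨⟨x, h⟩⟩, inferInstance⟩

theorem exists_of_nfix_ne_zero (h : nfix X Q ≠ 0) : ∃ x : X.carrier, Q ≤ stb X x := by
  by_contra hne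
  push Not at hne
  exact h (@Nat.card_of_isEmpty _ ⟨fun x => hne x.1 x.2⟩)

theorem nfix_conj (s : S) :
    nfix X (Q.map (MulAut.conj (s : Ω)).toMonoidHom) = nfix X Q := by
  refine (Nat.card_congr ((MulAction.toPerm s).subtypeEquiv fun x => ?_)).symm
  show Q ≤ stb X x ↔ Q.map _ ≤ stb X (s • x)
  rw [stb_smul, Subgroup.map_le_map_iff_of_injective
    (f := (MulAut.conj (s : Ω)).toMonoidHom) (MulAut.conj (s : Ω)).injective]

/-- Disjoint union. -/
def FSet.add (X Y : FSet S) : FSet S where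
  carrier := X.carrier ⊕ Y.carrier
  act :=
    { smul := fun s z => Sum.elim (fun x => Sum.inl (s • x)) (fun y => Sum.inr (s • y)) z
      one_smul := by rintro (x | y) <;> simp [HSMul.hSMul, SMul.smul] <;> exact one_smul S _
      mul_smul := by
        rintro a b (x | y)
        · exact congrArg Sum.inl (mul_smul a b x)
        · exact congrArg Sum.inr (mul_smul a b y) }
  fin := inferInstance

theorem stb_inl (x : X.carrier) : stb (X.add Y) (Sum.inl x) = stb X x := by
  ext a
  refine (mem_stb (X := X.add Y)).trans ((exists_congr fun h => ?_).trans mem_stb.symm)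
  exact ⟨fun he => Sum.inl.inj he, fun he => congrArg Sum.inl he⟩

theorem stb_inr (y : Y.carrier) : stb (X.add Y) (Sum.inr y) = stb Y y := by
  ext a
  refine (mem_stb (X := X.add Y)).trans ((exists_congr fun h => ?_).trans mem_stb.symm)
  exact ⟨fun he => Sum.inr.inj he, fun he => congrArg Sum.inr he⟩

theorem nfix_add (Q : Subgroup Ω) : nfix (X.add Y) Q = nfix X Q + nfix Y Q := by
  unfold nfix
  rw [← Nat.card_sum]
  refine Nat.card_congr ((Equiv.subtypeSum (p := fun z => Q ≤ stb (X.add Y) z)).trans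
    (Equiv.sumCongr (Equiv.subtypeEquivRight fun x => ?_) (Equiv.subtypeEquivRight fun y => ?_)))
  · rw [stb_inl]
  · rw [stb_inr]

theorem card_add : Nat.card (X.add Y).carrier = Nat.card X.carrier + Nat.card Y.carrier :=
  Nat.card_sum

/-- `K` copies. -/
def FSet.copies (X : FSet S) (K : ℕ) : FSet S where
  carrier := X.carrier × Fin K
  act :=
    { smul := fun s z => (s • z.1, z.2)
      one_smul := fun z => Prod.ext (one_smul S z.1) rfl
      mul_smul := fun a b z => Prod.ext (mul_smul a b z.1) rfl }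
  fin := inferInstance

theorem stb_copies {K : ℕ} (z : X.carrier × Fin K) : stb (X.copies K) z = stb X z.1 := by
  ext a
  refine (mem_stb (X := X.copies K)).trans ((exists_congr fun h => ?_).trans mem_stb.symm)
  exact ⟨fun he => congrArg Prod.fst he, fun he => Prod.ext he rfl⟩

theorem nfix_copies {K : ℕ} (Q : Subgroup Ω) : nfix (X.copies K) Q = nfix X Q * K := by
  unfold nfix
  refine Eq.trans (Nat.card_congr ?_)
    ((Nat.card_prod {x : X.carrier // Q ≤ stb X x} (Fin K)).trans (by rw [Nat.card_fin]))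
  exact
    { toFun := fun z => (⟨z.1.1, stb_copies z.1 ▸ z.2⟩, z.1.2)
      invFun := fun z => ⟨(z.1.1, z.2), by rw [stb_copies]; exact z.1.2⟩
      left_inv := fun _ => rfl
      right_inv := fun _ => rfl }

theorem card_copies {K : ℕ} : Nat.card (X.copies K).carrier = Nat.card X.carrier * K := by
  show Nat.card (X.carrier × Fin K) = _
  rw [Nat.card_prod, Nat.card_fin]

/-- A single orbit with stabilizer `Q`. -/
noncomputable def orb (S : Subgroup Ω) [Finite S] (Q : Subgroup Ω) : FSet S where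
  carrier := S ⧸ Q.subgroupOf S
  act := inferInstance
  fin := inferInstance

theorem card_orb [Finite S] : Nat.card (orb S Q).carrier = Q.relIndex S := rfl

theorem stb_orb_one [Finite S] (hQ : Q ≤ S) :
    stb (orb S Q) (QuotientGroup.mk (1 : S)) = Q := by
  have : MulAction.stabilizer S (QuotientGroup.mk (1 : S) : S ⧸ Q.subgroupOf S) = Q.subgroupOf S :=
    MulAction.stabilizer_quotient _
  exact (congrArg (Subgroup.map S.subtype) this).trans (Subgroup.map_subgroupOf_eq_of_le hQ)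

theorem stb_orb [Finite S] (hQ : Q ≤ S) (s : S) :
    stb (orb S Q) (QuotientGroup.mk s) = Q.map (MulAut.conj (s : Ω)).toMonoidHom := by
  have h : (QuotientGroup.mk s : S ⧸ Q.subgroupOf S) = s • (QuotientGroup.mk (1 : S)) := by
    show _ = QuotientGroup.mk (s * 1); rw [mul_one]
  exact ((congrArg (stb (orb S Q)) h).trans
    (stb_smul (X := orb S Q) s (QuotientGroup.mk (1 : S)))).trans
    (congrArg (Subgroup.map _) (stb_orb_one hQ))

theorem exists_stb_orb [Finite S] (hQ : Q ≤ S) (x : (orb S Q).carrier) :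
    ∃ s ∈ S, stb (orb S Q) x = Q.map (MulAut.conj s).toMonoidHom := by
  obtain ⟨s, rfl⟩ := QuotientGroup.mk_surjective x
  exact ⟨s, s.2, stb_orb hQ s⟩

theorem nfix_orb_mul [Finite S] (hQ : Q ≤ S) :
    nfix (orb S Q) Q * Nat.card Q = Nat.card (normalizerIn S Q) := by
  have := finite_of_le hQ
  have hset : ∀ s : S, Q ≤ stb (orb S Q) (QuotientGroup.mk s) ↔ (s : Ω) ∈ normalizerIn S Q := by
    intro s
    rw [stb_orb hQ s]
    constructor
    · intro h
      have he : Q = Q.map (MulAut.conj (s : Ω)).toMonoidHom := by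
        have : Finite (Q.map (MulAut.conj (s : Ω)).toMonoidHom) :=
          finite_of_le (S := S) (by
            rintro _ ⟨x, hx, rfl⟩
            exact S.mul_mem (S.mul_mem s.2 (hQ hx)) (S.inv_mem s.2))
        refine Subgroup.eq_of_le_of_card_ge h (le_of_eq ?_)
        exact Subgroup.card_map_of_injective (MulAut.conj (s : Ω)).injective
      exact ⟨s.2, Subgroup.mem_normalizer_iff_map_conj_eq.mpr he.symm⟩
    · intro h
      exact (Subgroup.mem_normalizer_iff_map_conj_eq.mp h.2).ge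
  have h1 := Nat.card_congr (QuotientGroup.preimageMkEquivSubgroupProdSet (Q.subgroupOf S)
    {x : S ⧸ Q.subgroupOf S | Q ≤ stb (orb S Q) x})
  rw [Nat.card_prod, Nat.card_congr (Subgroup.subgroupOfEquivOfLe hQ).toEquiv, mul_comm] at h1
  refine h1.symm.trans ((Nat.card_congr ?_).trans
    (Nat.card_congr (Subgroup.subgroupOfEquivOfLe (normalizerIn_le (S := S) (P := Q))).toEquiv))
  exact Equiv.subtypeEquivRight fun s => hset s

theorem nfix_orb_dvd [Finite S] (hQ : Q ≤ S) : nfix (orb S Q) Q ∣ Nat.card S :=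
  (dvd_mul_right _ _).trans ((nfix_orb_mul hQ).dvd.trans (Subgroup.card_dvd_of_le normalizerIn_le))

theorem nfix_orb_one_le [Finite S] (hQ : Q ≤ S) : 0 < nfix (orb S Q) Q :=
  nfix_pos (x := QuotientGroup.mk (1 : S)) (stb_orb_one hQ).ge

/-- A group normalising `Q` permutes the points fixed by `Q`. -/
theorem dvd_sum_nfix [Finite S] (X : FSet S) {N : Subgroup Ω} [Fintype N]
    (hN : N ≤ normalizerIn S Q) :
    Nat.card N ∣ ∑ n : N, nfix X (Q ⊔ Subgroup.zpowers (n : Ω)) := by
  classical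
  let A := {x : X.carrier // Q ≤ stb X x}
  let t : N → S := fun n => ⟨n, (hN n.2).1⟩
  have hpres : ∀ (n : N) (x : X.carrier), Q ≤ stb X x → Q ≤ stb X (t n • x) := fun n x hx => by
    rw [stb_smul]
    exact (Subgroup.mem_normalizer_iff_map_conj_eq.mp (hN n.2).2).ge.trans (Subgroup.map_mono hx)
  let inst : MulAction N A :=
    { smul := fun n a => ⟨t n • a.1, hpres n a.1 a.2⟩
      one_smul := fun a => Subtype.ext (one_smul S a.1)
      mul_smul := fun a b x => Subtype.ext (mul_smul (t a) (t b) x.1) }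
  have : Fintype A := Fintype.ofFinite A
  have hfix : ∀ n : N, Fintype.card (MulAction.fixedBy A n) =
      nfix X (Q ⊔ Subgroup.zpowers (n : Ω)) := by
    intro n
    rw [← Nat.card_eq_fintype_card]
    refine Nat.card_congr ((Equiv.subtypeSubtypeEquivSubtypeExists _ _).trans
      (Equiv.subtypeEquivRight fun x => ?_))
    rw [sup_le_iff, Subgroup.zpowers_le, show ((n : Ω) ∈ stb X x) ↔ t n • x = x from coe_mem_stb (a := t n)]
    exact ⟨fun ⟨h1, h2⟩ => ⟨h1, congrArg Subtype.val h2⟩, fun ⟨h1, h2⟩ => ⟨h1, Subtype.ext h2⟩⟩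
  have h := MulAction.sum_card_fixedBy_eq_card_orbits_mul_card_group N A
  rw [Finset.sum_congr rfl fun n _ => hfix n] at h
  rw [h, Nat.card_eq_fintype_card]
  exact dvd_mul_left _ _

variable {F : FusionSystem S} {p : ℕ}

/-- Fixed point numbers are invariant under the system, for sources outside `D`. -/
def StableOutside (F : FusionSystem S) (D : Set (Subgroup Ω)) (X : FSet S) : Prop :=
  ∀ (P : Subgroup Ω) (f : Ω → Ω), MapTo F P f → P ∉ D → nfix X (img f P) = nfix X P

theorem nfix_congruence [Finite S] [Fact p.Prime] (hS : IsPGroup p S) (hF : F.IsSaturated p)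
    {D : Set (Subgroup Ω)} (hX : StableOutside F D X) (hPn : F.IsFullyNormalized P)
    (hQ : F.IsConj Q P) (hbig : ∀ R : Subgroup Ω, Nat.card P < Nat.card R → R ∉ D) :
    nfix X Q ≡ nfix X P [MOD nfix (orb S Q) Q] := by
  classical
  have hQS := isConj_le_left hQ
  obtain ⟨g, hg, hgP⟩ := exists_map_normalizerIn hS
    (isFullyAutomized_of_isFullyNormalized hS hF hPn)
    (isReceptive_of_isFullyNormalized hS hF hPn) hQ
  set N := normalizerIn S Q with hN
  have hQN : Q ≤ N := le_normalizerIn hQS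
  set N' := img g N with hN'
  have hN'le : N' ≤ normalizerIn S P :=
    hgP ▸ img_le_of_forall fun z hz => hg.map_mem_normalizerIn hQN hz hz
  have := finite_of_le (normalizerIn_le (S := S) (P := Q))
  have := finite_of_le (hN'le.trans normalizerIn_le)
  have := Fintype.ofFinite N
  have := Fintype.ofFinite N'
  let e : N ≃ N' := Equiv.ofBijective (fun n => ⟨g n, mem_img_of_mem n.2⟩)
    ⟨fun a b h => Subtype.ext (hg.inj a.2 b.2 (congrArg Subtype.val h)), fun y => by
      obtain ⟨x, hx, hxy⟩ := (hg.mem_img_iff le_rfl).mp y.2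
      exact ⟨⟨x, hx⟩, Subtype.ext hxy⟩⟩
  have h1 := dvd_sum_nfix X (le_refl N)
  have h2 := dvd_sum_nfix X hN'le
  rw [← Fintype.sum_equiv e (fun n => nfix X (P ⊔ Subgroup.zpowers (g n))) _ fun n => rfl,
    hg.card_img le_rfl] at h2
  have hin : ∀ n : N, (n : Ω) ∈ Q → Q ⊔ Subgroup.zpowers (n : Ω) = Q := fun n hn =>
    sup_eq_left.mpr ((Subgroup.zpowers_le).mpr hn)
  have hin' : ∀ n : N, (n : Ω) ∈ Q → P ⊔ Subgroup.zpowers (g n) = P := fun n hn =>
    sup_eq_left.mpr ((Subgroup.zpowers_le).mpr (hgP ▸ mem_img_of_mem hn))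
  have hout : ∀ n : N, (n : Ω) ∉ Q →
      nfix X (P ⊔ Subgroup.zpowers (g n)) = nfix X (Q ⊔ Subgroup.zpowers (n : Ω)) := by
    intro n hn
    have hle : Q ⊔ Subgroup.zpowers (n : Ω) ≤ N := sup_le hQN ((Subgroup.zpowers_le).mpr n.2)
    have hD : Q ⊔ Subgroup.zpowers (n : Ω) ∉ D := by
      refine hbig _ ((isConj_card hQ).trans_lt ?_)
      have := finite_of_le (hle.trans normalizerIn_le)
      refine lt_of_le_of_ne (Subgroup.card_le_of_le le_sup_left) fun he => hn ?_
      rw [Subgroup.eq_of_le_of_card_ge le_sup_left he.ge]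
      exact Subgroup.mem_sup_right (Subgroup.mem_zpowers _)
    rw [← hX _ g (hg.restrict hle) hD]
    congr 1
    rw [hg.img_sup hQN ((Subgroup.zpowers_le).mpr n.2), hgP]
    congr 1
    refine le_antisymm ((Subgroup.zpowers_le).mpr (mem_img_of_mem (Subgroup.mem_zpowers _)))
      (img_le_of_forall ?_)
    rintro _ ⟨k, rfl⟩
    refine ⟨k, ?_⟩
    induction k using Int.induction_on with
    | zero => simp [hg.map_one]
    | succ k ih =>
        simp only [zpow_add_one] at ih ⊢
        rw [hg.map_mul (N.zpow_mem n.2 _) n.2, ih]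
    | pred k ih =>
        simp only [zpow_sub_one] at ih ⊢
        rw [hg.map_mul (N.zpow_mem n.2 _) (N.inv_mem n.2), hg.map_inv n.2, ih]
  set A := Finset.univ.filter (fun n : N => (n : Ω) ∈ Q) with hA
  have hAcard : A.card = Nat.card Q := by
    rw [← Nat.card_congr (Subgroup.subgroupOfEquivOfLe hQN).toEquiv,
      Nat.card_eq_fintype_card, Fintype.card_subtype]
    rfl
  rw [← Finset.sum_filter_add_sum_filter_not Finset.univ (fun n : N => (n : Ω) ∈ Q), ← hA,
    Finset.sum_congr rfl (fun n hn => by rw [hin n (Finset.mem_filter.mp hn).2]),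
    Finset.sum_const, hAcard, smul_eq_mul] at h1
  rw [← Finset.sum_filter_add_sum_filter_not Finset.univ (fun n : N => (n : Ω) ∈ Q), ← hA,
    Finset.sum_congr rfl (fun n hn => by rw [hin' n (Finset.mem_filter.mp hn).2]),
    Finset.sum_const, hAcard, smul_eq_mul,
    Finset.sum_congr rfl (fun n hn => hout n (Finset.mem_filter.mp hn).2)] at h2
  have h3 := Nat.modEq_zero_iff_dvd.mpr h1
  have h4 := Nat.modEq_zero_iff_dvd.mpr h2
  have h5 := (h3.trans h4.symm).add_right_cancel' _
  rw [← nfix_orb_mul hQS, mul_comm (nfix (orb S Q) Q)] at h5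
  have := finite_of_le hQS
  exact Nat.ModEq.mul_left_cancel' Nat.card_pos.ne' h5

/-- Adding orbits inside one class until all fixed point numbers there equal `M`. -/
theorem exists_fill [Finite S] (C : Finset (Subgroup Ω)) (M : ℕ)
    (hCS : ∀ Q ∈ C, Q ≤ S) (hCcard : ∀ Q ∈ C, ∀ R ∈ C, Nat.card Q = Nat.card R)
    (k : ℕ) : ∀ X : FSet S, (∑ Q ∈ C, (M - nfix X Q)) = k →
    (∀ Q ∈ C, nfix X Q ≤ M ∧ nfix X Q ≡ M [MOD nfix (orb S Q) Q]) →
    ∃ Y : FSet S, (∀ Q ∈ C, nfix Y Q = M) ∧
      (∀ R, (∀ Q ∈ C, ∀ s ∈ S, ¬ R ≤ Q.map (MulAut.conj s).toMonoidHom) →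
        nfix Y R = nfix X R) ∧
      (∀ y, (∃ x, stb X x = stb Y y) ∨ ∃ Q ∈ C, ∃ s ∈ S,
        stb Y y = Q.map (MulAut.conj s).toMonoidHom) ∧
      (∀ x, ∃ y, stb Y y = stb X x) ∧
      ∀ d, (∀ Q ∈ C, d ∣ Q.relIndex S) → Nat.card Y.carrier ≡ Nat.card X.carrier [MOD d] := by
  induction k using Nat.strong_induction_on with
  | h k ih =>
  intro X hk hle
  by_cases hall : ∀ Q ∈ C, nfix X Q = M
  · exact ⟨X, hall, fun _ _ => rfl, fun y => Or.inl ⟨y, rfl⟩, fun x => ⟨x, rfl⟩,
      fun _ _ => Nat.ModEq.refl _⟩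
  push Not at hall
  obtain ⟨Q, hQ, hQM⟩ := hall
  have hQS := hCS Q hQ
  set w := nfix (orb S Q) Q with hw
  have hwle : nfix X Q + w ≤ M := by
    obtain ⟨h1, h2⟩ := hle Q hQ
    rw [← hw] at h2
    obtain ⟨c, hc⟩ := (Nat.modEq_iff_dvd' h1).mp h2
    have : 0 < c := Nat.pos_of_ne_zero fun h => by subst h; omega
    have := Nat.le_mul_of_pos_right w this
    omega
  have hO : ∀ R ∈ C, nfix (orb S Q) R = 0 ∨
      (nfix X R = nfix X Q ∧ nfix (orb S Q) R = w ∧ nfix (orb S R) R = w) := by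
    intro R hR
    by_contra h
    push Not at h
    obtain ⟨hne, h⟩ := h
    obtain ⟨x, hx⟩ := exists_of_nfix_ne_zero hne
    obtain ⟨s, hs, hsx⟩ := exists_stb_orb hQS x
    rw [hsx] at hx
    have : Finite (Q.map (MulAut.conj s).toMonoidHom) := finite_of_le (S := S) (by
      rintro _ ⟨a, ha, rfl⟩
      exact S.mul_mem (S.mul_mem hs (hQS ha)) (S.inv_mem hs))
    have he : R = Q.map (MulAut.conj ((⟨s, hs⟩ : S) : Ω)).toMonoidHom :=
      Subgroup.eq_of_le_of_card_ge hx (by
        rw [Subgroup.card_map_of_injective (MulAut.conj s).injective, hCcard Q hQ R hR])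
    refine h (he ▸ nfix_conj _) (he ▸ nfix_conj _) ?_
    have hm : R ≤ S := hCS R hR
    have e1 := nfix_orb_mul (S := S) hm
    have e2 := nfix_orb_mul (S := S) hQS
    have hN : Nat.card (normalizerIn S R) = Nat.card (normalizerIn S Q) := by
      have hmap : normalizerIn S R =
          (normalizerIn S Q).map (MulAut.conj s).toMonoidHom := by
        ext z
        rw [Subgroup.mem_map_equiv, mem_normalizerIn, mem_normalizerIn, MulAut.conj_symm_apply]
        refine and_congr ⟨fun hz => S.mul_mem (S.mul_mem (S.inv_mem hs) hz) hs, fun hz => ?_⟩ ?_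
        · have := S.mul_mem (S.mul_mem hs hz) (S.inv_mem hs)
          convert this using 1
          group
        · rw [he]
          simp only [Subgroup.mem_map_equiv, MulAut.conj_symm_apply]
          constructor
          · intro hz y
            have := hz (s * y * s⁻¹)
            simpa [mul_assoc] using this
          · intro hz y
            have := hz (s⁻¹ * y * s)
            simpa [mul_assoc] using this
      rw [hmap]
      exact Subgroup.card_map_of_injective (MulAut.conj s).injective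
    rw [hN, ← e2, hCcard Q hQ R hR] at e1
    have := finite_of_le hm
    exact Nat.eq_of_mul_eq_mul_right Nat.card_pos e1
  set X' := X.add (orb S Q) with hX'
  have hwpos : 0 < w := nfix_orb_one_le hQS
  have hle' : ∀ R ∈ C, nfix X' R ≤ M ∧ nfix X' R ≡ M [MOD nfix (orb S R) R] := by
    intro R hR
    rw [hX', nfix_add]
    rcases hO R hR with h | ⟨h1, h2, h3⟩
    · rw [h, add_zero]; exact hle R hR
    · rw [h1, h2, h3]
      refine ⟨hwle, ?_⟩
      have h4 := (hle Q hQ).2
      rw [← hw] at h4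
      exact Nat.add_modEq_right.trans h4
  have hlt : (∑ R ∈ C, (M - nfix X' R)) < k := by
    rw [← hk]
    refine Finset.sum_lt_sum (fun R _ => by rw [hX', nfix_add]; omega) ⟨Q, hQ, ?_⟩
    rw [hX', nfix_add, ← hw]; omega
  obtain ⟨Y, h1, h2, h3, h4, h5⟩ := ih _ hlt X' rfl hle'
  refine ⟨Y, h1, fun R hR => ?_, fun y => ?_, fun x => ?_, fun d hd => ?_⟩
  · rw [h2 R hR, hX', nfix_add, Nat.add_eq_left]
    by_contra hne
    obtain ⟨x, hx⟩ := exists_of_nfix_ne_zero hne
    obtain ⟨s, hs, hsx⟩ := exists_stb_orb hQS x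
    exact hR Q hQ s hs (hsx ▸ hx)
  · rcases h3 y with ⟨x, hx⟩ | h
    · match x, hx with
      | Sum.inl x, hx => exact Or.inl ⟨x, by rwa [stb_inl] at hx⟩
      | Sum.inr x, hx =>
        obtain ⟨s, hs, hsx⟩ := exists_stb_orb hQS x
        rw [stb_inr, hsx] at hx
        exact Or.inr ⟨Q, hQ, s, hs, hx.symm⟩
    · exact Or.inr h
  · obtain ⟨y, hy⟩ := h4 (Sum.inl x)
    exact ⟨y, hy.trans (stb_inl x)⟩
  · refine (h5 d hd).trans ?_
    rw [hX', card_add, card_orb]
    exact ((Nat.ModEq.refl _).add (Nat.modEq_zero_iff_dvd.mpr (hd Q hQ)))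

theorem finite_setOf_le [Finite S] : {Q : Subgroup Ω | Q ≤ S}.Finite := by
  have : Finite {Q : Subgroup Ω // Q ≤ S} := by
    refine Finite.of_injective (fun Q => Q.1.subgroupOf S) fun A B hAB => Subtype.ext ?_
    have h' := congrArg (Subgroup.map S.subtype) hAB
    simpa [Subgroup.map_subgroupOf_eq_of_le, A.2, B.2] using h'
  exact Set.finite_coe_iff.mp this

/-- A family of subgroups of `S` closed under conjugacy in the system and under passing to
subgroups. -/
structure IsClosedFamily (F : FusionSystem S) (D : Set (Subgroup Ω)) : Prop where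
  le : ∀ Q ∈ D, Q ≤ S
  conj : ∀ Q R, Q ∈ D → F.IsConj Q R → R ∈ D
  down : ∀ Q R, Q ∈ D → R ≤ Q → R ∈ D

private theorem exists_stable_aux [Finite S] [Fact p.Prime] (hS : IsPGroup p S)
    (sat : Bool) (hF : sat = true → F.IsSaturated p) (n : ℕ) :
    ∀ (D : Set (Subgroup Ω)) (X : FSet S), D.ncard = n → IsClosedFamily F D →
    StableOutside F D X →
    ∃ (Y : FSet S) (K : ℕ), 0 < K ∧ StableOutside F ∅ Y ∧
      (∀ y, (∃ x, stb X x = stb Y y) ∨ stb Y y ∈ D) ∧ (∀ x, ∃ y, stb Y y = stb X x) ∧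
      (∀ R, R ∉ D → nfix Y R = nfix X R * K) ∧
      (sat = true → K = 1 ∧
        ∀ d, (∀ Q ∈ D, d ∣ Q.relIndex S) → Nat.card Y.carrier ≡ Nat.card X.carrier [MOD d]) := by
  induction n using Nat.strong_induction_on with
  | h n ih =>
  intro D X hn hD hX
  have hDfin : D.Finite := finite_setOf_le.subset hD.le
  rcases D.eq_empty_or_nonempty with rfl | hne
  · exact ⟨X, 1, one_pos, hX, fun y => Or.inl ⟨y, rfl⟩, fun x => ⟨x, rfl⟩,
      fun R _ => (mul_one _).symm, fun _ => ⟨rfl, fun _ _ => Nat.ModEq.refl _⟩⟩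
  obtain ⟨P₀, hP₀, hmax'⟩ := hDfin.exists_maximalFor (fun Q : Subgroup Ω => Nat.card Q) D hne
  obtain ⟨P, hP₀P, hPn⟩ := exists_isFullyNormalized (F := F) (hD.le _ hP₀)
  have hPD : P ∈ D := hD.conj _ _ hP₀ hP₀P
  have hbig : ∀ R : Subgroup Ω, Nat.card P < Nat.card R → R ∉ D := fun R hlt hR => by
    rw [isConj_card hP₀P] at hlt
    exact absurd (hmax' hR hlt.le) (by simp only; omega)
  set C : Set (Subgroup Ω) := {Q | F.IsConj Q P} with hC
  have hCD : C ⊆ D := fun Q hQ => hD.conj _ _ hPD (isConj_symm hQ)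
  set Cf := (hDfin.subset hCD).toFinset with hCf
  have hmemC : ∀ Q, Q ∈ Cf ↔ F.IsConj Q P := fun Q => Set.Finite.mem_toFinset _
  set K₁ := if sat then 1 else Nat.card S with hK₁
  have hK₁pos : 0 < K₁ := by
    rw [hK₁]; split_ifs
    · exact one_pos
    · exact Nat.card_pos
  set X₁ := X.copies K₁ with hX₁
  set M := nfix X₁ P + Nat.card S * ∑ Q ∈ Cf, nfix X₁ Q with hM
  have hle : ∀ Q ∈ Cf, nfix X₁ Q ≤ M ∧ nfix X₁ Q ≡ M [MOD nfix (orb S Q) Q] := by
    intro Q hQ
    have hQ' := (hmemC Q).mp hQ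
    have hw := nfix_orb_dvd (isConj_le_left hQ') (S := S)
    refine ⟨?_, ?_⟩
    · have h1 : nfix X₁ Q ≤ ∑ R ∈ Cf, nfix X₁ R :=
        Finset.single_le_sum (f := fun R => nfix X₁ R) (fun _ _ => Nat.zero_le _) hQ
      have h2 := Nat.le_mul_of_pos_left (∑ R ∈ Cf, nfix X₁ R) (Nat.card_pos (α := S))
      omega
    · have h0 : nfix X₁ Q ≡ nfix X₁ P [MOD nfix (orb S Q) Q] := by
        cases hsat : sat with
        | false =>
            have hK : K₁ = Nat.card S := by rw [hK₁, hsat]; rfl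
            rw [hX₁, nfix_copies, nfix_copies, hK]
            exact (Nat.modEq_zero_iff_dvd.mpr (hw.mul_left _)).trans
              (Nat.modEq_zero_iff_dvd.mpr (hw.mul_left _)).symm
        | true =>
            have hK : K₁ = 1 := by rw [hK₁, hsat]; rfl
            rw [hX₁, nfix_copies, nfix_copies, hK, mul_one, mul_one]
            exact nfix_congruence hS (hF hsat) hX hPn hQ' hbig
      have h1 : nfix X₁ P ≡ M [MOD nfix (orb S Q) Q] := by
        have h2 : Nat.card S * ∑ R ∈ Cf, nfix X₁ R ≡ 0 [MOD nfix (orb S Q) Q] :=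
          Nat.modEq_zero_iff_dvd.mpr (hw.mul_right _)
        exact ((Nat.ModEq.refl (nfix X₁ P)).add h2).symm
      exact h0.trans h1
  obtain ⟨X₂, h21, h22, h23, h24, h25⟩ := exists_fill Cf M
    (fun Q hQ => isConj_le_left ((hmemC Q).mp hQ))
    (fun Q hQ R hR => by rw [← isConj_card ((hmemC Q).mp hQ), isConj_card ((hmemC R).mp hR)])
    _ X₁ rfl hle
  have hconjC : ∀ Q ∈ Cf, ∀ s ∈ S, Q.map (MulAut.conj s).toMonoidHom ∈ C := by
    intro Q hQ s hs
    have h1 : MapTo F Q (cj s) := mapTo_cj (isConj_le_left ((hmemC Q).mp hQ)) hs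
    have h2 := h1.isConj
    rw [img_cj] at h2
    exact isConj_trans (isConj_symm h2) ((hmemC Q).mp hQ)
  have h22' : ∀ R, R ∉ D → nfix X₂ R = nfix X R * K₁ := fun R hR => by
    rw [h22 R fun Q hQ s hs hle' => hR (hD.down _ _ (hCD (hconjC Q hQ s hs)) hle'),
      hX₁, nfix_copies]
  set D' := D \ C with hD'
  have hD'closed : IsClosedFamily F D' := by
    refine ⟨fun Q hQ => hD.le Q hQ.1, fun Q R hQ hQR => ⟨hD.conj _ _ hQ.1 hQR,
      fun hR => hQ.2 (isConj_trans hQR hR)⟩, fun Q R hQ hRQ => ⟨hD.down _ _ hQ.1 hRQ,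
      fun hR => hQ.2 ?_⟩⟩
    have : Finite Q := finite_of_le (hD.le Q hQ.1)
    have hge : Nat.card Q ≤ Nat.card R := by
      rw [← isConj_card hR]
      exact not_lt.mp fun h => hbig Q h hQ.1
    rw [← Subgroup.eq_of_le_of_card_ge hRQ hge]
    exact hR
  have hX₂ : StableOutside F D' X₂ := by
    intro R f hf hR
    by_cases hRD : R ∈ D
    · have hRC : F.IsConj R P := by
        by_contra h; exact hR ⟨hRD, h⟩
      rw [h21 R ((hmemC R).mpr hRC),
        h21 _ ((hmemC _).mpr (isConj_trans (isConj_symm hf.isConj) hRC))]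
    · have himg : img f R ∉ D := fun h => hRD (hD.conj _ _ h (isConj_symm hf.isConj))
      rw [h22' R hRD, h22' _ himg, hX R f hf hRD]
  have hlt : D'.ncard < n := hn ▸ Set.ncard_lt_ncard
    ⟨fun _ h => h.1, fun h => (h hPD).2 (isConj_refl hPn.1)⟩ hDfin
  obtain ⟨Y, K, hK, hY, hY1, hY2, hY3, hY4⟩ := ih _ hlt D' X₂ rfl hD'closed hX₂
  refine ⟨Y, K₁ * K, Nat.mul_pos hK₁pos hK, hY, fun y => ?_, fun x => ?_, fun R hR => ?_,
    fun hsat => ?_⟩
  · rcases hY1 y with ⟨x, hx⟩ | h
    · rcases h23 x with ⟨z, hz⟩ | ⟨Q, hQ, s, hs, he⟩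
      · exact Or.inl ⟨z.1, (stb_copies z).symm.trans (hz.trans hx)⟩
      · exact Or.inr (hx ▸ he ▸ hCD (hconjC Q hQ s hs))
    · exact Or.inr h.1
  · obtain ⟨z, hz⟩ := h24 ((x, ⟨0, hK₁pos⟩) : X.carrier × Fin K₁)
    obtain ⟨y, hy⟩ := hY2 z
    exact ⟨y, hy.trans (hz.trans (stb_copies _))⟩
  · rw [hY3 R (fun h => hR h.1), h22' R hR, mul_assoc]
  · have hK₁1 : K₁ = 1 := by rw [hK₁, hsat]; rfl
    obtain ⟨hK1, hmod⟩ := hY4 hsat
    refine ⟨by rw [hK₁1, hK1], fun d hd => ?_⟩
    refine (hmod d fun Q hQ => hd Q hQ.1).trans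
      ((h25 d fun Q hQ => hd Q (hCD ((hmemC Q).mp hQ))).trans ?_)
    rw [hX₁, card_copies, hK₁1, mul_one]

/-- Completion of an `S`-set to a stable one, saturated case. -/
theorem exists_stable_of_isSaturated [Finite S] [Fact p.Prime] (hS : IsPGroup p S)
    (hF : F.IsSaturated p) {D : Set (Subgroup Ω)} (hD : IsClosedFamily F D)
    (hX : StableOutside F D X) :
    ∃ Y : FSet S, StableOutside F ∅ Y ∧ (∀ y, (∃ x, stb X x = stb Y y) ∨ stb Y y ∈ D) ∧
      (∀ x, ∃ y, stb Y y = stb X x) ∧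
      ∀ d, (∀ Q ∈ D, d ∣ Q.relIndex S) →
        Nat.card Y.carrier ≡ Nat.card X.carrier [MOD d] := by
  obtain ⟨Y, K, -, h1, h2, h3, -, h5⟩ :=
    exists_stable_aux hS true (fun _ => hF) _ D X rfl hD hX
  exact ⟨Y, h1, h2, h3, (h5 rfl).2⟩

/-- Completion of an `S`-set to a stable one, after multiplying it; no saturation needed. -/
theorem exists_stable [Finite S] [Fact p.Prime] (hS : IsPGroup p S)
    {D : Set (Subgroup Ω)} (hD : IsClosedFamily F D) (hX : StableOutside F D X) :
    ∃ Y : FSet S, StableOutside F ∅ Y ∧ (∀ y, (∃ x, stb X x = stb Y y) ∨ stb Y y ∈ D) ∧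
      (∀ x, ∃ y, stb Y y = stb X x) := by
  obtain ⟨Y, K, -, h1, h2, h3, -, -⟩ :=
    exists_stable_aux hS false (fun h => absurd h (by decide)) _ D X rfl hD hX
  exact ⟨Y, h1, h2, h3⟩

/-- Stability read through an isomorphism of sets with an action. -/
theorem exists_equiv_of_stable [Finite S] (hX : StableOutside F ∅ X) {f : Ω → Ω}
    (hf : MapTo F P f) :
    ∃ e : X.carrier ≃ X.carrier, ∀ (a : Ω) (ha : a ∈ P) (x : X.carrier),
      e ((⟨a, hf.le ha⟩ : S) • x) = (⟨f a, hf.mem ha⟩ : S) • e x := by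
  have := finite_of_le hf.le
  let i₁ : P →* S := Subgroup.inclusion hf.le
  let i₂ : P →* S :=
    MonoidHom.mk' (fun a => ⟨f a, hf.mem a.2⟩) fun a b => Subtype.ext (hf.map_mul a.2 b.2)
  let A₁ : MulAction P X.carrier := MulAction.compHom _ i₁
  let A₂ : MulAction P X.carrier := MulAction.compHom _ i₂
  obtain ⟨e, he⟩ := @exists_equiv_of_card_fixed P X.carrier X.carrier _ _ A₁ A₂ X.fin X.fin
    fun H => by
      have hH : H.map P.subtype ≤ P := Subgroup.map_subtype_le _
      have h1 : ∀ x : X.carrier,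
          H ≤ @MulAction.stabilizer P X.carrier _ A₁ x ↔ H.map P.subtype ≤ stb X x := by
        intro x
        rw [Subgroup.map_le_iff_le_comap]
        exact ⟨fun h a ha => mem_stb.mpr ⟨hf.le a.2, h ha⟩,
          fun h a ha => (mem_stb.mp (h ha)).2⟩
      have h2 : ∀ x : X.carrier,
          H ≤ @MulAction.stabilizer P X.carrier _ A₂ x ↔ img f (H.map P.subtype) ≤ stb X x := by
        intro x
        constructor
        · intro h
          refine img_le_of_forall ?_
          rintro _ ⟨a, ha, rfl⟩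
          exact mem_stb.mpr ⟨hf.mem a.2, h ha⟩
        · intro h a ha
          exact (mem_stb.mp (h (mem_img_of_mem ⟨a, ha, rfl⟩))).2
      rw [Nat.card_congr (Equiv.subtypeEquivRight h1), Nat.card_congr (Equiv.subtypeEquivRight h2)]
      exact (hX _ f (hf.restrict hH) (Set.notMem_empty _)).symm
  exact ⟨e, fun a ha x => he ⟨a, ha⟩ x⟩

end Cfsg.Agent.Fusion
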