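import Cfsg.Agent.Lib.Fusion.Product
import Cfsg.Agent.Lib.Fusion.Centric
import Cfsg.Agent.Lib.Fusion.StableSets

/-!
Left stable bisets of a fusion system: the completion of `⊔ (S × S)/Δ(S, α)`, over `α` in
`Out_F(S)`, to a set stable under `F × F_S(S)`.
-/

set_option autoImplicit false

namespace Cfsg.Agent.Fusion

open Cfsg.FusionSystem (centralizerIn normalizerIn)

universe u

variable {Ω : Type u} [Group Ω] {S : Subgroup Ω} {F : FusionSystem S} {p : ℕ}

theorem isSaturated_inner [Finite S] [Fact p.Prime] (hS : IsPGroup p S) :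
    (innerFusionSystem S).IsSaturated p := by
  intro P hP
  refine ⟨P, isConj_refl hP, (isFullyAutomized_iff hS).mpr ⟨hP, ?_⟩,
    isReceptive_iff.mpr ⟨hP, fun R f hf _ => ?_⟩⟩
  · have hle : (innerFusionSystem S).autGroup P ≤ autInducedBy S P := fun α hα => by
      obtain ⟨-, g, hg, hga⟩ := mapTo_inner_iff.mp (mapTo_of_mem_autGroup hP hα)
      exact mem_autInducedBy_iff_cj.mpr ⟨g, hg, hga⟩
    rw [Subgroup.relIndex_eq_one.mpr hle]
    exact (Fact.out : p.Prime).not_dvd_one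
  · obtain ⟨-, g, hg, hga⟩ := mapTo_inner_iff.mp hf
    exact ⟨cj g, mapTo_cj ((extSub_le hf).trans normalizerIn_le) hg,
      fun x hx => (hga x hx).symm⟩

/-- `Q` is a twisted diagonal of the system. -/
def IsGraph (F : FusionSystem S) (Q : Subgroup (Ω × Ω)) : Prop :=
  ∃ f, MapTo F (pr₁ Q) f ∧ ∀ a ∈ Q, a.2 = f a.1

theorem IsGraph.le {Q : Subgroup (Ω × Ω)} (h : IsGraph F Q) : Q ≤ S.prod S := by
  obtain ⟨f, hf, hfa⟩ := h
  exact fun a ha => Subgroup.mem_prod.mpr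
    ⟨hf.le (fst_mem_pr₁ ha), hfa a ha ▸ hf.mem (fst_mem_pr₁ ha)⟩

theorem IsGraph.mono {Q R : Subgroup (Ω × Ω)} (h : IsGraph F Q) (hR : R ≤ Q) : IsGraph F R := by
  obtain ⟨f, hf, hfa⟩ := h
  exact ⟨f, hf.restrict (Subgroup.map_mono hR), fun a ha => hfa a (hR ha)⟩

theorem IsGraph.card_pr₁ {Q : Subgroup (Ω × Ω)} (h : IsGraph F Q) :
    Nat.card (pr₁ Q) = Nat.card Q := by
  obtain ⟨f, hf, hfa⟩ := h
  symm
  refine Nat.card_eq_of_bijective
    (fun a : Q => (⟨(a : Ω × Ω).1, fst_mem_pr₁ a.2⟩ : pr₁ Q)) ⟨fun a b hab => ?_, ?_⟩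
  · have h1 := congrArg Subtype.val hab
    refine Subtype.ext (Prod.ext h1 ?_)
    rw [hfa a a.2, hfa b b.2]
    exact congrArg f h1
  · rintro ⟨_, a, ha, rfl⟩
    exact ⟨⟨a, ha⟩, rfl⟩

theorem IsGraph.map {E : FusionSystem (S.prod S)}
    (hE : FusionSystem.IsProductSystem F (innerFusionSystem S) E) {Q : Subgroup (Ω × Ω)}
    (h : IsGraph F Q) {g : Ω × Ω → Ω × Ω} (hg : MapTo E Q g) :
    IsGraph F (img g Q) ∧ Nat.card (pr₁ (img g Q)) = Nat.card (pr₁ Q) := by
  obtain ⟨f, hf, hfa⟩ := h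
  obtain ⟨g₁, g₂, hg₁, hg₂, hgx⟩ := (mapTo_prod_iff hE).mp hg
  obtain ⟨-, s, hs, hsx⟩ := mapTo_inner_iff.mp hg₂
  have hpr := pr₁_img hg hg₁ fun x hx => by rw [hgx x hx]
  refine ⟨?_, by rw [hpr]; exact hg₁.card_img le_rfl⟩
  obtain ⟨τ, hτ, hτg, -, -⟩ := hg₁.exists_iso_inverse
  have hτm : ∀ y ∈ img g₁ (pr₁ Q), τ y ∈ pr₁ Q := fun y hy => by
    obtain ⟨x, hx, rfl⟩ := (hg₁.mem_img_iff le_rfl).mp hy
    rwa [hτg x hx]
  refine ⟨fun y => cj s (f (τ y)),
    hpr ▸ (hτ.comp hf hτm).comp (mapTo_cj (F := F) (le_refl S) hs) fun y hy =>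
      hf.mem (hτm y hy), fun a ha => ?_⟩
  obtain ⟨x, hx, rfl⟩ := (hg.mem_img_iff le_rfl).mp ha
  rw [hgx x hx]
  show g₂ x.2 = cj s (f (τ (g₁ x.1)))
  rw [hτg _ (fst_mem_pr₁ hx), hsx _ (snd_mem_pr₂ hx), hfa x hx]
  rfl

/-- The seed biset `⊔_{Out_F(S)} (S × S)/Δ(S, α)`. -/
noncomputable def seed [Finite S] (F : FusionSystem S) : FSet (S.prod S) where
  carrier := (F.autGroup S ⧸ (Inn S).subgroupOf (F.autGroup S)) × S
  act :=
    { smul := fun a z => (z.1, (z.1.out : MulAut S) ⟨(a : Ω × Ω).1, (Subgroup.mem_prod.mp a.2).1⟩ *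
        z.2 * (⟨(a : Ω × Ω).2, (Subgroup.mem_prod.mp a.2).2⟩ : S)⁻¹)
      one_smul := fun z => by
        refine Prod.ext rfl ?_
        show (z.1.out : MulAut S) 1 * z.2 * (1 : S)⁻¹ = z.2
        rw [_root_.map_one, one_mul, inv_one, mul_one]
      mul_smul := fun a b z => by
        refine Prod.ext rfl ?_
        show (z.1.out : MulAut S) (⟨(a : Ω × Ω).1, (Subgroup.mem_prod.mp a.2).1⟩ *
              ⟨(b : Ω × Ω).1, (Subgroup.mem_prod.mp b.2).1⟩) * z.2 *
            ((⟨(a : Ω × Ω).2, (Subgroup.mem_prod.mp a.2).2⟩ : S) *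
              ⟨(b : Ω × Ω).2, (Subgroup.mem_prod.mp b.2).2⟩)⁻¹ =
          (z.1.out : MulAut S) ⟨(a : Ω × Ω).1, (Subgroup.mem_prod.mp a.2).1⟩ *
            ((z.1.out : MulAut S) ⟨(b : Ω × Ω).1, (Subgroup.mem_prod.mp b.2).1⟩ * z.2 *
              (⟨(b : Ω × Ω).2, (Subgroup.mem_prod.mp b.2).2⟩ : S)⁻¹) *
            (⟨(a : Ω × Ω).2, (Subgroup.mem_prod.mp a.2).2⟩ : S)⁻¹
        rw [_root_.map_mul, mul_inv_rev]
        simp only [mul_assoc] }
  fin := by
    have := finite_mulAut S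
    infer_instance

variable [Finite S]

/-- The map whose graph is the stabilizer of a seed point. -/
noncomputable def seedMap (z : (seed F).carrier) : Ω → Ω :=
  fun x => cj ((z.2 : S) : Ω)⁻¹ (autFun ((z.1.out : F.autGroup S) : MulAut S) x)

theorem mapTo_seedMap (z : (seed F).carrier) : MapTo F S (seedMap z) :=
  (mapTo_of_mem_autGroup le_rfl z.1.out.2).comp
    (mapTo_cj le_rfl (S.inv_mem z.2.2)) fun _ hx => autFun_mem _ hx

theorem mem_stb_seed {z : (seed F).carrier} {a : Ω × Ω} :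
    a ∈ stb (seed F) z ↔ a.1 ∈ S ∧ a.2 = seedMap z a.1 := by
  rw [mem_stb]
  constructor
  · rintro ⟨haS, he⟩
    obtain ⟨h1, h2⟩ := Subgroup.mem_prod.mp haS
    refine ⟨h1, ?_⟩
    have h3 : (z.1.out : MulAut S) ⟨a.1, h1⟩ * z.2 * (⟨a.2, h2⟩ : S)⁻¹ = z.2 :=
      congrArg Prod.snd he
    have h4 := congrArg Subtype.val h3
    simp only [Subgroup.coe_mul, Subgroup.coe_inv] at h4
    rw [seedMap, autFun_apply _ h1, cj_apply, inv_inv, mul_assoc, eq_inv_mul_iff_mul_eq]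
    calc ((z.2 : S) : Ω) * a.2 = ((((z.1.out : MulAut S) ⟨a.1, h1⟩ : S) : Ω) * (z.2 : S) * a.2⁻¹) *
          a.2 := by rw [h4]
      _ = _ := by group
  · rintro ⟨h1, h2⟩
    have hb : a.2 ∈ S := h2 ▸ (mapTo_seedMap z).mem h1
    refine ⟨Subgroup.mem_prod.mpr ⟨h1, hb⟩, Prod.ext rfl (Subtype.ext ?_)⟩
    show (((z.1.out : MulAut S) ⟨a.1, h1⟩ : S) : Ω) * (z.2 : S) * a.2⁻¹ = (z.2 : S)
    rw [h2, seedMap, autFun_apply _ h1, cj_apply]
    group

theorem pr₁_stb_seed (z : (seed F).carrier) : pr₁ (stb (seed F) z) = S := by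
  refine le_antisymm ?_ fun x hx => ⟨(x, seedMap z x), mem_stb_seed.mpr ⟨hx, rfl⟩, rfl⟩
  rintro _ ⟨a, ha, rfl⟩
  exact (mem_stb_seed.mp ha).1

theorem isGraph_stb_seed (z : (seed F).carrier) : IsGraph F (stb (seed F) z) :=
  ⟨seedMap z, (pr₁_stb_seed z).symm ▸ mapTo_seedMap z, fun _ ha => (mem_stb_seed.mp ha).2⟩

/-- Each automorphism of `S` in the system is hit by exactly `|Z(S)|` seed points. -/
theorem nfix_seed {Q : Subgroup (Ω × Ω)} (hQ : IsGraph F Q) (hpr : pr₁ Q = S) :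
    nfix (seed F) Q = Nat.card (Subgroup.center S) := by
  obtain ⟨f, hf, hfa⟩ := hQ
  rw [hpr] at hf
  have hSimg : img f S = S := img_eq_self_of_forall hf fun x hx => hf.mem hx
  set β : F.autGroup S := ⟨autOf hf hSimg, autOf_mem hf hSimg⟩ with hβ
  set o : F.autGroup S ⧸ (Inn S).subgroupOf (F.autGroup S) := QuotientGroup.mk β with ho
  have hmem : ∀ z : (seed F).carrier, Q ≤ stb (seed F) z ↔ ∀ x ∈ S, seedMap z x = f x := by
    intro z
    constructor
    · intro h x hx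
      obtain ⟨a, ha, rfl⟩ := (hpr.symm ▸ hx : x ∈ pr₁ Q)
      exact ((mem_stb_seed.mp (h ha)).2.symm.trans (hfa a ha))
    · intro h a ha
      have h1 : a.1 ∈ S := hpr ▸ fst_mem_pr₁ ha
      exact mem_stb_seed.mpr ⟨h1, by rw [hfa a ha, h a.1 h1]⟩
  have hsm : ∀ (o' : F.autGroup S ⧸ (Inn S).subgroupOf (F.autGroup S)) (s : S),
      (∀ x ∈ S, seedMap (F := F) (o', s) x = f x) ↔
        (o'.out : MulAut S) = MulAut.conj s * (β : MulAut S) := by
    intro o' s
    constructor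
    · intro h
      refine autFun_ext fun x hx => ?_
      have h1 : cj ((s : S) : Ω)⁻¹ (autFun ((o'.out : F.autGroup S) : MulAut S) x) = f x := h x hx
      rw [cj_apply] at h1
      rw [autFun_mul _ _ hx, hβ, autFun_autOf hf hSimg hx, autFun_apply _ (hf.mem hx)]
      show _ = (s : Ω) * f x * (s : Ω)⁻¹
      rw [← h1]; group
    · intro h x hx
      show cj ((s : S) : Ω)⁻¹ (autFun ((o'.out : F.autGroup S) : MulAut S) x) = f x
      rw [h, autFun_mul _ _ hx, hβ, autFun_autOf hf hSimg hx, autFun_apply _ (hf.mem hx), cj_apply]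
      show (s : Ω)⁻¹ * ((s : Ω) * f x * (s : Ω)⁻¹) * (s : Ω)⁻¹⁻¹ = f x
      group
  obtain ⟨s₀, hs₀⟩ : ∃ s₀ : S, (o.out : MulAut S) = MulAut.conj s₀ * (β : MulAut S) := by
    obtain ⟨u, hu⟩ : ((β : F.autGroup S) : MulAut S)⁻¹ * (o.out : MulAut S) ∈ Inn S :=
      (QuotientGroup.eq (s := (Inn S).subgroupOf (F.autGroup S))).mp
        (show QuotientGroup.mk β = QuotientGroup.mk o.out by
        rw [ho]; exact (QuotientGroup.out_eq' _).symm)
    refine ⟨(β : MulAut S) u, MulEquiv.ext fun x => ?_⟩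
    have h2 : (o.out : MulAut S) = (β : MulAut S) * MulAut.conj u := by
      rw [show MulAut.conj u = ((β : F.autGroup S) : MulAut S)⁻¹ * (o.out : MulAut S) from hu]
      group
    rw [h2]
    simp [MulAut.conj_apply]
  rw [nfix]
  refine (Nat.card_eq_of_bijective (fun c : Subgroup.center S =>
    (⟨(o, s₀ * c), (hmem _).mpr ((hsm o _).mpr ?_)⟩ :
      {z : (seed F).carrier // Q ≤ stb (seed F) z})) ⟨?_, ?_⟩).symm
  · rw [hs₀, _root_.map_mul]
    congr 1
    rw [left_eq_mul]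
    refine MulEquiv.ext fun x => ?_
    rw [MulAut.conj_apply, ← Subgroup.mem_center_iff.mp c.2 x, mul_inv_cancel_right]
    rfl
  · intro c d hcd
    have h1 := congrArg (fun z : {z : (seed F).carrier // Q ≤ stb (seed F) z} => z.1.2) hcd
    exact Subtype.ext (mul_left_cancel h1)
  · rintro ⟨⟨o', s⟩, hz⟩
    have h1 := (hsm o' s).mp ((hmem _).mp hz)
    have ho' : o' = o := by
      rw [ho, ← QuotientGroup.out_eq' o']
      refine QuotientGroup.eq.mpr ?_
      show ((o'.out : F.autGroup S) : MulAut S)⁻¹ * (β : MulAut S) ∈ Inn S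
      rw [h1]
      exact ⟨((β : MulAut S)⁻¹ s)⁻¹, MulEquiv.ext fun x => by simp⟩
    subst ho'
    refine ⟨⟨s₀⁻¹ * s, Subgroup.mem_center_iff.mpr fun x => ?_⟩, ?_⟩
    · rw [hs₀] at h1
      have h2 : MulAut.conj s₀ x = MulAut.conj s x :=
        congrArg (fun γ : MulAut S => γ x) (mul_right_cancel h1)
      rw [MulAut.conj_apply, MulAut.conj_apply] at h2
      calc x * (s₀⁻¹ * s) = s₀⁻¹ * (s₀ * x * s₀⁻¹) * s := by group
        _ = s₀⁻¹ * s * x := by rw [h2]; group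
    · refine Subtype.ext (Prod.ext rfl ?_)
      show s₀ * (s₀⁻¹ * s) = s
      group

/-- The smaller twisted diagonals. -/
def properGraphs (F : FusionSystem S) : Set (Subgroup (Ω × Ω)) :=
  {Q | IsGraph F Q ∧ pr₁ Q ≠ S}

theorem isClosedFamily_properGraphs {E : FusionSystem (S.prod S)}
    (hE : FusionSystem.IsProductSystem F (innerFusionSystem S) E) :
    IsClosedFamily E (properGraphs F) := by
  refine ⟨fun Q hQ => hQ.1.le, fun Q R hQ hQR => ?_, fun Q R hQ hR => ⟨hQ.1.mono hR, fun h => ?_⟩⟩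
  · obtain ⟨g, hg, rfl⟩ := isConj_iff.mp hQR
    obtain ⟨h1, h2⟩ := hQ.1.map hE hg
    refine ⟨h1, fun h => hQ.2 ?_⟩
    have hle : pr₁ Q ≤ S := by
      obtain ⟨f, hf, -⟩ := hQ.1
      exact hf.le
    exact Subgroup.eq_of_le_of_card_ge hle (by rw [← h2, h])
  · obtain ⟨f, hf, -⟩ := hQ.1
    exact hQ.2 (le_antisymm hf.le (h.symm.le.trans (Subgroup.map_mono hR)))

theorem stableOutside_seed {E : FusionSystem (S.prod S)}
    (hE : FusionSystem.IsProductSystem F (innerFusionSystem S) E) :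
    StableOutside E (properGraphs F) (seed F) := by
  intro Q g hg hQ
  have hD := isClosedFamily_properGraphs (F := F) hE
  have hR : img g Q ∉ properGraphs F := fun h => hQ (hD.conj _ _ h (isConj_symm hg.isConj))
  obtain ⟨g', hg', -, -, himg⟩ := hg.exists_iso_inverse
  have hgr : IsGraph F Q ↔ IsGraph F (img g Q) :=
    ⟨fun h => (h.map hE hg).1, fun h => himg Q le_rfl ▸ (h.map hE hg').1⟩
  by_cases hG : IsGraph F Q
  · have e1 : pr₁ Q = S := by
      by_contra h; exact hQ ⟨hG, h⟩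
    have e2 : pr₁ (img g Q) = S := by
      by_contra h; exact hR ⟨hgr.mp hG, h⟩
    rw [nfix_seed hG e1, nfix_seed (hgr.mp hG) e2]
  · have h0 : ∀ U : Subgroup (Ω × Ω), ¬ IsGraph F U → nfix (seed F) U = 0 := fun U hU => by
      by_contra h
      obtain ⟨z, hz⟩ := exists_of_nfix_ne_zero h
      exact hU ((isGraph_stb_seed z).mono hz)
    rw [h0 Q hG, h0 _ fun h => hG (hgr.mpr h)]

/-- Properties of a left stable biset. -/
structure IsStableBiset (F : FusionSystem S) (X : FSet (S.prod S)) : Prop where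
  graph : ∀ x, IsGraph F (stb X x)
  full : ∃ x, pr₁ (stb X x) = S
  stable : ∀ (P : Subgroup Ω) (f : Ω → Ω) (hf : MapTo F P f), ∃ e : X.carrier ≃ X.carrier,
    ∀ (a b : Ω) (ha : a ∈ P) (hb : b ∈ S) (x : X.carrier),
      e ((⟨(a, b), Subgroup.mem_prod.mpr ⟨hf.le ha, hb⟩⟩ : S.prod S) • x) =
        (⟨(f a, b), Subgroup.mem_prod.mpr ⟨hf.mem ha, hb⟩⟩ : S.prod S) • e x

theorem isStableBiset_of {E : FusionSystem (S.prod S)}
    (hE : FusionSystem.IsProductSystem F (innerFusionSystem S) E) {X : FSet (S.prod S)}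
    (h1 : StableOutside E ∅ X)
    (h2 : ∀ y, (∃ x, stb (seed F) x = stb X y) ∨ stb X y ∈ properGraphs F)
    (h3 : ∀ x, ∃ y, stb X y = stb (seed F) x) : IsStableBiset F X := by
  have := finite_prod (S₁ := S) (S₂ := S)
  refine ⟨fun y => ?_, ?_, fun P f hf => ?_⟩
  · rcases h2 y with ⟨x, hx⟩ | h
    · exact hx ▸ isGraph_stb_seed x
    · exact h.1
  · obtain ⟨y, hy⟩ := h3 ((QuotientGroup.mk 1, 1) : (F.autGroup S ⧸
      (Inn S).subgroupOf (F.autGroup S)) × S)
    exact ⟨y, hy ▸ pr₁_stb_seed _⟩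
  · have hpr1 : pr₁ (P.prod S) ≤ P := by
      rintro _ ⟨a, ha, rfl⟩; exact (Subgroup.mem_prod.mp ha).1
    have hpr2 : pr₂ (P.prod S) ≤ S := by
      rintro _ ⟨a, ha, rfl⟩; exact (Subgroup.mem_prod.mp ha).2
    have hm : MapTo E (P.prod S) (fun z => (f z.1, z.2)) :=
      mapTo_pair hE (hf.restrict hpr1) (mapTo_id _ hpr2)
    obtain ⟨e, he⟩ := exists_equiv_of_stable h1 hm
    exact ⟨e, fun a b ha hb x => he (a, b) (Subgroup.mem_prod.mpr ⟨ha, hb⟩) x⟩

/-- Existence of a left stable biset whose size is `|S|` times a number prime to `p`. -/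
theorem exists_stableBiset [Fact p.Prime] (hS : IsPGroup p S) (hF : F.IsSaturated p) :
    ∃ (X : FSet (S.prod S)) (m : ℕ), IsStableBiset F X ∧ ¬ p ∣ m ∧
      Nat.card X.carrier ≡ m * Nat.card S [MOD p * Nat.card S] := by
  have hE := isProductSystem_prodSys F (innerFusionSystem S)
  have := finite_prod (S₁ := S) (S₂ := S)
  obtain ⟨X, h1, h2, h3, h4⟩ := exists_stable_of_isSaturated (isPGroup_prod hS hS)
    (isSaturated_prod hS hS hF (isSaturated_inner hS) hE)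
    (isClosedFamily_properGraphs (F := F) hE) (stableOutside_seed hE)
  refine ⟨X, ((Inn S).subgroupOf (F.autGroup S)).index, isStableBiset_of hE h1 h2 h3, ?_,
    (h4 _ fun Q hQ => ?_).trans ?_⟩
  · have h5 := ((isFullyAutomized_iff hS).mp
      (isFullyAutomized_of_isFullyNormalized hS hF isFullyNormalized_top)).2
    rw [autInducedBy_self_eq_inn] at h5
    exact h5
  · obtain ⟨f, hf, -⟩ := id hQ.1
    have hpr : pr₁ Q < S := lt_of_le_of_ne hf.le hQ.2
    have hcard := hQ.1.card_pr₁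
    have := finite_of_le hpr.le
    obtain ⟨a, ha⟩ := hS.exists_card_eq
    obtain ⟨b, hb⟩ := (hS.to_le hpr.le).exists_card_eq
    have hlt : Nat.card (pr₁ Q) < Nat.card S := by
      refine lt_of_le_of_ne (Subgroup.card_le_of_le hpr.le) fun he => hpr.ne ?_
      exact Subgroup.eq_of_le_of_card_ge hpr.le he.ge
    rw [ha, hb, Nat.pow_lt_pow_iff_right (Fact.out : p.Prime).one_lt] at hlt
    have hmul := card_mul_relIndex hQ.1.le
    rw [Nat.card_congr (S.prodEquiv S).toEquiv, Nat.card_prod, ← hcard, hb, ha] at hmul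
    rw [ha]
    refine ⟨p ^ (a - b - 1),
      Nat.eq_of_mul_eq_mul_left (pow_pos (Fact.out : p.Prime).pos b) ?_⟩
    rw [hmul, ← pow_add, ← pow_succ' p a, ← pow_add, ← pow_add]
    congr 1
    omega
  · show Nat.card ((F.autGroup S ⧸ (Inn S).subgroupOf (F.autGroup S)) × S) ≡ _ [MOD _]
    rw [Nat.card_prod]
    rfl

/-- Existence of a left stable biset for an arbitrary system. -/
theorem exists_stableBiset' [Fact p.Prime] (hS : IsPGroup p S) :
    ∃ X : FSet (S.prod S), IsStableBiset F X := by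
  have hE := isProductSystem_prodSys F (innerFusionSystem S)
  have := finite_prod (S₁ := S) (S₂ := S)
  obtain ⟨X, h1, h2, h3⟩ := exists_stable (isPGroup_prod hS hS)
    (isClosedFamily_properGraphs (F := F) hE) (stableOutside_seed hE)
  exact ⟨X, isStableBiset_of hE h1 h2 h3⟩

end Cfsg.Agent.Fusion
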