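import Cfsg.Agent.Lib.Fusion.CenterIndexSqTwo
import Cfsg.Agent.Lib.Invol.ExtraPairs
import Cfsg.Agent.Lib.Invol.Dihedral

/-!
A system without core, with hyperfocal subgroup `S` and `|S : Z(S)| ≤ p²`.
-/

set_option autoImplicit false
set_option linter.unusedSectionVars false

namespace Cfsg.Agent.Fusion

open Cfsg.FusionSystem (centralizerIn normalizerIn)
open scoped commutatorElement

universe u

variable {Ω : Type u} [Group Ω] {S : Subgroup Ω} {F : FusionSystem S} [Finite S] {p : ℕ}
  [hp : Fact p.Prime]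

theorem centerIndexSq_main (hS : IsPGroup p S) (hF : F.IsSaturated p) (hS1 : S ≠ ⊥)
    (hcore : F.core = ⊥) (hhyp : F.hyperfocalSubgroup p = S)
    (hZ : (Subgroup.center S).index ≤ p ^ 2) :
    IsExtraspecial p S ∧ Nat.card S = p ^ 3 ∧ (p ≠ 2 → Monoid.exponent S = p) ∧
      (p = 2 → Nonempty (S ≃* DihedralGroup 4)) := by
  have hnab : ¬ ∀ a ∈ S, ∀ b ∈ S, Commute a b := by
    intro hab
    apply hS1
    refine le_bot_iff.mp (hcore ▸ le_core (isNormal_of_forall_essential hS hF fun P hP => ?_))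
    obtain rfl : P = S := by
      rcases hP with h | h
      · exact h
      · exact le_antisymm h.1.1 fun s hs => centralizerIn_le_of_isCentric h.1
          (mem_centralizerIn.mpr ⟨hs, fun y hy => (hab y (h.1.1 hy) s hs).eq⟩)
    exact ⟨le_rfl, fun α _ x hx => autFun_mem α hx⟩
  have h := CentreSq.of_index hS hnab hZ
  have hcardZ : Nat.card (centralizerIn S S) = p := by
    by_cases hp2 : p = 2
    · subst hp2; exact h.card_centre_of_two hF hcore hhyp
    · exact h.card_centre_of_odd hF hp2 hcore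
  have hcard : Nat.card S = p ^ 3 := by rw [h.card_eq, hcardZ]; ring
  obtain ⟨P, hP⟩ := h.exists_essential hF hcore
  obtain ⟨x, hx, hxZ, hxP, hPeq⟩ := h.essential_form hF hP
  obtain ⟨k, hk, hkx⟩ := h.exists_not_mem hx hxZ
  have hc1 := h.comm_ne_one hx hxZ hk hkx
  have hcp := h.comm_pow_p hk hx
  have hzs : Subgroup.zpowers ⁅k, x⁆ = centralizerIn S S := by
    have := finite_of_le (centralizerIn_le : centralizerIn S S ≤ S)
    refine Subgroup.eq_of_le_of_card_ge (Subgroup.zpowers_le.mpr (h.comm_mem k hk x hx)) ?_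
    rw [Nat.card_zpowers, orderOf_eq_prime hcp hc1, hcardZ]
  refine ⟨?_, hcard, fun hp2 => ?_, fun hp2 => ?_⟩
  · set z : S := ⁅(⟨k, hk⟩ : S), ⟨x, hx⟩⁆ with hz
    have hmem : ∀ a : S, (a : Ω) ∈ centralizerIn S S → a ∈ Subgroup.zpowers z := fun a ha => by
      obtain ⟨i, hi⟩ := Subgroup.mem_zpowers_iff.mp (hzs.ge ha)
      exact Subgroup.mem_zpowers_iff.mpr ⟨i, Subtype.ext hi⟩
    refine Invol.ExtraPairs.Pre.extraspecial (z := z) ⟨?_, ?_, fun a b => hmem _ (h.comm_mem a a.2 b b.2),
      fun a => hmem _ (h.pow_mem a a.2)⟩ ?_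
    · rw [← Subgroup.orderOf_coe]
      exact orderOf_eq_prime hcp hc1
    · refine le_antisymm (fun a ha => hmem a ?_) (Subgroup.zpowers_le.mpr ?_)
      · rwa [← centralizerIn_self_subgroupOf] at ha
      · rw [← centralizerIn_self_subgroupOf]
        exact h.comm_mem k hk x hx
    · rw [hcard]
      exact fun he => absurd (he.trans (pow_one p).symm) (fun he' => by
        have := Nat.pow_right_injective hp.out.two_le he'
        omega)
  · refine ((Nat.dvd_prime hp.out).mp (Monoid.exponent_dvd_of_forall_pow_eq_one fun g =>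
      Subtype.ext (h.exponent_of_odd hF hp2 hcore g g.2))).resolve_left fun he => hc1 ?_
    rw [commutatorElement_eq_one_iff_mul_comm]
    have h1 := Monoid.exp_eq_one_iff.mp he
    exact congrArg Subtype.val (h1.elim ((⟨k, hk⟩ : S) * ⟨x, hx⟩) (⟨x, hx⟩ * ⟨k, hk⟩))
  · subst hp2
    obtain ⟨d, hd⟩ : ∃ d : S, d ^ 2 ≠ 1 := by
      by_contra hno
      push Not at hno
      refine hnab fun a ha b hb => ?_
      have hinv : ∀ g : S, g⁻¹ = g := fun g => inv_eq_of_mul_eq_one_right (by rw [← pow_two, hno])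
      exact congrArg Subtype.val (show (⟨a, ha⟩ : S) * ⟨b, hb⟩ = ⟨b, hb⟩ * ⟨a, ha⟩ by
        rw [← hinv (⟨a, ha⟩ * ⟨b, hb⟩), mul_inv_rev, hinv, hinv])
    have hd4 : orderOf d = 4 := by
      have h4 : d ^ 4 = 1 := by
        rw [show 4 = 2 * 2 by rfl, pow_mul]
        exact Subtype.ext (h.centre_exponent hF hcore _ (h.pow_mem d d.2))
      exact orderOf_eq_prime_pow (p := 2) (n := 1) (by simpa using hd) h4
    set t : S := ⟨x, hx⟩ with ht
    have ht2 : t * t = 1 := Subtype.ext (by
      show x * x = 1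
      rw [← pow_two]; exact h.essential_exponent hF hcore hP x hxP)
    have hdZ : (d : Ω) ∉ centralizerIn S S := fun hh =>
      hd (Subtype.ext (h.centre_exponent hF hcore _ hh))
    have hd2 : d ^ 2 = d⁻¹ ^ 2 := by
      rw [inv_pow, eq_inv_iff_mul_eq_one, ← pow_add, show 2 + 2 = orderOf d by rw [hd4], pow_orderOf_eq_one]
    have htnm : t ∉ Subgroup.zpowers d := by
      intro hm
      obtain ⟨i, hi⟩ := (((isOfFinOrder_of_finite d).mem_powers_iff_mem_zpowers).mpr hm :)
      rcases Nat.even_or_odd' i with ⟨m, rfl | rfl⟩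
      · apply hxZ
        have := congrArg Subtype.val hi
        change ((d ^ (2 * m) : S) : Ω) = x at this
        rw [← this, pow_mul, Subgroup.coe_pow, Subgroup.coe_pow]
        exact Subgroup.pow_mem _ (h.pow_mem d d.2) m
      · apply hd
        have h2 : (d ^ (2 * m + 1)) ^ 2 = 1 := by
          rw [pow_two, show d ^ (2 * m + 1) = t from hi, ht2]
        rw [← pow_mul, ← orderOf_dvd_iff_pow_eq_one, hd4] at h2
        omega
    have htd : ⁅t, d⁆ ≠ 1 := by
      intro he
      have he' : ⁅x, (d : Ω)⁆ = 1 := congrArg Subtype.val he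
      rw [commutatorElement_eq_one_iff_mul_comm] at he'
      by_cases hdx : (d : Ω) ∈ centralizerIn S S ⊔ Subgroup.zpowers x
      · exact hd (Subtype.ext (h.essential_exponent hF hcore hP _ (hPeq ▸ hdx)))
      · exact h.comm_ne_one hx hxZ d.2 hdx (commutatorElement_eq_one_iff_mul_comm.mpr he'.symm)
    -- both `⁅t, d⁆` and `d²` are the central involution
    have htd' : ⁅t, d⁆ = d ^ 2 := by
      have := finite_of_le (centralizerIn_le : centralizerIn S S ≤ S)
      obtain ⟨z, -, huniq⟩ := Nat.card_eq_two_iff' (1 : centralizerIn S S) |>.mp hcardZ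
      have e1 := huniq ⟨(⁅t, d⁆ : S), h.comm_mem x hx d d.2⟩ (fun he =>
        htd (Subtype.ext (congrArg (fun q : centralizerIn S S => (q : Ω)) he)))
      have e2 := huniq ⟨((d ^ 2 : S) : Ω), h.pow_mem d d.2⟩ (fun he =>
        hd (Subtype.ext (congrArg (fun q : centralizerIn S S => (q : Ω)) he)))
      exact Subtype.ext (congrArg (fun q : centralizerIn S S => (q : Ω)) (e1.trans e2.symm))
    have hinvd : t * d * t⁻¹ = d⁻¹ := by
      rw [show t * d * t⁻¹ = ⁅t, d⁆ * d by rw [commutatorElement_def]; group, htd', hd2]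
      group
    obtain ⟨e⟩ := Invol.nonempty_dihedralEquiv ht2 hinvd htnm
    rw [hd4] at e
    have htop : Subgroup.closure ({t, d} : Set S) = ⊤ := by
      refine Subgroup.eq_top_of_card_eq _ ?_
      rw [← Nat.card_congr e.toEquiv, DihedralGroup.nat_card, hcard]
      rfl
    exact ⟨((e.trans (MulEquiv.subgroupCongr htop)).trans Subgroup.topEquiv).symm⟩

end Cfsg.Agent.Fusion
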