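import Cfsg.Agent.Lib.Fusion.CenterIndexSqSetup
import Cfsg.Agent.Lib.Fusion.EssentialFrame
import Cfsg.Agent.Lib.Transfer.ClassTwo

/-!
`S` with centre of index `p²` for odd `p`: order `p³` and exponent `p`.
-/

set_option autoImplicit false
set_option linter.unusedSectionVars false

namespace Cfsg.Agent.Fusion

open Cfsg.FusionSystem (centralizerIn normalizerIn)
open scoped commutatorElement

universe u

variable {Ω : Type u} [Group Ω] {S : Subgroup Ω} {F : FusionSystem S} [Finite S] {p : ℕ}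
  [hp : Fact p.Prime]

namespace CentreSq

variable (h : CentreSq p S)
include h

local notation "Zs" => centralizerIn S S

theorem aut_mem_zs {φ : MulAut S} (hφ : φ ∈ F.autGroup S) {z : Ω} (hz : z ∈ Zs) :
    autFun φ z ∈ Zs := by
  have hm := mapTo_of_mem_autGroup le_rfl hφ
  refine mem_centralizerIn.mpr ⟨autFun_mem φ (centralizerIn_le hz), fun y hy => ?_⟩
  obtain ⟨y', hy', rfl⟩ : ∃ y' ∈ S, autFun φ y' = y :=
    ⟨_, autFun_mem _ hy, autFun_autFun_inv _ hy⟩
  rw [← hm.map_mul hy' (centralizerIn_le hz), ← hm.map_mul (centralizerIn_le hz) hy',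
    (mem_centralizerIn.mp hz).2 y' hy']

theorem aut_comm_mem {x k : Ω} (hx : x ∈ S) (hxZ : x ∉ Zs) (hk : k ∈ S)
    (hkx : k ∉ Zs ⊔ Subgroup.zpowers x) {φ : MulAut S} (hφ : φ ∈ F.autGroup S) :
    autFun φ ⁅k, x⁆ ∈ Subgroup.zpowers ⁅k, x⁆ := by
  have hm := mapTo_of_mem_autGroup le_rfl hφ
  have hcS := centralizerIn_le (h.comm_mem k hk x hx)
  rw [show autFun φ ⁅k, x⁆ = ⁅autFun φ k, autFun φ x⁆ by
    rw [commutatorElement_def, commutatorElement_def,
      hm.map_mul (S.mul_mem (S.mul_mem hk hx) (S.inv_mem hk)) (S.inv_mem hx),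
      hm.map_mul (S.mul_mem hk hx) (S.inv_mem hk), hm.map_mul hk hx,
      hm.map_inv hk, hm.map_inv hx]]
  exact h.comm_mem_zpowers hx hxZ hk hkx (autFun_mem φ hk) (autFun_mem φ hx)

theorem card_centre_of_odd (hF : F.IsSaturated p) (hp2 : p ≠ 2) (hcore : F.core = ⊥) :
    Nat.card Zs = p := by
  obtain ⟨P, hP⟩ := h.exists_essential hF hcore
  obtain ⟨x, hx, hxZ, hxP, hPeq⟩ := h.essential_form hF hP
  obtain ⟨k, hk, hkx⟩ := h.exists_not_mem hx hxZ
  obtain ⟨W, hWZ, hsplit, hcW, -, δ, hδ, hδW, hδc⟩ := h.split hF hP hx hxZ hxP hPeq hk hkx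
  set c := ⁅k, x⁆ with hcdef
  have hcZ : c ∈ Zs := h.comm_mem k hk x hx
  have hcp : c ^ p = 1 := h.comm_pow_p hk hx
  have hc1 : c ≠ 1 := h.comm_ne_one hx hxZ hk hkx
  have hZS : Zs ≤ S := centralizerIn_le
  have := finite_of_le hZS
  have hfinc : IsOfFinOrder c := isOfFinOrder_iff_pow_eq_one.mpr ⟨p, hp.out.pos, hcp⟩
  have hdm := mapTo_of_mem_autGroup hZS hδ
  have hinvC : ∀ v ∈ Subgroup.zpowers c, autFun δ v = v⁻¹ := by
    intro v hv
    obtain ⟨i, rfl⟩ := (hfinc.mem_powers_iff_mem_zpowers.mpr hv :)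
    show autFun δ (c ^ i) = (c ^ i)⁻¹
    rw [hdm.map_pow hcZ, hδc, inv_pow]
  have hfix : ∀ y ∈ Zs, autFun δ y = y → y ∈ W := by
    intro y hy hfy
    have hn : Subgroup.zpowers c ≤ Subgroup.normalizer (W : Set Ω) :=
      Subgroup.zpowers_le.mpr (Subgroup.centralizer_le_normalizer _
        (Subgroup.mem_centralizer_iff.mpr fun w hw =>
          (h.commute_zs (hZS hcZ) (hWZ hw)).eq.symm))
    have hy' : y ∈ ((W ⊔ Subgroup.zpowers c : Subgroup Ω) : Set Ω) := hsplit.le hy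
    rw [Subgroup.coe_mul_of_right_le_normalizer_left W _ hn] at hy'
    obtain ⟨w, hw, v, hv, rfl⟩ := hy'
    have hvZ : v ∈ Zs := (Subgroup.zpowers_le.mpr hcZ) hv
    change autFun δ (w * v) = w * v at hfy
    rw [hdm.map_mul (hWZ hw) hvZ, hδW w hw, hinvC v hv, mul_right_inj] at hfy
    have h2 : v ^ 2 = 1 := by rw [pow_two]; exact mul_eq_one_iff_eq_inv.mpr hfy.symm
    have h1 : v = 1 := by
      obtain ⟨i, rfl⟩ := (hfinc.mem_powers_iff_mem_zpowers.mpr hv :)
      refine orderOf_eq_one_iff.mp (Nat.eq_one_of_dvd_coprimes (a := p) (b := 2)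
        ((Nat.coprime_primes hp.out Nat.prime_two).mpr hp2)
        (orderOf_dvd_of_pow_eq_one ?_) (orderOf_dvd_of_pow_eq_one h2))
      show (c ^ i) ^ p = 1
      rw [← pow_mul, mul_comm, pow_mul, hcp, one_pow]
    show w * v ∈ W
    rw [h1, mul_one]; exact hw
  have hWn : F.IsNormal W := isNormal_of_forall_essential h.pgroup hF fun Q hQ => by
    rcases hQ with rfl | hQ
    · refine ⟨hWZ.trans hZS, fun φ hφ w hw => ?_⟩
      have hm := mapTo_of_mem_autGroup le_rfl hφ
      have hφi := Subgroup.inv_mem _ hφ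
      have hmi := mapTo_of_mem_autGroup le_rfl hφi
      have himg : img (autFun φ) (centralizerIn Q Q) = centralizerIn Q Q :=
        img_eq_self_of_forall (hm.restrict hZS) fun z hz => h.aut_mem_zs hφ hz
      have himg' : img (autFun φ⁻¹) (centralizerIn Q Q) = centralizerIn Q Q :=
        img_eq_self_of_forall (hmi.restrict hZS) fun z hz => h.aut_mem_zs hφi hz
      have hψ := autOf_mem (hm.restrict hZS) himg
      have hψ' := autOf_mem (hmi.restrict hZS) himg'
      have hv : ∀ z ∈ centralizerIn Q Q,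
          autFun (autOf (hm.restrict hZS) himg) z = autFun φ z := fun z hz => autFun_autOf _ _ hz
      have hv' : ∀ z ∈ centralizerIn Q Q,
          autFun (autOf (hmi.restrict hZS) himg') z = autFun φ⁻¹ z := fun z hz => autFun_autOf _ _ hz
      have hW2 : img (autFun φ) W ≤ centralizerIn Q Q :=
        img_le_of_forall fun u hu => h.aut_mem_zs hφ (hWZ hu)
      refine hfix _ (h.aut_mem_zs hφ (hWZ hw)) (le_of_reflections h.pgroup hF hcZ hcp hWZ hsplit
        hW2 hδ (Subgroup.mul_mem _ (Subgroup.mul_mem _ hψ hδ) hψ') hδW hδc ?_ ?_ _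
        (mem_img_of_mem hw))
      · intro u hu
        obtain ⟨u', hu', rfl⟩ := (hm.mem_img_iff (hWZ.trans hZS)).mp hu
        have hu'Z := h.aut_mem_zs hφ (hWZ hu')
        rw [autFun_mul _ _ hu'Z, hv' _ hu'Z, autFun_inv_autFun φ (hZS (hWZ hu')),
          autFun_mul _ _ (hWZ hu'), hδW u' hu', hv _ (hWZ hu')]
      · have hci := h.aut_comm_mem hx hxZ hk hkx hφi
        have hciZ := h.aut_mem_zs hφi hcZ
        rw [autFun_mul _ _ hcZ, hv' _ hcZ, autFun_mul _ _ hciZ, hinvC _ hci,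
          hv _ ((centralizerIn Q Q).inv_mem hciZ), hm.map_inv (hZS hciZ),
          autFun_autFun_inv φ (hZS hcZ)]
    · obtain ⟨y, hy, hyZ, hyQ, hQeq⟩ := h.essential_form hF hQ
      obtain ⟨l, hl, hly⟩ := h.exists_not_mem hy hyZ
      obtain ⟨W', hW'Z, hsplit', hcW', hW'inv, δ', hδ', hδ'W, hδ'c⟩ :=
        h.split hF hQ hy hyZ hyQ hQeq hl hly
      set c' := ⁅l, y⁆
      have hc'Z : c' ∈ Zs := h.comm_mem l hl y hy
      have hd'm := mapTo_of_mem_autGroup hZS hδ'
      have hCC : Subgroup.zpowers c' = Subgroup.zpowers c := le_antisymm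
        (Subgroup.zpowers_le.mpr (h.comm_mem_zpowers hx hxZ hk hkx hl hy))
        (Subgroup.zpowers_le.mpr (h.comm_mem_zpowers hy hyZ hl hly hk hx))
      have hδ'cc : autFun δ' c = c⁻¹ := by
        obtain ⟨i, hi⟩ := ((isOfFinOrder_iff_pow_eq_one.mpr
          ⟨p, hp.out.pos, h.comm_pow_p hl hy⟩).mem_powers_iff_mem_zpowers.mpr
            (hCC.ge (Subgroup.mem_zpowers c)) :)
        change c' ^ i = c at hi
        rw [← hi, hd'm.map_pow hc'Z, hδ'c, inv_pow]
      rw [hCC] at hsplit'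
      refine ⟨hWZ.trans (hQeq ▸ le_sup_left), fun β hβ w hw => ?_⟩
      have hW'W : W' ≤ W := fun u hu => hfix u (hW'Z hu)
        (le_of_reflections h.pgroup hF hcZ hcp hWZ hsplit hW'Z hδ hδ' hδW hδc hδ'W hδ'cc u hu)
      have hWW' : W ≤ W' := by
        intro u hu
        have hn : Subgroup.zpowers c ≤ Subgroup.normalizer (W' : Set Ω) :=
          Subgroup.zpowers_le.mpr (Subgroup.centralizer_le_normalizer _
            (Subgroup.mem_centralizer_iff.mpr fun v hv =>
              (h.commute_zs (hZS hcZ) (hW'Z hv)).eq.symm))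
        have hu' : u ∈ ((W' ⊔ Subgroup.zpowers c : Subgroup Ω) : Set Ω) := hsplit'.le (hWZ hu)
        rw [Subgroup.coe_mul_of_right_le_normalizer_left W' _ hn] at hu'
        obtain ⟨v, hv, v₀, hv₀, rfl⟩ := hu'
        have hv₀W : v₀ ∈ W := by
          have := W.mul_mem (W.inv_mem (hW'W hv)) hu
          rwa [inv_mul_cancel_left] at this
        have hv₀1 : v₀ = 1 := by
          by_contra hne
          apply hcW
          obtain ⟨i, rfl⟩ := (hfinc.mem_powers_iff_mem_zpowers.mpr hv₀ :)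
          have hh : Subgroup.zpowers (c ^ i) = Subgroup.zpowers c := by
            have : Finite ↥(Subgroup.zpowers c) := finite_of_le (Subgroup.zpowers_le.mpr (hZS hcZ))
            refine Subgroup.eq_of_le_of_card_ge (Subgroup.zpowers_le.mpr
              (Subgroup.pow_mem _ (Subgroup.mem_zpowers c) i)) ?_
            rw [Nat.card_zpowers, Nat.card_zpowers, orderOf_eq_prime hcp hc1,
              orderOf_eq_prime (show (c ^ i) ^ p = 1 by
                rw [← pow_mul, mul_comm, pow_mul, hcp, one_pow]) hne]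
          exact Subgroup.zpowers_le.mpr hv₀W (hh.ge (Subgroup.mem_zpowers c))
        show v * v₀ ∈ W'
        rw [hv₀1, mul_one]; exact hv
      exact hW'W (hW'inv β hβ w (hWW' hw))
  have hWbot : W = ⊥ := le_bot_iff.mp (hcore ▸ le_core hWn)
  rw [hsplit, hWbot, bot_sup_eq, Nat.card_zpowers]
  exact orderOf_eq_prime hcp hc1

theorem exponent_of_odd (hF : F.IsSaturated p) (hp2 : p ≠ 2) (hcore : F.core = ⊥) :
    ∀ s ∈ S, s ^ p = 1 := by
  obtain ⟨P, hP⟩ := h.exists_essential hF hcore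
  obtain ⟨x, hx, hxZ, hxP, hPeq⟩ := h.essential_form hF hP
  have hexpP := h.essential_exponent hF hcore hP
  intro k hk
  by_cases hkP : k ∈ P
  · exact hexpP k hkP
  have hkx : k ∉ Zs ⊔ Subgroup.zpowers x := hPeq ▸ hkP
  have hPS := hP.1.1
  have := finite_of_le hPS
  have := finite_mulAut P
  have hcard : Nat.card P = p ^ 2 := by
    rw [hPeq, h.card_sup hx hxZ, h.card_centre_of_odd hF hp2 hcore, pow_two]
  have hcomm : IsMulCommutative P :=
    ⟨⟨fun a b => Subtype.ext (h.sup_comm hx a (hPeq.le a.2) b (hPeq.le b.2)).eq⟩⟩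
  have hker : IsPGroup p (F.autGroup P).subtype.ker := by
    rw [MonoidHom.ker_eq_bot_iff _ |>.mpr (Subgroup.subtype_injective _)]
    exact IsPGroup.of_bot
  obtain ⟨φ, -, hφ⟩ := exists_frame_neg hcomm (fun v => Subtype.ext (hexpP v v.2)) hcard
    h.pgroup hP (F.autGroup P).subtype hker hp2
  have hφv : ∀ v ∈ P, autFun (φ : MulAut P) v = v⁻¹ := fun v hv => by
    rw [show v = ((⟨v, hv⟩ : P) : Ω) from rfl, autFun_coe]
    exact congrArg Subtype.val (hφ ⟨v, hv⟩)
  have hm := mapTo_of_mem_autGroup hPS φ.2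
  have hkN : k ∈ normalizerIn S P := mem_normalizerIn_of_forall hPS hk fun v hv => by
    rw [hPeq] at hv ⊢
    exact (h.abIndexP hx hxZ).conj_mem hk hv
  obtain ⟨e, he, heφ, hw⟩ := exists_extension_zpowers h.pgroup hF hP.1 hm (img_autFun _) hkN hk
    (fun v hv => by
      have hv' : k * v * k⁻¹ ∈ P := conj_mem_of_mem_normalizerIn hkN hv
      rw [hφv _ hv', hφv v hv]
      group)
  have hwP : k⁻¹ * e k ∈ P := centralizerIn_le_of_isCentric hP.1 hw
  have hkP' : k ∈ P ⊔ Subgroup.zpowers k := Subgroup.mem_sup_right (Subgroup.mem_zpowers k)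
  have hkpP : k ^ p ∈ P := hPeq.ge (Subgroup.mem_sup_left (h.pow_mem k hk))
  have h1 : (k * (k⁻¹ * e k)) ^ p = (k ^ p)⁻¹ := by
    rw [mul_inv_cancel_left, ← he.map_pow hkP', heφ _ hkpP, hφv _ hkpP]
  set w := k⁻¹ * e k with hwdef
  have hcwk : ∀ u ∈ S, Commute ⁅w, k⁆ u := fun u hu =>
    (h.commute_zs hu (h.comm_mem w (hPS hwP) k hk)).symm
  rw [Transfer.mul_pow_of_commute (hcwk k hk) (hcwk w (hPS hwP)), hexpP w hwP, mul_one] at h1
  obtain ⟨q, hq⟩ := hp.out.dvd_choose_self (k := 2) two_ne_zero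
    (lt_of_le_of_ne hp.out.two_le (Ne.symm hp2))
  rw [hq, pow_mul, h.comm_pow_p (hPS hwP) hk, one_pow, mul_one] at h1
  have h2 : (k ^ p) ^ 2 = 1 := by rw [pow_two]; exact mul_eq_one_iff_eq_inv.mpr h1
  exact orderOf_eq_one_iff.mp (Nat.eq_one_of_dvd_coprimes (a := p) (b := 2)
    ((Nat.coprime_primes hp.out Nat.prime_two).mpr hp2)
    (orderOf_dvd_of_pow_eq_one (hexpP _ hkpP)) (orderOf_dvd_of_pow_eq_one h2))

end CentreSq

end Cfsg.Agent.Fusion
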