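import Cfsg.Agent.Lib.Fusion.AbelianIndexPCore
import Cfsg.Agent.Lib.Fusion.RankTwoPrelim

/-!
`S` with centre of index `p²`: the essential subgroups are abelian of index `p`.
-/

set_option autoImplicit false
set_option linter.unusedSectionVars false

namespace Cfsg.Agent.Fusion

open Cfsg.FusionSystem (centralizerIn normalizerIn)
open scoped commutatorElement

universe u

variable {Ω : Type u} [Group Ω] {S : Subgroup Ω} {F : FusionSystem S} [Finite S] {p : ℕ}
  [hp : Fact p.Prime]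

theorem centralizerIn_self_subgroupOf :
    (centralizerIn S S).subgroupOf S = Subgroup.center S := by
  ext z
  rw [Subgroup.mem_subgroupOf, mem_centralizerIn, Subgroup.mem_center_iff]
  exact ⟨fun h g => Subtype.ext (h.2 g g.2),
    fun h => ⟨z.2, fun y hy => congrArg Subtype.val (h ⟨y, hy⟩)⟩⟩

/-- `S` is a nonabelian `p`-group with centre of index `p²`. -/
structure CentreSq (p : ℕ) (S : Subgroup Ω) : Prop where
  pgroup : IsPGroup p S
  card_eq : Nat.card S = p ^ 2 * Nat.card (centralizerIn S S)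
  nonab : ¬ ∀ a ∈ S, ∀ b ∈ S, Commute a b
  pow_mem : ∀ a ∈ S, a ^ p ∈ centralizerIn S S
  comm_mem : ∀ a ∈ S, ∀ b ∈ S, ⁅a, b⁆ ∈ centralizerIn S S

theorem CentreSq.of_index (hS : IsPGroup p S) (hnab : ¬ ∀ a ∈ S, ∀ b ∈ S, Commute a b)
    (hidx : (Subgroup.center S).index ≤ p ^ 2) : CentreSq p S := by
  have hncyc : ¬ IsCyclic (S ⧸ Subgroup.center S) := fun _ => hnab fun a ha b hb =>
    congrArg Subtype.val (commutative_of_cyclic_center_quotient
      (QuotientGroup.mk' (Subgroup.center S)) (QuotientGroup.ker_mk' _).le ⟨a, ha⟩ ⟨b, hb⟩)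
  have hq : Nat.card (S ⧸ Subgroup.center S) = p ^ 2 := by
    obtain ⟨n, hn⟩ := IsPGroup.iff_card.mp (hS.to_quotient (Subgroup.center S))
    have h2 : n ≤ 2 := (Nat.pow_le_pow_iff_right hp.out.one_lt).mp (hn ▸ hidx)
    interval_cases n
    · haveI : Subsingleton (S ⧸ Subgroup.center S) :=
        (Nat.card_eq_one_iff_unique.mp (hn.trans (pow_zero p))).1
      exact absurd isCyclic_of_subsingleton hncyc
    · exact absurd (isCyclic_of_prime_card (hn.trans (pow_one p))) hncyc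
    · exact hn
  haveI := IsPGroup.isMulCommutative_of_card_eq_prime_sq hq
  have hmem : ∀ y : S, QuotientGroup.mk' (Subgroup.center S) y = 1 →
      (y : Ω) ∈ centralizerIn S S := by
    intro y hy
    have h1 : y ∈ Subgroup.center S := (QuotientGroup.eq_one_iff y).mp hy
    rwa [← centralizerIn_self_subgroupOf] at h1
  refine ⟨hS, ?_, hnab, fun a ha => ?_, fun a ha b hb => ?_⟩
  · rw [Subgroup.card_eq_card_quotient_mul_card_subgroup (Subgroup.center S), hq,
      ← centralizerIn_self_subgroupOf,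
      Nat.card_congr (Subgroup.subgroupOfEquivOfLe centralizerIn_le).toEquiv]
  · refine hmem (⟨a, ha⟩ ^ p) ?_
    rw [map_pow]
    set q := QuotientGroup.mk' (Subgroup.center S) ⟨a, ha⟩
    obtain ⟨j, hj, hje⟩ := (Nat.dvd_prime_pow hp.out).mp (hq ▸ orderOf_dvd_natCard q)
    interval_cases j
    · rw [pow_zero, orderOf_eq_one_iff] at hje; rw [hje, one_pow]
    · rw [pow_one] at hje; rw [← hje, pow_orderOf_eq_one]
    · exact absurd (isCyclic_of_orderOf_eq_card q (hje.trans hq.symm)) hncyc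
  · refine hmem ⁅(⟨a, ha⟩ : S), ⟨b, hb⟩⁆ ?_
    rw [map_commutatorElement, commutatorElement_eq_one_iff_mul_comm]
    exact IsMulCommutative.is_comm.comm _ _

namespace CentreSq

variable (h : CentreSq p S)
include h

local notation "Zs" => centralizerIn S S

theorem commute_zs {a z : Ω} (ha : a ∈ S) (hz : z ∈ Zs) : Commute a z :=
  (mem_centralizerIn.mp hz).2 a ha

theorem sup_comm {x : Ω} (hx : x ∈ S) :
    ∀ a ∈ Zs ⊔ Subgroup.zpowers x, ∀ b ∈ Zs ⊔ Subgroup.zpowers x, Commute a b := by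
  have hle : Zs ⊔ Subgroup.zpowers x ≤ S := sup_le centralizerIn_le (Subgroup.zpowers_le.mpr hx)
  have hc : Zs ⊔ Subgroup.zpowers x ≤ Subgroup.centralizer ({x} : Set Ω) :=
    sup_le (fun z hz => Subgroup.mem_centralizer_singleton_iff.mpr (h.commute_zs hx hz).eq.symm)
      (Subgroup.zpowers_le.mpr (Subgroup.mem_centralizer_singleton_iff.mpr rfl))
  have hc2 : Zs ⊔ Subgroup.zpowers x ≤
      Subgroup.centralizer ((Zs ⊔ Subgroup.zpowers x : Subgroup Ω) : Set Ω) :=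
    sup_le (fun z hz => Subgroup.mem_centralizer_iff.mpr fun y hy => h.commute_zs (hle hy) hz)
      (Subgroup.zpowers_le.mpr (Subgroup.mem_centralizer_iff.mpr fun y hy =>
        Subgroup.mem_centralizer_singleton_iff.mp (hc hy)))
  exact fun a ha b hb => Subgroup.mem_centralizer_iff.mp (hc2 hb) a ha

theorem card_sup {x : Ω} (hx : x ∈ S) (hxZ : x ∉ Zs) :
    Nat.card ↥(Zs ⊔ Subgroup.zpowers x) = p * Nat.card Zs := by
  have hle : Zs ⊔ Subgroup.zpowers x ≤ S := sup_le centralizerIn_le (Subgroup.zpowers_le.mpr hx)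
  have := finite_of_le hle
  have := finite_of_le (centralizerIn_le : Zs ≤ S)
  refine le_antisymm ?_ (card_mul_le_of_lt (h.pgroup.to_le hle) (lt_of_le_of_ne le_sup_left
    fun he => hxZ (he.ge (Subgroup.mem_sup_right (Subgroup.mem_zpowers x)))))
  have hn : Subgroup.zpowers x ≤ Subgroup.normalizer ((Zs : Subgroup Ω) : Set Ω) :=
    Subgroup.zpowers_le.mpr (Subgroup.centralizer_le_normalizer _
      (Subgroup.mem_centralizer_iff.mpr fun z hz => (h.commute_zs hx hz).eq.symm))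
  have hsurj : Function.Surjective (fun t : Fin p × Zs =>
      (⟨(t.2 : Ω) * x ^ (t.1 : ℕ), mul_mem (Subgroup.mem_sup_left t.2.2)
        (Subgroup.pow_mem _ (Subgroup.mem_sup_right (Subgroup.mem_zpowers x)) _)⟩ :
          ↥(Zs ⊔ Subgroup.zpowers x))) := by
    rintro ⟨a, ha⟩
    have ha' : a ∈ ((Zs ⊔ Subgroup.zpowers x : Subgroup Ω) : Set Ω) := ha
    rw [Subgroup.coe_mul_of_right_le_normalizer_left Zs _ hn] at ha'
    obtain ⟨z, hz, y, hy, he⟩ := ha'
    have hxo : IsOfFinOrder x :=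
      S.subtype.isOfFinOrder (isOfFinOrder_of_finite (⟨x, hx⟩ : S))
    obtain ⟨i, rfl⟩ := (hxo.mem_powers_iff_mem_zpowers.mpr hy :)
    refine ⟨(⟨i % p, Nat.mod_lt _ hp.out.pos⟩, ⟨z * (x ^ p) ^ (i / p),
      Subgroup.mul_mem _ hz (Subgroup.pow_mem _ (h.pow_mem x hx) _)⟩), Subtype.ext ?_⟩
    show z * (x ^ p) ^ (i / p) * x ^ (i % p) = a
    rw [mul_assoc, ← pow_mul, ← pow_add, Nat.div_add_mod]
    exact he
  have := Nat.card_le_card_of_surjective _ hsurj
  rwa [Nat.card_prod, Nat.card_fin] at this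

theorem abIndexP {x : Ω} (hx : x ∈ S) (hxZ : x ∉ Zs) :
    AbIndexP p S (Zs ⊔ Subgroup.zpowers x) := by
  have hle : Zs ⊔ Subgroup.zpowers x ≤ S := sup_le centralizerIn_le (Subgroup.zpowers_le.mpr hx)
  refine ⟨hle, h.sup_comm hx, ?_, h.pgroup, h.nonab⟩
  have h1 := card_mul_relIndex hle
  rw [h.card_eq, h.card_sup hx hxZ, show p ^ 2 * Nat.card Zs = p * Nat.card Zs * p by ring] at h1
  have := finite_of_le (centralizerIn_le : Zs ≤ S)
  exact Nat.eq_of_mul_eq_mul_left (Nat.mul_pos hp.out.pos Nat.card_pos) h1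

theorem exists_not_mem {x : Ω} (hx : x ∈ S) (hxZ : x ∉ Zs) :
    ∃ k ∈ S, k ∉ Zs ⊔ Subgroup.zpowers x := (h.abIndexP hx hxZ).exists_not_mem

/-- Decomposition with respect to two generators modulo the centre. -/
theorem dec {x k : Ω} (hx : x ∈ S) (hxZ : x ∉ Zs) (hk : k ∈ S)
    (hkx : k ∉ Zs ⊔ Subgroup.zpowers x) {a : Ω} (ha : a ∈ S) :
    ∃ i j : ℕ, ∃ z ∈ Zs, a = k ^ i * x ^ j * z := by
  obtain ⟨i, hi⟩ := (h.abIndexP hx hxZ).dec hk hkx ha
  have hn : Subgroup.zpowers x ≤ Subgroup.normalizer ((Zs : Subgroup Ω) : Set Ω) :=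
    Subgroup.zpowers_le.mpr (Subgroup.centralizer_le_normalizer _
      (Subgroup.mem_centralizer_iff.mpr fun z hz => (h.commute_zs hx hz).eq.symm))
  have hi' : (k ^ i)⁻¹ * a ∈ ((Zs ⊔ Subgroup.zpowers x : Subgroup Ω) : Set Ω) := hi
  rw [Subgroup.coe_mul_of_right_le_normalizer_left Zs _ hn] at hi'
  obtain ⟨z, hz, y, hy, he⟩ := hi'
  have hxo : IsOfFinOrder x :=
      S.subtype.isOfFinOrder (isOfFinOrder_of_finite (⟨x, hx⟩ : S))
  obtain ⟨j, rfl⟩ := (hxo.mem_powers_iff_mem_zpowers.mpr hy :)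
  refine ⟨i, j, z, hz, ?_⟩
  change z * x ^ j = (k ^ i)⁻¹ * a at he
  rw [mul_assoc, ((h.commute_zs hx hz).pow_left j).eq, he, mul_inv_cancel_left]

theorem gen {x k : Ω} (hx : x ∈ S) (hxZ : x ∉ Zs) (hk : k ∈ S)
    (hkx : k ∉ Zs ⊔ Subgroup.zpowers x) {T : Subgroup Ω} (hZT : Zs ≤ T) (hxT : x ∈ T)
    (hkT : k ∈ T) : S ≤ T := by
  intro a ha
  obtain ⟨i, j, z, hz, rfl⟩ := h.dec hx hxZ hk hkx ha
  exact T.mul_mem (T.mul_mem (T.pow_mem hkT i) (T.pow_mem hxT j)) (hZT hz)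

theorem comm_mul_right {a b b' : Ω} (ha : a ∈ S) (hb : b ∈ S) (hb' : b' ∈ S) :
    ⁅a, b * b'⁆ = ⁅a, b⁆ * ⁅a, b'⁆ := by
  rw [show ⁅a, b * b'⁆ = ⁅a, b⁆ * (b * ⁅a, b'⁆ * b⁻¹) by simp only [commutatorElement_def]; group,
    (h.commute_zs hb (h.comm_mem a ha b' hb')).eq, mul_inv_cancel_right]

theorem comm_pow {a b : Ω} (ha : a ∈ S) (hb : b ∈ S) (n : ℕ) : ⁅a, b ^ n⁆ = ⁅a, b⁆ ^ n := by
  induction n with
  | zero => rw [pow_zero, pow_zero, commutatorElement_one_right]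
  | succ n ih => rw [pow_succ, h.comm_mul_right ha (S.pow_mem hb n) hb, ih, pow_succ]

theorem comm_pow_p {a b : Ω} (ha : a ∈ S) (hb : b ∈ S) : ⁅a, b⁆ ^ p = 1 := by
  rw [← h.comm_pow ha hb, commutatorElement_eq_one_iff_mul_comm]
  exact h.commute_zs ha (h.pow_mem b hb)

/-- All commutators are powers of one of them. -/
theorem comm_mem_zpowers {x k : Ω} (hx : x ∈ S) (hxZ : x ∉ Zs) (hk : k ∈ S)
    (hkx : k ∉ Zs ⊔ Subgroup.zpowers x) {a b : Ω} (ha : a ∈ S) (hb : b ∈ S) :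
    ⁅a, b⁆ ∈ Subgroup.zpowers ⁅k, x⁆ := by
  set C := Subgroup.zpowers ⁅k, x⁆
  have hz : ∀ {u z : Ω}, u ∈ S → z ∈ Zs → ⁅u, z⁆ = 1 := fun hu hzz =>
    commutatorElement_eq_one_iff_mul_comm.mpr (h.commute_zs hu hzz).eq
  have key : ∀ u ∈ S, ⁅u, x⁆ ∈ C → ⁅u, k⁆ ∈ C → ∀ v ∈ S, ⁅u, v⁆ ∈ C := by
    intro u hu h1 h2 v hv
    obtain ⟨i, j, z, hzz, rfl⟩ := h.dec hx hxZ hk hkx hv
    rw [h.comm_mul_right hu (S.mul_mem (S.pow_mem hk i) (S.pow_mem hx j)) (centralizerIn_le hzz),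
      hz hu hzz, mul_one, h.comm_mul_right hu (S.pow_mem hk i) (S.pow_mem hx j),
      h.comm_pow hu hk, h.comm_pow hu hx]
    exact C.mul_mem (C.pow_mem h2 i) (C.pow_mem h1 j)
  have hswap : ∀ {u v : Ω}, ⁅u, v⁆ ∈ C → ⁅v, u⁆ ∈ C := fun hh => by
    rw [← commutatorElement_inv]; exact C.inv_mem hh
  have hxk : ∀ v ∈ S, ⁅k, v⁆ ∈ C := key k hk (Subgroup.mem_zpowers _) (by
    rw [commutatorElement_self]; exact C.one_mem)
  have hxx : ∀ v ∈ S, ⁅x, v⁆ ∈ C := key x hx (by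
    rw [commutatorElement_self]; exact C.one_mem) (hswap (Subgroup.mem_zpowers _))
  exact key a ha (hswap (hxx a ha)) (hswap (hxk a ha)) b hb

theorem comm_ne_one {x k : Ω} (hx : x ∈ S) (hxZ : x ∉ Zs) (hk : k ∈ S)
    (hkx : k ∉ Zs ⊔ Subgroup.zpowers x) : ⁅k, x⁆ ≠ 1 := fun he => h.nonab fun a ha b hb => by
  have := h.comm_mem_zpowers hx hxZ hk hkx ha hb
  rw [he, Subgroup.zpowers_one_eq_bot, Subgroup.mem_bot,
    commutatorElement_eq_one_iff_mul_comm] at this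
  exact this

/-- An essential subgroup is abelian of index `p`. -/
theorem essential_form (hF : F.IsSaturated p) {P : Subgroup Ω} (hP : F.IsEssential p P) :
    ∃ x ∈ S, x ∉ Zs ∧ x ∈ P ∧ P = Zs ⊔ Subgroup.zpowers x := by
  have hPS : P ≤ S := hP.1.1
  have hZP : Zs ≤ P := le_trans
    (fun z hz => mem_centralizerIn.mpr ⟨(mem_centralizerIn.mp hz).1,
      fun y hy => (mem_centralizerIn.mp hz).2 y (hPS hy)⟩) (centralizerIn_le_of_isCentric hP.1)
  obtain ⟨x, hxP, hxZ⟩ : ∃ x ∈ P, x ∉ Zs := by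
    by_contra hno
    push Not at hno
    refine h.nonab fun a ha b hb => ?_
    have hb' : b ∈ Zs := hno b (centralizerIn_le_of_isCentric hP.1
      (mem_centralizerIn.mpr ⟨hb, fun y hy => (h.commute_zs hb (hno y hy)).eq.symm⟩))
    exact h.commute_zs ha hb'
  have hle : Zs ⊔ Subgroup.zpowers x ≤ P := sup_le hZP (Subgroup.zpowers_le.mpr hxP)
  refine ⟨x, hPS hxP, hxZ, hxP, le_antisymm ?_ hle⟩
  intro y hy
  by_contra hyA
  exact (ne_top_of_isEssential h.pgroup hF hP).ne (le_antisymm hPS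
    (h.gen (hPS hxP) hxZ (hPS hy) hyA hZP hxP hy))

theorem exists_essential (hF : F.IsSaturated p) (hcore : F.core = ⊥) :
    ∃ P, F.IsEssential p P := by
  by_contra hno
  push Not at hno
  have hn : F.IsNormal S := isNormal_of_forall_essential h.pgroup hF fun P hP => by
    obtain rfl : P = S := hP.resolve_right (hno P)
    exact ⟨le_rfl, fun α _ x hx => autFun_mem α hx⟩
  have hS1 : S ≤ ⊥ := hcore ▸ le_core hn
  exact h.nonab fun a ha b _ => by rw [Subgroup.mem_bot.mp (hS1 ha)]; exact Commute.one_left b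

/-- The splitting of the centre at an essential subgroup. -/
theorem split (hF : F.IsSaturated p) {P : Subgroup Ω} (hP : F.IsEssential p P) {x k : Ω}
    (hx : x ∈ S) (hxZ : x ∉ Zs) (hxP : x ∈ P) (hPeq : P = Zs ⊔ Subgroup.zpowers x) (hk : k ∈ S)
    (hkx : k ∉ Zs ⊔ Subgroup.zpowers x) :
    ∃ W : Subgroup Ω, W ≤ Zs ∧ Zs = W ⊔ Subgroup.zpowers ⁅k, x⁆ ∧ ⁅k, x⁆ ∉ W ∧
      (∀ β ∈ F.autGroup P, ∀ w ∈ W, autFun β w ∈ W) ∧
      ∃ δ ∈ F.autGroup Zs, (∀ w ∈ W, autFun δ w = w) ∧ autFun δ ⁅k, x⁆ = (⁅k, x⁆)⁻¹ := by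
  have hkZ : k ∉ Zs := fun hh => hkx (Subgroup.mem_sup_left hh)
  have hA := h.abIndexP hk hkZ
  have hxA : x ∉ Zs ⊔ Subgroup.zpowers k := fun hh => h.comm_ne_one hx hxZ hk hkx
    (commutatorElement_eq_one_iff_mul_comm.mpr (h.sup_comm hk k
      (Subgroup.mem_sup_right (Subgroup.mem_zpowers k)) x hh).eq)
  exact abelian_essential_split hF hA hP hx hxP hxA (hPeq ▸ h.sup_comm hx)
    ⟨Subgroup.mem_sup_right (Subgroup.mem_zpowers k), h.comm_mem k hk x hx⟩
    (h.comm_ne_one hx hxZ hk hkx) (h.comm_pow_p hk hx)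

/-- Maps between central subgroups extend to `S`. -/
theorem exists_aut_of_central (hF : F.IsSaturated p) {W : Subgroup Ω} (hW : W ≤ Zs) {g : Ω → Ω}
    (hg : MapTo F W g) (himg : img g W = W) :
    ∃ φ ∈ F.autGroup S, ∀ w ∈ W, autFun φ w = g w := by
  have hWS : W ≤ S := hW.trans centralizerIn_le
  have hN : normalizerIn S W = S := le_antisymm normalizerIn_le fun s hs =>
    mem_normalizerIn_of_forall hWS hs fun z hz => by
      rw [(h.commute_zs hs (hW hz)).eq, mul_inv_cancel_right]; exact hz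
  have hfn : F.IsFullyNormalized W := ⟨hWS, fun Q _ => by
    rw [hN]; exact Subgroup.card_le_of_le normalizerIn_le⟩
  obtain ⟨e, he, heg⟩ := (isReceptive_iff.mp (isReceptive_of_isFullyCentralized h.pgroup hF
    (isFullyCentralized_of_isFullyNormalized h.pgroup hF hfn))).2 W g hg himg
  have hext : extSub S hg = S := le_antisymm ((extSub_le hg).trans normalizerIn_le) fun s hs =>
    ⟨hN.ge hs, 1, S.one_mem, fun w hw => by
      rw [(h.commute_zs hs (hW hw)).eq, mul_inv_cancel_right, one_mul, inv_one, mul_one]⟩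
  rw [hext] at he
  have himS : img e S = S := img_eq_self_of_forall he fun y hy => he.mem hy
  exact ⟨autOf he himS, autOf_mem _ _,
    fun w hw => (autFun_autOf _ _ (hWS hw)).trans (heg w hw)⟩

/-- Without core, the centre has exponent `p`. -/
theorem centre_exponent (hF : F.IsSaturated p) (hcore : F.core = ⊥) :
    ∀ z ∈ Zs, z ^ p = 1 := by
  set U : Subgroup Ω :=
    { carrier := {y | ∃ z ∈ Zs, z ^ p = y}
      one_mem' := ⟨1, Subgroup.one_mem _, one_pow p⟩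
      mul_mem' := by
        rintro _ _ ⟨a, ha, rfl⟩ ⟨b, hb, rfl⟩
        exact ⟨a * b, Subgroup.mul_mem _ ha hb,
          (h.commute_zs (centralizerIn_le ha) hb).mul_pow p⟩
      inv_mem' := by
        rintro _ ⟨a, ha, rfl⟩
        exact ⟨a⁻¹, Subgroup.inv_mem _ ha, inv_pow a p⟩ } with hU
  have hUZ : U ≤ Zs := by
    rintro _ ⟨a, ha, rfl⟩
    exact Subgroup.pow_mem _ ha p
  have hn : F.IsNormal U := isNormal_of_forall_essential h.pgroup hF fun P hP => by
    rcases hP with rfl | hP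
    · refine ⟨hUZ.trans centralizerIn_le, ?_⟩
      rintro α hα _ ⟨a, ha, rfl⟩
      have hm := mapTo_of_mem_autGroup le_rfl hα
      refine ⟨autFun α a, ?_, (hm.map_pow (centralizerIn_le ha) p).symm⟩
      refine mem_centralizerIn.mpr ⟨autFun_mem α (centralizerIn_le ha), fun y hy => ?_⟩
      obtain ⟨y', hy', rfl⟩ : ∃ y' ∈ P, autFun α y' = y :=
        ⟨_, autFun_mem _ hy, autFun_autFun_inv _ hy⟩
      rw [← hm.map_mul hy' (centralizerIn_le ha), ← hm.map_mul (centralizerIn_le ha) hy',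
        (mem_centralizerIn.mp ha).2 y' hy']
    · obtain ⟨x, hx, hxZ, hxP, hPeq⟩ := h.essential_form hF hP
      obtain ⟨k, hk, hkx⟩ := h.exists_not_mem hx hxZ
      obtain ⟨W, hWZ, hsplit, -, hinv, -⟩ := h.split hF hP hx hxZ hxP hPeq hk hkx
      have hWP : W ≤ P := hWZ.trans (hPeq ▸ le_sup_left)
      refine ⟨hUZ.trans (hPeq ▸ le_sup_left), ?_⟩
      rintro α hα _ ⟨a, ha, rfl⟩
      have hn : Subgroup.zpowers ⁅k, x⁆ ≤ Subgroup.normalizer (W : Set Ω) :=
        Subgroup.zpowers_le.mpr (Subgroup.centralizer_le_normalizer _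
          (Subgroup.mem_centralizer_iff.mpr fun w hw =>
            (h.commute_zs (centralizerIn_le (h.comm_mem k hk x hx)) (hWZ hw)).eq.symm))
      have ha' : a ∈ ((W ⊔ Subgroup.zpowers ⁅k, x⁆ : Subgroup Ω) : Set Ω) := hsplit.le ha
      rw [Subgroup.coe_mul_of_right_le_normalizer_left W _ hn] at ha'
      obtain ⟨w, hw, v, hv, rfl⟩ := ha'
      obtain ⟨i, rfl⟩ := ((isOfFinOrder_iff_pow_eq_one.mpr
        ⟨p, hp.out.pos, h.comm_pow_p hk hx⟩).mem_powers_iff_mem_zpowers.mpr hv :)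
      refine ⟨autFun α w, hWZ (hinv α hα w hw), ?_⟩
      show _ = autFun α ((w * ⁅k, x⁆ ^ i) ^ p)
      rw [((h.commute_zs (centralizerIn_le (h.comm_mem k hk x hx)) (hWZ hw)).symm.pow_right i).mul_pow,
        ← pow_mul ⁅k, x⁆, mul_comm i, pow_mul, h.comm_pow_p hk hx, one_pow, mul_one,
        (mapTo_of_mem_autGroup hP.1.1 hα).map_pow (hWP hw)]
  intro z hz
  exact Subgroup.mem_bot.mp ((hcore ▸ le_core hn : U ≤ ⊥) ⟨z, hz, rfl⟩)

/-- Without core, the essential subgroups have exponent `p`. -/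
theorem essential_exponent (hF : F.IsSaturated p) (hcore : F.core = ⊥) {P : Subgroup Ω}
    (hP : F.IsEssential p P) : ∀ y ∈ P, y ^ p = 1 := by
  obtain ⟨x, hx, hxZ, hxP, hPeq⟩ := h.essential_form hF hP
  obtain ⟨k, hk, hkx⟩ := h.exists_not_mem hx hxZ
  have hexp := h.centre_exponent hF hcore
  have hn : Subgroup.zpowers x ≤ Subgroup.normalizer ((Zs : Subgroup Ω) : Set Ω) :=
    Subgroup.zpowers_le.mpr (Subgroup.centralizer_le_normalizer _
      (Subgroup.mem_centralizer_iff.mpr fun z hz => (h.commute_zs hx hz).eq.symm))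
  have hxo : IsOfFinOrder x :=
      S.subtype.isOfFinOrder (isOfFinOrder_of_finite (⟨x, hx⟩ : S))
  have hdecP : ∀ y ∈ P, ∃ z ∈ Zs, ∃ i : ℕ, y = z * x ^ i := by
    intro y hy
    have hy' : y ∈ ((Zs ⊔ Subgroup.zpowers x : Subgroup Ω) : Set Ω) := hPeq.le hy
    rw [Subgroup.coe_mul_of_right_le_normalizer_left Zs _ hn] at hy'
    obtain ⟨z, hz, v, hv, rfl⟩ := hy'
    obtain ⟨i, rfl⟩ := (hxo.mem_powers_iff_mem_zpowers.mpr hv :)
    exact ⟨z, hz, i, rfl⟩
  have hpow : ∀ z ∈ Zs, ∀ i : ℕ, (z * x ^ i) ^ p = (x ^ p) ^ i := fun z hz i => by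
    rw [((h.commute_zs hx hz).symm.pow_right i).mul_pow, hexp z hz, one_mul, ← pow_mul, mul_comm,
      pow_mul]
  have hxp : x ^ p = 1 := by
    by_contra hne
    have hxxp : (x ^ p) ^ p = 1 := hexp _ (h.pow_mem x hx)
    have hPS := hP.1.1
    have hZP : Zs ≤ P := hPeq ▸ le_sup_left
    have hinv : ∀ α ∈ F.autGroup P, ∀ z ∈ Zs, autFun α z ∈ Zs := by
      intro α hα z hz
      have hm := mapTo_of_mem_autGroup hPS hα
      obtain ⟨z', hz', i, he⟩ := hdecP _ (autFun_mem α (hZP hz))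
      have h1 : (x ^ p) ^ i = 1 := by
        rw [← hpow z' hz' i, ← he, ← hm.map_pow (hZP hz), hexp z hz, hm.map_one]
      obtain ⟨q, rfl⟩ : p ∣ i := orderOf_eq_prime hxxp hne ▸ orderOf_dvd_of_pow_eq_one h1
      rw [he, pow_mul]
      exact Subgroup.mul_mem _ hz' (Subgroup.pow_mem _ (h.pow_mem x hx) q)
    have hconj : ∀ y ∈ P, y⁻¹ * (k * y * k⁻¹) ∈ Zs := fun y hy => by
      rw [show y⁻¹ * (k * y * k⁻¹) = ⁅y⁻¹, k⁆ by simp only [commutatorElement_def]; group]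
      exact h.comm_mem _ (S.inv_mem (hPS hy)) k hk
    have hkN : k ∈ normalizerIn S P := mem_normalizerIn_of_forall hPS hk fun y hy => by
      have := P.mul_mem hy (hZP (hconj y hy))
      rwa [mul_inv_cancel_left] at this
    refine hkx (hPeq ▸ mem_of_stabilizes_series h.pgroup hP.1 (isRadical_of_isEssential h.pgroup hP)
      hkN (n := 2) ![⊥, Zs, P] rfl rfl ?_ ?_ ?_)
    · intro i; fin_cases i
      · exact bot_le
      · exact hZP
      · exact le_rfl
    · intro i α hα y hy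
      fin_cases i
      · change y ∈ (⊥ : Subgroup Ω) at hy
        show autFun α y ∈ (⊥ : Subgroup Ω)
        rw [Subgroup.mem_bot] at hy ⊢
        rw [hy]; exact (mapTo_of_mem_autGroup hPS hα).map_one
      · exact hinv α hα y hy
      · exact autFun_mem α hy
    · intro i y hy
      fin_cases i
      · change y ∈ Zs at hy
        show y⁻¹ * (k * y * k⁻¹) ∈ (⊥ : Subgroup Ω)
        rw [(h.commute_zs hk hy).eq, mul_inv_cancel_right, inv_mul_cancel]
        exact Subgroup.one_mem _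
      · exact hconj y hy
  intro y hy
  obtain ⟨z, hz, i, rfl⟩ := hdecP y hy
  rw [hpow z hz i, hxp, one_pow]

end CentreSq

end Cfsg.Agent.Fusion
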