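import Cfsg.Agent.Lib.Fusion.CenterIndexSqOdd
import Cfsg.Agent.Lib.Fusion.Hyperfocal

/-!
`S` with centre of index `4`: without core and with hyperfocal subgroup `S` the centre has order `2`.
-/

set_option autoImplicit false
set_option linter.unusedSectionVars false

namespace Cfsg.Agent.Fusion

open Cfsg.FusionSystem (centralizerIn normalizerIn)
open scoped commutatorElement

universe u

variable {Ω : Type u} [Group Ω] {S : Subgroup Ω} {F : FusionSystem S} [Finite S]

namespace CentreSq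

variable (h : CentreSq 2 S)
include h

local notation "Zs" => centralizerIn S S

theorem inv_eq_self (hexp : ∀ z ∈ Zs, z ^ 2 = 1) {z : Ω} (hz : z ∈ Zs) : z⁻¹ = z :=
  inv_eq_of_mul_eq_one_right (by rw [← pow_two]; exact hexp z hz)

/-- At most two essential subgroups. -/
theorem essential_le_two (hF : F.IsSaturated 2) (hcore : F.core = ⊥) {P Q R : Subgroup Ω}
    (hP : F.IsEssential 2 P) (hQ : F.IsEssential 2 Q) (hR : F.IsEssential 2 R) (hne : P ≠ Q) :
    R = P ∨ R = Q := by
  obtain ⟨x, hx, hxZ, hxP, hPeq⟩ := h.essential_form hF hP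
  obtain ⟨y, hy, hyZ, hyQ, hQeq⟩ := h.essential_form hF hQ
  obtain ⟨r, hr, hrZ, hrR, hReq⟩ := h.essential_form hF hR
  have hexp := h.centre_exponent hF hcore
  have hx2 := h.essential_exponent hF hcore hP x hxP
  have hy2 := h.essential_exponent hF hcore hQ y hyQ
  have hr2 := h.essential_exponent hF hcore hR r hrR
  have heq : ∀ {a b : Ω}, a ∈ S → a ∉ Zs → b ∈ S → b ∉ Zs → b ∈ Zs ⊔ Subgroup.zpowers a →
      Zs ⊔ Subgroup.zpowers b = Zs ⊔ Subgroup.zpowers a := fun ha haZ hb hbZ hm => by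
    have := finite_of_le (h.abIndexP ha haZ).le
    exact Subgroup.eq_of_le_of_card_ge (sup_le le_sup_left (Subgroup.zpowers_le.mpr hm))
      (by rw [h.card_sup hb hbZ, h.card_sup ha haZ])
  have hyx : y ∉ Zs ⊔ Subgroup.zpowers x := fun hm =>
    hne (by rw [hPeq, hQeq, heq hx hxZ hy hyZ hm])
  by_contra hno
  push Not at hno
  have hrx : r ∉ Zs ⊔ Subgroup.zpowers x := fun hm =>
    hno.1 (by rw [hPeq, hReq, heq hx hxZ hr hrZ hm])
  have hry : r ∉ Zs ⊔ Subgroup.zpowers y := fun hm =>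
    hno.2 (by rw [hQeq, hReq, heq hy hyZ hr hrZ hm])
  obtain ⟨i, j, z, hz, hre⟩ := h.dec hx hxZ hy hyx hr
  have hpm : ∀ {a : Ω}, a ^ 2 = 1 → ∀ n : ℕ, a ^ n = a ^ (n % 2) := fun ha n => by
    conv_lhs => rw [← Nat.div_add_mod n 2, pow_add, pow_mul, ha, one_pow, one_mul]
  rw [hpm hy2 i, hpm hx2 j] at hre
  rcases Nat.mod_two_eq_zero_or_one i with hi | hi <;>
    rcases Nat.mod_two_eq_zero_or_one j with hj | hj <;>
    simp only [hi, hj, pow_zero, pow_one, one_mul, mul_one] at hre
  · exact hrZ (hre ▸ hz)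
  · exact hrx (hre ▸ Subgroup.mul_mem _ (Subgroup.mem_sup_right (Subgroup.mem_zpowers x))
      (Subgroup.mem_sup_left hz))
  · exact hry (hre ▸ Subgroup.mul_mem _ (Subgroup.mem_sup_right (Subgroup.mem_zpowers y))
      (Subgroup.mem_sup_left hz))
  · apply h.comm_ne_one hx hxZ hy hyx
    have hcz : Commute (y * x) z := h.commute_zs (S.mul_mem hy hx) hz
    rw [hre, hcz.mul_pow, hexp z hz, mul_one] at hr2
    have hyi : y⁻¹ = y := inv_eq_of_mul_eq_one_right (by rw [← pow_two]; exact hy2)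
    have hxi : x⁻¹ = x := inv_eq_of_mul_eq_one_right (by rw [← pow_two]; exact hx2)
    rw [commutatorElement_def, hyi, hxi, ← hr2, pow_two]
    simp only [mul_assoc]

/-- An automorphism of `S` is inner when it stabilizes the series of the centre. -/
theorem aut_inner_of_stab (hF : F.IsSaturated 2) {φ : MulAut S} (hφ : φ ∈ F.autGroup S)
    (hZfix : ∀ α ∈ F.autGroup S, ∀ z ∈ Zs, autFun α z = z)
    (hmod : ∀ α ∈ F.autGroup S, ∀ y ∈ S, y⁻¹ * autFun α y ∈ Zs) :
    φ ∈ autInducedBy S S := by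
  have hp : IsPGroup 2 (F.autGroup S) := by
    refine isPGroup_stabilizer_series h.pgroup (n := 2) ![⊥, Zs, S] rfl rfl ?_ _ ?_
    · intro i; fin_cases i
      · exact bot_le
      · exact centralizerIn_le
      · exact le_rfl
    · intro α hα i y hy
      fin_cases i
      · change y ∈ Zs at hy
        show y⁻¹ * autFun α y ∈ (⊥ : Subgroup Ω)
        rw [hZfix α hα y hy, inv_mul_cancel]; exact Subgroup.one_mem _
      · exact hmod α hα y hy
  have hfa : F.IsFullyAutomized 2 S := isFullyAutomized_of_isFullyNormalized h.pgroup hF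
    (isFullyNormalized_of_eq_top_or_essential (p := 2) (Or.inl rfl))
  obtain ⟨β, hβ, hall⟩ := exists_conj_le_autInducedBy hfa le_rfl hp
  have := hall (β⁻¹ * φ * β) (Subgroup.mul_mem _ (Subgroup.mul_mem _ (Subgroup.inv_mem _ hβ) hφ) hβ)
  convert this using 1
  group

/-- An automorphism of `S` fixes every essential subgroup. -/
theorem aut_fix_essential (hF : F.IsSaturated 2) (hcore : F.core = ⊥) {P : Subgroup Ω}
    (hP : F.IsEssential 2 P) {φ : MulAut S} (hφ : φ ∈ F.autGroup S) :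
    ∀ y ∈ P, autFun φ y ∈ P := by
  obtain ⟨x, hx, hxZ, hxP, hPeq⟩ := h.essential_form hF hP
  have hZP : Zs ≤ P := hPeq ▸ le_sup_left
  have hPS := hP.1.1
  have hexp := h.essential_exponent hF hcore hP
  have hx2 : x ^ 2 = 1 := hexp x hxP
  -- the automizer of `S` is a Sylow 2-group times an odd part
  obtain ⟨hle, hodd⟩ := (isFullyAutomized_iff h.pgroup).mp
    (isFullyAutomized_of_isFullyNormalized h.pgroup hF
      (isFullyNormalized_of_eq_top_or_essential (F := F) (P := S) (p := 2) (Or.inl rfl)))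
  set I := (autInducedBy S S).subgroupOf (F.autGroup S) with hI
  let N : Subgroup (F.autGroup S) :=
    { carrier := {α | ∀ y ∈ P, autFun (α : MulAut S) y ∈ P}
      one_mem' := fun y hy => by
        show autFun (1 : MulAut S) y ∈ P
        rw [autFun_one (hPS hy)]; exact hy
      mul_mem' := fun {a b} ha hb y hy => by
        show autFun ((a : MulAut S) * (b : MulAut S)) y ∈ P
        rw [autFun_mul _ _ (hPS hy)]; exact ha _ (hb y hy)
      inv_mem' := fun {a} ha y hy => by
        show autFun (a : MulAut S)⁻¹ y ∈ P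
        have := finite_of_le hPS
        have himg : img (autFun (a : MulAut S)) P = P :=
          img_eq_self_of_forall ((mapTo_of_mem_autGroup le_rfl a.2).restrict hPS) ha
        obtain ⟨u, hu, rfl⟩ :=
          ((mapTo_of_mem_autGroup le_rfl a.2).mem_img_iff hPS).mp (himg.ge hy)
        rw [autFun_inv_autFun _ (hPS hu)]; exact hu }
  suffices hN : N = ⊤ by
    have hmem : (⟨φ, hφ⟩ : F.autGroup S) ∈ N := by rw [hN]; exact Subgroup.mem_top _
    exact hmem
  have hIN : I ≤ N := by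
    intro α hα y hy
    obtain ⟨g, hg, hgα⟩ := mem_autInducedBy_iff_cj.mp hα
    rw [show autFun (α : MulAut S) y = cj g y from hgα y (hPS hy), cj_apply]
    rw [hPeq] at hy ⊢
    exact (h.abIndexP hx hxZ).conj_mem hg hy
  -- two distinct translates of `P` exhaust the elementary subgroups
  have htwo : ∀ a b : F.autGroup S, a ∉ N → b ∉ N → a * b ∈ N := by
    have himgP : ∀ a : F.autGroup S, ∃ z, autFun (a : MulAut S) x = z ∧ z ∈ S ∧ z ∉ Zs ∧ z ^ 2 = 1 ∧
        (z ∈ P → a ∈ N) := fun a => by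
      have hm := mapTo_of_mem_autGroup le_rfl a.2
      refine ⟨_, rfl, autFun_mem _ hx, fun hz => hxZ ?_, by rw [← hm.map_pow hx, hx2, hm.map_one],
        fun hzP y hy => ?_⟩
      · have := h.aut_mem_zs (Subgroup.inv_mem _ a.2) hz
        rwa [autFun_inv_autFun _ hx] at this
      · have hle : P ≤ P.comap (MonoidHom.id Ω) := le_rfl
        rw [hPeq] at hy
        have hn : Subgroup.zpowers x ≤ Subgroup.normalizer ((Zs : Subgroup Ω) : Set Ω) :=
          Subgroup.zpowers_le.mpr (Subgroup.centralizer_le_normalizer _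
            (Subgroup.mem_centralizer_iff.mpr fun z hz => (h.commute_zs hx hz).eq.symm))
        have hy' : y ∈ ((Zs ⊔ Subgroup.zpowers x : Subgroup Ω) : Set Ω) := hy
        rw [Subgroup.coe_mul_of_right_le_normalizer_left Zs _ hn] at hy'
        obtain ⟨z, hz, v, hv, rfl⟩ := hy'
        obtain ⟨i, rfl⟩ := ((isOfFinOrder_iff_pow_eq_one.mpr
          ⟨2, two_pos, hx2⟩).mem_powers_iff_mem_zpowers.mpr hv :)
        show autFun (a : MulAut S) (z * x ^ i) ∈ P
        rw [hm.map_mul (centralizerIn_le hz) (S.pow_mem hx i), hm.map_pow hx]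
        exact P.mul_mem (hZP (h.aut_mem_zs a.2 hz)) (P.pow_mem hzP i)
    obtain ⟨k, hk, hkx⟩ := h.exists_not_mem hx hxZ
    intro a b ha hb
    obtain ⟨za, hza, hzaS, hzaZ, hza2, hzaN⟩ := himgP a⁻¹
    obtain ⟨zb, hzb, hzbS, hzbZ, hzb2, hzbN⟩ := himgP b
    have hzaP : za ∉ Zs ⊔ Subgroup.zpowers x := hPeq ▸ fun hh => ha (by
      simpa using Subgroup.inv_mem _ (hzaN hh))
    have hzbP : zb ∉ Zs ⊔ Subgroup.zpowers x := hPeq ▸ fun hh => hb (hzbN hh)
    obtain ⟨zab, hzab, -, -, -, hzabN⟩ := himgP (a * b)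
    refine hzabN ?_
    -- `za = zb` modulo the centre
    have hexpZ := h.centre_exponent hF hcore
    have hsame : ∃ z ∈ Zs, zb = za * z := by
      obtain ⟨i, hi⟩ := (h.abIndexP hx hxZ).dec hzaS hzaP hzbS
      have hn : Subgroup.zpowers x ≤ Subgroup.normalizer ((Zs : Subgroup Ω) : Set Ω) :=
        Subgroup.zpowers_le.mpr (Subgroup.centralizer_le_normalizer _
          (Subgroup.mem_centralizer_iff.mpr fun z hz => (h.commute_zs hx hz).eq.symm))
      have hi' : (za ^ i)⁻¹ * zb ∈ ((Zs ⊔ Subgroup.zpowers x : Subgroup Ω) : Set Ω) := hi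
      rw [Subgroup.coe_mul_of_right_le_normalizer_left Zs _ hn] at hi'
      obtain ⟨z, hz, v, hv, he⟩ := hi'
      obtain ⟨j, rfl⟩ := ((isOfFinOrder_iff_pow_eq_one.mpr
        ⟨2, two_pos, hx2⟩).mem_powers_iff_mem_zpowers.mpr hv :)
      change z * x ^ j = (za ^ i)⁻¹ * zb at he
      have hzb' : zb = za ^ i * (z * x ^ j) := by rw [he, mul_inv_cancel_left]
      have hpm : ∀ {u : Ω}, u ^ 2 = 1 → ∀ n : ℕ, u ^ n = u ^ (n % 2) := fun hu n => by
        conv_lhs => rw [← Nat.div_add_mod n 2, pow_add, pow_mul, hu, one_pow, one_mul]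
      rw [hpm hza2 i, hpm hx2 j] at hzb'
      rcases Nat.mod_two_eq_zero_or_one i with hi0 | hi1
      · exfalso
        rw [hi0, pow_zero, one_mul] at hzb'
        exact hzbP (hzb' ▸ Subgroup.mul_mem _ (Subgroup.mem_sup_left hz)
          (Subgroup.pow_mem _ (Subgroup.mem_sup_right (Subgroup.mem_zpowers x)) _))
      rcases Nat.mod_two_eq_zero_or_one j with hj0 | hj1
      · refine ⟨z, hz, ?_⟩
        rw [hi1, hj0, pow_one, pow_zero, mul_one] at hzb'
        exact hzb'
      · exfalso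
        apply h.comm_ne_one hx hxZ hzaS hzaP
        rw [hi1, hj1, pow_one, pow_one, (h.commute_zs hx hz).symm.eq, ← mul_assoc] at hzb'
        have hcz : Commute (za * x) z := h.commute_zs (S.mul_mem hzaS hx) hz
        rw [hzb', hcz.mul_pow, hexpZ z hz, mul_one] at hzb2
        have hyi : za⁻¹ = za := inv_eq_of_mul_eq_one_right (by rw [← pow_two]; exact hza2)
        have hxi : x⁻¹ = x := inv_eq_of_mul_eq_one_right (by rw [← pow_two]; exact hx2)
        rw [commutatorElement_def, hyi, hxi, ← hzb2, pow_two]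
        simp only [mul_assoc]
    obtain ⟨z, hz, hzz⟩ := hsame
    have hm := mapTo_of_mem_autGroup le_rfl a.2
    rw [← hzab]
    show autFun ((a : MulAut S) * (b : MulAut S)) x ∈ P
    rw [autFun_mul _ _ hx, hzb, hzz, hm.map_mul hzaS (centralizerIn_le hz), ← hza]
    show autFun (a : MulAut S) (autFun (a : MulAut S)⁻¹ x) * _ ∈ P
    rw [autFun_autFun_inv _ hx]
    exact P.mul_mem hxP (hZP (h.aut_mem_zs a.2 hz))
  by_contra hNtop
  obtain ⟨a, -, ha⟩ := SetLike.exists_of_lt (lt_top_iff_ne_top.mpr hNtop)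
  have hind : N.index = 2 := by
    rw [Subgroup.index_eq_two_iff]
    refine ⟨a, fun b => ?_⟩
    by_cases hb : b ∈ N
    · refine Or.inr ⟨hb, fun hba => ha ?_⟩
      have := N.mul_mem (N.inv_mem hb) hba
      rwa [inv_mul_cancel_left] at this
    · exact Or.inl ⟨htwo b a hb ha, hb⟩
  exact hodd (hind ▸ Subgroup.index_dvd_of_le hIN)

/-- The data at one essential subgroup. -/
theorem exists_moving (hF : F.IsSaturated 2) (hcore : F.core = ⊥) {P W : Subgroup Ω}
    (hP : F.IsEssential 2 P) (hWZ : W ≤ Zs) (hW : Nat.card W = 2)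
    (hWfix : ∀ β ∈ F.autGroup P, ∀ w ∈ W, autFun β w = w) (hZ4 : Nat.card Zs = 4)
    {c : Ω} (hc : ∀ a ∈ S, ∀ b ∈ S, ⁅a, b⁆ ∈ Subgroup.zpowers c) (hcZ : c ∈ Zs) :
    ∃ d ∈ S, d ^ 2 = 1 ∧ ∀ β ∈ F.autGroup P, ∀ y ∈ P,
      y⁻¹ * autFun β y ∈ Subgroup.zpowers c ⊔ Subgroup.zpowers d := by
  obtain ⟨x, hx, hxZ, hxP, hPeq⟩ := h.essential_form hF hP
  obtain ⟨k, hk, hkx⟩ := h.exists_not_mem hx hxZ
  have hPS := hP.1.1
  have := finite_of_le hPS
  have := finite_mulAut P
  have hZP : Zs ≤ P := hPeq ▸ le_sup_left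
  have hWP : W ≤ P := hWZ.trans hZP
  have hexp := h.essential_exponent hF hcore hP
  have hab : ∀ a ∈ P, ∀ b ∈ P, Commute a b := hPeq ▸ h.sup_comm hx
  have hrad := isRadical_of_isEssential h.pgroup hP
  have hkN : k ∈ normalizerIn S P := mem_normalizerIn_of_forall hPS hk fun v hv => by
    rw [hPeq] at hv ⊢
    exact (h.abIndexP hx hxZ).conj_mem hk hv
  have hkstab : ∀ y ∈ P, y⁻¹ * (k * y * k⁻¹) ∈ Subgroup.zpowers c := fun y hy => by
    rw [show y⁻¹ * (k * y * k⁻¹) = ⁅y⁻¹, k⁆ by simp only [commutatorElement_def]; group]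
    exact hc _ (S.inv_mem (hPS hy)) k hk
  obtain ⟨γ, hγ⟩ := exists_conjAut hkN.2
  have hγF : γ ∈ F.autGroup P :=
    autInducedBy_le_autGroup hPS (mem_autInducedBy_iff_cj.mpr ⟨k, hk, hγ⟩)
  have hγZ : ∀ z ∈ Zs, autFun γ z = z := fun z hz => by
    rw [hγ z (hZP hz), cj_apply, (h.commute_zs hk hz).eq, mul_inv_cancel_right]
  have hγfix : ∀ y ∈ P, autFun γ y = y → y ∈ Zs := fun y hy hfy => by
    rw [hγ y hy, cj_apply, mul_inv_eq_iff_eq_mul] at hfy
    refine mem_centralizerIn.mpr ⟨hPS hy, fun s hs => ?_⟩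
    refine Subgroup.mem_centralizer_singleton_iff.mp
      ((h.gen hx hxZ hk hkx (T := Subgroup.centralizer ({y} : Set Ω)) ?_ ?_ ?_) hs)
    · exact fun z hz => Subgroup.mem_centralizer_singleton_iff.mpr (h.commute_zs (hPS hy) hz).eq.symm
    · exact Subgroup.mem_centralizer_singleton_iff.mpr (hab x hxP y hy).eq
    · exact Subgroup.mem_centralizer_singleton_iff.mpr hfy
  obtain ⟨α, hα, zm, hzm, hαzm⟩ : ∃ α ∈ F.autGroup P, ∃ z ∈ Zs, autFun α z ∉ Zs := by
    by_contra hno
    push Not at hno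
    refine hkx (hPeq ▸ mem_of_stabilizes_series h.pgroup hP.1 hrad hkN (n := 2) ![⊥, Zs, P]
      rfl rfl ?_ ?_ ?_)
    · intro i; fin_cases i
      · exact bot_le
      · exact hZP
      · exact le_rfl
    · intro i β hβ y hy
      fin_cases i
      · change y ∈ (⊥ : Subgroup Ω) at hy
        show autFun β y ∈ (⊥ : Subgroup Ω)
        rw [Subgroup.mem_bot] at hy ⊢
        rw [hy]; exact (mapTo_of_mem_autGroup hPS hβ).map_one
      · exact hno β hβ y hy
      · exact autFun_mem β hy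
    · intro i y hy
      fin_cases i
      · change y ∈ Zs at hy
        show y⁻¹ * (k * y * k⁻¹) ∈ (⊥ : Subgroup Ω)
        rw [(h.commute_zs hk hy).eq, mul_inv_cancel_right, inv_mul_cancel]
        exact Subgroup.one_mem _
      · exact (Subgroup.zpowers_le.mpr hcZ) (hkstab y hy)
  have hαm := mapTo_of_mem_autGroup hPS hα
  set d := autFun α c with hd
  have hdP : d ∈ P := autFun_mem α (hZP hcZ)
  refine ⟨d, hPS hdP, hexp d hdP, ?_⟩
  set M := Subgroup.zpowers c ⊔ Subgroup.zpowers d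
  have hMP : M ≤ P := sup_le (Subgroup.zpowers_le.mpr (hZP hcZ)) (Subgroup.zpowers_le.mpr hdP)
  set s := α * γ * α⁻¹ with hsdef
  have hsF : s ∈ F.autGroup P :=
    Subgroup.mul_mem _ (Subgroup.mul_mem _ hα hγF) (Subgroup.inv_mem _ hα)
  let G₀ : Subgroup (F.autGroup P) :=
    { carrier := {β | ∀ y ∈ P, y⁻¹ * autFun (β : MulAut P) y ∈ M}
      one_mem' := fun y hy => by
        show y⁻¹ * autFun (1 : MulAut P) y ∈ M
        rw [autFun_one hy, inv_mul_cancel]; exact M.one_mem
      mul_mem' := fun {a b} ha hb y hy => by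
        show y⁻¹ * autFun ((a : MulAut P) * (b : MulAut P)) y ∈ M
        rw [autFun_mul _ _ hy, show y⁻¹ * autFun (a : MulAut P) (autFun (b : MulAut P) y) =
          (y⁻¹ * autFun (b : MulAut P) y) * ((autFun (b : MulAut P) y)⁻¹ *
            autFun (a : MulAut P) (autFun (b : MulAut P) y)) by group]
        exact M.mul_mem (hb y hy) (ha _ (autFun_mem _ hy))
      inv_mem' := fun {a} ha y hy => by
        show y⁻¹ * autFun (a : MulAut P)⁻¹ y ∈ M
        have := M.inv_mem (ha _ (autFun_mem (a : MulAut P)⁻¹ hy))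
        rwa [autFun_autFun_inv _ hy, mul_inv_rev, inv_inv] at this }
  suffices hG : G₀ = ⊤ by
    intro β hβ y hy
    have hmem : (⟨β, hβ⟩ : F.autGroup P) ∈ G₀ := by rw [hG]; exact Subgroup.mem_top _
    exact hmem y hy
  have hγG : (⟨γ, hγF⟩ : F.autGroup P) ∈ G₀ := fun y hy => by
    show y⁻¹ * autFun γ y ∈ M
    rw [hγ y hy, cj_apply]
    exact Subgroup.mem_sup_left (hkstab y hy)
  have hsG : (⟨s, hsF⟩ : F.autGroup P) ∈ G₀ := fun y hy => by
    show y⁻¹ * autFun s y ∈ M
    have hy' := autFun_mem α⁻¹ hy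
    have h1 := hkstab _ hy'
    rw [← cj_apply k, ← hγ _ hy'] at h1
    obtain ⟨i, hi⟩ := ((isOfFinOrder_iff_pow_eq_one.mpr
      ⟨2, two_pos, hexp c (hZP hcZ)⟩).mem_powers_iff_mem_zpowers.mpr h1 :)
    have hb : autFun γ (autFun α⁻¹ y) = autFun α⁻¹ y * c ^ i := by
      rw [show c ^ i = (autFun α⁻¹ y)⁻¹ * autFun γ (autFun α⁻¹ y) from hi, mul_inv_cancel_left]
    rw [hsdef, autFun_mul _ _ hy, autFun_mul _ _ hy', hb,
      hαm.map_mul hy' (P.pow_mem (hZP hcZ) i), autFun_autFun_inv α hy, inv_mul_cancel_left,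
      hαm.map_pow (hZP hcZ)]
    exact Subgroup.pow_mem _ (Subgroup.mem_sup_right (Subgroup.mem_zpowers d)) i
  have hγ1 : γ ≠ 1 := fun he => hxZ (hγfix x hxP (by rw [he, autFun_one hxP]))
  have hs1 : s ≠ 1 := by rwa [hsdef, Ne, conj_eq_one_iff]
  have hsγ : s ≠ γ := fun he => hαzm (hγfix _ (autFun_mem α (hZP hzm)) (by
    rw [← he, hsdef, autFun_mul _ _ (autFun_mem α (hZP hzm)),
      autFun_inv_autFun _ (hZP hzm), autFun_mul _ _ (hZP hzm), hγZ zm hzm]))
  -- the automizer has order at most `9` and is not divisible by `4`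
  let WP : Subgroup P := W.subgroupOf P
  have hidx : Nat.card (P ⧸ WP) = 4 := by
    show WP.index = 4
    have h1 := card_mul_relIndex hWP
    rw [hW, hPeq, h.card_sup hx hxZ, hZ4, ← hPeq] at h1
    show W.relIndex P = 4
    omega
  have hker : ∀ β ∈ F.autGroup P, c⁻¹ * autFun β c ∈ W → x⁻¹ * autFun β x ∈ W → β = 1 := by
    intro β hβ hβc hβx
    let K : Subgroup (F.autGroup P) :=
      { carrier := {a | ∀ y ∈ P, y⁻¹ * autFun (a : MulAut P) y ∈ W}
        one_mem' := fun y hy => by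
          show y⁻¹ * autFun (1 : MulAut P) y ∈ W
          rw [autFun_one hy, inv_mul_cancel]; exact W.one_mem
        mul_mem' := fun {a b} ha hb y hy => by
          show y⁻¹ * autFun ((a : MulAut P) * (b : MulAut P)) y ∈ W
          rw [autFun_mul _ _ hy, show y⁻¹ * autFun (a : MulAut P) (autFun (b : MulAut P) y) =
            (y⁻¹ * autFun (b : MulAut P) y) * ((autFun (b : MulAut P) y)⁻¹ *
              autFun (a : MulAut P) (autFun (b : MulAut P) y)) by group]
          exact W.mul_mem (hb y hy) (ha _ (autFun_mem _ hy))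
        inv_mem' := fun {a} ha y hy => by
          show y⁻¹ * autFun (a : MulAut P)⁻¹ y ∈ W
          have := W.inv_mem (ha _ (autFun_mem (a : MulAut P)⁻¹ hy))
          rwa [autFun_autFun_inv _ hy, mul_inv_rev, inv_inv] at this }
    have hKn : K.Normal := ⟨fun a ha g y hy => by
      show y⁻¹ * autFun ((g : MulAut P) * (a : MulAut P) * (g : MulAut P)⁻¹) y ∈ W
      have hy' := autFun_mem (g : MulAut P)⁻¹ hy
      rw [autFun_mul _ _ hy, autFun_mul _ _ hy']
      have h1 := ha _ hy'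
      set y' := autFun (g : MulAut P)⁻¹ y with hy'def
      have hm := mapTo_of_mem_autGroup hPS g.2
      have h2 := hWfix _ g.2 _ h1
      rw [hm.map_mul (P.inv_mem hy') (autFun_mem _ hy'), hm.map_inv hy', hy'def,
        autFun_autFun_inv _ hy] at h2
      rw [h2]
      exact h1⟩
    have hKp : IsPGroup 2 K := by
      refine IsPGroup.of_equiv ?_ (Subgroup.equivMapOfInjective K _ (F.autGroup P).subtype_injective).symm
      refine isPGroup_stabilizer_series (h.pgroup.to_le hPS) (n := 2) ![⊥, W, P] rfl rfl ?_ _ ?_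
      · intro i; fin_cases i
        · exact bot_le
        · exact hWP
        · exact le_rfl
      · rintro _ ⟨a, ha, rfl⟩ i y hy
        fin_cases i
        · change y ∈ W at hy
          show y⁻¹ * autFun (a : MulAut P) y ∈ (⊥ : Subgroup Ω)
          rw [hWfix _ a.2 y hy, inv_mul_cancel]; exact Subgroup.one_mem _
        · exact ha y hy
    have hmem : (⟨β, hβ⟩ : F.autGroup P) ∈ K := by
      intro y hy
      let T : Subgroup Ω :=
        { carrier := {y | y ∈ P ∧ y⁻¹ * autFun β y ∈ W}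
          one_mem' := ⟨P.one_mem, by
            rw [(mapTo_of_mem_autGroup hPS hβ).map_one, inv_mul_cancel]; exact W.one_mem⟩
          mul_mem' := by
            rintro a b ⟨ha, ha'⟩ ⟨hb, hb'⟩
            refine ⟨P.mul_mem ha hb, ?_⟩
            rw [(mapTo_of_mem_autGroup hPS hβ).map_mul ha hb,
              show (a * b)⁻¹ * (autFun β a * autFun β b) =
                b⁻¹ * (a⁻¹ * autFun β a) * autFun β b by group,
              (hab _ (P.inv_mem hb) _ (hWP ha')).eq, mul_assoc]
            exact W.mul_mem ha' hb'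
          inv_mem' := by
            rintro a ⟨ha, ha'⟩
            refine ⟨P.inv_mem ha, ?_⟩
            rw [(mapTo_of_mem_autGroup hPS hβ).map_inv ha,
              (hab _ (P.inv_mem (P.inv_mem ha)) _ (P.inv_mem (autFun_mem β ha))).eq]
            have := W.inv_mem ha'
            rwa [mul_inv_rev] at this }
      show y⁻¹ * autFun β y ∈ W
      have hZT : Zs ≤ T := by
        have hWT : W ≤ T := fun w hw => ⟨hWP hw, by
          rw [hWfix β hβ w hw, inv_mul_cancel]; exact W.one_mem⟩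
        have hcT : c ∈ T := ⟨hZP hcZ, hβc⟩
        by_cases hcW : c ∈ W
        · -- `γ` would stabilize the series of `W`
          exfalso
          refine hkx (hPeq ▸ mem_of_stabilizes_series h.pgroup hP.1 hrad hkN (n := 2) ![⊥, W, P]
            rfl rfl ?_ ?_ ?_)
          · intro i; fin_cases i
            · exact bot_le
            · exact hWP
            · exact le_rfl
          · intro i α hα y hy
            fin_cases i
            · change y ∈ (⊥ : Subgroup Ω) at hy
              show autFun α y ∈ (⊥ : Subgroup Ω)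
              rw [Subgroup.mem_bot] at hy ⊢
              rw [hy]; exact (mapTo_of_mem_autGroup hPS hα).map_one
            · change y ∈ W at hy
              show autFun α y ∈ W
              rw [hWfix α hα y hy]; exact hy
            · exact autFun_mem α hy
          · intro i y hy
            fin_cases i
            · change y ∈ W at hy
              show y⁻¹ * (k * y * k⁻¹) ∈ (⊥ : Subgroup Ω)
              rw [(h.commute_zs hk (hWZ hy)).eq, mul_inv_cancel_right, inv_mul_cancel]
              exact Subgroup.one_mem _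
            · exact (Subgroup.zpowers_le.mpr hcW) (hkstab y hy)
        · have hle : W ⊔ Subgroup.zpowers c ≤ Zs := sup_le hWZ (Subgroup.zpowers_le.mpr hcZ)
          have := finite_of_le (hle.trans centralizerIn_le)
          have := finite_of_le (centralizerIn_le : Zs ≤ S)
          have hlt : W < W ⊔ Subgroup.zpowers c := lt_of_le_of_ne le_sup_left fun he =>
            hcW (he.ge (Subgroup.mem_sup_right (Subgroup.mem_zpowers c)))
          have h2 := card_mul_le_of_lt (p := 2) (h.pgroup.to_le (hle.trans centralizerIn_le)) hlt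
          rw [hW] at h2
          exact (Subgroup.eq_of_le_of_card_ge hle (by omega)).ge.trans
            (sup_le hWT (Subgroup.zpowers_le.mpr hcT))
      exact ((hPeq ▸ sup_le hZT (Subgroup.zpowers_le.mpr ⟨hxP, hβx⟩) : P ≤ T) hy).2
    have hinn := mem_inn_of_normal_pGroup h.pgroup hP hKn hKp hmem
    obtain ⟨u, hu⟩ := hinn
    rw [← (show MulAut.conj u = β from hu)]
    refine MulEquiv.ext fun v => Subtype.ext ?_
    show (u : Ω) * v * (u : Ω)⁻¹ = v
    rw [(hab u u.2 v v.2).eq, mul_inv_cancel_right]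
  have hcard9 : Nat.card (F.autGroup P) ≤ 9 := by
    classical
    have : Finite (P ⧸ WP) := inferInstance
    let X := {q : P ⧸ WP // q ≠ QuotientGroup.mk (1 : P)}
    have hX : Nat.card X = 3 := by
      have h1 : Nat.card {q : P ⧸ WP // q = QuotientGroup.mk (1 : P)} = 1 := by simp
      have h2 := Nat.card_congr (Equiv.sumCompl (fun q : P ⧸ WP => q = QuotientGroup.mk (1 : P)))
      rw [Nat.card_sum, h1, hidx] at h2
      change Nat.card X = 3
      show Nat.card {q : P ⧸ WP // ¬ q = QuotientGroup.mk (1 : P)} = 3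
      omega
    have hW1 : ∀ y : P, (y : Ω) ∉ W → (QuotientGroup.mk y : P ⧸ WP) ≠ QuotientGroup.mk (1 : P) := by
      intro y hy he
      rw [QuotientGroup.eq, Subgroup.mem_subgroupOf] at he
      exact hy (by simpa using W.inv_mem he)
    have hcW : c ∉ W := fun hcW => by
      refine hkx (hPeq ▸ mem_of_stabilizes_series h.pgroup hP.1 hrad hkN (n := 2) ![⊥, W, P]
        rfl rfl ?_ ?_ ?_)
      · intro i; fin_cases i
        · exact bot_le
        · exact hWP
        · exact le_rfl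
      · intro i α hα y hy
        fin_cases i
        · change y ∈ (⊥ : Subgroup Ω) at hy
          show autFun α y ∈ (⊥ : Subgroup Ω)
          rw [Subgroup.mem_bot] at hy ⊢
          rw [hy]; exact (mapTo_of_mem_autGroup hPS hα).map_one
        · change y ∈ W at hy
          show autFun α y ∈ W
          rw [hWfix α hα y hy]; exact hy
        · exact autFun_mem α hy
      · intro i y hy
        fin_cases i
        · change y ∈ W at hy
          show y⁻¹ * (k * y * k⁻¹) ∈ (⊥ : Subgroup Ω)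
          rw [(h.commute_zs hk (hWZ hy)).eq, mul_inv_cancel_right, inv_mul_cancel]
          exact Subgroup.one_mem _
        · exact (Subgroup.zpowers_le.mpr hcW) (hkstab y hy)
    have hnot : ∀ (β : F.autGroup P) {y : Ω}, y ∈ P → y ∉ W → autFun (β : MulAut P) y ∉ W := by
      intro β y hy hyW hh
      apply hyW
      have := hWfix _ (Subgroup.inv_mem _ β.2) _ hh
      rw [autFun_inv_autFun _ hy] at this
      exact this ▸ hh
    have hxW : x ∉ W := fun hh => hxZ (hWZ hh)
    let f : F.autGroup P → X × X := fun β =>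
      (⟨QuotientGroup.mk ⟨autFun (β : MulAut P) c, autFun_mem _ (hZP hcZ)⟩,
          hW1 _ (hnot β (hZP hcZ) hcW)⟩,
        ⟨QuotientGroup.mk ⟨autFun (β : MulAut P) x, autFun_mem _ hxP⟩, hW1 _ (hnot β hxP hxW)⟩)
    have hf : Function.Injective f := by
      intro a b hab'
      have h1 := congrArg (fun q => q.1.1) hab'
      have h2 := congrArg (fun q => q.2.1) hab'
      simp only [f, QuotientGroup.eq, WP, Subgroup.mem_subgroupOf, Subgroup.coe_mul,
        InvMemClass.coe_inv] at h1 h2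
      have hmi := mapTo_of_mem_autGroup hPS (Subgroup.inv_mem _ a.2)
      have key : ∀ y ∈ P, (autFun (a : MulAut P) y)⁻¹ * autFun (b : MulAut P) y ∈ W →
          y⁻¹ * autFun ((a : MulAut P)⁻¹ * (b : MulAut P)) y ∈ W := by
        intro y hy hh
        have h3 := hWfix _ (Subgroup.inv_mem _ a.2) _ hh
        rw [hmi.map_mul (P.inv_mem (autFun_mem _ hy)) (autFun_mem _ hy),
          hmi.map_inv (autFun_mem _ hy), autFun_inv_autFun _ hy] at h3
        rw [autFun_mul _ _ hy, h3]
        exact hh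
      exact Subtype.ext (eq_of_inv_mul_eq_one (hker _
        (Subgroup.mul_mem _ (Subgroup.inv_mem _ a.2) b.2) (key c (hZP hcZ) h1) (key x hxP h2)))
    have h3 := Nat.card_le_card_of_injective f hf
    rwa [Nat.card_prod, hX] at h3
  have hnd4 : ¬ 4 ∣ Nat.card (F.autGroup P) := by
    intro h4
    obtain ⟨hle, hodd⟩ := (isFullyAutomized_iff h.pgroup).mp
      (isFullyAutomized_of_isFullyNormalized h.pgroup hF hP.2.1)
    have hI : Nat.card (autInducedBy S P) ≤ 2 := by
      have hsub : ∀ a ∈ autInducedBy S P, a = 1 ∨ a = γ := by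
        intro a ha
        obtain ⟨g, hg, hga⟩ := mem_autInducedBy_iff_cj.mp ha
        obtain ⟨i, hi⟩ := (h.abIndexP hx hxZ).dec hk hkx hg
        rw [← hPeq] at hi
        set w := (k ^ i)⁻¹ * g with hw
        have hge : g = k ^ i * w := by rw [hw, mul_inv_cancel_left]
        have hk2 : k ^ 2 ∈ P := hZP (h.pow_mem k hk)
        have hki : ∀ v ∈ P, k ^ i * v * (k ^ i)⁻¹ = k ^ (i % 2) * v * (k ^ (i % 2))⁻¹ := by
          intro v hv
          have hkk : k ^ i = k ^ (i % 2) * (k ^ 2) ^ (i / 2) := by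
            rw [← pow_mul, ← pow_add, Nat.mod_add_div]
          rw [hkk, show k ^ (i % 2) * (k ^ 2) ^ (i / 2) * v *
            (k ^ (i % 2) * (k ^ 2) ^ (i / 2))⁻¹ = k ^ (i % 2) *
              ((k ^ 2) ^ (i / 2) * v * ((k ^ 2) ^ (i / 2))⁻¹) * (k ^ (i % 2))⁻¹ by group,
            (hab _ (P.pow_mem hk2 _) v hv).eq, mul_inv_cancel_right]
        have hgv : ∀ v ∈ P, cj g v = k ^ (i % 2) * v * (k ^ (i % 2))⁻¹ := fun v hv => by
          rw [cj_apply, hge, show k ^ i * w * v * (k ^ i * w)⁻¹ =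
            k ^ i * (w * v * w⁻¹) * (k ^ i)⁻¹ by group, (hab w hi v hv).eq, mul_inv_cancel_right,
            hki v hv]
        rcases Nat.mod_two_eq_zero_or_one i with h0 | h0
        · exact Or.inl (autFun_ext fun v hv => by
            rw [hga v hv, hgv v hv, h0, autFun_one hv]; simp)
        · exact Or.inr (autFun_ext fun v hv => by
            rw [hga v hv, hgv v hv, h0, hγ v hv, cj_apply, pow_one])
      let e : Fin 2 → MulAut P := ![1, γ]
      have hsurj : ∀ a : autInducedBy S P, ∃ i, e i = a := fun a => by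
        rcases hsub a a.2 with ha | ha
        · exact ⟨0, ha.symm⟩
        · exact ⟨1, ha.symm⟩
      choose g hg using hsurj
      have h3 := Nat.card_le_card_of_injective g fun a b hab' =>
        Subtype.ext (by rw [← hg a, ← hg b, hab'])
      rwa [Nat.card_fin] at h3
    have h1 := card_mul_relIndex (autInducedBy_le_autGroup (F := F) hPS)
    have hIpos : 0 < Nat.card (autInducedBy S P) := Nat.card_pos
    have hI' : Nat.card (autInducedBy S P) = 1 ∨ Nat.card (autInducedBy S P) = 2 := by omega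
    apply hodd
    rcases hI' with h' | h' <;> rw [h'] at h1 <;> omega
  -- so the two involutions generate it
  have hG2 : 3 ≤ Nat.card G₀ := by
    let e : Fin 3 → G₀ := ![1, ⟨_, hγG⟩, ⟨_, hsG⟩]
    have he : Function.Injective e := by
      intro i j hij
      have := congrArg (fun q : G₀ => ((q : F.autGroup P) : MulAut P)) hij
      fin_cases i <;> fin_cases j <;> first
        | rfl
        | exact absurd this.symm hγ1
        | exact absurd this hγ1
        | exact absurd this.symm hs1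
        | exact absurd this hs1
        | exact absurd this.symm hsγ
        | exact absurd this hsγ
    have h3 := Nat.card_le_card_of_injective e he
    rwa [Nat.card_fin] at h3
  have heven : 2 ∣ Nat.card G₀ := by
    have ho : orderOf γ = 2 := orderOf_eq_prime (autFun_ext fun v hv => by
      rw [pow_two, autFun_mul _ _ hv, autFun_one hv, hγ v hv, cj_apply,
        hγ _ (conj_mem_of_mem_normalizerIn hkN hv), cj_apply, show k * (k * v * k⁻¹) * k⁻¹ = k ^ 2 * v * (k ^ 2)⁻¹ by
          rw [pow_two, mul_inv_rev]; simp only [mul_assoc],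
        (hab _ (hZP (h.pow_mem k hk)) v hv).eq, mul_inv_cancel_right]) hγ1
    have h2 := orderOf_dvd_natCard (⟨_, hγG⟩ : G₀)
    rwa [show orderOf (⟨(⟨γ, hγF⟩ : F.autGroup P), hγG⟩ : G₀) = 2 by
      rw [Subgroup.orderOf_mk, Subgroup.orderOf_mk, ho]] at h2
  refine Subgroup.eq_top_of_card_eq G₀ ?_
  have hdvd := Subgroup.card_subgroup_dvd_card G₀
  have hpos : 0 < Nat.card (F.autGroup P) := Nat.card_pos
  obtain ⟨q, hq⟩ := hdvd
  rw [hq] at hcard9 hnd4 hpos ⊢
  obtain ⟨m, hm⟩ := heven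
  rw [hm] at hcard9 hnd4 hpos hG2 ⊢
  have hm2 : 2 ≤ m := by omega
  have hmq : m * q ≤ 4 := by nlinarith
  have hq1 : 1 ≤ q := Nat.pos_of_mul_pos_left hpos
  have hq2 : q ≤ 2 := by nlinarith
  have hm4 : m ≤ 4 := by nlinarith
  interval_cases q <;> interval_cases m <;> omega

theorem card_centre_of_two (hF : F.IsSaturated 2) (hcore : F.core = ⊥)
    (hhyp : F.hyperfocalSubgroup 2 = S) : Nat.card Zs = 2 := by
  obtain ⟨P, hP⟩ := h.exists_essential hF hcore
  obtain ⟨x, hx, hxZ, hxP, hPeq⟩ := h.essential_form hF hP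
  obtain ⟨k, hk, hkx⟩ := h.exists_not_mem hx hxZ
  obtain ⟨W, hWZ, hsplit, hcW, hWinv, -⟩ := h.split hF hP hx hxZ hxP hPeq hk hkx
  set c := ⁅k, x⁆ with hcdef
  have hcZ : c ∈ Zs := h.comm_mem k hk x hx
  have hc2 : c ^ 2 = 1 := h.comm_pow_p hk hx
  have hc1 : c ≠ 1 := h.comm_ne_one hx hxZ hk hkx
  have hcall : ∀ a ∈ S, ∀ b ∈ S, ⁅a, b⁆ ∈ Subgroup.zpowers c := fun a ha b hb =>
    h.comm_mem_zpowers hx hxZ hk hkx ha hb
  have hZS : Zs ≤ S := centralizerIn_le
  have := finite_of_le hZS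
  have hcardc : Nat.card (Subgroup.zpowers c) = 2 := by
    rw [Nat.card_zpowers]; exact orderOf_eq_prime hc2 hc1
  -- `W` is invariant under the automizer of `S`
  have hWS : ∀ {Q W' : Subgroup Ω}, F.IsEssential 2 Q → W' ≤ Zs →
      (∀ β ∈ F.autGroup Q, ∀ w ∈ W', autFun β w ∈ W') →
      ∀ φ ∈ F.autGroup S, ∀ w ∈ W', autFun φ w ∈ W' := by
    intro Q W' hQ hW' hinv φ hφ w hw
    obtain ⟨y, -, -, -, hQeq⟩ := h.essential_form hF hQ
    have hW'Q : W' ≤ Q := hW'.trans (hQeq ▸ le_sup_left)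
    have hQS := hQ.1.1
    have := finite_of_le hQS
    have hm := (mapTo_of_mem_autGroup le_rfl hφ).restrict hQS
    have himg : img (autFun φ) Q = Q :=
      img_eq_self_of_forall hm (h.aut_fix_essential hF hcore hQ hφ)
    have := hinv _ (autOf_mem hm himg) w hw
    rwa [autFun_autOf hm himg (hW'Q hw)] at this
  have hsplitcard : ∀ {W' : Subgroup Ω}, Zs = W' ⊔ Subgroup.zpowers c → W' ≤ Zs → c ∉ W' →
      Nat.card Zs = 2 * Nat.card W' := by
    intro W' hs hW' hcW'
    have hdisj : W' ⊓ Subgroup.zpowers c = ⊥ := by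
      rw [eq_bot_iff]
      rintro v ⟨hv, hv'⟩
      obtain ⟨i, rfl⟩ := ((isOfFinOrder_iff_pow_eq_one.mpr
        ⟨2, two_pos, hc2⟩).mem_powers_iff_mem_zpowers.mpr hv' :)
      rw [Subgroup.mem_bot]
      show c ^ i = 1
      rcases Nat.even_or_odd' i with ⟨m, rfl | rfl⟩
      · rw [pow_mul, hc2, one_pow]
      · exfalso
        apply hcW'
        have hv'' : c ^ (2 * m + 1) ∈ W' := hv
        rwa [pow_add, pow_mul, hc2, one_pow, one_mul, pow_one] at hv''
    have := finite_of_le (hW'.trans hZS)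
    refine le_antisymm ?_ (card_mul_le_of_lt (h.pgroup.to_le hZS) (lt_of_le_of_ne hW' fun he =>
      hcW' (he ▸ hcZ)))
    have hn : Subgroup.zpowers c ≤ Subgroup.normalizer (W' : Set Ω) :=
      Subgroup.zpowers_le.mpr (Subgroup.centralizer_le_normalizer _
        (Subgroup.mem_centralizer_iff.mpr fun w hw => (h.commute_zs (hZS hcZ) (hW' hw)).eq.symm))
    have : Finite (Subgroup.zpowers c) := finite_of_le (Subgroup.zpowers_le.mpr (hZS hcZ))
    have hs' := hs
    rw [← hcardc, mul_comm, ← Nat.card_prod]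
    refine Nat.card_le_card_of_surjective (fun t : W' × Subgroup.zpowers c =>
      (⟨(t.1 : Ω) * t.2, mul_mem (hW' t.1.2) (Subgroup.zpowers_le.mpr hcZ t.2.2)⟩ : Zs)) ?_
    rintro ⟨a, ha⟩
    have ha' : a ∈ ((W' ⊔ Subgroup.zpowers c : Subgroup Ω) : Set Ω) := hs'.le ha
    rw [Subgroup.coe_mul_of_right_le_normalizer_left W' _ hn] at ha'
    obtain ⟨w, hw, v, hv, he⟩ := ha'
    exact ⟨(⟨w, hw⟩, ⟨v, hv⟩), Subtype.ext he⟩
  -- the morphisms between parts of the centre come from `S`
  have hext : ∀ {Q W' : Subgroup Ω}, F.IsEssential 2 Q → W' ≤ Zs →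
      (∀ β ∈ F.autGroup Q, ∀ w ∈ W', autFun β w ∈ W') → ∀ β ∈ F.autGroup Q,
      ∃ φ ∈ F.autGroup S, ∀ w ∈ W', autFun φ w = autFun β w := by
    intro Q W' hQ hW' hinv β hβ
    obtain ⟨y, -, -, -, hQeq⟩ := h.essential_form hF hQ
    have := finite_of_le (hW'.trans hZS)
    have hm := (mapTo_of_mem_autGroup hQ.1.1 hβ).restrict (hW'.trans (hQeq ▸ le_sup_left))
    exact h.exists_aut_of_central hF hW' hm (img_eq_self_of_forall hm (hinv β hβ))
  by_cases hall : ∀ Q, F.IsEssential 2 Q → Q = P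
  · have hn : F.IsNormal W := isNormal_of_forall_essential h.pgroup hF fun Q hQ => by
      rcases hQ with rfl | hQ
      · exact ⟨hWZ.trans hZS, hWS hP hWZ hWinv⟩
      · obtain rfl := hall Q hQ
        exact ⟨hWZ.trans (hPeq ▸ le_sup_left), hWinv⟩
    rw [hsplitcard hsplit hWZ hcW, le_bot_iff.mp (hcore ▸ le_core hn : W ≤ ⊥), Subgroup.card_bot]
  push Not at hall
  obtain ⟨Q, hQ, hQP⟩ := hall
  obtain ⟨y, hy, hyZ, hyQ, hQeq⟩ := h.essential_form hF hQ
  obtain ⟨l, hl, hly⟩ := h.exists_not_mem hy hyZ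
  obtain ⟨W', hW'Z, hsplit', hcW', hW'inv, -⟩ := h.split hF hQ hy hyZ hyQ hQeq hl hly
  have hcc : ⁅l, y⁆ = c := by
    obtain ⟨i, hi⟩ := ((isOfFinOrder_iff_pow_eq_one.mpr
      ⟨2, two_pos, hc2⟩).mem_powers_iff_mem_zpowers.mpr (hcall l hl y hy) :)
    change c ^ i = ⁅l, y⁆ at hi
    rcases Nat.even_or_odd' i with ⟨m, rfl | rfl⟩
    · rw [pow_mul, hc2, one_pow] at hi
      exact absurd hi.symm (h.comm_ne_one hy hyZ hl hly)
    · rw [pow_add, pow_mul, hc2, one_pow, one_mul, pow_one] at hi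
      exact hi.symm
  rw [hcc] at hsplit' hcW'
  have hU : W ⊓ W' = ⊥ := by
    refine le_bot_iff.mp (hcore ▸ le_core (isNormal_of_forall_essential h.pgroup hF fun R hR => ?_))
    rcases hR with rfl | hR
    · exact ⟨inf_le_left.trans (hWZ.trans hZS), fun φ hφ w hw =>
        ⟨hWS hP hWZ hWinv φ hφ w hw.1, hWS hQ hW'Z hW'inv φ hφ w hw.2⟩⟩
    · rcases h.essential_le_two hF hcore hP hQ hR (Ne.symm hQP) with rfl | rfl
      · refine ⟨inf_le_left.trans (hWZ.trans (hPeq ▸ le_sup_left)), fun β hβ w hw =>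
          ⟨hWinv β hβ w hw.1, ?_⟩⟩
        obtain ⟨φ, hφ, he⟩ := hext hP hWZ hWinv β hβ
        rw [← he w hw.1]
        exact hWS hQ hW'Z hW'inv φ hφ w hw.2
      · refine ⟨inf_le_right.trans (hW'Z.trans (hQeq ▸ le_sup_left)), fun β hβ w hw =>
          ⟨?_, hW'inv β hβ w hw.2⟩⟩
        obtain ⟨φ, hφ, he⟩ := hext hQ hW'Z hW'inv β hβ
        rw [← he w hw.2]
        exact hWS hP hWZ hWinv φ hφ w hw.1
  have := finite_of_le (hWZ.trans hZS)
  have hW2 : Nat.card W ≤ 2 := by
    have h1 := card_mul_relIndex (inf_le_left : W ⊓ W' ≤ W)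
    rw [inf_comm, Subgroup.inf_relIndex_right, inf_comm, hU, Subgroup.card_bot, one_mul] at h1
    rw [← h1]
    have h2 := card_mul_relIndex hW'Z
    rw [hsplitcard hsplit' hW'Z hcW', mul_comm 2] at h2
    have := finite_of_le (hW'Z.trans hZS)
    have hr : W'.relIndex Zs = 2 := Nat.eq_of_mul_eq_mul_left Nat.card_pos h2
    refine (Subgroup.relIndex_le_of_le_right hWZ ?_).trans hr.le
    omega
  have hWpos : 0 < Nat.card W := Nat.card_pos
  have hZW := hsplitcard hsplit hWZ hcW
  rcases (show Nat.card W = 1 ∨ Nat.card W = 2 by omega) with h1 | h1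
  · omega
  exfalso
  have hZ4 : Nat.card Zs = 4 := by omega
  have hW'2 : Nat.card W' = 2 := by
    have := hsplitcard hsplit' hW'Z hcW'
    omega
  -- `W` and `W'` are fixed
  have hfix2 : ∀ {V : Subgroup Ω}, Nat.card V = 2 → ∀ {R : Subgroup Ω}, R ≤ S → V ≤ R →
      ∀ φ ∈ F.autGroup R, (∀ w ∈ V, autFun φ w ∈ V) → ∀ w ∈ V, autFun φ w = w := by
    intro V hV R hRS hVR φ hφ hinv w hw
    by_cases hw1 : w = 1
    · rw [hw1]; exact (mapTo_of_mem_autGroup hRS hφ).map_one
    have hm := mapTo_of_mem_autGroup hRS hφ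
    have hne : autFun φ w ≠ 1 := fun he => hw1 (hm.inj (hVR hw) R.one_mem (he.trans hm.map_one.symm))
    obtain ⟨v, -, huniq⟩ := Nat.card_eq_two_iff' (1 : V) |>.mp hV
    have e1 := huniq ⟨autFun φ w, hinv w hw⟩ (fun he => hne (congrArg Subtype.val he))
    have e2 := huniq ⟨w, hw⟩ (fun he => hw1 (congrArg Subtype.val he))
    exact congrArg Subtype.val (e1.trans e2.symm)
  have hWP' : W ≤ P := hWZ.trans (hPeq ▸ le_sup_left)
  have hW'Q : W' ≤ Q := hW'Z.trans (hQeq ▸ le_sup_left)
  obtain ⟨d, hdS, hd2, hd⟩ := h.exists_moving hF hcore hP hWZ h1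
    (fun β hβ => hfix2 h1 hP.1.1 hWP' β hβ (hWinv β hβ)) hZ4 hcall hcZ
  obtain ⟨d', hd'S, hd'2, hd'⟩ := h.exists_moving hF hcore hQ hW'Z hW'2
    (fun β hβ => hfix2 hW'2 hQ.1.1 hW'Q β hβ (hW'inv β hβ)) hZ4 hcall hcZ
  have hSfixW : ∀ α ∈ F.autGroup S, ∀ w ∈ W, autFun α w = w := fun α hα =>
    hfix2 h1 le_rfl (hWZ.trans hZS) α hα (hWS hP hWZ hWinv α hα)
  have hZfix : ∀ α ∈ F.autGroup S, ∀ z ∈ Zs, autFun α z = z := by
    intro α hα z hz
    have hm := mapTo_of_mem_autGroup le_rfl hα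
    have hcfix : autFun α c = c := by
      obtain ⟨i, hi⟩ := ((isOfFinOrder_iff_pow_eq_one.mpr
        ⟨2, two_pos, hc2⟩).mem_powers_iff_mem_zpowers.mpr (h.aut_comm_mem hx hxZ hk hkx hα) :)
      change c ^ i = autFun α c at hi
      rcases Nat.even_or_odd' i with ⟨m, rfl | rfl⟩
      · rw [pow_mul, hc2, one_pow] at hi
        exact absurd (hm.inj (hZS hcZ) S.one_mem (hi.symm.trans hm.map_one.symm)) hc1
      · rw [pow_add, pow_mul, hc2, one_pow, one_mul, pow_one] at hi
        exact hi.symm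
    let T : Subgroup Ω :=
      { carrier := {z | z ∈ S ∧ autFun α z = z}
        one_mem' := ⟨S.one_mem, hm.map_one⟩
        mul_mem' := fun ha hb => ⟨S.mul_mem ha.1 hb.1, by rw [hm.map_mul ha.1 hb.1, ha.2, hb.2]⟩
        inv_mem' := fun ha => ⟨S.inv_mem ha.1, by rw [hm.map_inv ha.1, ha.2]⟩ }
    exact ((sup_le (fun w hw => ⟨hZS (hWZ hw), hSfixW α hα w hw⟩)
      (Subgroup.zpowers_le.mpr ⟨hZS hcZ, hcfix⟩) : W ⊔ Subgroup.zpowers c ≤ T) (hsplit.le hz)).2
  have hyx : y ∉ Zs ⊔ Subgroup.zpowers x := fun hm => hQP (by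
    have := finite_of_le (h.abIndexP hx hxZ).le
    rw [hPeq, hQeq]
    exact Subgroup.eq_of_le_of_card_ge (sup_le le_sup_left (Subgroup.zpowers_le.mpr hm))
      (by rw [h.card_sup hy hyZ, h.card_sup hx hxZ]))
  have hmod : ∀ α ∈ F.autGroup S, ∀ s ∈ S, s⁻¹ * autFun α s ∈ Zs := by
    intro α hα
    have hm := mapTo_of_mem_autGroup le_rfl hα
    let T : Subgroup Ω :=
      { carrier := {z | z ∈ S ∧ z⁻¹ * autFun α z ∈ Zs}
        one_mem' := ⟨S.one_mem, by rw [hm.map_one, inv_mul_cancel]; exact Subgroup.one_mem _⟩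
        mul_mem' := fun {a b} ha hb => ⟨S.mul_mem ha.1 hb.1, by
          rw [hm.map_mul ha.1 hb.1, show (a * b)⁻¹ * (autFun α a * autFun α b) =
            b⁻¹ * (a⁻¹ * autFun α a) * autFun α b by group,
            (h.commute_zs (S.inv_mem hb.1) ha.2).eq, mul_assoc]
          exact Subgroup.mul_mem _ ha.2 hb.2⟩
        inv_mem' := fun {a} ha => ⟨S.inv_mem ha.1, by
          rw [hm.map_inv ha.1, inv_inv]
          have h2 : (a⁻¹ * autFun α a)⁻¹ ∈ Zs := Subgroup.inv_mem _ ha.2
          rw [show a * (autFun α a)⁻¹ = a * (a⁻¹ * autFun α a)⁻¹ * a⁻¹ by group,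
            (h.commute_zs ha.1 h2).eq, mul_inv_cancel_right]
          exact h2⟩ }
    have hgen : ∀ {R : Subgroup Ω} {r : Ω}, F.IsEssential 2 R → r ∈ S → r ∉ Zs →
        R = Zs ⊔ Subgroup.zpowers r → r⁻¹ * autFun α r ∈ Zs := by
      intro R r hR hr hrZ hReq
      have h2 := h.aut_fix_essential hF hcore hR hα r
        (hReq ▸ Subgroup.mem_sup_right (Subgroup.mem_zpowers r))
      have hr2 := h.essential_exponent hF hcore hR r
        (hReq ▸ Subgroup.mem_sup_right (Subgroup.mem_zpowers r))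
      have hn : Subgroup.zpowers r ≤ Subgroup.normalizer ((Zs : Subgroup Ω) : Set Ω) :=
        Subgroup.zpowers_le.mpr (Subgroup.centralizer_le_normalizer _
          (Subgroup.mem_centralizer_iff.mpr fun z hz => (h.commute_zs hr hz).eq.symm))
      have h2' : autFun α r ∈ ((Zs ⊔ Subgroup.zpowers r : Subgroup Ω) : Set Ω) := hReq.le h2
      rw [Subgroup.coe_mul_of_right_le_normalizer_left Zs _ hn] at h2'
      obtain ⟨z, hz, v, hv, he⟩ := h2'
      obtain ⟨i, rfl⟩ := ((isOfFinOrder_iff_pow_eq_one.mpr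
        ⟨2, two_pos, hr2⟩).mem_powers_iff_mem_zpowers.mpr hv :)
      change z * r ^ i = autFun α r at he
      rcases Nat.even_or_odd' i with ⟨m, rfl | rfl⟩
      · exfalso
        apply hrZ
        rw [pow_mul, hr2, one_pow, mul_one] at he
        have := h.aut_mem_zs (Subgroup.inv_mem _ hα) hz
        rwa [he, autFun_inv_autFun α hr] at this
      · rw [pow_add, pow_mul, hr2, one_pow, one_mul, pow_one] at he
        rw [← he, ← (h.commute_zs hr hz).eq, inv_mul_cancel_left]
        exact hz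
    intro s hs
    refine ((h.gen hx hxZ hy hyx (T := T) ?_ ⟨hx, hgen hP hx hxZ hPeq⟩ ⟨hy, hgen hQ hy hyZ hQeq⟩) hs).2
    exact fun z hz => ⟨hZS hz, by rw [hZfix α hα z hz, inv_mul_cancel]; exact Subgroup.one_mem _⟩
  -- the focal subgroup is contained in a subgroup of order at most `8`
  set M := Subgroup.zpowers c ⊔ Subgroup.zpowers d with hM
  set T := M ⊔ Subgroup.zpowers d' with hT
  have hcT : Subgroup.zpowers c ≤ T := le_sup_left.trans le_sup_left
  have hTS : T ≤ S := sup_le (sup_le (Subgroup.zpowers_le.mpr (hZS hcZ))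
    (Subgroup.zpowers_le.mpr hdS)) (Subgroup.zpowers_le.mpr hd'S)
  have hfocal : F.focalSubgroup ≤ T := by
    refine focal_le_iff.mpr fun R f hf => alperin_prop h.pgroup hF
      (fun R f => ∀ u ∈ R, u⁻¹ * f u ∈ T) ?_ ?_ ?_ ?_ ?_ hf
    · intro R f g _ hC he u hu
      rw [he u hu]; exact hC u hu
    · intro R g hRS hg u hu
      refine hcT ?_
      rw [cj_apply, show u⁻¹ * (g * u * g⁻¹) = ⁅u⁻¹, g⁆ by simp only [commutatorElement_def]; group]
      exact hcall _ (S.inv_mem (hRS hu)) g hg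
    · intro R R' f g _ _ hmem hC hC' u hu
      rw [show u⁻¹ * g (f u) = (u⁻¹ * f u) * ((f u)⁻¹ * g (f u)) by group]
      exact T.mul_mem (hC u hu) (hC' _ (hmem u hu))
    · intro R f g hf' hg' hgf hC v hv
      obtain ⟨u, hu, rfl⟩ := (hf'.mem_img_iff le_rfl).mp hv
      rw [hgf u hu]
      have := T.inv_mem (hC u hu)
      rwa [mul_inv_rev, inv_inv] at this
    · intro R hR α hα u hu
      rcases hR with rfl | hR
      · obtain ⟨g, hg, hgα⟩ := mem_autInducedBy_iff_cj.mp (h.aut_inner_of_stab hF hα hZfix hmod)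
        refine hcT ?_
        rw [hgα u hu, cj_apply,
          show u⁻¹ * (g * u * g⁻¹) = ⁅u⁻¹, g⁆ by simp only [commutatorElement_def]; group]
        exact hcall _ (R.inv_mem hu) g hg
      · rcases h.essential_le_two hF hcore hP hQ hR (Ne.symm hQP) with rfl | rfl
        · exact Subgroup.mem_sup_left (hd α hα u hu)
        · exact (sup_le hcT le_sup_right : Subgroup.zpowers c ⊔ Subgroup.zpowers d' ≤ T)
            (hd' α hα u hu)
  have hST : S ≤ T := hhyp ▸ hyperfocal_le_focal.trans hfocal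
  have hcardT : Nat.card S ≤ 8 := by
    have hMS : M ≤ S := le_sup_left.trans hTS
    have := finite_of_le hMS
    have hcomm : Commute d c := h.commute_zs hdS hcZ
    have hMcard : Nat.card M ≤ 4 := by
      have hn : Subgroup.zpowers d ≤ Subgroup.normalizer ((Subgroup.zpowers c : Subgroup Ω) : Set Ω) :=
        Subgroup.zpowers_le.mpr (Subgroup.centralizer_le_normalizer _
          (Subgroup.mem_centralizer_iff.mpr fun v hv => by
            obtain ⟨i, rfl⟩ := Subgroup.mem_zpowers_iff.mp hv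
            exact ((hcomm.symm).zpow_left i).eq))
      have hd4 : Nat.card (Subgroup.zpowers d) ≤ 2 := by
        rw [Nat.card_zpowers]; exact orderOf_le_of_pow_eq_one two_pos hd2
      have : Finite (Subgroup.zpowers c) := finite_of_le (Subgroup.zpowers_le.mpr (hZS hcZ))
      have : Finite (Subgroup.zpowers d) := finite_of_le (Subgroup.zpowers_le.mpr hdS)
      refine le_trans (Nat.card_le_card_of_surjective
        (fun t : Subgroup.zpowers c × Subgroup.zpowers d => (⟨(t.1 : Ω) * t.2,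
          mul_mem (Subgroup.mem_sup_left t.1.2) (Subgroup.mem_sup_right t.2.2)⟩ : M)) ?_) ?_
      · rintro ⟨a, ha⟩
        have ha' : a ∈ ((Subgroup.zpowers c ⊔ Subgroup.zpowers d : Subgroup Ω) : Set Ω) := ha
        rw [Subgroup.coe_mul_of_right_le_normalizer_left _ _ hn] at ha'
        obtain ⟨w, hw, v, hv, he⟩ := ha'
        exact ⟨(⟨w, hw⟩, ⟨v, hv⟩), Subtype.ext he⟩
      · rw [Nat.card_prod, hcardc]; omega
    have hn : Subgroup.zpowers d' ≤ Subgroup.normalizer (M : Set Ω) := by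
      refine Subgroup.zpowers_le.mpr (mem_normalizerIn_of_forall hMS hd'S fun m hm => ?_).2
      rw [show d' * m * d'⁻¹ = ⁅d', m⁆ * m by rw [commutatorElement_def]; group]
      exact M.mul_mem (Subgroup.mem_sup_left (hcall d' hd'S m (hMS hm))) hm
    have hd4 : Nat.card (Subgroup.zpowers d') ≤ 2 := by
      rw [Nat.card_zpowers]; exact orderOf_le_of_pow_eq_one two_pos hd'2
    have : Finite (Subgroup.zpowers d') := finite_of_le (Subgroup.zpowers_le.mpr hd'S)
    refine le_trans (Nat.card_le_card_of_surjective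
      (fun t : M × Subgroup.zpowers d' => (⟨(t.1 : Ω) * t.2,
        hTS (mul_mem (Subgroup.mem_sup_left t.1.2) (Subgroup.mem_sup_right t.2.2))⟩ : S)) ?_) ?_
    · rintro ⟨a, ha⟩
      have ha' : a ∈ ((M ⊔ Subgroup.zpowers d' : Subgroup Ω) : Set Ω) := hST ha
      rw [Subgroup.coe_mul_of_right_le_normalizer_left _ _ hn] at ha'
      obtain ⟨w, hw, v, hv, he⟩ := ha'
      exact ⟨(⟨w, hw⟩, ⟨v, hv⟩), Subtype.ext he⟩
    · rw [Nat.card_prod]; nlinarith
  rw [h.card_eq, hZ4] at hcardT
  omega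

end CentreSq

end Cfsg.Agent.Fusion
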