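import Cfsg.Agent.Lib.Fusion.Hyperfocal
import Cfsg.Agent.Lib.Fusion.NormalCriteria
import Mathlib.Algebra.BigOperators.Group.Finset.Basic
import Mathlib.Data.Fintype.BigOperators

/-!
When `Z(S)` lies in a normal subgroup of the system, the centre of the system is a direct factor
of `Z(S)`.
-/

set_option autoImplicit false

namespace Cfsg.Agent.Fusion

open Cfsg.FusionSystem (centralizerIn normalizerIn)

universe u

variable {Ω : Type u} [Group Ω] {S : Subgroup Ω} {F : FusionSystem S} {Q : Subgroup Ω} {p : ℕ}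

theorem isFullyNormalized_of_isNormal [Finite S] (h : F.IsNormal Q) : F.IsFullyNormalized Q := by
  refine ⟨h.1, fun R hR => ?_⟩
  obtain ⟨f, hf, rfl⟩ := isConj_iff.mp hR
  rw [StronglyClosed.img_eq (IsNormal.stronglyClosed h) hf le_rfl]

theorem exists_center_complement [Finite S] [Fact p.Prime] (hS : IsPGroup p S)
    (hF : F.IsSaturated p) (hQ : F.IsNormal Q)
    (hZ : (S ⊓ Subgroup.centralizer (S : Set Ω)) ≤ Q) :
    ∃ K : Subgroup Ω, K ≤ (S ⊓ Subgroup.centralizer (S : Set Ω)) ∧ F.center ⊓ K = ⊥ ∧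
      F.center ⊔ K = (S ⊓ Subgroup.centralizer (S : Set Ω)) := by
  classical
  set Z := S ⊓ Subgroup.centralizer (S : Set Ω) with hZdef
  have hQS := hQ.1
  have := finite_of_le hQS
  have := finite_mulAut Q
  set A := F.autGroup Q with hA
  set B := (autInducedBy S Q).subgroupOf A with hB
  have hBi : ¬ p ∣ B.index :=
    ((isFullyAutomized_iff hS).mp
      (isFullyAutomized_of_isFullyNormalized hS hF (isFullyNormalized_of_isNormal hQ))).2
  have hmemZ : ∀ {x : Ω}, x ∈ Z ↔ x ∈ S ∧ ∀ s ∈ S, s * x = x * s := fun {x} => by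
    simp [hZdef, Subgroup.mem_centralizer_iff]
  let : CommGroup Z := { (inferInstance : Group Z) with
    mul_comm := fun a b => Subtype.ext ((hmemZ.mp b.2).2 a (hmemZ.mp a.2).1) }
  let W := Q ⊓ Subgroup.centralizer (Q : Set Ω)
  have hZW : Z ≤ W := fun x hx =>
    ⟨hZ hx, Subgroup.mem_centralizer_iff.mpr fun y hy => (hmemZ.mp hx).2 y (hQS hy)⟩
  let : CommGroup W := { (inferInstance : Group W) with
    mul_comm := fun a b => Subtype.ext (Subgroup.mem_centralizer_iff.mp b.2.2 a a.2.1) }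
  have hmW : ∀ (a : MulAut Q) (x : W), autFun a x ∈ W := fun a x => by
    refine ⟨autFun_mem a x.2.1, Subgroup.mem_centralizer_iff.mpr fun y hy => ?_⟩
    rw [← autFun_autFun_inv a hy]
    have h1 := Subgroup.mem_centralizer_iff.mp x.2.2 _ (autFun_mem a⁻¹ hy)
    rw [autFun_apply a (autFun_mem a⁻¹ hy), autFun_apply a x.2.1]
    have h2 : (⟨autFun a⁻¹ y, autFun_mem a⁻¹ hy⟩ : Q) * ⟨x, x.2.1⟩ =
        ⟨x, x.2.1⟩ * ⟨autFun a⁻¹ y, autFun_mem a⁻¹ hy⟩ := Subtype.ext h1
    exact congrArg Subtype.val ((_root_.map_mul a _ _).symm.trans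
      ((congrArg a h2).trans (_root_.map_mul a _ _)))
  let act : MulAut Q → W →* W := fun a => MonoidHom.mk' (fun x => ⟨autFun a x, hmW a x⟩)
    fun x y => Subtype.ext (by
      show autFun a ((x : Ω) * y) = autFun a x * autFun a y
      rw [autFun_apply a x.2.1, autFun_apply a y.2.1,
        autFun_apply a (Q.mul_mem x.2.1 y.2.1)]
      exact congrArg Subtype.val (_root_.map_mul a ⟨x, x.2.1⟩ ⟨y, y.2.1⟩))
  have hact : ∀ a b x, act (a * b) x = act a (act b x) := fun a b x =>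
    Subtype.ext (autFun_mul a b x.2.1)
  have hBfix : ∀ b : A, b ∈ B → ∀ x : W, (x : Ω) ∈ Z → act b x = x := by
    intro b hb x hx
    obtain ⟨s, hs, hsb⟩ := mem_autInducedBy_iff_cj.mp hb
    refine Subtype.ext ((hsb x x.2.1).trans ?_)
    rw [cj_apply, (hmemZ.mp hx).2 s hs, mul_inv_cancel_right]
  let inc : Z →* W := Subgroup.inclusion hZW
  have : Fintype (A ⧸ B) := Fintype.ofFinite _
  let T : Z →* W :=
    MonoidHom.mk' (fun z => ∏ κ : A ⧸ B, act (κ.out : MulAut Q) (inc z)) fun a b => by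
      rw [← Finset.prod_mul_distrib]
      exact Finset.prod_congr rfl fun κ _ => by rw [_root_.map_mul inc, _root_.map_mul]
  have hTfix : ∀ (a : A) (z : Z), act a (T z) = T z := by
    intro a z
    show act a (∏ κ : A ⧸ B, act (κ.out : MulAut Q) (inc z)) = _
    rw [_root_.map_prod]
    refine Fintype.prod_equiv (MulAction.toPerm a) _ _ fun κ => ?_
    show act a (act (κ.out : MulAut Q) (inc z)) = act ((a • κ).out : MulAut Q) (inc z)
    have h1 : ((a • κ).out)⁻¹ * (a * κ.out) ∈ B := by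
      rw [← QuotientGroup.eq, QuotientGroup.out_eq']
      conv_lhs => rw [← κ.out_eq']
      rfl
    rw [← hact, ← Subgroup.coe_mul]
    conv_lhs => rw [show a * κ.out = (a • κ).out * (((a • κ).out)⁻¹ * (a * κ.out)) by group]
    rw [Subgroup.coe_mul, hact, hBfix _ h1 (inc z) z.2]
  -- the fixed points
  let C : Subgroup Ω :=
    { carrier := {x | x ∈ Z ∧ ∀ a ∈ A, autFun a x = x}
      one_mem' := ⟨Z.one_mem, fun a ha => (mapTo_of_mem_autGroup hQS ha).map_one⟩
      mul_mem' := fun {x y} hx hy => ⟨Z.mul_mem hx.1 hy.1, fun a ha => by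
        rw [(mapTo_of_mem_autGroup hQS ha).map_mul (hZ hx.1) (hZ hy.1), hx.2 a ha, hy.2 a ha]⟩
      inv_mem' := fun {x} hx => ⟨Z.inv_mem hx.1, fun a ha => by
        rw [(mapTo_of_mem_autGroup hQS ha).map_inv (hZ hx.1), hx.2 a ha]⟩ }
  have hCc : F.IsCentral C := by
    refine isCentral_iff.mpr ⟨fun x hx => (hmemZ.mp hx.1).1, fun P f hf => ?_⟩
    obtain ⟨g, hg, hgf, hgQ⟩ := (isNormal_iff.mp hQ).2 P f hf
    refine ⟨g, hg.restrict (sup_le_sup_left (fun x hx => hZ hx.1) P), hgf, fun x hx => ?_⟩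
    have hgQ' := hg.restrict (le_sup_right : Q ≤ P ⊔ Q)
    rw [← autFun_autOf hgQ' hgQ (hZ hx.1)]
    exact hx.2 _ (autOf_mem hgQ' hgQ)
  have hcen : F.center = C := by
    refine le_antisymm (fun x hx => ?_) (le_sSup hCc)
    have hC := isCentral_center F
    have hfix : ∀ {P : Subgroup Ω} {f : Ω → Ω}, MapTo F P f → x ∈ P → f x = x :=
      fun {P f} hf hxP => by
        obtain ⟨g, -, hgf, hgC⟩ := (isCentral_iff.mp hC).2 P f hf
        rw [← hgf x hxP, hgC x hx]
    have hxZ : x ∈ Z := hmemZ.mpr ⟨hC.1 hx, fun s hs => by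
      have h1 := hfix (mapTo_cj (F := F) le_rfl hs) (hC.1 hx)
      rw [cj_apply, mul_inv_eq_iff_eq_mul] at h1
      exact h1⟩
    exact ⟨hxZ, fun a ha => hfix (mapTo_of_mem_autGroup hQS ha) (hZ hxZ)⟩
  have hTC : ∀ z, ((T z : W) : Ω) ∈ C := by
    intro z
    have hfixA : ∀ a ∈ A, autFun a ((T z : W) : Ω) = (T z : W) := fun a ha =>
      congrArg Subtype.val (hTfix ⟨a, ha⟩ z)
    refine ⟨hmemZ.mpr ⟨hQS (T z).2.1, fun s hs => ?_⟩, hfixA⟩
    obtain ⟨γ, hγ⟩ := exists_conjAut (P := Q) (IsNormal.le_normalizer hQ hs)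
    have hγA : γ ∈ A := autInducedBy_le_autGroup hQS (mem_autInducedBy_iff_cj.mpr ⟨s, hs, hγ⟩)
    have h1 := hfixA γ hγA
    rw [hγ _ (T z).2.1, cj_apply, mul_inv_eq_iff_eq_mul] at h1
    exact h1
  have hTpow : ∀ c : Z, (c : Ω) ∈ C → T c = inc c ^ B.index := by
    intro c hc
    show ∏ κ : A ⧸ B, act (κ.out : MulAut Q) (inc c) = _
    rw [Finset.prod_congr rfl (fun κ _ => show act (κ.out : MulAut Q) (inc c) = inc c from
      Subtype.ext (hc.2 _ κ.out.2)), Finset.prod_const, Finset.card_univ, Subgroup.index,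
      Nat.card_eq_fintype_card]
  have hCZ : C ≤ Z := fun x hx => hx.1
  have hCS : C ≤ S := fun x hx => (hmemZ.mp hx.1).1
  have := finite_of_le hCS
  obtain ⟨e, he⟩ := (hS.to_le hCS).exists_card_eq
  have hcop : (Nat.card C).Coprime B.index := by
    rw [he]
    exact Nat.Coprime.pow_left _ (((Fact.out : p.Prime).coprime_iff_not_dvd).mpr hBi)
  refine ⟨T.ker.map Z.subtype, Subgroup.map_subtype_le _, ?_, ?_⟩
  · rw [hcen, eq_bot_iff]
    rintro _ ⟨hxC, z, hz, rfl⟩
    have h1 : (⟨(z : Ω), hxC⟩ : C) ^ B.index = 1 := Subtype.ext (by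
      have := congrArg Subtype.val ((hTpow z hxC).symm.trans (hz : T z = 1))
      rw [Subgroup.coe_pow] at this
      exact this)
    have h2 := (powCoprime hcop).injective (a₁ := ⟨(z : Ω), hxC⟩) (a₂ := 1)
      (h1.trans (one_pow _).symm)
    exact congrArg Subtype.val h2
  · refine le_antisymm (sup_le (hcen ▸ hCZ) (Subgroup.map_subtype_le _)) fun x hx => ?_
    obtain ⟨w, hw⟩ := (powCoprime hcop).surjective ⟨_, hTC ⟨x, hx⟩⟩
    have hw' : ((w : Ω)) ^ B.index = (T ⟨x, hx⟩ : W) := congrArg Subtype.val hw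
    have hk : T ((⟨w, hCZ w.2⟩ : Z)⁻¹ * ⟨x, hx⟩) = 1 := by
      rw [_root_.map_mul, _root_.map_inv, inv_mul_eq_one, hTpow _ w.2]
      refine Subtype.ext ?_
      rw [Subgroup.coe_pow]
      exact hw'
    have h3 := Subgroup.mul_mem_sup (S := F.center) (hcen.symm ▸ w.2 : (w : Ω) ∈ F.center)
      (Subgroup.mem_map_of_mem Z.subtype (MonoidHom.mem_ker.mpr hk))
    simpa using h3

end Cfsg.Agent.Fusion
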