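import Cfsg.Agent.Lib.Fusion.Saturation
import Cfsg.Agent.Lib.Fusion.NormalCriteria

/-!
A saturated fusion system over a 2-group in which every element is conjugate to a central element
lives over an abelian group.

The proof: a map between central subgroups extends to the whole of `S`, and an odd power of the
extension is inner, hence trivial on the centre. This forces elements inverted by a conjugation to
be involutions, so the involutions form a normal (strongly closed abelian) subgroup, which is then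
central, and the remaining elements are handled by induction on the order.
-/

set_option autoImplicit false

namespace Cfsg.Agent.Fusion.CentralConj

open Cfsg.FusionSystem (centralizerIn normalizerIn)

variable {Ω : Type*} [Group Ω] {S : Subgroup Ω} {F : FusionSystem S}

local notation "Zc" => centralizerIn S S

theorem map_zpow {P : Subgroup Ω} {f : Ω → Ω} (h : MapTo F P f) {x : Ω} (hx : x ∈ P) (k : ℤ) :
    f (x ^ k) = f x ^ k := by
  obtain ⟨φ, -, hφ⟩ := h
  have := _root_.map_zpow φ ⟨x, hx⟩ k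
  rw [hφ, hφ] at this
  simpa using this

theorem centralizerIn_eq_self {Q : Subgroup Ω} (hQ : Q ≤ Zc) : centralizerIn S Q = S := by
  refine le_antisymm inf_le_left fun s hs => mem_centralizerIn.mpr ⟨hs, fun y hy => ?_⟩
  exact ((mem_centralizerIn.mp (hQ hy)).2 s hs).symm

variable [Finite S]

theorem exists_odd_pow_inn (hS : IsPGroup 2 S) (hF : F.IsSaturated 2) :
    ∃ m : ℕ, Odd m ∧ ∀ α ∈ F.autGroup S, ∀ z ∈ Zc, autFun (α ^ m) z = z := by
  have := finite_mulAut (↥S)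
  obtain ⟨-, hm⟩ := (isFullyAutomized_iff hS).mp
    (isFullyAutomized_of_isFullyNormalized hS hF (isFullyNormalized_top (F := F)))
  rw [← inn_eq_autInducedBy] at hm
  refine ⟨(Inn S).relIndex (F.autGroup S), Nat.odd_iff.mpr (Nat.two_dvd_ne_zero.mp hm), ?_⟩
  intro α hα z hz
  have : ((Inn S).subgroupOf (F.autGroup S)).Normal := inferInstance
  have h1 := Subgroup.pow_index_mem ((Inn S).subgroupOf (F.autGroup S)) ⟨α, hα⟩
  rw [Subgroup.mem_subgroupOf] at h1
  obtain ⟨s, hs⟩ := h1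
  have hzS : z ∈ S := hz.1
  rw [autFun_apply _ hzS, show α ^ (Inn S).relIndex (F.autGroup S) = MulAut.conj s from hs.symm]
  show (s : Ω) * z * (s : Ω)⁻¹ = z
  rw [(mem_centralizerIn.mp hz).2 s s.2]
  group

/-- A map between central subgroups extends to an automorphism of `S` in the system. -/
theorem exists_autGroup_extend (hS : IsPGroup 2 S) (hF : F.IsSaturated 2) {P : Subgroup Ω}
    {f : Ω → Ω} (hf : MapTo F P f) (hP : P ≤ Zc) (hfP : ∀ x ∈ P, f x ∈ Zc) :
    ∃ α ∈ F.autGroup S, ∀ x ∈ P, autFun α x = f x := by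
  have hQ : img f P ≤ Zc := img_le_of_forall hfP
  have hQS : img f P ≤ S := hQ.trans inf_le_left
  have hfc : F.IsFullyCentralized (img f P) := by
    refine ⟨hQS, fun R hR => ?_⟩
    rw [centralizerIn_eq_self hQ]
    exact Subgroup.card_le_of_le inf_le_left
  obtain ⟨g, hg, hgf⟩ :=
    (isReceptive_iff.mp (isReceptive_of_isFullyCentralized hS hF hfc)).2 P f hf rfl
  have hext : S ≤ extSub S hf := (centralizerIn_eq_self hP).symm.le.trans (centralizerIn_le_extSub hf)
  have hgS := hg.restrict hext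
  have himg : img g S = S := img_eq_self_of_forall hgS fun x hx => hgS.mem hx
  exact ⟨autOf hgS himg, autOf_mem hgS himg, fun x hx =>
    (autFun_autOf hgS himg (hf.le hx)).trans (hgf x hx)⟩

theorem sq_eq_one_of_map_inv (hS : IsPGroup 2 S) (hF : F.IsSaturated 2) {P : Subgroup Ω}
    {f : Ω → Ω} (hf : MapTo F P f) (hP : P ≤ Zc) (hfP : ∀ x ∈ P, f x ∈ Zc) {d : Ω} (hd : d ∈ P)
    (hfd : f d = d⁻¹) : d * d = 1 := by
  obtain ⟨α, hα, hαf⟩ := exists_autGroup_extend hS hF hf hP hfP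
  obtain ⟨m, ⟨j, rfl⟩, hfix⟩ := exists_odd_pow_inn (F := F) hS hF
  obtain ⟨d', rfl⟩ : ∃ d' : S, (d' : Ω) = d := ⟨⟨d, hf.le hd⟩, rfl⟩
  have h1 : α d' = d'⁻¹ := by
    apply Subtype.ext
    rw [← autFun_coe, hαf _ hd, hfd]
    rfl
  have h2 : ∀ i : ℕ, (α ^ (2 * i + 1)) d' = d'⁻¹ := by
    intro i
    induction i with
    | zero => simpa using h1
    | succ i ih =>
      rw [show 2 * (i + 1) + 1 = (2 * i + 1) + 1 + 1 by omega, pow_succ, pow_succ,
        MulAut.mul_apply, MulAut.mul_apply, h1, map_inv, h1, inv_inv, ih]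
  have h3 := hfix α hα d' (hP hd)
  rw [autFun_coe, h2] at h3
  have h3' : (d' : Ω)⁻¹ = d' := h3
  calc (d' : Ω) * d' = (d' : Ω)⁻¹ * d' := by rw [h3']
    _ = 1 := inv_mul_cancel _

theorem eq_one_of_map_mul (hS : IsPGroup 2 S) (hF : F.IsSaturated 2) {P : Subgroup Ω}
    {f : Ω → Ω} (hf : MapTo F P f) (hP : P ≤ Zc) (hfP : ∀ x ∈ P, f x ∈ Zc) {d e : Ω}
    (hd : d ∈ P) (he : e ∈ P) (hfd : f d = d * e) (hfe : f e = e) (he2 : e * e = 1) : e = 1 := by
  obtain ⟨α, hα, hαf⟩ := exists_autGroup_extend hS hF hf hP hfP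
  obtain ⟨m, ⟨j, rfl⟩, hfix⟩ := exists_odd_pow_inn (F := F) hS hF
  obtain ⟨d', rfl⟩ : ∃ d' : S, (d' : Ω) = d := ⟨⟨d, hf.le hd⟩, rfl⟩
  obtain ⟨e', rfl⟩ : ∃ e' : S, (e' : Ω) = e := ⟨⟨e, hf.le he⟩, rfl⟩
  have h1 : α d' = d' * e' := Subtype.ext (by rw [← autFun_coe, hαf _ hd, hfd]; rfl)
  have h1e : α e' = e' := Subtype.ext (by rw [← autFun_coe, hαf _ he, hfe])
  have h2 : ∀ i : ℕ, (α ^ i) d' = d' * e' ^ i := by
    intro i
    induction i with
    | zero => simp
    | succ i ih =>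
      rw [pow_succ' α, MulAut.mul_apply, ih, map_mul, map_pow, h1, h1e, mul_assoc, ← pow_succ']
  have h3 := hfix α hα d' (hP hd)
  rw [autFun_coe, h2] at h3
  have h4 : (e' : Ω) ^ (2 * j + 1) = 1 := by
    have h3' : (d' : Ω) * (e' : Ω) ^ (2 * j + 1) = d' := by simpa using h3
    exact mul_left_cancel (h3'.trans (mul_one _).symm)
  rwa [pow_succ, pow_mul, pow_two, he2, one_pow, one_mul] at h4

variable (hS : IsPGroup 2 S) (hF : F.IsSaturated 2)
  (hc : ∀ x ∈ S, ∃ f, MapTo F (Subgroup.zpowers x) f ∧ f x ∈ centralizerIn S S)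

include hS hF hc

theorem sq_eq_one_of_real {x y : Ω} (hx : x ∈ S) (hy : y ∈ S) (hxy : y * x * y⁻¹ = x⁻¹) :
    x * x = 1 := by
  obtain ⟨f, hf, hfx⟩ := hc x hx
  set X := Subgroup.zpowers x with hX
  have hXS : X ≤ S := Subgroup.zpowers_le.mpr hx
  have hxX : x ∈ X := Subgroup.mem_zpowers x
  have hfX : ∀ w ∈ X, f w ∈ Zc := by
    rintro w ⟨k, rfl⟩
    show f (x ^ k) ∈ Zc
    rw [map_zpow hf hxX]
    exact Subgroup.zpow_mem _ hfx k
  obtain ⟨g, hg, hgf, -, himg⟩ := hf.exists_iso_inverse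
  have hgm : ∀ w ∈ img f X, g w ∈ X := fun w hw => himg X le_rfl ▸ mem_img_of_mem hw
  have hcj : ∀ w ∈ X, cj y w ∈ X := by
    rintro w ⟨k, rfl⟩
    show y * x ^ k * y⁻¹ ∈ X
    rw [← conj_zpow, hxy]
    exact X.zpow_mem (X.inv_mem hxX) k
  have hb : MapTo F (img f X) (fun w => f (cj y (g w))) :=
    (hg.comp (mapTo_cj (F := F) hXS hy) hgm).comp hf fun w hw => hcj _ (hgm w hw)
  have hd : f x * f x = 1 := by
    refine sq_eq_one_of_map_inv hS hF hb (img_le_of_forall hfX)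
      (fun w hw => hfX _ (hcj _ (hgm w hw))) (mem_img_of_mem hxX) ?_
    show f (cj y (g (f x))) = (f x)⁻¹
    rw [hgf x hxX, cj_apply, hxy, hf.map_inv hxX]
  refine hf.inj (X.mul_mem hxX hxX) X.one_mem ?_
  rw [hf.map_mul hxX hxX, hd, hf.map_one]

theorem inv_comm {t s : Ω} (ht : t ∈ S) (hs : s ∈ S) (ht2 : t * t = 1) (hs2 : s * s = 1) :
    t * s = s * t := by
  have ht' : t⁻¹ = t := inv_eq_of_mul_eq_one_right ht2
  have hs' : s⁻¹ = s := inv_eq_of_mul_eq_one_right hs2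
  have h := sq_eq_one_of_real hS hF hc (S.mul_mem ht hs) ht (by
    rw [mul_inv_rev, hs', ht', ← mul_assoc t t s, ht2, one_mul])
  have h' := inv_eq_of_mul_eq_one_right h
  rw [mul_inv_rev, hs', ht'] at h'
  exact h'.symm

theorem sqOne_central {e y : Ω} (he : e ∈ S) (he2 : e * e = 1) (hy : y ∈ S) : y * e = e * y := by
  have hcomm := fun t ht s hs h1 h2 => inv_comm hS hF hc (t := t) (s := s) ht hs h1 h2
  let E : Subgroup Ω :=
    { carrier := {x | x ∈ S ∧ x * x = 1}
      one_mem' := ⟨S.one_mem, one_mul 1⟩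
      mul_mem' := by
        rintro a b ⟨ha, ha2⟩ ⟨hb, hb2⟩
        refine ⟨S.mul_mem ha hb, ?_⟩
        rw [mul_assoc, ← mul_assoc b, ← hcomm a ha b hb ha2 hb2, mul_assoc a b b, hb2, mul_one, ha2]
      inv_mem' := by
        rintro a ⟨ha, ha2⟩
        exact ⟨S.inv_mem ha, by rw [← mul_inv_rev, ha2, inv_one]⟩ }
  have hE : F.StronglyClosed E := stronglyClosed_iff.mpr ⟨fun x hx => hx.1, fun R f hR hf x hx =>
    ⟨hf.mem hx, by rw [← hf.map_mul hx hx, (hR hx).2, hf.map_one]⟩⟩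
  have hn : F.IsNormal E := by
    refine isNormal_of_stronglyClosed_series hS hF (n := 1) (fun i => if i = 0 then ⊥ else E)
      (if_pos rfl) (if_neg (by decide)) ?_ (fun i => by rw [if_neg (Fin.succ_ne_zero i)]; exact hE)
      fun i x hx k hk => ?_
    · intro a b hab'
      show (if a = 0 then ⊥ else E) ≤ (if b = 0 then ⊥ else E)
      by_cases ha : a = 0
      · rw [if_pos ha]; exact bot_le
      · rw [if_neg ha, if_neg fun (hb : b = 0) => ha (by subst hb; exact le_antisymm hab' (Fin.zero_le a))]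
    · rw [if_neg (Fin.succ_ne_zero i)] at hx
      rw [hcomm k hk.1 x hx.1 hk.2 hx.2]
      simp
  obtain ⟨f, hf, hfy⟩ := hc y hy
  obtain ⟨φ, hφ, hφf⟩ := id hf
  obtain ⟨ψ, hψ, hψφ, -⟩ := hn.2 _ φ hφ
  have hg := mapTo_ev (F := F) hψ
  set g := ev ψ with hgdef
  have hyW : y ∈ Subgroup.zpowers y ⊔ E := Subgroup.mem_sup_left (Subgroup.mem_zpowers y)
  have heW : e ∈ Subgroup.zpowers y ⊔ E := Subgroup.mem_sup_right (show e ∈ E from ⟨he, he2⟩)
  have hgy : g y = f y := by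
    rw [hgdef, ev_apply ψ hyW, show (⟨y, hyW⟩ : ↥(Subgroup.zpowers y ⊔ E)) =
      Subgroup.inclusion le_sup_left ⟨y, Subgroup.mem_zpowers y⟩ from rfl, hψφ, hφf]
  refine hg.inj (Subgroup.mul_mem _ hyW heW) (Subgroup.mul_mem _ heW hyW) ?_
  rw [hg.map_mul hyW heW, hg.map_mul heW hyW, hgy]
  exact ((mem_centralizerIn.mp hfy).2 _ (hg.mem heW)).symm

theorem central_of_pow_two (k : ℕ) : ∀ x ∈ S, x ^ 2 ^ k = 1 → ∀ y ∈ S, y * x = x * y := by
  induction k with
  | zero => intro x _ hx y _; rw [pow_zero, pow_one] at hx; simp [hx]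
  | succ k ih =>
  intro x hx hxk y hy
  have hcen : ∀ e ∈ S, e * e = 1 → ∀ z ∈ S, z * e = e * z :=
    fun e he he2 z hz => sqOne_central hS hF hc he he2 hz
  have hx2 : ∀ z ∈ S, z * (x * x) = x * x * z :=
    ih (x * x) (S.mul_mem hx hx) (by rw [← pow_two, ← pow_mul, ← pow_succ', hxk])
  set x' := y * x * y⁻¹ with hx'
  have hx'S : x' ∈ S := S.mul_mem (S.mul_mem hy hx) (S.inv_mem hy)
  have hsq : x' * x' = x * x := by
    rw [show x' * x' = y * (x * x) * y⁻¹ by rw [hx']; group, hx2 y hy, mul_inv_cancel_right]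
  set u := x⁻¹ * x' with hu
  have huS : u ∈ S := S.mul_mem (S.inv_mem hx) hx'S
  have hu2 : u * u = 1 := by
    refine sq_eq_one_of_real hS hF hc huS hx ?_
    refine eq_inv_of_mul_eq_one_left ?_
    rw [hu, show x * (x⁻¹ * x') * x⁻¹ * (x⁻¹ * x') = x' * (x * x)⁻¹ * x' by group, ← hsq]
    group
  have hx'u : x' = x * u := by rw [hu]; group
  obtain ⟨f, hf, hfx⟩ := hc x hx
  obtain ⟨φ, hφ, hφf⟩ := id hf
  let E : Subgroup Ω :=
    { carrier := {x | x ∈ S ∧ x * x = 1}
      one_mem' := ⟨S.one_mem, one_mul 1⟩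
      mul_mem' := by
        rintro a b ⟨ha, ha2⟩ ⟨hb, hb2⟩
        refine ⟨S.mul_mem ha hb, ?_⟩
        rw [mul_assoc, ← mul_assoc b, hcen a ha ha2 b hb, mul_assoc a b b, hb2, mul_one, ha2]
      inv_mem' := by
        rintro a ⟨ha, ha2⟩
        exact ⟨S.inv_mem ha, by rw [← mul_inv_rev, ha2, inv_one]⟩ }
  have hEZ : E ≤ Zc := fun e he =>
    mem_centralizerIn.mpr ⟨he.1, fun z hz => hcen e he.1 he.2 z hz⟩
  have hES : E ≤ S := fun e he => he.1
  set X := Subgroup.zpowers x with hX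
  set W := X ⊔ E with hW
  have hWS : W ≤ S := sup_le (Subgroup.zpowers_le.mpr hx) hES
  have hXS : X ≤ S := Subgroup.zpowers_le.mpr hx
  -- extend `f` to `W` through the extender
  obtain ⟨g, hg, hgx⟩ : ∃ g, MapTo F W g ∧ g x = f x := by
    have hQ : img f X ≤ Zc := img_le_of_forall (by
      rintro w ⟨j, rfl⟩
      show f (x ^ j) ∈ Zc
      rw [map_zpow hf (Subgroup.mem_zpowers x)]
      exact Subgroup.zpow_mem _ hfx j)
    have hfc : F.IsFullyCentralized (img f X) := by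
      refine ⟨hQ.trans inf_le_left, fun R hR => ?_⟩
      rw [centralizerIn_eq_self hQ]
      exact Subgroup.card_le_of_le inf_le_left
    obtain ⟨g, hg, hgf⟩ :=
      (isReceptive_iff.mp (isReceptive_of_isFullyCentralized hS hF hfc)).2 X f hf rfl
    refine ⟨g, hg.restrict (sup_le (le_extSub hf) fun e he => centralizerIn_le_extSub hf
      (mem_centralizerIn.mpr ⟨he.1, fun w hw => hcen e he.1 he.2 w (hXS hw)⟩)),
      hgf x (Subgroup.mem_zpowers x)⟩
  have hxW : x ∈ W := Subgroup.mem_sup_left (Subgroup.mem_zpowers x)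
  have huW : u ∈ W := Subgroup.mem_sup_right (show u ∈ E from ⟨huS, hu2⟩)
  have hgE : ∀ e ∈ E, g e ∈ E := fun e he => by
    have heW : e ∈ W := Subgroup.mem_sup_right he
    exact ⟨hg.mem heW, by rw [← hg.map_mul heW heW, he.2, hg.map_one]⟩
  have hgW : ∀ w ∈ W, g w ∈ Zc := by
    obtain ⟨ψ, -, hψ⟩ := id hg
    have hle : W ≤ (Subgroup.comap ψ (centralizerIn S S)).map W.subtype := by
      refine sup_le (Subgroup.zpowers_le.mpr ⟨⟨x, hxW⟩, ?_, rfl⟩)
        fun e he => ⟨⟨e, Subgroup.mem_sup_right he⟩, ?_, rfl⟩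
      · show ψ _ ∈ Zc
        rw [hψ]
        exact hgx ▸ hfx
      · show ψ _ ∈ Zc
        rw [hψ]
        exact hEZ (hgE e he)
    intro w hw
    obtain ⟨w', hw', rfl⟩ := hle hw
    have hw'' : ψ w' ∈ Zc := hw'
    rwa [hψ] at hw''
  have hcj : ∀ w ∈ W, cj y w ∈ W := by
    have hle : W ≤ W.comap (MulAut.conj y).toMonoidHom := by
      refine sup_le (Subgroup.zpowers_le.mpr ?_) fun e he => ?_
      · show y * x * y⁻¹ ∈ W
        rw [← hx', hx'u]
        exact W.mul_mem hxW huW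
      · show y * e * y⁻¹ ∈ W
        rw [hcen e he.1 he.2 y hy, mul_inv_cancel_right]
        exact Subgroup.mem_sup_right he
    exact fun w hw => hle hw
  obtain ⟨k', hk, hkg, -, himg⟩ := hg.exists_iso_inverse
  have hkm : ∀ w ∈ img g W, k' w ∈ W := fun w hw => himg W le_rfl ▸ mem_img_of_mem hw
  have hb : MapTo F (img g W) (fun w => g (cj y (k' w))) :=
    (hk.comp (mapTo_cj (F := F) hWS hy) hkm).comp hg fun w hw => hcj _ (hkm w hw)
  have hgu : g u = 1 := by
    refine eq_one_of_map_mul hS hF hb (img_le_of_forall hgW)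
      (fun w hw => hgW _ (hcj _ (hkm w hw))) (mem_img_of_mem hxW) (mem_img_of_mem huW) ?_ ?_ ?_
    · show g (cj y (k' (g x))) = g x * g u
      rw [hkg x hxW, cj_apply, ← hx', hx'u, hg.map_mul hxW huW]
    · show g (cj y (k' (g u))) = g u
      rw [hkg u huW, cj_apply, hcen u huS hu2 y hy, mul_inv_cancel_right]
    · exact (hgE u ⟨huS, hu2⟩).2
  have hu1 : u = 1 := hg.inj huW W.one_mem (hgu.trans hg.map_one.symm)
  have h5 : y * x * y⁻¹ = x := by rw [← hx', hx'u, hu1, mul_one]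
  exact mul_inv_eq_iff_eq_mul.mp h5

/-- Main theorem of this file. -/
theorem isMulCommutative : IsMulCommutative S := by
  refine ⟨⟨fun a b => Subtype.ext ?_⟩⟩
  obtain ⟨k, hk⟩ := hS b
  exact central_of_pow_two hS hF hc k b b.2 (congrArg Subtype.val hk) a a.2

end Cfsg.Agent.Fusion.CentralConj
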