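import Cfsg.Agent.Lib.Fusion.CentralConj
import Cfsg.Agent.Lib.Fusion.Group

/-!
Sylow 2-subgroups are abelian when every 2-element centralizes a Sylow 2-subgroup.
-/

set_option autoImplicit false

namespace Cfsg.Agent.Fusion.CentralConj

open scoped Pointwise

theorem sylow_isMulCommutative {G : Type*} [Group G] [Finite G] (P : Sylow 2 G)
    (h : ∀ x ∈ (P : Subgroup G), ∃ Q : Sylow 2 G, (Q : Subgroup G) ≤ Subgroup.centralizer ({x} : Set G)) :
    IsMulCommutative (P : Subgroup G) := by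
  refine isMulCommutative P.2 (isSaturated_gfs P) fun x hx => ?_
  obtain ⟨Q, hQ⟩ := h x hx
  obtain ⟨g, rfl⟩ := MulAction.exists_smul_eq G P Q
  have hcomm : ∀ p ∈ (P : Subgroup G), p * (g⁻¹ * x * g) = g⁻¹ * x * g * p := fun p hp => by
    have h1 : g * p * g⁻¹ ∈ ((g • P : Sylow 2 G) : Subgroup G) := by
      rw [Sylow.coe_subgroup_smul]
      exact Subgroup.smul_mem_pointwise_smul p _ _ hp
    have h2 := Subgroup.mem_centralizer_singleton_iff.mp (hQ h1)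
    calc p * (g⁻¹ * x * g) = g⁻¹ * (g * p * g⁻¹ * x) * g := by group
      _ = g⁻¹ * (x * (g * p * g⁻¹)) * g := by rw [h2]
      _ = g⁻¹ * x * g * p := by group
  have hp2 : IsPGroup 2 (Subgroup.zpowers (g⁻¹ * x * g)) := by
    obtain ⟨k, hk⟩ := IsPGroup.iff_orderOf.mp P.2 ⟨x, hx⟩
    refine IsPGroup.of_card (n := k) ?_
    rw [Nat.card_zpowers, show g⁻¹ * x * g = MulAut.conj g⁻¹ x by simp, MulEquiv.orderOf_eq,
      ← hk, Subgroup.orderOf_mk]
  have hz : g⁻¹ * x * g ∈ (P : Subgroup G) := by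
    have h1 : g⁻¹ * x * g ∈ Subgroup.zpowers (g⁻¹ * x * g) ⊓
        Subgroup.normalizer ((P : Subgroup G) : Set G) := by
      refine ⟨Subgroup.mem_zpowers _, Subgroup.centralizer_le_normalizer _ ?_⟩
      exact Subgroup.mem_centralizer_iff.mpr hcomm
    exact ((hp2.inf_normalizer_sylow P).le h1).2
  have hcj : ∀ w ∈ Subgroup.zpowers x, g⁻¹ * w * g⁻¹⁻¹ ∈ (P : Subgroup G) := by
    rintro w ⟨j, rfl⟩
    show g⁻¹ * x ^ j * g⁻¹⁻¹ ∈ _
    rw [← conj_zpow, inv_inv]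
    exact Subgroup.zpow_mem _ hz j
  refine ⟨cj g⁻¹, mapTo_gfs_cj (Subgroup.zpowers_le.mpr hx) hcj, ?_⟩
  rw [cj_apply, inv_inv]
  exact mem_centralizerIn.mpr ⟨hz, hcomm⟩

end Cfsg.Agent.Fusion.CentralConj
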