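import Cfsg.Agent.Lib.Fusion.Normal
import Cfsg.Agent.Lib.Fusion.Saturation

/-!
Puig's lemma: modulo a strongly closed subgroup `T`, every map with source `P` is a map with
source `P ⊔ T`.
-/

set_option autoImplicit false

namespace Cfsg.Agent.Fusion

open Cfsg.FusionSystem (centralizerIn normalizerIn)

/-- A `p`-subgroup of `Sy ⊔ K` is carried into the Sylow subgroup `Sy` by an element of the
normalized subgroup `K`. -/
theorem exists_mem_conj_le_of_sup {G : Type*} [Group G] [Finite G] {p : ℕ} [Fact p.Prime]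
    {X K A Sy : Subgroup G} (hKX : K ≤ X) (hSyX : Sy ≤ X) (hn : X ≤ Subgroup.normalizer (K : Set G))
    (hp : IsPGroup p Sy) (hidx : ¬ p ∣ Sy.relIndex X) (hA : IsPGroup p A) (hAK : A ≤ Sy ⊔ K) :
    ∃ κ ∈ K, ∀ a ∈ A, κ * a * κ⁻¹ ∈ Sy := by
  set M := Sy ⊔ K with hM
  have hpM : IsPGroup p (Sy.subgroupOf M) :=
    hp.of_equiv (Subgroup.subgroupOfEquivOfLe le_sup_left).symm
  have hMidx : ¬ p ∣ (Sy.subgroupOf M).index := fun h => hidx <| by
    rw [← Subgroup.relIndex_mul_relIndex Sy M X le_sup_left (sup_le hSyX hKX)]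
    exact dvd_mul_of_dvd_left h _
  obtain ⟨R, hR⟩ := (hA.of_equiv (Subgroup.subgroupOfEquivOfLe hAK).symm).exists_le_sylow
  obtain ⟨y, hy⟩ := MulAction.exists_smul_eq M R (hpM.toSylow hMidx)
  have hyM : (y : G) ∈ ((Sy ⊔ K : Subgroup G) : Set G) := y.2
  rw [Subgroup.coe_mul_of_left_le_normalizer_right _ _ (hSyX.trans hn)] at hyM
  obtain ⟨s, hs, κ, hκ, hsκ⟩ := hyM
  refine ⟨κ, hκ, fun a ha => ?_⟩
  have h1 : y * ⟨a, hAK ha⟩ * y⁻¹ ∈ ((hpM.toSylow hMidx : Sylow p M) : Subgroup M) := by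
    rw [← hy, Sylow.coe_subgroup_smul]
    exact Subgroup.smul_mem_pointwise_smul _ _ _ (hR ha)
  have h2 : (y : G) * a * (y : G)⁻¹ ∈ Sy := h1
  have h3 := Sy.mul_mem (Sy.mul_mem (Sy.inv_mem hs) h2) hs
  have hyeq : (y : G) = s * κ := hsκ.symm
  rw [hyeq] at h3
  convert h3 using 1
  group

variable {Ω : Type*} [Group Ω] {S : Subgroup Ω}
variable {F : FusionSystem S} {T P Q R : Subgroup Ω} {f g : Ω → Ω} {p : ℕ}

theorem StronglyClosed.le_of_le_img [Finite S] (hT : F.StronglyClosed T) (hf : MapTo F P f)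
    (h : T ≤ img f P) : T ≤ P := by
  obtain ⟨g, hg, -, -, himg⟩ := hf.exists_iso_inverse
  rw [← StronglyClosed.img_eq hT hg h, ← himg P le_rfl]
  exact img_mono h

theorem StronglyClosed.le_img [Finite S] (hT : F.StronglyClosed T) (hf : MapTo F P f) (h : T ≤ P) :
    T ≤ img f P :=
  (StronglyClosed.img_eq hT hf h).symm.le.trans (img_mono h)

theorem StronglyClosed.mem_of_map_mem [Finite S] (hT : F.StronglyClosed T) (hf : MapTo F P f)
    {x : Ω} (hx : x ∈ P) (hfx : f x ∈ T) : x ∈ T := by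
  obtain ⟨g, hg, hgf, -, -⟩ := hf.exists_iso_inverse
  rw [← hgf x hx]
  exact StronglyClosed.map_mem hT hg (mem_img_of_mem hx) hfx

theorem StronglyClosed.mem_mul_inv_iff [Finite S] (hT : F.StronglyClosed T) {a b : Ω}
    (ha : a ∈ S) (hb : b ∈ S) : a⁻¹ * b ∈ T ↔ b * a⁻¹ ∈ T := by
  refine ⟨fun h => ?_, fun h => ?_⟩
  · have := StronglyClosed.conj_mem hT ha h
    convert this using 1
    group
  · have := StronglyClosed.conj_mem hT (S.inv_mem ha) h
    convert this using 1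
    group

/-- The automorphisms of `Q` in the system which induce the identity modulo `T`. -/
def modKer (F : FusionSystem S) (T Q : Subgroup Ω) : Subgroup (MulAut Q) where
  carrier := {σ | σ ∈ F.autGroup Q ∧ ∀ x ∈ Q, x⁻¹ * autFun σ x ∈ T}
  one_mem' := ⟨Subgroup.one_mem _, fun x hx => by simp [autFun_one hx]⟩
  mul_mem' := by
    rintro a b ⟨ha, ha'⟩ ⟨hb, hb'⟩
    refine ⟨Subgroup.mul_mem _ ha hb, fun x hx => ?_⟩
    have := T.mul_mem (hb' x hx) (ha' _ (autFun_mem b hx))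
    rw [autFun_mul a b hx]
    convert this using 1
    group
  inv_mem' := by
    rintro a ⟨ha, ha'⟩
    refine ⟨Subgroup.inv_mem _ ha, fun x hx => ?_⟩
    have := T.inv_mem (ha' _ (autFun_mem a⁻¹ hx))
    rw [autFun_autFun_inv a hx] at this
    convert this using 1
    group

theorem mem_modKer {σ : MulAut Q} :
    σ ∈ modKer F T Q ↔ σ ∈ F.autGroup Q ∧ ∀ x ∈ Q, x⁻¹ * autFun σ x ∈ T := Iff.rfl

theorem modKer_le : modKer F T Q ≤ F.autGroup Q := fun _ h => h.1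

theorem conj_mem_modKer (hT : F.StronglyClosed T) (hQ : Q ≤ S) {n σ : MulAut Q}
    (hn : n ∈ F.autGroup Q) (hσ : σ ∈ modKer F T Q) : n * σ * n⁻¹ ∈ modKer F T Q := by
  refine ⟨Subgroup.mul_mem _ (Subgroup.mul_mem _ hn hσ.1) (Subgroup.inv_mem _ hn), fun x hx => ?_⟩
  have hm := mapTo_of_mem_autGroup hQ hn
  have hy := autFun_mem n⁻¹ hx
  have hz := autFun_mem σ hy
  have := StronglyClosed.map_mem hT hm (Q.mul_mem (Q.inv_mem hy) hz) (hσ.2 _ hy)
  rw [hm.map_mul (Q.inv_mem hy) hz, hm.map_inv hy, autFun_autFun_inv n hx] at this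
  rw [autFun_mul _ _ hx, autFun_mul _ _ hy]
  exact this

theorem autGroup_le_normalizer_modKer (hT : F.StronglyClosed T) (hQ : Q ≤ S) :
    F.autGroup Q ≤ Subgroup.normalizer (modKer F T Q : Set (MulAut Q)) := by
  intro n hn
  refine Subgroup.mem_normalizer_iff.mpr fun σ => ⟨conj_mem_modKer hT hQ hn, fun h => ?_⟩
  have := conj_mem_modKer hT hQ (Subgroup.inv_mem _ hn) h
  convert this using 1
  group

theorem inter_normalizerIn_le_modKer [Finite S] (hT : F.StronglyClosed T) (hQ : Q ≤ S) :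
    autInducedBy (T ⊓ normalizerIn S Q) Q ≤ modKer F T Q := by
  intro α hα
  obtain ⟨n, hn, hnα⟩ := mem_autInducedBy_iff_cj.mp hα
  refine ⟨autInducedBy_le_autGroup hQ (autInducedBy_mono (inf_le_left.trans hT.1) Q hα),
    fun x hx => ?_⟩
  rw [hnα x hx, cj_apply]
  have := T.mul_mem (StronglyClosed.conj_mem hT (S.inv_mem (hQ hx)) hn.1) (T.inv_mem hn.1)
  convert this using 1
  group

theorem exists_mem_normalizerIn_not_mem [Finite S] [Fact p.Prime] (hS : IsPGroup p S)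
    (hT : F.StronglyClosed T) (hQ : Q ≤ S) (h : ¬ T ≤ Q) :
    ∃ t ∈ T ⊓ normalizerIn S Q, t ∉ Q := by
  have := finite_of_le (S := S) (sup_le hQ hT.1)
  set U := (Q ⊔ T).subgroupOf S
  have hlt : Q.subgroupOf S < U := by
    refine lt_of_le_of_ne (Subgroup.comap_mono le_sup_left) fun he => h fun x hx => ?_
    exact (he.symm ▸ (le_sup_right (a := Q) hx) : (⟨x, hT.1 hx⟩ : S) ∈ Q.subgroupOf S)
  obtain ⟨x, hxU, hxQ, hxN⟩ := exists_mem_not_mem_normalizer (hS.to_subgroup U) hlt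
  have hxU' : (x : Ω) ∈ ((Q ⊔ T : Subgroup Ω) : Set Ω) := hxU
  rw [Subgroup.coe_mul_of_left_le_normalizer_right _ _ (hQ.trans (StronglyClosed.le_normalizer hT))]
    at hxU'
  obtain ⟨q, hq, t, ht, hqt⟩ := hxU'
  have hqt' : q * t = x := hqt
  refine ⟨t, ⟨ht, mem_normalizerIn_of_forall hQ (hT.1 ht) fun y hy => ?_⟩, fun htQ => hxQ ?_⟩
  · have h1 := (Subgroup.mem_normalizer_iff.mp hxN ⟨y, hQ hy⟩).mp hy
    have h2 : q * t * y * (q * t)⁻¹ ∈ Q := hqt' ▸ h1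
    have := Q.mul_mem (Q.mul_mem (Q.inv_mem hq) h2) hq
    convert this using 1
    group
  · show (x : Ω) ∈ Q
    exact hqt' ▸ Q.mul_mem hq htQ

/-- Composition modulo `T`. -/
theorem mod_comp {g₁ g₂ : Ω → Ω} (hT : F.StronglyClosed T) (hg₂ : MapTo F R g₂) {a x : Ω}
    (ha : a ∈ R) (hx : g₁ x ∈ R) (h : a⁻¹ * g₁ x ∈ T) : (g₂ a)⁻¹ * g₂ (g₁ x) ∈ T := by
  have := StronglyClosed.map_mem hT hg₂ (R.mul_mem (R.inv_mem ha) hx) h
  rwa [hg₂.map_mul (R.inv_mem ha) hx, hg₂.map_inv ha] at this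

/-- Puig: every map of a saturated system agrees modulo a strongly closed `T` with a map
defined on `P ⊔ T`. -/
theorem exists_map_mod [Finite S] [Fact p.Prime] (hS : IsPGroup p S) (hF : F.IsSaturated p)
    (hT : F.StronglyClosed T) (hf : MapTo F P f) :
    ∃ g, MapTo F (P ⊔ T) g ∧ ∀ x ∈ P, (f x)⁻¹ * g x ∈ T := by
  induction hk : Nat.card S - Nat.card P using Nat.strong_induction_on generalizing P f with
  | h k ih =>
  by_cases hTP : T ≤ P
  · rw [sup_eq_left.mpr hTP]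
    exact ⟨f, hf, fun x _ => by simp⟩
  have hP := hf.le
  have hcard : ∀ {A B : Subgroup Ω}, A < B → B ≤ S → Nat.card A < Nat.card B := fun {A B} h hB => by
    have := finite_of_le hB
    exact lt_of_le_of_ne (Subgroup.card_le_of_le h.le)
      fun he => h.ne (Subgroup.eq_of_le_of_card_ge h.le he.ge)
  have hPS : P < S := lt_of_le_of_ne hP fun he => hTP (he ▸ hT.1)
  obtain ⟨Q, hPQ, hQn⟩ := exists_isFullyNormalized (F := F) hP
  have hQS : Q ≤ S := hQn.1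
  have hQaut := isFullyAutomized_of_isFullyNormalized hS hF hQn
  have hQrec := isReceptive_of_isFullyNormalized hS hF hQn
  obtain ⟨g₁, hg₁, hg₁Q⟩ := exists_map_normalizerIn hS hQaut hQrec hPQ
  have hP'Q : F.IsConj (img f P) Q := isConj_trans (isConj_symm hf.isConj) hPQ
  obtain ⟨g₂, hg₂, hg₂Q⟩ := exists_map_normalizerIn hS hQaut hQrec hP'Q
  have hPN : P ≤ normalizerIn S P := le_normalizerIn hP
  have hP'N : img f P ≤ normalizerIn S (img f P) := le_normalizerIn hf.img_le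
  have hP'card : Nat.card (img f P) = Nat.card P := hf.card_img le_rfl
  have hQcard : Nat.card Q = Nat.card P := isConj_card hPQ
  have hIH : ∀ {R : Subgroup Ω} {u : Ω → Ω}, MapTo F R u → Nat.card P < Nat.card R →
      ∃ g, MapTo F (R ⊔ T) g ∧ ∀ x ∈ R, (u x)⁻¹ * g x ∈ T := fun {R u} hu hlt => by
    refine ih _ ?_ hu rfl
    have := Subgroup.card_le_of_le hu.le
    omega
  -- first map
  obtain ⟨h₁, hh₁, hh₁'⟩ := hIH hg₁ (hcard (lt_normalizerIn hS hPS) normalizerIn_le)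
  -- last map
  have hP'S : img f P < S := lt_of_le_of_ne hf.img_le fun he => by
    have := hcard hPS le_rfl
    rw [← hP'card, he] at this
    omega
  obtain ⟨σ₂, hσ₂, hσ₂g, -, -⟩ := hg₂.exists_iso_inverse
  obtain ⟨h₂, hh₂, hh₂'⟩ := hIH hσ₂ (by
    rw [hg₂.card_img le_rfl, ← hP'card]
    exact hcard (lt_normalizerIn hS hP'S) normalizerIn_le)
  -- the middle map
  obtain ⟨σ₁, hσ₁, hσ₁g, -, -⟩ := (hg₁.restrict hPN).exists_iso_inverse
  have hfm : ∀ x ∈ P, f x ∈ img f P := fun x hx => mem_img_of_mem hx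
  have hσ₁m : ∀ y ∈ img g₁ P, σ₁ y ∈ P := fun y hy => by
    obtain ⟨x, hx, rfl⟩ := (hg₁.mem_img_iff hPN).mp hy
    rw [hσ₁g x hx]; exact hx
  have ha : MapTo F Q (fun y => g₂ (f (σ₁ y))) := hg₁Q ▸
    (hσ₁.comp hf hσ₁m).comp (hg₂.restrict hP'N) fun y hy => hfm _ (hσ₁m y hy)
  have := finite_of_le hQS
  have hamem : ∀ y ∈ Q, g₂ (f (σ₁ y)) ∈ Q := fun y hy =>
    hg₂Q ▸ mem_img_of_mem (hfm _ (hσ₁m y (hg₁Q.symm ▸ hy)))
  set α := autOf ha (img_eq_self_of_forall ha hamem) with hα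
  have hαF : α ∈ F.autGroup Q := autOf_mem ha _
  have hαg : ∀ x ∈ P, autFun α (g₁ x) = g₂ (f x) := fun x hx => by
    rw [hα, autFun_autOf ha _ (hg₁Q ▸ mem_img_of_mem hx)]
    show g₂ (f (σ₁ (g₁ x))) = _
    rw [hσ₁g x hx]
  have hTQ : ¬ T ≤ Q := fun h => hTP <|
    StronglyClosed.le_of_le_img hT (hg₁.restrict hPN) (hg₁Q.symm ▸ h)
  have := finite_mulAut Q
  set A := (autInducedBy (T ⊓ normalizerIn S Q) Q).map (MulAut.conj α).toMonoidHom with hA
  have hAK : A ≤ modKer F T Q := by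
    rintro _ ⟨a, ha', rfl⟩
    exact conj_mem_modKer hT hQS hαF (inter_normalizerIn_le_modKer hT hQS ha')
  obtain ⟨κ, hκ, hκA⟩ := exists_mem_conj_le_of_sup (p := p) (A := A) modKer_le
    (autInducedBy_le_autGroup hQS) (autGroup_le_normalizer_modKer hT hQS)
    (isPGroup_autInducedBy hS Q) ((isFullyAutomized_iff hS).mp hQaut).2
    ((isPGroup_autInducedBy (hS.to_le (inf_le_left.trans hT.1)) Q).map _)
    (hAK.trans le_sup_right)
  set β := κ * α with hβ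
  have hβm : MapTo F Q (autFun β) :=
    mapTo_of_mem_autGroup hQS (Subgroup.mul_mem _ (modKer_le hκ) hαF)
  obtain ⟨γ, hγ, hγβ⟩ := (isReceptive_iff.mp hQrec).2 Q _ hβm (img_autFun β)
  set R := Q ⊔ (T ⊓ normalizerIn S Q) with hR
  have hRext : R ≤ extSub S hβm := by
    refine sup_le (le_extSub hβm) fun n hn => ?_
    obtain ⟨a, haconj⟩ : ∃ a : MulAut Q, ∀ x ∈ Q, autFun a x = cj n x :=
      ⟨Q.normalizerMonoidHom ⟨n, hn.2.2⟩, fun x hx => by rw [autFun_apply _ hx]; rfl⟩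
    have haA : MulAut.conj α a ∈ A :=
      ⟨a, mem_autInducedBy_iff_cj.mpr ⟨n, hn, haconj⟩, rfl⟩
    obtain ⟨h, hh, hhx⟩ := mem_autInducedBy_iff_cj.mp (hκA _ haA)
    refine ⟨hn.2, h, hh, fun x hx => ?_⟩
    have h1 := hhx (autFun β x) (autFun_mem β hx)
    rw [show κ * MulAut.conj α a * κ⁻¹ = β * a * β⁻¹ by rw [hβ, MulAut.conj_apply]; group,
      autFun_mul _ _ (autFun_mem β hx), autFun_inv_autFun β hx, autFun_mul _ _ hx,
      haconj x hx] at h1
    exact h1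
  have hRS : R ≤ S := hRext.trans ((extSub_le hβm).trans normalizerIn_le)
  have hQR : Q < R := by
    refine lt_of_le_of_ne le_sup_left fun he => ?_
    obtain ⟨t, ht, htQ⟩ := exists_mem_normalizerIn_not_mem hS hT hQS hTQ
    exact htQ (he.symm ▸ (le_sup_right : T ⊓ normalizerIn S Q ≤ R) ht)
  obtain ⟨h, hh, hh'⟩ := hIH (hγ.restrict hRext) (hQcard ▸ hcard hQR hRS)
  -- assemble
  have hmem : ∀ {U V : Subgroup Ω} {u : Ω → Ω}, MapTo F (U ⊔ T) u → (∀ x ∈ U, u x ∈ V ⊔ T) →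
      ∀ x ∈ U ⊔ T, u x ∈ V ⊔ T := by
    intro U V u hu huV x hx
    have hle : img u (U ⊔ T) ≤ V ⊔ T := by
      rw [MapTo.img_sup hu le_sup_left le_sup_right]
      refine sup_le (img_le_of_forall huV) ?_
      rw [StronglyClosed.img_eq hT hu le_sup_right]
      exact le_sup_right
    exact hle (mem_img_of_mem hx)
  have hmem' : ∀ {V : Subgroup Ω} {a b : Ω}, a ∈ V ⊔ T → a⁻¹ * b ∈ T → b ∈ V ⊔ T :=
    fun {V a b} ha hab => by
      have := Subgroup.mul_mem _ ha (Subgroup.mem_sup_right (S := V) hab)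
      rwa [mul_inv_cancel_left] at this
  have hh₁r := hh₁.restrict (sup_le_sup_right hPN T)
  have hhr := hh.restrict (sup_le_sup_right hQR.le T)
  have hQimg : Q ≤ img g₂ (normalizerIn S (img f P)) := hg₂Q ▸ img_mono hP'N
  have hh₂r := hh₂.restrict (sup_le_sup_right hQimg T)
  have h1Q : ∀ x ∈ P, h₁ x ∈ Q ⊔ T := fun x hx =>
    hmem' (Subgroup.mem_sup_left (hg₁Q ▸ mem_img_of_mem hx)) (hh₁' x (hPN hx))
  have hβα : ∀ y ∈ Q, (autFun α y)⁻¹ * h y ∈ T := fun y hy => by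
    have h1 := hκ.2 _ (autFun_mem α hy)
    rw [← autFun_mul κ α hy, ← hβ] at h1
    have h2 := hh' y (hQR.le hy)
    rw [hγβ y hy] at h2
    have := T.mul_mem h1 h2
    convert this using 1
    group
  have hQQ : ∀ y ∈ Q, h y ∈ Q ⊔ T := fun y hy =>
    hmem' (Subgroup.mem_sup_left (autFun_mem α hy)) (hβα y hy)
  have hc1 : MapTo F (P ⊔ T) (fun x => h (h₁ x)) := hh₁r.comp hhr (hmem hh₁r h1Q)
  have hc1Q : ∀ x ∈ P ⊔ T, h (h₁ x) ∈ Q ⊔ T := fun x hx =>
    hmem hhr hQQ _ (hmem hh₁r h1Q x hx)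
  refine ⟨fun x => h₂ (h (h₁ x)), hc1.comp hh₂r hc1Q, fun x hx => ?_⟩
  have hy : g₁ x ∈ Q := hg₁Q ▸ mem_img_of_mem hx
  have e1 : (h (g₁ x))⁻¹ * h (h₁ x) ∈ T :=
    mod_comp hT hhr (Subgroup.mem_sup_left hy) (h1Q x hx) (hh₁' x (hPN hx))
  have e2 : (g₂ (f x))⁻¹ * h (h₁ x) ∈ T := by
    have := T.mul_mem (hβα _ hy) e1
    rw [hαg x hx] at this
    convert this using 1
    group
  have hz : f x ∈ img f P := mem_img_of_mem hx
  have hw : g₂ (f x) ∈ Q := hg₂Q ▸ mem_img_of_mem hz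
  have e3 : (h₂ (g₂ (f x)))⁻¹ * h₂ (h (h₁ x)) ∈ T :=
    mod_comp (g₁ := fun x => h (h₁ x)) hT hh₂r (Subgroup.mem_sup_left hw)
      (hc1Q x (Subgroup.mem_sup_left hx)) e2
  have e4 := hh₂' _ (hQimg hw)
  rw [hσ₂g _ (hP'N hz)] at e4
  have := T.mul_mem e4 e3
  convert this using 1
  group

end Cfsg.Agent.Fusion
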