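import Cfsg.Agent.Lib.Fusion.SaturationCriterion
import Cfsg.Agent.Lib.Fusion.NormalCriteria

/-!
The saturation criterion: the assembled statement.
-/

set_option autoImplicit false

namespace Cfsg.Agent.Fusion

open Cfsg.FusionSystem (centralizerIn normalizerIn)

variable {Ω : Type*} [Group Ω] {S : Subgroup Ω} {F : FusionSystem S} {p : ℕ}
variable {P Q R : Subgroup Ω} {f g : Ω → Ω}

theorem chain_of_generated [Finite S] {ℋ : Set (Subgroup Ω)}
    (hgen : ∀ E : FusionSystem S, (∀ P ∈ ℋ, F.Hom P ⊆ E.Hom P) → F ≤ E)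
    (hconj : ∀ P ∈ ℋ, ∀ Q, F.IsConj P Q → Q ∈ ℋ) {P₀ : Subgroup Ω} (hP₀ : P₀ < S)
    (hout : P₀ ∉ ℋ) (hP : F.IsConj P₀ P) (hf : MapTo F P f) : Chain F P f := by
  let C : (Subgroup Ω) → (Ω → Ω) → Prop :=
    fun P f => ∀ R, R ≤ P → F.IsConj P₀ R → Chain F R f
  have hcongr : ∀ {P : Subgroup Ω} {f g : Ω → Ω}, MapTo F P f → C P f → (∀ x ∈ P, g x = f x) →
      C P g := fun _ h hfg R hR hc => (h R hR hc).congr_fun fun x hx => hfg x (hR hx)
  have hcj : ∀ {P : Subgroup Ω} {g : Ω}, P ≤ S → g ∈ S → C P (cj g) := fun _ hg R _ hc =>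
    Chain.single (lt_of_isConj₀ hP₀ hc) (mapTo_cj le_rfl hg)
  have hcomp : ∀ {P Q : Subgroup Ω} {f g : Ω → Ω}, MapTo F P f → MapTo F Q g →
      (∀ x ∈ P, f x ∈ Q) → C P f → C Q g → C P (fun x => g (f x)) :=
    fun hf _ hfQ h h' R hR hc => (h R hR hc).trans (h' _ (img_le_of_forall fun x hx =>
      hfQ x (hR hx)) (isConj_trans hc (hf.restrict hR).isConj))
  have hinv : ∀ {P : Subgroup Ω} {f g : Ω → Ω}, MapTo F P f → MapTo F (img f P) g →
      (∀ x ∈ P, g (f x) = x) → C P f → C (img f P) g := by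
    intro P f g hf hg hgf h R hR hc
    have hR' : img g R ≤ P := img_le_of_forall fun y hy => by
      obtain ⟨x, hx, rfl⟩ := (hf.mem_img_iff le_rfl).mp (hR hy)
      rw [hgf x hx]; exact hx
    have hgR := hg.restrict hR
    have h1 := (h _ hR' (isConj_trans hc hgR.isConj)).inverse (g := g) fun x hx => hgf x (hR' hx)
    have h2 : img f (img g R) = R := by
      rw [hgR.img_img le_rfl]
      refine (img_congr fun y hy => ?_).trans img_id
      obtain ⟨x, hx, rfl⟩ := (hf.mem_img_iff le_rfl).mp (hR hy)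
      rw [hgf x hx]
    rwa [h2] at h1
  obtain ⟨φ, hφ, hφf⟩ := id hf
  have key := hgen (restrictSys F C hcongr hcj hcomp hinv) (fun Q hQ φ hφ => ⟨hφ, fun R hR hc =>
    Chain.single (lt_of_le_of_ne hR fun he =>
      hout (hconj Q hQ P₀ (isConj_symm (he ▸ hc)))) (mapTo_ev hφ)⟩) P hφ
  exact (key.2 P le_rfl hP).congr_fun fun x hx => by rw [ev_apply φ hx]; exact (hφf ⟨x, hx⟩).symm

/-- The saturation criterion of Broto, Castellana, Grodal, Levi and Oliver. -/
theorem isSaturated_of_generated [Finite S] [Fact p.Prime] (hS : IsPGroup p S)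
    {ℋ : Set (Subgroup Ω)} (hconj : ∀ P ∈ ℋ, ∀ Q, F.IsConj P Q → Q ∈ ℋ)
    (hsat : ∀ P ∈ ℋ, ∃ Q, F.IsConj P Q ∧ F.IsFullyAutomized p Q ∧ F.IsReceptive Q)
    (hgen : ∀ E : FusionSystem S, (∀ P ∈ ℋ, F.Hom P ⊆ E.Hom P) → F ≤ E)
    (hstar : ∀ P : Subgroup Ω, F.IsCentric P → P ∉ ℋ → ∃ Q, F.IsConj P Q ∧
      ¬ (autInducedBy S Q ⊓ (pCore p ↥(F.autGroup Q)).map (F.autGroup Q).subtype ≤ Inn Q)) :
    F.IsSaturated p := by
  intro P hPS
  induction hk : Nat.card S - Nat.card P using Nat.strong_induction_on generalizing P with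
  | h k ih =>
  by_cases hP : P ∈ ℋ
  · exact hsat P hP
  rcases eq_or_lt_of_le hPS with heq | hlt
  · subst heq
    obtain ⟨Q, hQ, hne⟩ := hstar P isCentric_top hP
    have : Q = P := Subgroup.eq_of_le_of_card_ge (isConj_le_right hQ) (isConj_card hQ).ge
    subst this
    exact absurd (inf_le_left.trans autInducedBy_self_eq_inn.le) hne
  have hbig : ∀ X : Subgroup Ω, X ≤ S → Nat.card P < Nat.card X → HasGood F p X := fun X hX hc =>
    ih _ (by have := Subgroup.card_le_of_le (K := S) hX; omega) X hX rfl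
  have hchain : ∀ (R : Subgroup Ω) (f : Ω → Ω), F.IsConj P R → MapTo F R f → Chain F R f :=
    fun R f hR hf => chain_of_generated hgen hconj hlt hP hR hf
  obtain ⟨Q, hPQ, hQn⟩ := exists_isFullyNormalized (F := F) hPS
  have hQS := hQn.1
  have := finite_of_le hQS
  have := finite_mulAut Q
  have hQlt := lt_of_isConj₀ hlt hPQ
  suffices hK : ∃ K, GoodKernel F p Q K by
    obtain ⟨K, hK⟩ := hK
    exact ⟨Q, hPQ, good_of_kernel hS hlt hbig hchain hPQ hQn hK⟩
  by_cases hc : F.IsCentric P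
  · obtain ⟨Q', hPQ', hne⟩ := hstar P hc hP
    obtain ⟨α, ⟨hα, hαc⟩, hαI⟩ := SetLike.not_le_iff_exists.mp hne
    obtain ⟨y, hy, hyα⟩ := mem_autInducedBy_iff_cj.mp hα
    have hQ'S := isConj_le_right hPQ'
    have := finite_of_le hQ'S
    have := finite_mulAut Q'
    have hyN : y ∈ normalizerIn S Q' := mem_normalizerIn_of_forall hQ'S hy fun x hx => by
      rw [← cj_apply, ← hyα x hx]; exact autFun_mem α hx
    obtain ⟨τ, hτ, hτQ⟩ := exists_norm_map hS hlt hbig hchain hPQ hQn hPQ'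
    have hQ'N := le_normalizerIn (S := S) hQ'S
    have hh := hτ.restrict hQ'N
    set K := (pCore p ↥(F.autGroup Q)).map (F.autGroup Q).subtype with hKd
    have hKn : ∀ γ ∈ F.autGroup Q, ∀ a ∈ K, γ * a * γ⁻¹ ∈ K := by
      rintro γ hγ _ ⟨a, ha, rfl⟩
      exact ⟨⟨γ, hγ⟩ * a * ⟨γ, hγ⟩⁻¹, (normal_pCore p _).conj_mem a ha _, rfl⟩
    have hinn : Inn Q ≤ K := by
      intro a ha
      exact ⟨⟨a, inn_le_autGroup hQS ha⟩, le_pCore (normal_inn_subgroupOf F Q)
        ((isPGroup_inn (hS.to_le hQS)).of_equiv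
          (Subgroup.subgroupOfEquivOfLe (inn_le_autGroup hQS)).symm) ha, rfl⟩
    have hα' : MulAut.congr (isoEquiv hh hτQ) α ∈ K := by
      have hmap := map_congr_autGroup hh hτQ
      refine mem_pCore_transport (MulAut.congr (isoEquiv hh hτQ)).symm (F.autGroup Q)
        (F.autGroup Q') _ le_rfl ?_ ?_ ?_
      · rw [← hmap, Subgroup.map_map]
        convert Subgroup.map_id (F.autGroup Q') using 2
        ext a; simp
      · exact hmap.le ⟨α, autInducedBy_le_autGroup hQ'S hα, rfl⟩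
      · rw [MulEquiv.symm_apply_apply]; exact hαc
    have hty : τ y ∈ preSub S Q K := by
      refine ⟨hτQ ▸ hτ.map_mem_normalizerIn hQ'N hyN hyN, _, hα', fun x hx => ?_⟩
      obtain ⟨z, hz, rfl⟩ := (hτ.mem_img_iff hQ'N).mp (hτQ.symm ▸ hx : x ∈ img τ Q')
      rw [autFun_congr hh hτQ α hz, hyα z hz, cj_apply, cj_apply, hτ.map_conj hyN (hQ'N hz)]
    have hQT : Q ≤ preSub S Q K := by
      intro q hq
      obtain ⟨c, hc⟩ := exists_conjAut (P := Q) (le_normalizerIn (S := S) hQS hq).2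
      exact ⟨le_normalizerIn hQS hq, c, hinn ((inn_eq_autInducedBy Q).symm ▸
        mem_autInducedBy_iff_cj.mpr ⟨q, hq, hc⟩), hc⟩
    refine ⟨K, hKn, Subgroup.map_subtype_le _, (isPGroup_pCore p _).map _, hinn,
      lt_of_le_of_ne hQT fun he => ?_, Or.inl fun R hR => hc.2 R (isConj_trans hPQ hR)⟩
    rw [← he, ← hτQ, hτ.apply_mem_img_iff hQ'N hyN] at hty
    exact hαI ((inn_eq_autInducedBy Q').symm ▸ mem_autInducedBy_iff_cj.mpr ⟨y, hty, hyα⟩)
  · simp only [FusionSystem.IsCentric, not_and, not_forall] at hc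
    obtain ⟨R, hR, hCR⟩ := hc hPS
    obtain ⟨c, hcC, hcR⟩ := SetLike.not_le_iff_exists.mp hCR
    obtain ⟨τ, hτ, hτQ⟩ := exists_norm_map hS hlt hbig hchain hPQ hQn hR
    have hRN := le_normalizerIn (S := S) (isConj_le_right hR)
    have hcN : c ∈ normalizerIn S R := centralizerIn_le_normalizerIn hcC
    have hτc : τ c ∈ centralizerIn S Q := hτQ ▸ hτ.map_mem_centralizerIn hRN hcN hcC
    have hsub : ∀ y ∈ centralizerIn S Q, y ∈ preSub S Q (Inn Q) := fun y hy =>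
      ⟨centralizerIn_le_normalizerIn hy, 1, Subgroup.one_mem _, fun x hx => by
        rw [autFun_one hx, cj_apply, ← (mem_centralizerIn.mp hy).2 x hx, mul_inv_cancel_right]⟩
    have hQT : Q ≤ preSub S Q (Inn Q) := by
      intro q hq
      obtain ⟨a, ha⟩ := exists_conjAut (P := Q) (le_normalizerIn (S := S) hQS hq).2
      exact ⟨le_normalizerIn hQS hq, a, (inn_eq_autInducedBy Q).symm ▸
        mem_autInducedBy_iff_cj.mpr ⟨q, hq, ha⟩, ha⟩
    refine ⟨Inn Q, fun γ hγ a ha => ?_, inn_le_autGroup hQS, isPGroup_inn (hS.to_le hQS), le_rfl,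
      lt_of_le_of_ne hQT fun he => ?_, Or.inr (inn_le_autInducedBy hQS)⟩
    · exact (normal_inn_subgroupOf F Q).conj_mem ⟨a, inn_le_autGroup hQS ha⟩ ha ⟨γ, hγ⟩
    · have h1 : τ c ∈ preSub S Q (Inn Q) := hsub _ hτc
      rw [← he, ← hτQ, hτ.apply_mem_img_iff hRN hcN] at h1
      exact hcR h1

end Cfsg.Agent.Fusion
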