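import Cfsg.Agent.Lib.Fusion.NormalCriteria
import Cfsg.Agent.Lib.Fusion.Invariant

/-!
A saturated subsystem with the same centralizers of elements of order `p` is the whole system.
-/

set_option autoImplicit false

namespace Cfsg.Agent.Fusion

open Cfsg.FusionSystem (centralizerIn normalizerIn)

variable {Ω : Type*} [Group Ω] {S : Subgroup Ω} [Finite S]
variable {F E : FusionSystem S} {p : ℕ} [Fact p.Prime]

theorem eq_of_centralizers (hS : IsPGroup p S) (hF : F.IsSaturated p) (hE : E.IsSaturated p)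
    (hEF : ∀ P f, MapTo E P f → MapTo F P f)
    (hZ : ∀ Z : Subgroup Ω, Z ≤ S → Nat.card Z = p → E.IsFullyCentralized Z →
      F.Hom Z = E.Hom Z ∧ ∀ (C C' : FusionSystem (centralizerIn S Z)),
        F.IsCentralizerSystem Z C → E.IsCentralizerSystem Z C' → ∀ P, C.Hom P = C'.Hom P) :
    F = E := by
  refine fusionSystem_ext fun P f => ⟨alperin hS hF E ?_ P f, hEF P f⟩
  intro Q hQ α hα
  have hQc : F.IsCentric Q := by
    rcases hQ with rfl | h
    · exact isCentric_top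
    · exact h.1
  have hQS := hQc.1
  have := finite_of_le hQS
  refine (mem_autGroup_iff hQS).mpr ?_
  have hf := mapTo_of_mem_autGroup hQS hα
  by_cases hS1 : S = ⊥
  · refine (mapTo_id E hQS).congr' fun x hx => ?_
    have h1 : x = 1 := Subgroup.mem_bot.mp (hS1.le (hQS hx))
    rw [h1, hf.map_one]
  -- an element of order `p` in the centre of `S`
  obtain ⟨z, hzS, hzc, hz⟩ : ∃ z ∈ S, (∀ s ∈ S, Commute s z) ∧ orderOf z = p := by
    haveI : Nontrivial S := (Subgroup.nontrivial_iff_ne_bot S).mpr hS1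
    have := hS.center_nontrivial
    obtain ⟨n, hn⟩ := IsPGroup.iff_card.mp (hS.to_subgroup (Subgroup.center S))
    have hn0 : n ≠ 0 := by
      intro h0
      rw [h0, pow_zero] at hn
      exact absurd (Finite.one_lt_card (α := Subgroup.center S)) (by omega)
    obtain ⟨c, hc⟩ := exists_prime_orderOf_dvd_card' (G := Subgroup.center S) p
      (hn ▸ dvd_pow_self p hn0)
    refine ⟨((c : S) : Ω), (c : S).2, fun s hs => ?_, ?_⟩
    · exact congrArg Subtype.val (Subgroup.mem_center_iff.mp c.2 ⟨s, hs⟩)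
    · rw [← hc, ← Subgroup.orderOf_coe c, ← Subgroup.orderOf_coe (c : S)]
  set Z := Subgroup.zpowers z with hZdef
  have hZS : Z ≤ S := Subgroup.zpowers_le.mpr hzS
  have hCS : centralizerIn S Z = S := by
    refine le_antisymm centralizerIn_le fun s hs => mem_centralizerIn.mpr ⟨hs, fun w hw => ?_⟩
    obtain ⟨i, rfl⟩ := Subgroup.mem_zpowers_iff.mp hw
    exact ((hzc s hs).zpow_right i).eq.symm
  have hZfc : E.IsFullyCentralized Z := ⟨hZS, fun R _ => by
    rw [hCS]; exact Subgroup.card_le_of_le centralizerIn_le⟩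
  obtain ⟨hhom, hcent⟩ := hZ Z hZS ((Nat.card_zpowers z).trans hz) hZfc
  have hZQ : Z ≤ Q := Subgroup.zpowers_le.mpr (centralizerIn_le_of_isCentric hQc
    (mem_centralizerIn.mpr ⟨hzS, fun x hx => (hzc x (hQS hx)).eq⟩))
  set g₀ := autFun α with hg₀
  have hfE : MapTo E Z g₀ := by
    obtain ⟨φ, hφ, hφx⟩ := hf.restrict hZQ
    exact ⟨φ, hhom ▸ hφ, hφx⟩
  obtain ⟨k, hk, hkf, -, hkimg⟩ := hfE.exists_iso_inverse
  obtain ⟨g, hg, hgk⟩ := (isReceptive_iff.mp
    (isReceptive_of_isFullyCentralized hS hE hZfc)).2 _ k hk (hkimg Z le_rfl)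
  have hext : Q ≤ extSub S hk := fun y hy => centralizerIn_le_extSub hk
    (mem_centralizerIn.mpr ⟨hQS hy, fun w hw => by
      obtain ⟨u, hu, rfl⟩ := (hfE.mem_img_iff le_rfl).mp hw
      obtain ⟨v, hv, rfl⟩ : ∃ v ∈ Q, g₀ v = y := ⟨_, autFun_mem α⁻¹ hy, autFun_autFun_inv α hy⟩
      have h1 := (mem_centralizerIn.mp (hCS.symm ▸ hQS hv : v ∈ centralizerIn S Z)).2 u hu
      rw [← hf.map_mul (hZQ hu) hv, ← hf.map_mul hv (hZQ hu), h1]⟩)
  have hgQ := hg.restrict hext
  have hψ : MapTo F Q (fun x => g (g₀ x)) :=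
    hf.comp (hEF _ _ hgQ) fun x hx => autFun_mem α hx
  have hQC : Q ≤ centralizerIn S Z := hCS.symm ▸ hQS
  have hψC : MapTo (cSys F hZS) Q (fun x => g (g₀ x)) :=
    (mapTo_cSys_iff (isCentralizerSystem_cSys F hZS)).mpr
      ⟨hQC, fun x hx => hCS.symm ▸ hψ.mem hx, _, by rwa [sup_eq_left.mpr hZQ], fun _ _ => rfl,
        fun x hx => by rw [hgk _ (mem_img_of_mem hx), hkf x hx]⟩
  have hψE : MapTo (cSys E hZS) Q (fun x => g (g₀ x)) := by
    obtain ⟨φ, hφ, hφx⟩ := hψC
    exact ⟨φ, hcent _ _ (isCentralizerSystem_cSys F hZS) (isCentralizerSystem_cSys E hZS) Q ▸ hφ,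
      hφx⟩
  obtain ⟨-, -, g', hg', hg'x, -⟩ := (mapTo_cSys_iff (isCentralizerSystem_cSys E hZS)).mp hψE
  obtain ⟨k', hk', hk'g, -, -⟩ := hgQ.exists_iso_inverse
  refine ((((hg'.restrict le_sup_left).congr' fun x hx => (hg'x x hx).symm).comp hk'
    fun x hx => mem_img_of_mem (autFun_mem α hx))).congr' fun x hx => ?_
  exact (hk'g _ (autFun_mem α hx)).symm

end Cfsg.Agent.Fusion
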