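import Cfsg.Agent.Lib.Fusion.Invariant
import Cfsg.Agent.Lib.Fusion.Biset
import Cfsg.Agent.Lib.Fusion.NormalCriteria

/-!
The inner system of a subgroup as a subsystem; systems over abelian groups.
-/

set_option autoImplicit false

namespace Cfsg.Agent.Fusion

open Cfsg.FusionSystem (centralizerIn normalizerIn)

universe u

variable {Ω : Type u} [Group Ω] {S Q : Subgroup Ω} {F : FusionSystem S} {p : ℕ}

theorem isSubsystemOf_inner (hQ : Q ≤ S) : (innerFusionSystem Q).IsSubsystemOf F := by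
  rintro P φ ⟨hP, g, hg, h⟩
  exact (mapTo_cj (hP.trans hQ) (hQ hg)).hom_mem h

theorem isInvariantIn_inner [Finite S] (hQ : F.IsNormal Q) :
    (innerFusionSystem Q).IsInvariantIn F := by
  have hQS := hQ.1
  refine ⟨isSubsystemOf_inner hQS, IsNormal.stronglyClosed hQ, ?_, ?_⟩
  · rintro P hPQ φ ⟨-, g, hg, h⟩ α hα
    refine ⟨conjHom _ ((α ⟨g, hg⟩ : Q) : Ω), ⟨Subgroup.map_le_range _ _ |>.trans (by
      rintro _ ⟨y, rfl⟩; exact (α y).2), _, (α ⟨g, hg⟩).2, fun _ => rfl⟩, fun x hφx hαx => ?_⟩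
    have hx : (⟨φ x, hφx⟩ : Q) = ⟨g, hg⟩ * ⟨x, hPQ x.2⟩ * ⟨g, hg⟩⁻¹ := Subtype.ext (h x)
    rw [hx, _root_.map_mul, _root_.map_mul, _root_.map_inv]
    rfl
  · intro P hPQ φ hφ
    obtain ⟨g, hg, hgf, hgQ⟩ := (isNormal_iff.mp hQ).2 P _ (mapTo_ev hφ)
    have hgQ' := hg.restrict (le_sup_right : Q ≤ P ⊔ Q)
    refine ⟨autOf hgQ' hgQ, autOf_mem _ _, conjHom P 1,
      ⟨hPQ, 1, Q.one_mem, fun _ => rfl⟩, fun x hx => ?_⟩
    rw [← autFun_apply, show conjHom P 1 x = (x : Ω) by
      show (1 : Ω) * x * 1⁻¹ = x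
      group, autFun_autOf hgQ' hgQ (hPQ x.2), hgf _ x.2, ev_coe]

theorem isWeaklyNormalIn_inner [Finite S] [Fact p.Prime] (hS : IsPGroup p S)
    (hF : F.IsSaturated p) (hQ : F.IsNormal Q) : (innerFusionSystem Q).IsWeaklyNormalIn F p := by
  have := finite_of_le hQ.1
  exact ⟨isSaturated_inner (hS.to_le hQ.1), hF, isInvariantIn_inner hQ⟩

theorem isNormal_of_isInvariantIn_inner [Finite S] [Fact p.Prime] (hS : IsPGroup p S)
    (hF : F.IsSaturated p) (h : (innerFusionSystem Q).IsInvariantIn F) : F.IsNormal Q := by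
  have hQS : Q ≤ S := h.2.1.1
  have := finite_of_le hQS
  have := (hS.to_le hQS).isNilpotent
  have hle : ∀ i, ucs Q i ≤ Q := fun i => Subgroup.map_subtype_le _
  have hchar : ∀ i, ∀ β : MulAut Q, ∀ x ∈ ucs Q i, autFun β x ∈ ucs Q i := by
    rintro i β _ ⟨a, ha, rfl⟩
    exact ⟨β a, (Subgroup.characteristic_iff_le_comap.mp inferInstance β) ha,
      (autFun_coe β a).symm⟩
  refine isNormal_of_series hS hF h.2.1 (n := Group.nilpotencyClass Q) (fun i => ucs Q i) ?_ ?_
    ?_ ?_ ?_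
  · simp [ucs]
  · simp [ucs, Subgroup.upperCentralSeries_nilpotencyClass, ← MonoidHom.range_eq_map]
  · intro a b hab
    exact Subgroup.map_mono (Subgroup.upperCentralSeries_mono Q hab)
  · intro i x hx k hk
    rw [Fin.val_succ] at hx
    obtain ⟨a, ha, rfl⟩ := hx
    refine ⟨a⁻¹ * (⟨k, hk⟩ * a * ⟨k, hk⟩⁻¹), ?_, rfl⟩
    have h1 := (Subgroup.mem_upperCentralSeries_succ_iff.mp (Subgroup.inv_mem _ ha)) ⟨k, hk⟩
    convert h1 using 1
    simp [commutatorElement_def, mul_assoc]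
  · intro i
    refine ⟨(hle _).trans hQS, fun φ hφ => ?_⟩
    rw [range_eq_img_ev]
    have hm := mapTo_ev hφ
    obtain ⟨α, -, f₀, hf₀, hx⟩ := IsInvariantIn.frattini h (hle _) hm
    obtain ⟨-, g, hg, hgx⟩ := mapTo_inner_iff.mp hf₀
    obtain ⟨γ, hγ⟩ := exists_conjAut (P := Q) (Subgroup.le_normalizer hg)
    have := finite_of_le ((hle i.castSucc).trans hQS)
    refine img_eq_self_of_forall hm fun x hx' => ?_
    rw [hx x hx', hgx x hx', ← cj_apply, ← hγ x (hle _ hx')]
    exact hchar _ _ _ (hchar _ _ x hx')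

/-- Over an abelian group a simple system is the inner system of a group of order `p`. -/
theorem isSimple_iff_of_commute [Finite S] [Fact p.Prime] (hS : IsPGroup p S)
    (hF : F.IsSaturated p) (hab : ∀ x ∈ S, ∀ y ∈ S, x * y = y * x) :
    F.IsSimple p ↔
      (Nat.card S = p ∧ ∀ P : Subgroup Ω, F.Hom P = (innerFusionSystem S).Hom P) := by
  have hinner : ∀ {P : Subgroup Ω} {g : Ω}, P ≤ S → g ∈ S → ∀ x ∈ P, g * x * g⁻¹ = x :=
    fun {P g} hP hg x hx => by rw [hab g hg x (hP hx), mul_inv_cancel_right]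
  constructor
  · rintro ⟨-, hne, hsimp⟩
    -- the inner system of `S` is normal
    have hST : ∀ P : Subgroup Ω, (innerFusionSystem S).Hom P = F.Hom P := by
      have hSn : F.IsNormal S := isNormal_of_stronglyClosed hS hF
        (stronglyClosed_iff.mpr ⟨le_rfl, fun _ _ _ hf _ hx => hf.mem hx⟩) fun P hP x hx =>
          centralizerIn_le_of_isCentric hP.1
            (mem_centralizerIn.mpr ⟨hx, fun y hy => hab y (hP.1.1 hy) x hx⟩)
      have hnorm : (innerFusionSystem S).IsNormalIn F p := by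
        refine ⟨isWeaklyNormalIn_inner hS hF hSn, fun α hα => ?_⟩
        have h1 : α = 1 := by
          obtain ⟨-, g, hg, hgα⟩ := mapTo_inner_iff.mp (mapTo_of_mem_autGroup le_rfl hα)
          exact autFun_ext fun x hx => by
            rw [hgα x hx, hinner le_rfl hg x hx, autFun_one hx]
        subst h1
        exact ⟨1, Subgroup.one_mem _, fun x => rfl, fun c hc => by simp⟩
      rcases hsimp S _ hnorm with h | ⟨-, h⟩
      · exact absurd h hne
      · exact h
    refine ⟨?_, fun P => (hST P).symm⟩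
    have : Nontrivial S := (Subgroup.nontrivial_iff_ne_bot S).mpr hne
    obtain ⟨n, hn, hcard⟩ := hS.nontrivial_iff_card.mp inferInstance
    obtain ⟨z, hz⟩ := exists_prime_orderOf_dvd_card' (G := S) p (hcard ▸ dvd_pow_self p hn.ne')
    set T := Subgroup.zpowers (z : Ω) with hTdef
    have hTS : T ≤ S := Subgroup.zpowers_le.mpr z.2
    have hTcard : Nat.card T = p := by rw [hTdef, Nat.card_zpowers, Subgroup.orderOf_coe, hz]
    have hTn : F.IsNormal T := by
      refine isNormal_iff.mpr ⟨hTS, fun P f hf => ?_⟩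
      obtain ⟨φ, hφ, hφf⟩ := id hf
      rw [← hST P] at hφ
      obtain ⟨hP, g, hg, hgx⟩ := hφ
      refine ⟨fun x => x, mapTo_id F (sup_le hP hTS), fun x hx => ?_, img_id⟩
      rw [← hφf ⟨x, hx⟩, hgx ⟨x, hx⟩, hinner hP hg x hx]
    have hnorm : (innerFusionSystem T).IsNormalIn F p := by
      refine ⟨isWeaklyNormalIn_inner hS hF hTn, fun α hα => ?_⟩
      have h1 : α = 1 := by
        obtain ⟨-, g, hg, hgα⟩ := mapTo_inner_iff.mp (mapTo_of_mem_autGroup le_rfl hα)
        exact autFun_ext fun x hx => by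
          rw [hgα x hx, hinner hTS (hTS hg) x hx, autFun_one hx]
      subst h1
      exact ⟨1, Subgroup.one_mem _, fun x => rfl, fun c hc => by simp⟩
    rcases hsimp T _ hnorm with h | ⟨h, -⟩
    · rw [h, Subgroup.card_bot] at hTcard
      exact absurd hTcard.symm (Fact.out : p.Prime).ne_one
    · rw [← h, hTcard]
  · rintro ⟨hcard, hhom⟩
    have : Nontrivial S := Finite.one_lt_card_iff_nontrivial.mp
      (hcard.symm ▸ (Fact.out : p.Prime).one_lt)
    refine ⟨hF, (Subgroup.nontrivial_iff_ne_bot S).mp inferInstance, fun T E hE => ?_⟩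
    have hTS : T ≤ S := hE.1.2.2.2.1.1
    have := finite_of_le hTS
    rcases (Nat.dvd_prime (Fact.out : p.Prime)).mp (hcard ▸ Subgroup.card_dvd_of_le hTS) with h | h
    · exact Or.inl (Subgroup.card_eq_one.mp h)
    · obtain rfl : T = S := Subgroup.eq_of_le_of_card_ge hTS (by rw [h, hcard])
      refine Or.inr ⟨rfl, fun P => Set.Subset.antisymm (hE.1.2.2.1 P) ?_⟩
      rw [hhom P]
      rintro φ ⟨hP, g, hg, hgx⟩
      exact (mapTo_cj (F := E) hP hg).hom_mem hgx

end Cfsg.Agent.Fusion
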