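import Cfsg.Agent.Lib.Fusion.NormalizerSaturated
import Cfsg.Agent.Lib.Fusion.InnerSub
import Cfsg.Agent.Lib.Fusion.InnerCriteria
import Cfsg.Agent.Lib.Fusion.SolvableSystem

/-!
The centralizer system of a normal subgroup is normal; so is the inner system of a normal subgroup.
-/

set_option autoImplicit false

namespace Cfsg.Agent.Fusion

open Cfsg.FusionSystem (centralizerIn normalizerIn)

universe u

variable {Ω : Type u} [Group Ω] {S Q : Subgroup Ω} {F : FusionSystem S} {p : ℕ}
variable [Finite S] [Fact p.Prime]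

theorem isNormalIn_inner (hS : IsPGroup p S) (hF : F.IsSaturated p) (hQ : F.IsNormal Q) :
    (innerFusionSystem Q).IsNormalIn F p := by
  refine ⟨isWeaklyNormalIn_inner hS hF hQ, fun α hα => ?_⟩
  obtain ⟨-, g, hg, hgα⟩ := mapTo_inner_iff.mp (mapTo_of_mem_autGroup le_rfl hα)
  set W := Q ⊔ centralizerIn S Q with hW
  have hWS : W ≤ S := sup_le hQ.1 centralizerIn_le
  obtain ⟨δ, hδ⟩ := exists_conjAut (P := W) (Subgroup.le_normalizer (Subgroup.mem_sup_left hg))
  refine ⟨δ, autInducedBy_le_autGroup hWS (mem_autInducedBy_iff_cj.mpr ⟨g, hQ.1 hg, hδ⟩),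
    fun x => ?_, fun c hc => ?_⟩
  · rw [← autFun_apply α x.2, hgα x x.2]
    show ((δ ⟨(x : Ω), _⟩ : W) : Ω) = _
    rw [← autFun_apply δ (Subgroup.mem_sup_left x.2), hδ _ (Subgroup.mem_sup_left x.2)]
    rfl
  · rw [← autFun_apply δ c.2, hδ _ c.2, cj_apply, (mem_centralizerIn.mp hc).2 g hg,
      mul_inv_cancel_right, inv_mul_cancel]
    exact Subgroup.one_mem _

/-- The centralizer system of a normal subgroup is a normal subsystem. -/
theorem isNormalIn_cSys (hS : IsPGroup p S) (hF : F.IsSaturated p) (hQ : F.IsNormal Q) :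
    (cSys F hQ.1).IsNormalIn F p := by
  have hQS := hQ.1
  set C := centralizerIn S Q with hC
  have hCS : C ≤ S := centralizerIn_le
  haveI := finite_of_le hQS
  haveI := finite_of_le hCS
  have hQn : F.IsFullyNormalized Q := isFullyNormalized_of_normal hQS (IsNormal.le_normalizer hQ)
  have hQr := isReceptive_of_isFullyNormalized hS hF hQn
  have hCsc : F.StronglyClosed C := stronglyClosed_centralizerIn hQ
  have hQsc := IsNormal.stronglyClosed hQ
  have hiff : ∀ {P : Subgroup Ω} {f : Ω → Ω}, MapTo (cSys F hQS) P f ↔ P ≤ C ∧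
      (∀ x ∈ P, f x ∈ C) ∧ ∃ g, MapTo F (P ⊔ Q) g ∧ (∀ x ∈ P, g x = f x) ∧ ∀ x ∈ Q, g x = x :=
    mapTo_cSys_iff (isCentralizerSystem_cSys F hQS)
  refine ⟨⟨isSaturated_centralizerSystem hS hF
    (isFullyCentralized_of_isFullyNormalized hS hF hQn) (isCentralizerSystem_cSys F hQS), hF,
    fun P φ hφ => hφ.1, hCsc, fun P hPC φ hφ α hα => ?_, fun P hPC φ hφ => ?_⟩, fun α hα => ?_⟩
  · have ha := mapTo_of_mem_autGroup hCS hα
    obtain ⟨a, hag, hax, haQ⟩ := (isNormal_iff.mp hQ).2 C _ ha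
    obtain ⟨-, hfC, h, hh, hhf, hhQ⟩ := hiff.mp (mapTo_ev hφ)
    have hle : P ⊔ Q ≤ C ⊔ Q := sup_le_sup_right hPC Q
    have haP := hag.restrict hle
    obtain ⟨k, hk, hka, -, -⟩ := haP.exists_iso_inverse
    have hkm : ∀ y ∈ img a (P ⊔ Q), k y ∈ P ⊔ Q := fun y hy => by
      obtain ⟨x, hx, rfl⟩ := (haP.mem_img_iff le_rfl).mp hy
      rw [hka x hx]; exact hx
    have hhm : ∀ y ∈ P ⊔ Q, h y ∈ C ⊔ Q := fun y hy => by
      have h1 : img h (P ⊔ Q) ≤ C ⊔ Q := by
        rw [hh.img_sup le_sup_left le_sup_right]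
        exact sup_le_sup (img_le_of_forall fun x hx => (hhf x hx).symm ▸ hfC x hx)
          (img_le_of_forall fun x hx => (hhQ x hx).symm ▸ hx)
      exact h1 (mem_img_of_mem hy)
    have hχ := (hk.comp hh hkm).comp hag fun y hy => hhm _ (hkm y hy)
    have he : (P.subgroupOf C).map (C.subtype.comp α.toMonoidHom) = img (autFun α) P :=
      map_subgroupOf_eq_img (fun x => (autFun_coe α x).symm) hPC
    have hiP : img (autFun α) P = img a P :=
      img_congr fun x hx => (hax x (hPC hx)).symm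
    have hsup : img (autFun α) P ⊔ Q ≤ img a (P ⊔ Q) := by
      rw [haP.img_sup le_sup_left le_sup_right, haQ, hiP]
    have hPle : img (autFun α) P ≤ C := (img_mono hPC).trans (img_autFun α).le
    have hkey : ∀ x ∈ P, a (h (k (autFun α x))) = autFun α (ev φ x) := fun x hx => by
      rw [← hax x (hPC hx), hka x (Subgroup.mem_sup_left hx), hhf x hx, hax _ (hfC x hx)]
    obtain ⟨χ, hχm, hχx⟩ : MapTo (cSys F hQS)
        ((P.subgroupOf C).map (C.subtype.comp α.toMonoidHom)) fun y => a (h (k y)) := by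
      rw [he]
      refine hiff.mpr ⟨hPle, fun y hy => ?_, _, hχ.restrict hsup, fun _ _ => rfl, fun y hy => ?_⟩
      · obtain ⟨x, hx, rfl⟩ := ((ha.restrict hPC).mem_img_iff le_rfl).mp hy
        rw [hkey x hx]; exact autFun_mem α (hfC x hx)
      · obtain ⟨x, hx, rfl⟩ := ((hag.restrict le_sup_right).mem_img_iff le_rfl).mp (haQ.symm ▸ hy : y ∈ img a Q)
        show a (h (k (a x))) = a x
        rw [hka x (Subgroup.mem_sup_right hx), hhQ x hx]
    refine ⟨χ, hχm, fun x hφx hαx => ?_⟩
    rw [hχx]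
    show a (h (k ((α ⟨x, hPC x.2⟩ : C) : Ω))) = _
    rw [← autFun_apply α (hPC x.2), hkey x x.2, ev_coe, autFun_apply α hφx]
  · have hf := mapTo_ev hφ
    obtain ⟨g, hg, hgf, hgQ⟩ := (isNormal_iff.mp hQ).2 P _ hf
    have hgQm := hg.restrict (le_sup_right : Q ≤ P ⊔ Q)
    obtain ⟨G, hG, hGg⟩ := (isReceptive_iff.mp hQr).2 Q g hgQm hgQ
    have hGC : MapTo F C G := hG.restrict (centralizerIn_le_extSub hgQm)
    have hGCi : img G C = C := StronglyClosed.img_eq hCsc hGC le_rfl
    obtain ⟨k, hk, hkG, -, -⟩ := (hG.restrict (sup_le (centralizerIn_le_extSub hgQm)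
      (le_extSub hgQm) : C ⊔ Q ≤ _)).exists_iso_inverse
    have hGQ : img G Q = Q := by rw [img_congr hGg, hgQ]
    rw [(hG.restrict (sup_le (centralizerIn_le_extSub hgQm) (le_extSub hgQm) : C ⊔ Q ≤ _)).img_sup
      le_sup_left le_sup_right, hGCi, hGQ] at hk
    have hgm : ∀ x ∈ P ⊔ Q, g x ∈ C ⊔ Q := fun x hx => by
      have h1 : img g (P ⊔ Q) ≤ C ⊔ Q := by
        rw [hg.img_sup le_sup_left le_sup_right, hgQ]
        refine sup_le_sup_right (img_le_of_forall fun y hy => ?_) Q
        rw [hgf y hy]; exact StronglyClosed.map_mem hCsc hf hy (hPC hy)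
      exact h1 (mem_img_of_mem hx)
    set β := autOf hGC hGCi
    have hfC : ∀ x ∈ P, ev φ x ∈ C := fun x hx => StronglyClosed.map_mem hCsc hf hx (hPC hx)
    have hkC : ∀ x ∈ P, k (g x) ∈ C ∧ G (k (g x)) = g x := fun x hx => by
      obtain ⟨w, hw, hwx⟩ := (hGC.mem_img_iff le_rfl).mp
        (hGCi.symm ▸ (hgf x hx).symm ▸ hfC x hx : g x ∈ img G C)
      rw [← hwx, hkG w (Subgroup.mem_sup_left hw)]
      exact ⟨hw, rfl⟩
    obtain ⟨φ₀, hφ₀, hφ₀x⟩ : MapTo (cSys F hQS) P fun x => k (g x) :=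
      hiff.mpr ⟨hPC, fun x hx => (hkC x hx).1, _, hg.comp hk hgm, fun _ _ => rfl, fun x hx => by
        show k (g x) = x
        rw [← hGg x hx, hkG x (Subgroup.mem_sup_right hx)]⟩
    refine ⟨β, autOf_mem _ _, φ₀, hφ₀, fun x hxT => ?_⟩
    rw [← autFun_apply β hxT, autFun_autOf hGC hGCi hxT, hφ₀x, (hkC x x.2).2, hgf x x.2, ev_coe]
  · obtain ⟨-, -, h, hh, hhα, hhQ⟩ := hiff.mp (mapTo_of_mem_autGroup le_rfl hα)
    set W := C ⊔ Q with hWd
    have hWS : W ≤ S := sup_le hCS hQS
    haveI := finite_of_le hWS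
    have hWi : img h W = W := by
      rw [hh.img_sup le_sup_left le_sup_right, img_congr hhα, img_autFun,
        img_congr (g := fun x => x) hhQ, img_id]
    have hWn : F.IsFullyNormalized W := isFullyNormalized_of_normal hWS fun s hs => by
      refine (mem_normalizerIn_of_forall hWS hs fun x hx => ?_).2
      have h1 : img (cj s) W ≤ W := by
        rw [(mapTo_cj (F := F) hWS hs).img_sup le_sup_left le_sup_right,
          StronglyClosed.img_eq hCsc (mapTo_cj (F := F) hWS hs) le_sup_left,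
          StronglyClosed.img_eq hQsc (mapTo_cj (F := F) hWS hs) le_sup_right]
      exact h1 (mem_img_of_mem hx)
    obtain ⟨ψ, hψ, hψh⟩ :=
      (isReceptive_iff.mp (isReceptive_of_isFullyNormalized hS hF hWn)).2 W h hh hWi
    set D := centralizerIn S C with hD
    have hDext : D ≤ extSub S hh := fun w hw => by
      have hwS := centralizerIn_le hw
      have hwc := (mem_centralizerIn.mp hw).2
      have hQw : ∀ q ∈ Q, w * q * w⁻¹ ∈ Q := fun q hq => StronglyClosed.conj_mem hQsc hwS hq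
      have hwW : ∀ x ∈ W, w * x * w⁻¹ ∈ W := fun x hx => by
        have h1 : img (cj w) W ≤ W := by
          rw [(mapTo_cj (F := F) hWS hwS).img_sup le_sup_left le_sup_right]
          exact sup_le_sup (img_le_of_forall fun y hy => StronglyClosed.conj_mem hCsc hwS hy)
            (img_le_of_forall fun y hy => hQw y hy)
        exact h1 (mem_img_of_mem hx)
      refine ⟨mem_normalizerIn_of_forall hWS hwS hwW, w, hwS, fun x hx => ?_⟩
      suffices hsuf : W ≤ Subgroup.closure ((C : Set Ω) ∪ Q) by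
        have hx' := hsuf hx
        clear hx
        induction hx' using Subgroup.closure_induction with
        | mem y hy =>
          rcases hy with hy | hy
          · have h2 : h y ∈ C := by rw [hhα y hy]; exact autFun_mem α hy
            rw [← hwc y hy, mul_inv_cancel_right, ← hwc _ h2, mul_inv_cancel_right]
          · rw [hhQ y hy, hhQ _ (hQw y hy)]
        | one => rw [mul_one, mul_inv_cancel, hh.map_one, mul_one, mul_inv_cancel]
        | mul a b ha hb iha ihb =>
          rw [← Subgroup.sup_eq_closure, ← hWd] at ha hb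
          rw [show w * (a * b) * w⁻¹ = w * a * w⁻¹ * (w * b * w⁻¹) by group,
            hh.map_mul (hwW a ha) (hwW b hb), iha, ihb, hh.map_mul ha hb]
          group
        | inv a ha iha =>
          rw [← Subgroup.sup_eq_closure, ← hWd] at ha
          rw [show w * a⁻¹ * w⁻¹ = (w * a * w⁻¹)⁻¹ by group, hh.map_inv (hwW a ha), iha,
            hh.map_inv ha]
          group
      rw [hWd, Subgroup.sup_eq_closure]
    have hUle : C ⊔ D ≤ extSub S hh := sup_le (le_sup_left.trans (le_extSub hh)) hDext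
    have hψU := hψ.restrict hUle
    have hψC : ∀ x ∈ C, ψ x = autFun α x := fun x hx => by
      rw [hψh x (Subgroup.mem_sup_left hx), hhα x hx]
    have hψCi : img ψ C = C := by rw [img_congr hψC, img_autFun]
    have hψD : ∀ w ∈ D, ψ w ∈ D := fun w hw => by
      have := hψU.map_mem_centralizerIn le_sup_left (Subgroup.mem_sup_right hw) hw
      rwa [hψCi] at this
    haveI := finite_of_le (sup_le hCS centralizerIn_le : C ⊔ D ≤ S)
    have hUi : img ψ (C ⊔ D) = C ⊔ D := by
      refine img_eq_self_of_forall hψU fun x hx => ?_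
      have h1 : img ψ (C ⊔ D) ≤ C ⊔ D := by
        rw [hψU.img_sup le_sup_left le_sup_right, hψCi]
        exact sup_le_sup le_rfl (img_le_of_forall hψD)
      exact h1 (mem_img_of_mem hx)
    refine ⟨autOf hψU hUi, autOf_mem _ _, fun x => ?_, fun w hw => ?_⟩
    · rw [← autFun_apply α x.2, ← hψC x x.2]
      exact (autFun_apply _ (Subgroup.mem_sup_left x.2)).symm.trans
        (autFun_autOf hψU hUi (Subgroup.mem_sup_left x.2))
    · rw [← autFun_apply _ w.2, autFun_autOf hψU hUi w.2]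
      have hd : (w : Ω)⁻¹ * ψ w ∈ D := D.mul_mem (D.inv_mem hw) (hψD _ hw)
      refine ⟨mem_centralizerIn.mpr ⟨centralizerIn_le hd, fun q hq => ?_⟩,
        Subgroup.mem_centralizer_iff.mpr (mem_centralizerIn.mp hd).2⟩
      have hq' : (w : Ω) * q * (w : Ω)⁻¹ ∈ Q := StronglyClosed.conj_mem hQsc (centralizerIn_le hw) hq
      have h1 := hψ.map_conj (hDext hw) (le_extSub hh (Subgroup.mem_sup_right hq))
      rw [hψh _ (Subgroup.mem_sup_right hq'), hψh q (Subgroup.mem_sup_right hq), hhQ _ hq',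
        hhQ q hq] at h1
      set v : Ω := ψ w
      calc q * ((w : Ω)⁻¹ * v) = (w : Ω)⁻¹ * ((w : Ω) * q * (w : Ω)⁻¹) * v := by group
        _ = (w : Ω)⁻¹ * (v * q * v⁻¹) * v := by rw [h1]
        _ = (w : Ω)⁻¹ * v * q := by group

end Cfsg.Agent.Fusion
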