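import Cfsg.Agent.Lib.Fusion.CenterJ

/-!
For `p` odd the centre of a saturated fusion system is a direct factor of the centre of `S`.
-/

set_option autoImplicit false

namespace Cfsg.Agent.Fusion

open Cfsg.FusionSystem (centralizerIn normalizerIn)
open Cfsg.Agent.Transfer (JAb)

universe u

variable {Ω : Type u} [Group Ω] {S : Subgroup Ω} {F : FusionSystem S} {p : ℕ}

theorem centre_le_JAb [Finite S] : S ⊓ Subgroup.centralizer (S : Set Ω) ≤ JAb 0 S := by
  intro x hx
  have h1 : (⟨x, hx.1⟩ : S) ∈ JAb 0 (⊤ : Subgroup S) :=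
    Transfer.center_le_JAb_zero _ ⟨trivial, Subgroup.mem_centralizer_iff.mpr
      fun y _ => Subtype.ext (Subgroup.mem_centralizer_iff.mp hx.2 y y.2)⟩
  have h2 := Subgroup.mem_map_of_mem S.subtype h1
  rwa [Transfer.map_JAb _ _ S.subtype_injective.injOn, ← MonoidHom.range_eq_map,
    Subgroup.range_subtype] at h2

theorem exists_centre_complement [Finite S] [Fact p.Prime] (hS : IsPGroup p S)
    (hF : F.IsSaturated p) (hp : p ≠ 2) :
    ∃ K : Subgroup Ω, K ≤ S ⊓ Subgroup.centralizer (S : Set Ω) ∧ F.center ⊓ K = ⊥ ∧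
      F.center ⊔ K = S ⊓ Subgroup.centralizer (S : Set Ω) := by
  classical
  set Z := S ⊓ Subgroup.centralizer (S : Set Ω) with hZ
  set J := JAb 0 S with hJ
  have hJS : J ≤ S := Transfer.JAb_le S
  have hJn : S ≤ Subgroup.normalizer (J : Set Ω) :=
    Subgroup.le_normalizer.trans (Transfer.normalizer_le_normalizer_JAb S)
  have hfn : F.IsFullyNormalized J := by
    refine ⟨hJS, fun Q _ => ?_⟩
    rw [show normalizerIn S J = S from inf_eq_left.mpr hJn]
    exact Subgroup.card_le_of_le normalizerIn_le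
  have := finite_of_le hJS
  have := finite_mulAut J
  set A := F.autGroup J with hA
  obtain ⟨-, T, hT⟩ := isFullyAutomized_of_isFullyNormalized hS hF hfn
  set B : Subgroup A := (T : Subgroup A) with hB
  have hZJ : Z ≤ J := centre_le_JAb
  set C := J ⊓ Subgroup.centralizer (J : Set Ω) with hC
  let _ : CommGroup C :=
    { (inferInstance : Group C) with
      mul_comm := fun a b => Subtype.ext (Subgroup.mem_centralizer_iff.mp b.2.2 a a.2.1) }
  have hZC : Z ≤ C := fun x hx => ⟨hZJ hx, Subgroup.mem_centralizer_iff.mpr fun y hy =>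
    Subgroup.mem_centralizer_iff.mp hx.2 y (hJS hy)⟩
  have hCinv : ∀ α : MulAut J, ∀ a ∈ C, autFun α a ∈ C := by
    intro γ a ha
    refine ⟨autFun_mem γ ha.1, Subgroup.mem_centralizer_iff.mpr fun y hy => ?_⟩
    have h := Subgroup.mem_centralizer_iff.mp ha.2 _ (autFun_mem γ⁻¹ hy)
    rw [← autFun_autFun_inv γ hy, autFun_apply γ ha.1, autFun_apply γ (autFun_mem γ⁻¹ hy),
      ← Subgroup.coe_mul, ← map_mul, ← Subgroup.coe_mul, ← map_mul]
    exact congrArg Subtype.val (congrArg γ (Subtype.ext h))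
  have hBfix : ∀ β ∈ B, ∀ x ∈ Z, autFun ((β : A) : MulAut J) x = x := by
    intro β hβ x hx
    rw [hT] at hβ
    obtain ⟨k, hk, hkx⟩ := mem_autInducedBy_iff_cj.mp (Subgroup.mem_subgroupOf.mp hβ)
    rw [hkx x (hZJ hx), cj_apply, Subgroup.mem_centralizer_iff.mp hx.2 k hk, mul_inv_cancel_right]
  -- the action on cosets
  let act : Z → A ⧸ B → C := fun x => Quotient.lift
    (fun α : A => (⟨autFun (α : MulAut J) x, hCinv _ _ (hZC x.2)⟩ : C)) (by
      intro a b hab
      have hβ : a⁻¹ * b ∈ B := QuotientGroup.leftRel_apply.mp hab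
      refine Subtype.ext ?_
      show autFun (a : MulAut J) x = autFun (b : MulAut J) x
      conv_rhs => rw [← mul_inv_cancel_left a b, Subgroup.coe_mul, autFun_mul _ _ (hZJ x.2),
        hBfix _ hβ x x.2])
  have hact : ∀ (x : Z) (α : A), (act x (QuotientGroup.mk α) : Ω) = autFun (α : MulAut J) x :=
    fun x α => rfl
  have : Fintype (A ⧸ B) := Fintype.ofFinite _
  let τ : Z → C := fun x => ∏ q : A ⧸ B, act x q
  -- fixed by the whole group
  have hfix : ∀ (x : Z) (β : A), autFun (β : MulAut J) (τ x : Ω) = τ x := by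
    intro x β
    let φ : C →* C := MonoidHom.mk' (fun c => ⟨autFun (β : MulAut J) c, hCinv _ _ c.2⟩) fun a b =>
      Subtype.ext (by
        show autFun (β : MulAut J) ((a : Ω) * b) =
          autFun (β : MulAut J) (a : Ω) * autFun (β : MulAut J) (b : Ω)
        rw [autFun_apply _ (J.mul_mem a.2.1 b.2.1), autFun_apply _ a.2.1, autFun_apply _ b.2.1]
        exact congrArg Subtype.val
          (map_mul (β : MulAut J) (⟨a, a.2.1⟩ : J) ⟨b, b.2.1⟩))
    have h1 : φ (τ x) = τ x := by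
      show φ (∏ q : A ⧸ B, act x q) = _
      rw [map_prod]
      refine Fintype.prod_equiv (MulAction.toPerm β) _ _ fun q => ?_
      obtain ⟨α, rfl⟩ := QuotientGroup.mk_surjective q
      refine Subtype.ext ?_
      show autFun (β : MulAut J) (act x (QuotientGroup.mk α) : Ω) =
        (act x (QuotientGroup.mk (β * α)) : Ω)
      rw [hact, hact, Subgroup.coe_mul, autFun_mul _ _ (hZJ x.2)]
    exact congrArg Subtype.val h1
  have hτS : ∀ x : Z, (τ x : Ω) ∈ Z := by
    intro x
    refine ⟨hJS (τ x).2.1, Subgroup.mem_centralizer_iff.mpr fun k hk => ?_⟩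
    obtain ⟨γ, hγ⟩ := exists_conjAut (hJn hk)
    have h := hfix x ⟨γ, autInducedBy_le_autGroup hJS (mem_autInducedBy_iff_cj.mpr ⟨k, hk, hγ⟩)⟩
    rw [hγ _ (τ x).2.1, cj_apply] at h
    exact mul_inv_eq_iff_eq_mul.mp h
  have hτc : ∀ x : Z, (τ x : Ω) ∈ F.center := fun x =>
    mem_center_of_J hS hF (hτS x).1 (hτS x).2 (fun α hα => hfix x ⟨α, hα⟩) (Or.inl hp)
  -- on the centre it is a power map
  have hcfix : ∀ x ∈ F.center, ∀ α ∈ A, autFun α x = x := by
    intro x hx α hα
    obtain ⟨-, hext⟩ := isCentral_iff.mp (isCentral_center F)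
    obtain ⟨g, -, hgf, hgc⟩ := hext J _ (mapTo_of_mem_autGroup hJS hα)
    have hxZ : x ∈ Z := ⟨(isCentral_center F).1 hx, F.center_le_centralizer hx⟩
    rw [← hgf x (hZJ hxZ), hgc x hx]
  have hτpow : ∀ (x : Z), (x : Ω) ∈ F.center → (τ x : Ω) = (x : Ω) ^ B.index := by
    intro x hx
    have h : ∀ q : A ⧸ B, act x q = ⟨x, hZC x.2⟩ := by
      intro q
      obtain ⟨α, rfl⟩ := QuotientGroup.mk_surjective q
      exact Subtype.ext ((hact x α).trans (hcfix x hx _ α.2))
    show ((∏ q : A ⧸ B, act x q : C) : Ω) = _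
    rw [Finset.prod_congr rfl fun q _ => h q, Finset.prod_const, Subgroup.coe_pow,
      Finset.card_univ, ← Nat.card_eq_fintype_card]
    rfl
  -- `τ` is a homomorphism
  let τh : Z →* C := MonoidHom.mk' τ fun x y => by
    show ∏ q : A ⧸ B, act (x * y) q = (∏ q : A ⧸ B, act x q) * ∏ q : A ⧸ B, act y q
    rw [← Finset.prod_mul_distrib]
    refine Finset.prod_congr rfl fun q _ => ?_
    obtain ⟨α, rfl⟩ := QuotientGroup.mk_surjective q
    refine Subtype.ext ?_
    rw [Subgroup.coe_mul, hact, hact, hact, Subgroup.coe_mul, autFun_apply _ (hZJ x.2),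
      autFun_apply _ (hZJ y.2), autFun_apply _ (J.mul_mem (hZJ x.2) (hZJ y.2))]
    exact congrArg Subtype.val
      (map_mul (α : MulAut J) (⟨x, hZJ x.2⟩ : J) ⟨y, hZJ y.2⟩)
  have hcS : F.center ≤ S := (isCentral_center F).1
  have hcp : IsPGroup p F.center := hS.to_le hcS
  have : Finite F.center := finite_of_le hcS
  have hidx : ¬ p ∣ B.index := T.not_dvd_index
  have hco : (Nat.card F.center).Coprime B.index := by
    obtain ⟨e, he⟩ := IsPGroup.iff_card.mp hcp
    rw [he]
    exact Nat.Coprime.pow_left e ((Fact.out : p.Prime).coprime_iff_not_dvd.mpr hidx)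
  refine ⟨τh.ker.map Z.subtype, Subgroup.map_subtype_le _, ?_, le_antisymm ?_ fun z hz => ?_⟩
  · refine (Subgroup.eq_bot_iff_forall _).mpr ?_
    rintro _ ⟨hxc, x, hx, rfl⟩
    have h1 : (x : Ω) ^ B.index = 1 := by
      rw [← hτpow x hxc]
      exact congrArg Subtype.val (MonoidHom.mem_ker.mp hx)
    exact congrArg Subtype.val ((powCoprime hco).injective
      (a₁ := (⟨(x : Ω), hxc⟩ : F.center)) (a₂ := 1) (Subtype.ext (h1.trans (one_pow _).symm)))
  · exact sup_le (fun x hx => ⟨hcS hx, F.center_le_centralizer hx⟩) (Subgroup.map_subtype_le _)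
  · obtain ⟨w, hw⟩ := (powCoprime hco).surjective ⟨_, hτc ⟨z, hz⟩⟩
    have hwZ : (w : Ω) ∈ Z := ⟨hcS w.2, F.center_le_centralizer w.2⟩
    have hker : (⟨(w : Ω), hwZ⟩ : Z)⁻¹ * ⟨z, hz⟩ ∈ τh.ker := by
      rw [MonoidHom.mem_ker, map_mul, map_inv, inv_mul_eq_one]
      refine Subtype.ext ?_
      show (τ _ : Ω) = τ _
      rw [hτpow _ w.2]
      exact congrArg Subtype.val hw
    rw [← mul_inv_cancel_left (w : Ω) z]
    exact Subgroup.mul_mem_sup w.2 ⟨_, hker, rfl⟩

end Cfsg.Agent.Fusion
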