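import Cfsg.Agent.Lib.Fusion.AlperinStrong
import Cfsg.Agent.Lib.Fusion.NormalCriteria
import Cfsg.Agent.Lib.Fusion.NormalSubgroupSystem
import Cfsg.Agent.Lib.Fusion.OmegaCriteria
import Mathlib.Algebra.Polynomial.AlgebraMap
import Mathlib.Algebra.Polynomial.Inductions
import Mathlib.RingTheory.Ideal.Span

/-!
The `p^n`-th powers of the centre of a `p`-group of class at most `n(p-1)+1`.
-/

set_option autoImplicit false

namespace Cfsg.Agent.Fusion

open Cfsg.FusionSystem (centralizerIn normalizerIn)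

/-! ### Algebra -/

theorem pow_smul_eq_zero_of_nilpotent {R : Type*} [CommRing R] {p : ℕ} (hp : p.Prime) (v : R)
    {n : ℕ} (hv : v ^ (n * (p - 1) + 1) = 0) (hu : (1 + v) ^ p = 1) : (p : R) ^ n * v = 0 := by
  obtain ⟨r, hr⟩ := exists_add_pow_prime_eq hp (1 : Polynomial ℤ) Polynomial.X
  have hc : r.coeff 0 = 1 := by
    have h := congrArg (fun f : Polynomial ℤ => f.coeff 1) hr
    simp only [Polynomial.coeff_one_add_X_pow, Nat.choose_one_right, one_pow, mul_one,
      Polynomial.coeff_add, Polynomial.coeff_one, Polynomial.coeff_X_pow] at h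
    rw [if_neg one_ne_zero, if_neg hp.one_lt.ne,
      show ((p : Polynomial ℤ) * Polynomial.X * r) =
        Polynomial.C (p : ℤ) * (Polynomial.X * r) by rw [Polynomial.C_eq_natCast, mul_assoc],
      Polynomial.coeff_C_mul, Polynomial.coeff_X_mul, zero_add, zero_add] at h
    exact (mul_left_cancel₀ (Nat.cast_ne_zero.mpr hp.ne_zero) ((mul_one _).trans h)).symm
  have h1 := congrArg (Polynomial.aeval v) hr
  simp only [map_pow, map_add, map_one, Polynomial.aeval_X, map_mul, map_natCast, one_pow,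
    mul_one] at h1
  rw [hu] at h1
  have h2 : Polynomial.aeval v r = 1 + v * Polynomial.aeval v r.divX := by
    conv_lhs => rw [← Polynomial.X_mul_divX_add r, hc]
    simp [add_comm]
  have hvn : IsNilpotent (v * Polynomial.aeval v r.divX) :=
    ⟨n * (p - 1) + 1, by rw [mul_pow, hv, zero_mul]⟩
  obtain ⟨u, hu'⟩ := hvn.isUnit_one_add
  have h3 : (p : R) * v = -(v ^ p * (↑u⁻¹ : R)) := by
    have h4 : (p : R) * v * (u : R) = -(v ^ p) := by
      rw [hu', ← h2]
      linear_combination -h1
    calc (p : R) * v = (p : R) * v * (u : R) * (↑u⁻¹ : R) := (u.mul_inv_cancel_right _).symm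
      _ = _ := by rw [h4, neg_mul]
  have key : ∀ i, (p : R) ^ i * v = v ^ (i * (p - 1) + 1) * (-(↑u⁻¹ : R)) ^ i := by
    intro i
    induction i with
    | zero => simp
    | succ i ih =>
      have hp1 : (i + 1) * (p - 1) + 1 = i * (p - 1) + p := by
        have := hp.one_le
        rw [Nat.succ_mul]; omega
      calc (p : R) ^ (i + 1) * v = (p : R) * ((p : R) ^ i * v) := by ring
        _ = v ^ (i * (p - 1)) * ((p : R) * v) * (-(↑u⁻¹ : R)) ^ i := by rw [ih, pow_succ]; ring
        _ = _ := by rw [h3, hp1, pow_add, pow_succ]; ring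
  rw [key n, hv, zero_mul]

/-- An automorphism of order `p` of an abelian group, unipotent of small degree, fixes the
`p^n`-th powers. -/
theorem fix_powers {A : Type*} [AddCommGroup A] {p : ℕ} (hp : p.Prime) (u : AddMonoid.End A)
    {n : ℕ} (hu : u ^ p = 1) (hv : (u - 1) ^ (n * (p - 1) + 1) = 0) (a : A) :
    u (p ^ n • a) = p ^ n • a := by
  set m := n * (p - 1) + 1 with hm
  set I : Ideal (Polynomial ℤ) :=
    Ideal.span {Polynomial.X ^ m, (1 + Polynomial.X) ^ p - 1} with hI
  have h := pow_smul_eq_zero_of_nilpotent hp (n := n) (Ideal.Quotient.mk I Polynomial.X)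
    (by rw [← map_pow, Ideal.Quotient.eq_zero_iff_mem]; exact Ideal.subset_span (Or.inl rfl))
    (by rw [← sub_eq_zero, ← map_one (Ideal.Quotient.mk I), ← map_add, ← map_pow, ← map_sub,
          Ideal.Quotient.eq_zero_iff_mem]
        exact Ideal.subset_span (Or.inr rfl))
  rw [← map_natCast (Ideal.Quotient.mk I), ← map_pow, ← map_mul,
    Ideal.Quotient.eq_zero_iff_mem, hI, Ideal.mem_span_pair] at h
  obtain ⟨b, c, hbc⟩ := h
  have h1 := congrArg (Polynomial.aeval (u - 1 : AddMonoid.End A)) hbc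
  simp only [map_add, map_mul, map_sub, map_pow, map_one, Polynomial.aeval_X, map_natCast] at h1
  rw [add_sub_cancel, hu, hv, sub_self, mul_zero, mul_zero, add_zero] at h1
  have h2 : ((p : AddMonoid.End A) ^ n * (u - 1)) a = 0 := by rw [← h1]; rfl
  rw [← Nat.cast_pow] at h2
  have h3 : p ^ n • (u a - a) = 0 := by
    rw [← AddMonoid.End.natCast_apply (p ^ n) (u a - a)]
    exact h2
  rw [smul_sub, sub_eq_zero] at h3
  rw [map_nsmul, h3]

/-! ### Fusion -/

variable {Ω : Type*} [Group Ω] {S : Subgroup Ω} {F : FusionSystem S} {P : Subgroup Ω} {p n : ℕ}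

/-- Conjugation by an element of `S`, acting with order `p` on an abelian subgroup of `S`, fixes
the `p^n`-th powers. -/
theorem conj_fix_powers (hp : p.Prime) (hcl : Subgroup.lowerCentralSeries S (n * (p - 1) + 1) = ⊥)
    {A : Subgroup Ω} (hAS : A ≤ S) (hA : ∀ a ∈ A, ∀ b ∈ A, a * b = b * a) {k : Ω} (hk : k ∈ S)
    (hkA : k ∈ Subgroup.normalizer (A : Set Ω))
    (hkp : ∀ a ∈ A, k ^ p * a * (k ^ p)⁻¹ = a) {a : Ω} (ha : a ∈ A) :
    k * a ^ p ^ n * k⁻¹ = a ^ p ^ n := by
  let _ : CommGroup A :=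
    { (inferInstance : Group A) with mul_comm := fun a b => Subtype.ext (hA a a.2 b b.2) }
  let u : AddMonoid.End (Additive A) :=
    MonoidHom.toAdditive (A.normalizerMonoidHom ⟨k, hkA⟩ : MulAut A).toMonoidHom
  have hu1 : ∀ x : Additive A, ((Additive.toMul (u x) : A) : Ω) =
      k * ((Additive.toMul x : A) : Ω) * k⁻¹ := fun x => rfl
  have hpow : ∀ (i : ℕ) (x : Additive A), ((Additive.toMul ((u ^ i) x) : A) : Ω) =
      k ^ i * ((Additive.toMul x : A) : Ω) * (k ^ i)⁻¹ := by
    intro i
    induction i with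
    | zero => intro x; simp
    | succ i ih =>
      intro x
      rw [pow_succ']
      refine (hu1 ((u ^ i) x)).trans ?_
      rw [ih]
      group
  have hlcs : ∀ (i : ℕ) (x : Additive A), ((Additive.toMul (((u - 1) ^ i) x) : A) : Ω) ∈
      Subgroup.lowerCentralSeries S i := by
    intro i
    induction i with
    | zero =>
      intro x
      rw [Subgroup.lowerCentralSeries_zero]
      exact hAS (SetLike.coe_mem _)
    | succ i ih =>
      intro x
      set y := ((u - 1) ^ i) x with hy
      have h1 : ((Additive.toMul (((u - 1) ^ (i + 1)) x) : A) : Ω) =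
          ((Additive.toMul y : A) : Ω)⁻¹ * (k * ((Additive.toMul y : A) : Ω) * k⁻¹) := by
        rw [pow_succ']
        show ((Additive.toMul (u y - y) : A) : Ω) = _
        rw [sub_eq_neg_add, toMul_add, toMul_neg]
        exact congrArg₂ (· * ·) rfl (hu1 y)
      rw [h1]
      exact comm_mem_lcs i (ih x) hk
  have hup : u ^ p = 1 := by
    refine AddMonoidHom.ext fun x => Additive.toMul.injective (Subtype.ext ?_)
    exact (hpow p x).trans (hkp _ (Additive.toMul x).2)
  have hv : (u - 1) ^ (n * (p - 1) + 1) = 0 := by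
    refine AddMonoidHom.ext fun x => Additive.toMul.injective (Subtype.ext ?_)
    have h := hlcs (n * (p - 1) + 1) x
    rw [hcl, Subgroup.mem_bot] at h
    exact h
  exact congrArg (fun x : Additive A => ((Additive.toMul x : A) : Ω))
    (fix_powers hp u hup hv (Additive.ofMul ⟨a, ha⟩))

variable [Finite S] [Fact p.Prime]

/-- In a centric subgroup an automorphism is, on the `p^n`-th powers of the centre of `S`, one
which extends properly. -/
theorem exists_extends_eq_on_powers (hS : IsPGroup p S) (hF : F.IsSaturated p)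
    (hcl : Subgroup.lowerCentralSeries S (n * (p - 1) + 1) = ⊥)
    (hPS : P < S) (hPn : F.IsFullyNormalized P)
    {α : MulAut P} (hα : α ∈ F.autGroup P) :
    ∃ β : MulAut P, Extends F P β ∧ ∀ a ∈ P, a ∈ Subgroup.centralizer (P : Set Ω) →
      autFun α (a ^ p ^ n) = autFun β (a ^ p ^ n) := by
  have := finite_of_le hPS.le
  have := finite_mulAut P
  have hp : p.Prime := Fact.out
  set A := P ⊓ Subgroup.centralizer (P : Set Ω) with hA
  have hAinv : ∀ γ : MulAut P, ∀ a ∈ A, autFun γ a ∈ A := by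
    intro γ a ha
    refine ⟨autFun_mem γ ha.1, Subgroup.mem_centralizer_iff.mpr fun y hy => ?_⟩
    have h := Subgroup.mem_centralizer_iff.mp ha.2 _ (autFun_mem γ⁻¹ hy)
    rw [← autFun_autFun_inv γ hy, autFun_apply γ ha.1, autFun_apply γ (autFun_mem γ⁻¹ hy),
      ← Subgroup.coe_mul, ← map_mul, ← Subgroup.coe_mul, ← map_mul]
    exact congrArg Subtype.val (congrArg γ (Subtype.ext h))
  let K : Subgroup (F.autGroup P) :=
    { carrier := {γ | ∀ a ∈ A, autFun (γ : MulAut P) (a ^ p ^ n) = a ^ p ^ n}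
      one_mem' := fun a ha => autFun_one (P.pow_mem ha.1 _)
      mul_mem' := fun {x y} hx hy a ha => by
        rw [Subgroup.coe_mul, autFun_mul _ _ (P.pow_mem ha.1 _), hy a ha, hx a ha]
      inv_mem' := fun {x} hx a ha => by
        conv_lhs => rw [← hx a ha]
        rw [InvMemClass.coe_inv, autFun_inv_autFun _ (P.pow_mem ha.1 _)] }
  have hKn : K.Normal := ⟨fun γ hγ δ a ha => by
    show autFun ((δ : MulAut P) * (γ : MulAut P) * (δ : MulAut P)⁻¹) (a ^ p ^ n) = a ^ p ^ n
    have hpw := P.pow_mem ha.1 (p ^ n)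
    have hb := hAinv (δ : MulAut P)⁻¹ a ha
    have hbp : autFun (δ : MulAut P)⁻¹ (a ^ p ^ n) = autFun (δ : MulAut P)⁻¹ a ^ p ^ n := by
      rw [autFun_apply _ hpw, autFun_apply _ ha.1, ← Subgroup.coe_pow, ← map_pow]; rfl
    rw [autFun_mul _ _ hpw, autFun_mul _ _ (autFun_mem _ hpw), hbp, hγ _ hb, ← hbp,
      autFun_autFun_inv _ hpw]⟩
  obtain ⟨-, T, hT⟩ := isFullyAutomized_of_isFullyNormalized hS hF hPn
  obtain ⟨k₀, hk₀, hk₀P⟩ := SetLike.exists_of_lt (lt_normalizerIn hS hPS)
  -- an element of the normalizer, outside `P`, of order `p` modulo `P`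
  obtain ⟨k, hk, hkP, hkp⟩ : ∃ k ∈ normalizerIn S P, k ∉ P ∧ k ^ p ∈ P := by
    classical
    have hex : ∃ i, k₀ ^ p ^ i ∈ P := by
      obtain ⟨i, hi⟩ := hS ⟨k₀, hk₀.1⟩
      exact ⟨i, by rw [show k₀ ^ p ^ i = 1 from congrArg Subtype.val hi]; exact P.one_mem⟩
    have hpos : Nat.find hex ≠ 0 := fun h0 => hk₀P (by simpa [h0] using Nat.find_spec hex)
    obtain ⟨j, hj⟩ := Nat.exists_eq_succ_of_ne_zero hpos
    refine ⟨k₀ ^ p ^ j, pow_mem hk₀ _, Nat.find_min hex (by omega), ?_⟩
    rw [← pow_mul, ← pow_succ, ← Nat.succ_eq_add_one, ← hj]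
    exact Nat.find_spec hex
  obtain ⟨γ, hγ⟩ := exists_conjAut hk.2
  have hγI : γ ∈ autInducedBy S P := mem_autInducedBy_iff_cj.mpr ⟨k, hk.1, hγ⟩
  have hγK : (⟨γ, autInducedBy_le_autGroup hPS.le hγI⟩ : F.autGroup P) ∈ K := by
    intro a ha
    show autFun γ (a ^ p ^ n) = _
    rw [hγ _ (P.pow_mem ha.1 _), cj_apply]
    refine conj_fix_powers hp hcl (inf_le_left.trans hPS.le) (A := A) ?_ hk.1 ?_ ?_ ha
    · exact fun a ha b hb => (Subgroup.mem_centralizer_iff.mp ha.2 b hb.1).symm
    · have : Finite A := finite_of_le (inf_le_left.trans hPS.le)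
      refine mem_normalizer_of_forall fun b hb => ?_
      have h := hAinv γ b hb
      rwa [hγ b hb.1] at h
    · intro b hb
      rw [Subgroup.mem_centralizer_iff.mp hb.2 _ hkp, mul_inv_cancel_right]
  obtain ⟨TK, hTK⟩ := exists_sylow_inf T K
  have htop := Sylow.normalizer_sup_eq_top TK
  have hmap : (TK : Subgroup K).map K.subtype = (T : Subgroup (F.autGroup P)) ⊓ K := by
    rw [hTK]; exact Subgroup.map_subgroupOf_eq_of_le inf_le_right
  rw [hmap] at htop
  obtain ⟨β, hβ, κ, hκ, hβκ⟩ : ∃ β ∈ Subgroup.normalizer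
      (((T : Subgroup (F.autGroup P)) ⊓ K : Subgroup (F.autGroup P)) : Set (F.autGroup P)),
      ∃ κ ∈ K, β * κ = ⟨α, hα⟩ := by
    have hmem := (htop ▸ Subgroup.mem_top (⟨α, hα⟩ : F.autGroup P) :
      (⟨α, hα⟩ : F.autGroup P) ∈ Subgroup.normalizer _ ⊔ K)
    rw [← SetLike.mem_coe, Subgroup.mul_normal] at hmem
    exact Set.mem_mul.mp hmem
  refine ⟨β, extends_of_conj_mem hS hF hPn β.2 hk hkP hγ ?_, fun a haP ha => ?_⟩
  · have h1 := ((Subgroup.mem_normalizer_iff.mp hβ ⟨γ, autInducedBy_le_autGroup hPS.le hγI⟩).mp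
      ⟨show _ ∈ (T : Subgroup (F.autGroup P)) from hT ▸ hγI, hγK⟩).1
    rw [hT] at h1
    exact h1
  · have h := congrArg (fun x : F.autGroup P => autFun (x : MulAut P) (a ^ p ^ n)) hβκ
    rw [← h]
    show autFun ((β : MulAut P) * (κ : MulAut P)) (a ^ p ^ n) = _
    rw [autFun_mul _ _ (P.pow_mem haP _), hκ a ⟨haP, ha⟩]

/-- The `p^n`-th powers of the centre form a normal subgroup. -/
theorem isNormal_powerClosure_centre (hS : IsPGroup p S) (hF : F.IsSaturated p)
    (hcl : Subgroup.lowerCentralSeries S (n * (p - 1) + 1) = ⊥) :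
    F.IsNormal (Cfsg.powerClosure p n (S ⊓ Subgroup.centralizer (S : Set Ω))) := by
  set Z := S ⊓ Subgroup.centralizer (S : Set Ω) with hZ
  set V := Cfsg.powerClosure p n Z with hV
  have hVZ : V ≤ Z := (Subgroup.closure_le _).mpr (by
    rintro _ ⟨x, hx, rfl⟩; exact Z.pow_mem hx _)
  have hVconj : ∀ s ∈ S, ∀ x ∈ V, s * x * s⁻¹ = x := fun s hs x hx => by
    rw [Subgroup.mem_centralizer_iff.mp (hVZ hx).2 s hs, mul_inv_cancel_right]
  have hZP : ∀ Q : Subgroup Ω, Q = S ∨ F.IsEssential p Q →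
      Z ≤ Q ⊓ Subgroup.centralizer (Q : Set Ω) := by
    intro Q hQ x hx
    have hc : F.IsCentric Q := by
      rcases hQ with rfl | h
      · exact isCentric_top
      · exact h.1
    refine ⟨centralizerIn_le_of_isCentric hc (mem_centralizerIn.mpr
      ⟨hx.1, fun y hy => Subgroup.mem_centralizer_iff.mp hx.2 y (hc.1 hy)⟩), ?_⟩
    exact Subgroup.mem_centralizer_iff.mpr fun y hy =>
      Subgroup.mem_centralizer_iff.mp hx.2 y (hc.1 hy)
  have main : ∀ {Q : Subgroup Ω} {f : Ω → Ω}, MapTo F Q f → ∀ x ∈ Q, (x ∈ V ↔ f x ∈ V) := by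
    intro Q f hf
    refine alperin_prop_strong hS hF (fun R g => ∀ x ∈ R, (x ∈ V ↔ g x ∈ V)) ?_ ?_ ?_ ?_ ?_ hf
    · intro R g g' _ h hgg x hx
      rw [hgg x hx]; exact h x hx
    · intro R s _ hs x _
      constructor
      · intro hx; rw [cj_apply, hVconj s hs x hx]; exact hx
      · intro hx
        have h := hVconj s⁻¹ (S.inv_mem hs) _ hx
        have h2 : cj s⁻¹ (cj s x) ∈ V := by rw [cj_apply, h]; exact hx
        rwa [cj_inv_cancel] at h2
    · intro R R' g g' _ _ hm h h' x hx
      exact (h x hx).trans (h' _ (hm x hx))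
    · intro R g g' hg hg' hgg h y hy
      obtain ⟨x, hx, rfl⟩ := (hg.mem_img_iff le_rfl).mp hy
      rw [hgg x hx]; exact (h x hx).symm
    · intro R hR hIH α hα
      suffices key : ∀ α ∈ F.autGroup R, ∀ x ∈ V, autFun α x ∈ V by
        refine fun x hx => ⟨key α hα x, fun h => ?_⟩
        have := key α⁻¹ ((F.autGroup R).inv_mem hα) _ h
        rwa [autFun_inv_autFun α hx] at this
      intro α hα
      have hRS : R ≤ S := by
        rcases hR with rfl | h
        · exact le_rfl
        · exact h.1.1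
      have hmap := mapTo_of_mem_autGroup hRS hα
      have hgen : ∀ a ∈ Z, autFun α (a ^ p ^ n) ∈ V := by
        intro a ha
        obtain ⟨haR, haC⟩ := hZP R hR ha
        rcases eq_or_lt_of_le hRS with rfl | hlt
        · refine Subgroup.subset_closure ⟨autFun α a, ⟨autFun_mem α ha.1, ?_⟩, ?_⟩
          · refine Subgroup.mem_centralizer_iff.mpr fun y hy => ?_
            rw [← autFun_autFun_inv α hy, ← hmap.map_mul (autFun_mem _ hy) ha.1,
              Subgroup.mem_centralizer_iff.mp ha.2 _ (autFun_mem _ hy),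
              hmap.map_mul ha.1 (autFun_mem _ hy)]
          · rw [autFun_apply _ (R.pow_mem ha.1 _), autFun_apply _ ha.1, ← Subgroup.coe_pow,
              ← map_pow]
            rfl
        · have hess : F.IsEssential p R := hR.resolve_left hlt.ne
          obtain ⟨β, ⟨Q', g, hlt', hg, hgβ⟩, hαβ⟩ :=
            exists_extends_eq_on_powers hS hF hcl hlt hess.2.1 hα
          rw [hαβ a haR haC, ← hgβ _ (R.pow_mem haR _)]
          have := finite_of_le hg.le
          have hcard : Nat.card R < Nat.card Q' := by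
            refine lt_of_le_of_ne (Subgroup.card_le_of_le hlt'.le) fun he => ?_
            exact hlt'.ne (Subgroup.eq_of_le_of_card_ge hlt'.le he.ge)
          exact (hIH Q' g hcard hg _ (hlt'.le (R.pow_mem haR _))).mp
            (Subgroup.subset_closure ⟨a, ha, rfl⟩)
      intro x hx
      have hVR : V ≤ R := fun y hy => (hZP R hR (hVZ hy)).1
      induction hx using Subgroup.closure_induction with
      | mem y hy =>
        obtain ⟨a, ha, rfl⟩ := hy
        exact hgen a ha
      | one => rw [hmap.map_one]; exact V.one_mem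
      | mul y z hy hz ihy ihz =>
        rw [hmap.map_mul (hVR hy) (hVR hz)]; exact V.mul_mem ihy ihz
      | inv y hy ihy => rw [hmap.map_inv (hVR hy)]; exact V.inv_mem ihy
  refine isNormal_of_forall_essential hS hF fun Q hQ => ⟨fun y hy => (hZP Q hQ (hVZ hy)).1, ?_⟩
  intro α hα x hx
  have hQS : Q ≤ S := by
    rcases hQ with rfl | h
    · exact le_rfl
    · exact h.1.1
  exact ((main (mapTo_of_mem_autGroup hQS hα)) x (hZP Q hQ (hVZ hx)).1).mp hx

/-- The exponent of a group of class at most `m` divides the `m`-th power of that of its centre. -/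
theorem pow_mem_upperCentralSeries {G : Type*} [Group G] {e : ℕ}
    (he : ∀ z ∈ Subgroup.center G, z ^ e = 1) :
    ∀ (i : ℕ) (x : G), x ∈ Subgroup.upperCentralSeries G (i + 1) → x ^ e ∈ Subgroup.upperCentralSeries G i := by
  intro i
  induction i with
  | zero =>
    intro x hx
    rw [Subgroup.upperCentralSeries_one] at hx
    rw [Subgroup.upperCentralSeries_zero, Subgroup.mem_bot]
    exact he x hx
  | succ i ih =>
    intro x hx
    rw [Subgroup.mem_upperCentralSeries_succ_iff] at hx ⊢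
    intro y
    have hc := hx y
    set c := x * y * x⁻¹ * y⁻¹ with hcdef
    set q := QuotientGroup.mk' (Subgroup.upperCentralSeries G i) with hq
    have hcq : ∀ g : G, q c * q g = q g * q c := by
      intro g
      have h := Subgroup.mem_upperCentralSeries_succ_iff.mp hc g
      have h2 : q (c * g * c⁻¹ * g⁻¹) = 1 := (QuotientGroup.eq_one_iff _).mpr h
      rw [map_mul, map_mul, map_mul, map_inv, map_inv, mul_inv_eq_one, mul_inv_eq_iff_eq_mul] at h2
      exact h2
    have hce : q c ^ e = 1 := by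
      rw [← map_pow]
      exact (QuotientGroup.eq_one_iff _).mpr (ih c hc)
    have hcomm : Commute (q c)⁻¹ (q x) := Commute.inv_left (hcq x)
    have h3 : q y * q x * (q y)⁻¹ = (q c)⁻¹ * q x := by
      rw [hcdef, map_mul, map_mul, map_mul, map_inv, map_inv]; group
    refine (QuotientGroup.eq_one_iff _).mp ?_
    change q (x ^ e * y * (x ^ e)⁻¹ * y⁻¹) = 1
    have h4 : q y * q x ^ e * (q y)⁻¹ = q x ^ e := by
      rw [← conj_pow, h3, hcomm.mul_pow, inv_pow, hce, inv_one, one_mul]
    rw [map_mul, map_mul, map_mul, map_inv, map_inv, map_pow]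
    calc q x ^ e * q y * (q x ^ e)⁻¹ * (q y)⁻¹
        = q x ^ e * (q y * q x ^ e * (q y)⁻¹)⁻¹ := by group
      _ = 1 := by rw [h4, mul_inv_cancel]

theorem pow_eq_one_of_center {G : Type*} [Group G] [Group.IsNilpotent G] {e m : ℕ}
    (he : ∀ z ∈ Subgroup.center G, z ^ e = 1) (hm : Subgroup.lowerCentralSeries (⊤ : Subgroup G) m = ⊥)
    (x : G) : x ^ e ^ m = 1 := by
  have htop : Subgroup.upperCentralSeries G m = ⊤ :=
    Subgroup.upperCentralSeries_eq_top_iff_nilpotencyClass_le.mpr
      (Subgroup.lowerCentralSeries_eq_bot_iff_nilpotencyClass_le.mp hm)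
  have key : ∀ (i : ℕ) (x : G), x ∈ Subgroup.upperCentralSeries G i → x ^ e ^ i = 1 := by
    intro i
    induction i with
    | zero =>
      intro x hx
      rw [Subgroup.upperCentralSeries_zero, Subgroup.mem_bot] at hx
      rw [hx, one_pow]
    | succ i ih =>
      intro x hx
      rw [pow_succ', pow_mul]
      exact ih _ (pow_mem_upperCentralSeries he i x hx)
  exact key m x (htop ▸ Subgroup.mem_top x)

end Cfsg.Agent.Fusion
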