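import Cfsg.Agent.Lib.Fusion.AlperinStrong
import Cfsg.Agent.Lib.Fusion.Invariant

/-!
A saturated subsystem contains every map whose restriction to a centric subgroup it contains.
-/

set_option autoImplicit false

namespace Cfsg.Agent.Fusion

open Cfsg.FusionSystem (centralizerIn normalizerIn)

variable {Ω : Type*} [Group Ω] {S : Subgroup Ω} [Finite S]
variable {F E : FusionSystem S} {P R : Subgroup Ω} {f : Ω → Ω} {p : ℕ} [Fact p.Prime]

/-- Centric subgroups of a system are centric in every smaller one. -/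
theorem isCentric_of_le (hEF : ∀ P f, MapTo E P f → MapTo F P f) (hR : F.IsCentric R) :
    E.IsCentric R := by
  refine ⟨hR.1, fun Q hQ => hR.2 Q ?_⟩
  obtain ⟨g, hg, rfl⟩ := isConj_iff.mp hQ
  exact (hEF _ _ hg).isConj

theorem mapTo_of_restrict_centric (hS : IsPGroup p S) (hF : F.IsSaturated p)
    (hE : E.IsSaturated p) (hEF : ∀ P f, MapTo E P f → MapTo F P f) (hR : F.IsCentric R)
    (hRP : R ≤ P) (hf : MapTo F P f) (hRE : MapTo E R f) : MapTo E P f := by
  induction hk : Nat.card P - Nat.card R using Nat.strong_induction_on generalizing R with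
  | h k ih =>
  rcases eq_or_lt_of_le hRP with rfl | hlt
  · exact hRE
  have hPS := hf.le
  have := finite_of_le hPS
  set R₁ := normalizerIn P R with hR₁
  have hlt' : R < R₁ := lt_normalizerIn (hS.to_le hPS) hlt
  have hR₁P : R₁ ≤ P := normalizerIn_le
  have hcT : E.IsCentric (img f R) :=
    isCentric_of_le hEF (isCentric_of_isConj hR (hf.restrict hRP).isConj)
  obtain ⟨ψ, hψ, hψx⟩ := (isReceptive_iff.mp
    (isReceptive_of_isFullyCentralized hS hE (isFullyCentralized_of_isCentric hcT))).2 R f hRE rfl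
  have hext : R₁ ≤ extSub S hRE := fun z hz =>
    ⟨⟨hPS (hR₁P hz), hz.2⟩, f z, hf.mem (hR₁P hz), fun x hx =>
      hf.map_conj (hR₁P hz) (hRP hx)⟩
  have hψ₁ := hψ.restrict hext
  obtain ⟨z, hz, -, hzy⟩ := eq_conj_of_eqOn_centric hS hF hR hlt'.le
    (hEF _ _ hψ₁) (hf.restrict hR₁P) hψx
  have hzR₁ := hlt'.le hz
  have hfE : MapTo E R₁ f :=
    ((mapTo_cj (hR₁P.trans hPS) (hR.1 hz)).comp hψ₁ fun y hy =>
      Subgroup.mul_mem _ (Subgroup.mul_mem _ hzR₁ hy) (Subgroup.inv_mem _ hzR₁)).congr'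
      fun y hy => hzy y hy
  refine ih _ ?_ (isCentric_mono hR hlt'.le (hR₁P.trans hPS)) hR₁P hfE rfl
  have := finite_of_le (hR₁P.trans hPS)
  have h1 : Nat.card R < Nat.card R₁ := by
    refine lt_of_le_of_ne (Subgroup.card_le_of_le hlt'.le) fun he => ?_
    exact hlt'.ne (Subgroup.eq_of_le_of_card_ge hlt'.le he.ge)
  have h2 : Nat.card R₁ ≤ Nat.card P := Subgroup.card_le_of_le hR₁P
  omega

/-- A saturated subsystem with the same maps on the minimal centric subgroups is the whole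
system. -/
theorem eq_of_agree_on_minimal_centric (hS : IsPGroup p S) (hF : F.IsSaturated p)
    (hE : E.IsSaturated p) (hEF : ∀ P f, MapTo E P f → MapTo F P f)
    (hmin : ∀ Q : Subgroup Ω, F.IsCentric Q → (∀ R : Subgroup Ω, R < Q → ¬ F.IsCentric R) →
      F.Hom Q = E.Hom Q) : F = E := by
  refine fusionSystem_ext fun P f => ⟨alperin hS hF E ?_ P f, hEF P f⟩
  intro Q hQ α hα
  have hQc : F.IsCentric Q := by
    rcases hQ with rfl | h
    · refine isCentric_of_isFullyCentralized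
        (isFullyCentralized_of_isFullyNormalized hS hF isFullyNormalized_top) centralizerIn_le
    · exact h.1
  have := finite_of_le hQc.1
  obtain ⟨R, ⟨hRc, hRQ⟩, hRmin⟩ := Set.Finite.exists_minimal
    (s := {R : Subgroup Ω | F.IsCentric R ∧ R ≤ Q})
    ((Set.finite_coe_iff.mp (finite_subgroups_le (S := S)) : {Q : Subgroup Ω | Q ≤ S}.Finite).subset fun R h => h.1.1) ⟨Q, hQc, le_rfl⟩
  have hα' := mapTo_of_mem_autGroup hQc.1 hα
  refine (mem_autGroup_iff hQc.1).mpr
    (mapTo_of_restrict_centric hS hF hE hEF hRc hRQ hα' ?_)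
  have h := hmin R hRc fun T hT hTc =>
    hT.not_ge (hRmin ⟨hTc, hT.le.trans hRQ⟩ hT.le)
  obtain ⟨φ, hφ, hφx⟩ := hα'.restrict hRQ
  exact ⟨φ, h ▸ hφ, hφx⟩

end Cfsg.Agent.Fusion
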