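import Cfsg.Agent.Lib.Fusion.NormalCriteria
import Cfsg.Agent.Lib.Fusion.Normal
import Cfsg.Agent.Lib.Fusion.Generation

/-!
Saturated systems over a special group with large abelian centralizers: constrained or with
trivial core.
-/

set_option autoImplicit false
set_option linter.unusedSectionVars false

namespace Cfsg.Agent.Fusion

open Cfsg.FusionSystem (centralizerIn normalizerIn)

universe u

variable {Ω : Type u} [Group Ω] {S : Subgroup Ω} [Finite S] {F : FusionSystem S} {p : ℕ}
  [hp : Fact p.Prime]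

/-- A class two group in which centralizers of noncentral elements are abelian of order the square
of the order of the centre `Z`, and of index that order. -/
structure SpecialCent (S Z : Subgroup Ω) : Prop where
  le : Z ≤ S
  central : ∀ z ∈ Z, ∀ s ∈ S, Commute z s
  comm : ∀ x ∈ S, ∀ y ∈ S, x⁻¹ * (y * x * y⁻¹) ∈ Z
  abelian : ∀ x ∈ S, x ∉ Z → ∀ a ∈ centralizerIn S (Subgroup.zpowers x),
    ∀ b ∈ centralizerIn S (Subgroup.zpowers x), Commute a b
  card_sq : ∀ x ∈ S, x ∉ Z →
    Nat.card (centralizerIn S (Subgroup.zpowers x) : Subgroup Ω) = Nat.card Z * Nat.card Z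
  card : Nat.card S = Nat.card Z * (Nat.card Z * Nat.card Z)

theorem mem_cent_zpowers {x y : Ω} :
    y ∈ centralizerIn S (Subgroup.zpowers x) ↔ y ∈ S ∧ Commute x y := by
  rw [mem_centralizerIn]
  refine and_congr_right fun _ => ⟨fun h => h x (Subgroup.mem_zpowers x), fun h z hz => ?_⟩
  obtain ⟨i, rfl⟩ := Subgroup.mem_zpowers_iff.mp hz
  exact (h.zpow_left i).eq

namespace SpecialCent

variable {Z : Subgroup Ω} (h : SpecialCent S Z)
include h

/-- The centralizer of a noncentral element. -/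
theorem eq_of_mem {x y : Ω} (hx : x ∈ S) (hxZ : x ∉ Z)
    (hy : y ∈ centralizerIn S (Subgroup.zpowers x)) (hyZ : y ∉ Z) :
    centralizerIn S (Subgroup.zpowers y) = centralizerIn S (Subgroup.zpowers x) := by
  have := finite_of_le (centralizerIn_le (S := S) (P := Subgroup.zpowers y))
  refine (Subgroup.eq_of_le_of_card_ge (fun a ha => mem_cent_zpowers.mpr
    ⟨(mem_cent_zpowers.mp ha).1, h.abelian x hx hxZ y hy a ha⟩) ?_).symm
  rw [h.card_sq x hx hxZ, h.card_sq y (mem_cent_zpowers.mp hy).1 hyZ]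

theorem le_cent {x : Ω} (_hx : x ∈ S) : Z ≤ centralizerIn S (Subgroup.zpowers x) := fun z hz =>
  mem_cent_zpowers.mpr ⟨h.le hz, (h.central z hz x _hx).symm⟩

theorem normal {R : Subgroup Ω} (hR : R ≤ S) (hZR : Z ≤ R) : normalizerIn S R = S :=
  le_antisymm normalizerIn_le fun s hs => mem_normalizerIn_of_forall hR hs fun r hr => by
    have := R.mul_mem hr (hZR (h.comm r (hR hr) s hs))
    rwa [mul_inv_cancel_left] at this

theorem exists_eq_cent (hS : IsPGroup p S) {R : Subgroup Ω} (hR : F.IsEssential p R)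
    (hRS : R < S) : ∃ x ∈ S, x ∉ Z ∧ R = centralizerIn S (Subgroup.zpowers x) := by
  have hc := hR.1
  have hr := isRadical_of_isEssential hS hR
  have hZR : Z ≤ R := fun z hz => centralizerIn_le_of_isCentric hc
    (mem_centralizerIn.mpr ⟨h.le hz, fun y hy => (h.central z hz y (hRS.le hy)).eq.symm⟩)
  by_cases hex : ∃ x ∈ R, x ∉ Z ∧ ∀ r ∈ R, Commute x r
  · obtain ⟨x, hxR, hxZ, hx⟩ := hex
    have hle : R ≤ centralizerIn S (Subgroup.zpowers x) := fun r hr =>
      mem_cent_zpowers.mpr ⟨hRS.le hr, hx r hr⟩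
    refine ⟨x, hRS.le hxR, hxZ, le_antisymm hle fun a ha => ?_⟩
    exact centralizerIn_le_of_isCentric hc (mem_centralizerIn.mpr
      ⟨(mem_cent_zpowers.mp ha).1, fun y hy =>
        (h.abelian x (hRS.le hxR) hxZ y (hle hy) a ha).eq⟩)
  · exfalso
    refine hRS.not_ge fun k hk => ?_
    have hkn : k ∈ normalizerIn S R := (h.normal hRS.le hZR).symm ▸ hk
    set c : Fin 3 → Subgroup Ω := ![⊥, Z, R] with hc'
    have hle : ∀ i, c i ≤ R := by intro i; fin_cases i <;> simp [c, hZR]
    refine mem_of_stabilizes_series hS hc hr hkn c rfl rfl hle ?_ ?_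
    · intro i α hα x hx
      fin_cases i
      · change x ∈ (⊥ : Subgroup Ω) at hx
        change autFun α x ∈ (⊥ : Subgroup Ω)
        rw [Subgroup.mem_bot.mp hx, Subgroup.mem_bot]
        exact (mapTo_of_mem_autGroup hRS.le hα).map_one
      · change x ∈ Z at hx
        change autFun α x ∈ Z
        by_contra hcon
        refine hex ⟨_, autFun_mem α (hZR hx), hcon, fun r hr => ?_⟩
        have hm := mapTo_of_mem_autGroup hRS.le hα
        have hr' := autFun_mem α⁻¹ hr
        show autFun α x * r = r * autFun α x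
        rw [← autFun_autFun_inv α hr, ← hm.map_mul (hZR hx) hr', ← hm.map_mul hr' (hZR hx),
          (h.central x hx _ (hRS.le hr')).eq]
      · exact autFun_mem α hx
    · intro i x hx
      fin_cases i
      · change x ∈ Z at hx
        change x⁻¹ * (k * x * k⁻¹) ∈ (⊥ : Subgroup Ω)
        rw [← (h.central x hx k hk).eq, mul_inv_cancel_right, inv_mul_cancel]
        exact Subgroup.one_mem _
      · exact h.comm x (hRS.le hx) k hk

/-- A subgroup of `Z` invariant under the automizer of an essential centralizer is trivial. -/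
theorem eq_bot_of_invariant (hS : IsPGroup p S) (hF : F.IsSaturated p) {x : Ω} (hx : x ∈ S)
    (hxZ : x ∉ Z) (hA : F.IsEssential p (centralizerIn S (Subgroup.zpowers x)))
    (hAS : centralizerIn S (Subgroup.zpowers x) < S) {Q : Subgroup Ω} (hQZ : Q ≤ Z)
    (hinv : ∀ α ∈ F.autGroup (centralizerIn S (Subgroup.zpowers x)), ∀ q ∈ Q, autFun α q ∈ Q) :
    Q = ⊥ := by
  set A := centralizerIn S (Subgroup.zpowers x) with hAdef
  have hAS' : A ≤ S := centralizerIn_le
  have := finite_of_le hAS'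
  have := finite_mulAut A
  have hZA : Z ≤ A := h.le_cent hx
  have hab : ∀ a ∈ A, ∀ b ∈ A, Commute a b := h.abelian x hx hxZ
  set G := F.autGroup A
  obtain ⟨-, R, hR⟩ := isFullyAutomized_of_isFullyNormalized hS hF hA.2.1
  have hmem : ∀ {α : G}, α ∈ (R : Subgroup G) ↔ ∃ s ∈ S, ∀ a ∈ A, autFun (α : MulAut A) a = cj s a := by
    intro α
    rw [hR, Subgroup.mem_subgroupOf, mem_autInducedBy_iff_cj]
  -- elements of `R` move `A` into `Z` and, unless trivial, fix exactly `Z`
  have hfixZ : ∀ α : G, α ∈ (R : Subgroup G) → ∀ z ∈ Z, autFun (α : MulAut A) z = z := by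
    intro α hα z hz
    obtain ⟨s, hs, h'⟩ := hmem.mp hα
    rw [h' z (hZA hz), cj_apply, ← (h.central z hz s hs).eq, mul_inv_cancel_right]
  have hmoveZ : ∀ α : G, α ∈ (R : Subgroup G) → ∀ a ∈ A, a⁻¹ * autFun (α : MulAut A) a ∈ Z := by
    intro α hα a ha
    obtain ⟨s, hs, h'⟩ := hmem.mp hα
    rw [h' a ha]
    exact h.comm a (hAS' ha) s hs
  have hexact : ∀ α : G, α ∈ (R : Subgroup G) → α ≠ 1 → ∀ a ∈ A,
      autFun (α : MulAut A) a = a → a ∈ Z := by
    intro α hα hne a ha hfix
    by_contra haZ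
    obtain ⟨s, hs, h'⟩ := hmem.mp hα
    have hsa : Commute a s := by
      have h1 := (h' a ha).symm.trans hfix
      rw [cj_apply, mul_inv_eq_iff_eq_mul] at h1
      exact h1.symm
    have hsA : s ∈ A := by
      rw [hAdef, ← h.eq_of_mem hx hxZ ha haZ]
      exact mem_cent_zpowers.mpr ⟨hs, hsa⟩
    refine hne (Subtype.ext (autFun_ext fun b hb => ?_))
    show autFun (α : MulAut A) b = autFun (1 : MulAut A) b
    rw [h' b hb, autFun_one hb, cj_apply, (hab s hsA b hb).eq, mul_inv_cancel_right]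
  -- the order of `R`
  have hRcard : Nat.card (R : Subgroup G) = Nat.card Z := by
    rw [hR, Nat.card_congr (Subgroup.subgroupOfEquivOfLe
      (autInducedBy_le_autGroup hAS')).toEquiv]
    have h1 := card_autInducedBy_mul S A
    have hCA : centralizerIn S A = A := le_antisymm (centralizerIn_le_of_isCentric hA.1)
      fun a ha => mem_centralizerIn.mpr ⟨hAS' ha, fun b hb => (hab b hb a ha).eq⟩
    rw [hCA, h.normal hAS' hZA, h.card, h.card_sq x hx hxZ] at h1
    have hZpos : 0 < Nat.card Z * Nat.card Z := by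
      have := finite_of_le h.le
      exact Nat.mul_pos Nat.card_pos Nat.card_pos
    exact Nat.eq_of_mul_eq_mul_right hZpos h1
  -- some conjugate of `R` differs from `R`
  have hne : ∃ β : G, β • R ≠ R := by
    by_contra hcon
    push Not at hcon
    have hn : (R : Subgroup G).Normal := by
      rw [← Subgroup.normalizer_eq_top_iff, eq_top_iff]
      exact fun β _ => Sylow.smul_eq_iff_mem_normalizer.mp (hcon β)
    have h1 : (R : Subgroup G).map G.subtype ≤ Inn A := by
      rw [← (isRadical_of_isEssential hS hA).2]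
      exact Subgroup.map_mono (le_pCore hn R.2)
    obtain ⟨s, hs, hsA⟩ := SetLike.exists_of_lt hAS
    obtain ⟨γ, hγ⟩ := exists_conjAut ((h.normal hAS' hZA).symm ▸ hs : s ∈ normalizerIn S A).2
    have hγG : γ ∈ G := autInducedBy_le_autGroup hAS' (mem_autInducedBy_iff_cj.mpr
      ⟨s, (h.normal hAS' hZA).symm ▸ hs, hγ⟩)
    exact hsA (mem_of_cj_mem_inn (centralizerIn_le_of_isCentric hA.1) hs hγ
      (h1 ⟨⟨γ, hγG⟩, hmem.mpr ⟨s, hs, hγ⟩, rfl⟩) hAS')
  -- conjugate centres
  set Zof : G → Subgroup Ω := fun β => img (autFun (β : MulAut A)) Z with hZof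
  have hmapA : ∀ β : G, MapTo F A (autFun (β : MulAut A)) := fun β => mapTo_of_mem_autGroup hAS' β.2
  have hconj : ∀ {β α : G}, α ∈ ((β • R : Sylow p G) : Subgroup G) ↔ β⁻¹ * α * β ∈ (R : Subgroup G) := by
    intro β α
    rw [Sylow.coe_subgroup_smul, Subgroup.mem_pointwise_smul_iff_inv_smul_mem]
    rfl
  have hfixβ : ∀ (β α : G), α ∈ ((β • R : Sylow p G) : Subgroup G) → ∀ z ∈ Zof β,
      autFun (α : MulAut A) z = z := by
    intro β α hα z hz
    obtain ⟨w, hw, rfl⟩ := ((hmapA β).mem_img_iff hZA).mp hz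
    have h1 := hfixZ _ (hconj.mp hα) w hw
    rw [Subgroup.coe_mul, Subgroup.coe_mul, Subgroup.coe_inv, autFun_mul _ _ (hZA hw),
      autFun_mul _ _ (autFun_mem _ (hZA hw))] at h1
    have h2 := congrArg (autFun (β : MulAut A)) h1
    rwa [autFun_autFun_inv _ (autFun_mem _ (autFun_mem _ (hZA hw)))] at h2
  have hZne : ∀ β : G, β • R ≠ R → Zof β ≠ Z := by
    intro β hβ heq
    let L : Subgroup G :=
      { carrier := {α | (∀ z ∈ Z, autFun (α : MulAut A) z = z) ∧
          ∀ a ∈ A, a⁻¹ * autFun (α : MulAut A) a ∈ Z}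
        one_mem' := ⟨fun z hz => autFun_one (hZA hz), fun a ha => by
          rw [Subgroup.coe_one, autFun_one ha, inv_mul_cancel]; exact Z.one_mem⟩
        mul_mem' := fun {a b} ha hb => ⟨fun z hz => by
            rw [Subgroup.coe_mul, autFun_mul _ _ (hZA hz), hb.1 z hz, ha.1 z hz],
          fun c hc => by
            rw [Subgroup.coe_mul, autFun_mul _ _ hc]
            have h2 := Z.mul_mem (hb.2 c hc) (ha.2 _ (autFun_mem (b : MulAut A) hc))
            rwa [mul_assoc, mul_inv_cancel_left] at h2⟩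
        inv_mem' := fun {a} ha => ⟨fun z hz => by
            conv_lhs => rw [← ha.1 z hz]
            rw [Subgroup.coe_inv, autFun_inv_autFun _ (hZA hz)],
          fun c hc => by
            have h2 := Z.inv_mem (ha.2 _ (autFun_mem (a : MulAut A)⁻¹ hc))
            rw [autFun_autFun_inv _ hc, mul_inv_rev, inv_inv] at h2
            exact h2⟩ }
    have hLp : IsPGroup p L := by
      set c : Fin 3 → Subgroup Ω := ![⊥, Z, A] with hc'
      have hle : ∀ i, c i ≤ A := by intro i; fin_cases i <;> simp [c, hZA]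
      have := isPGroup_stabilizer_series (hS.to_le hAS') c rfl rfl hle (L.map G.subtype) ?_
      · exact this.of_equiv (L.equivMapOfInjective _ (Subgroup.subtype_injective _)).symm
      rintro _ ⟨α, hα, rfl⟩ i a ha
      fin_cases i
      · change a⁻¹ * autFun (α : MulAut A) a ∈ (⊥ : Subgroup Ω)
        rw [hα.1 a ha, inv_mul_cancel]; exact Subgroup.one_mem _
      · exact hα.2 a ha
    have hRL : (R : Subgroup G) ≤ L := fun α hα => ⟨hfixZ α hα, hmoveZ α hα⟩
    have hLR : L = R := R.is_maximal' hLp hRL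
    have hle : ((β • R : Sylow p G) : Subgroup G) ≤ R := by
      refine fun α hα => hLR ▸ (⟨fun z hz => hfixβ β α hα z (heq.symm ▸ hz), fun a ha => ?_⟩ : α ∈ L)
      have ha0 := autFun_mem (β : MulAut A)⁻¹ ha
      have h1 := hmoveZ _ (hconj.mp hα) _ ha0
      rw [Subgroup.coe_mul, Subgroup.coe_mul, Subgroup.coe_inv, autFun_mul _ _ ha0,
        autFun_mul _ _ (autFun_mem _ ha0), autFun_autFun_inv _ ha] at h1
      have hb := autFun_mem (α : MulAut A) ha
      have h2 : autFun (β : MulAut A) _ ∈ Zof β := mem_img_of_mem h1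
      rw [(hmapA β).map_mul (A.inv_mem ha0) (autFun_mem _ hb), (hmapA β).map_inv ha0,
        autFun_autFun_inv _ ha, autFun_autFun_inv _ hb, heq] at h2
      exact h2
    exact hβ (Sylow.ext ((β • R).is_maximal' R.2 hle).symm)
  -- the largest intersection of two centres is trivial
  obtain ⟨β, hβ, hmax⟩ := ((Set.toFinite {β : G | β • R ≠ R})).exists_maximalFor
    (fun β => Nat.card (Z ⊓ Zof β : Subgroup Ω)) _ hne
  have hmax' : ∀ γ : G, γ • R ≠ R →
      Nat.card (Z ⊓ Zof γ : Subgroup Ω) ≤ Nat.card (Z ⊓ Zof β : Subgroup Ω) := fun γ hγ => by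
    rcases le_total (Nat.card (Z ⊓ Zof γ : Subgroup Ω)) (Nat.card (Z ⊓ Zof β : Subgroup Ω)) with h' | h'
    · exact h'
    · exact hmax hγ h'
  set W := Z ⊓ Zof β with hW
  have hZβA : Zof β ≤ A := img_le_of_forall fun z hz => autFun_mem _ (hZA hz)
  have := finite_of_le h.le
  have hcardβ : Nat.card (Zof β) = Nat.card Z := (hmapA β).card_img hZA
  rw [eq_bot_iff]
  intro q hq
  have hqW : q ∈ W := by
    refine ⟨hQZ hq, ?_⟩
    have h1 := mem_img_of_mem (f := autFun (β : MulAut A))
      (hQZ (hinv _ (Subgroup.inv_mem _ β.2) q hq))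
    rwa [autFun_autFun_inv _ (hZA (hQZ hq))] at h1
  rw [Subgroup.mem_bot]
  by_contra hq1
  obtain ⟨z', hz', hz'Z⟩ : ∃ z' ∈ Zof β, z' ∉ Z := by
    by_contra hcon
    push Not at hcon
    have := finite_of_le (hZβA.trans hAS')
    exact hZne β hβ (Subgroup.eq_of_le_of_card_ge hcon hcardβ.ge)
  have hz'A := hZβA hz'
  -- an element of `R` moving `z'` by `q`
  obtain ⟨t, htq⟩ : ∃ t : ↥(R : Subgroup G), z'⁻¹ * autFun ((t : G) : MulAut A) z' = q := by
    let φ : ↥(R : Subgroup G) → Z := fun t => ⟨_, hmoveZ t t.2 z' hz'A⟩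
    have hinj : Function.Injective φ := by
      intro t t' htt'
      have h1 : autFun ((t : G) : MulAut A) z' = autFun ((t' : G) : MulAut A) z' :=
        mul_left_cancel (congrArg Subtype.val htt')
      by_contra hne'
      refine hz'Z (hexact ((t'⁻¹ * t : ↥(R : Subgroup G)) : G) (t'⁻¹ * t).2 ?_ z' hz'A ?_)
      · intro hone
        exact hne' (inv_mul_eq_one.mp (Subtype.ext hone : t'⁻¹ * t = 1)).symm
      · rw [Subgroup.coe_mul, Subgroup.coe_mul, Subgroup.coe_inv, Subgroup.coe_inv,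
          autFun_mul _ _ hz'A, h1, autFun_inv_autFun _ hz'A]
    have := Finite.of_injective φ hinj
    obtain ⟨t, ht⟩ := (hinj.bijective_of_nat_card_le hRcard.ge).2 ⟨q, hQZ hq⟩
    exact ⟨t, congrArg Subtype.val ht⟩
  have htz : autFun ((t : G) : MulAut A) z' = z' * q := by rw [← htq, mul_inv_cancel_left]
  -- `t` normalizes the conjugate of `R`
  have htR : ((t : G) * β) • R = β • R := by
    by_contra hne'
    set γ : G := β⁻¹ * ((t : G) * β) with hγ
    have hγR : γ • R ≠ R := fun e => hne' (by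
      have := congrArg (fun P : Sylow p G => β • P) e
      simpa [hγ, ← mul_smul] using this)
    have hsub : Zof β ⊓ Zof ((t : G) * β) ≤ img (autFun (β : MulAut A)) (Z ⊓ Zof γ) := by
      intro w hw
      obtain ⟨w₀, hw₀, rfl⟩ := ((hmapA β).mem_img_iff hZA).mp hw.1
      refine mem_img_of_mem ⟨hw₀, ?_⟩
      obtain ⟨w₁, hw₁, hw₁e⟩ := ((hmapA ((t : G) * β)).mem_img_iff hZA).mp hw.2
      have h1 : autFun (γ : MulAut A) w₁ = w₀ := by
        rw [Subgroup.coe_mul, autFun_mul _ _ (hZA hw₁)] at hw₁e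
        rw [hγ, Subgroup.coe_mul, Subgroup.coe_inv, Subgroup.coe_mul, autFun_mul _ _ (hZA hw₁),
          autFun_mul _ _ (hZA hw₁), hw₁e, autFun_inv_autFun _ (hZA hw₀)]
      exact h1 ▸ mem_img_of_mem hw₁
    have hZtb : ∀ z ∈ Zof β, autFun ((t : G) : MulAut A) z ∈ Zof ((t : G) * β) := by
      intro z hz
      obtain ⟨w, hw, rfl⟩ := ((hmapA β).mem_img_iff hZA).mp hz
      rw [← autFun_mul _ _ (hZA hw)]
      exact mem_img_of_mem hw
    have hbig : W ⊔ Subgroup.zpowers (z' * q) ≤ Zof β ⊓ Zof ((t : G) * β) := by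
      refine sup_le (fun w hw => ⟨hw.2, ?_⟩)
        (Subgroup.zpowers_le.mpr ⟨mul_mem hz' hqW.2, htz ▸ hZtb z' hz'⟩)
      have h1 := hZtb w hw.2
      rwa [hfixZ _ t.2 w hw.1] at h1
    have hlt : Nat.card W < Nat.card (Zof β ⊓ Zof ((t : G) * β) : Subgroup Ω) := by
      have := finite_of_le ((inf_le_left : Zof β ⊓ Zof ((t : G) * β) ≤ Zof β).trans
        (hZβA.trans hAS'))
      refine Set.ncard_lt_ncard (s := (W : Set Ω)) ?_ (Set.toFinite _)
      refine (Set.ssubset_iff_of_subset fun w hw => hbig (Subgroup.mem_sup_left hw)).mpr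
        ⟨z' * q, hbig (Subgroup.mem_sup_right (Subgroup.mem_zpowers _)), fun hw => hz'Z ?_⟩
      have := Z.mul_mem hw.1 (Z.inv_mem (hQZ hq))
      rwa [mul_inv_cancel_right] at this
    have hle2 : Nat.card (Zof β ⊓ Zof ((t : G) * β) : Subgroup Ω) ≤
        Nat.card (Z ⊓ Zof γ : Subgroup Ω) := by
      rw [← (hmapA β).card_img (inf_le_left.trans hZA : Z ⊓ Zof γ ≤ A)]
      have := finite_of_le (((hmapA β).restrict (inf_le_left.trans hZA : Z ⊓ Zof γ ≤ A)).img_le)
      exact Subgroup.card_le_of_le hsub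
    exact absurd (hmax' γ hγR) (not_le.mpr (hlt.trans_le hle2))
  have htn : (t : G) ∈ Subgroup.normalizer (((β • R : Sylow p G) : Subgroup G) : Set G) :=
    Sylow.smul_eq_iff_mem_normalizer.mp (by rw [← mul_smul]; exact htR)
  have htβ : (t : G) ∈ ((β • R : Sylow p G) : Subgroup G) :=
    ((IsPGroup.inf_normalizer_sylow R.2 (β • R)).le ⟨t.2, htn⟩).2
  have hfix := hfixβ β t htβ z' hz'
  exact hq1 (mul_eq_left.mp (htz.symm.trans hfix))

/-- A saturated system over such a group is constrained or has trivial core. -/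
theorem core_eq_bot_or_isConstrained (hS : IsPGroup p S) (hF : F.IsSaturated p) :
    F.core = ⊥ ∨ F.IsConstrained p := by
  by_cases hex : ∃ A, F.IsEssential p A
  swap
  · push Not at hex
    exact Or.inr ⟨hF, S, isNormal_of_forall_essential hS hF (fun P hP => by
      rcases hP with rfl | hP
      · exact ⟨le_rfl, fun α _ x hx => autFun_mem α hx⟩
      · exact absurd hP (hex P)), isCentric_top⟩
  obtain ⟨A, hA⟩ := hex
  have hAS := ne_top_of_isEssential hS hF hA
  obtain ⟨x, hx, hxZ, hAe⟩ := h.exists_eq_cent hS hA hAS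
  subst hAe
  set A := centralizerIn S (Subgroup.zpowers x)
  by_cases hAn : F.IsNormal A
  · exact Or.inr ⟨hF, A, hAn, hA.1⟩
  left
  have hn := isNormal_core F
  set Q := F.core
  obtain ⟨hQA, hQinv⟩ := le_and_invariant_of_isNormal hS hn A (Or.inr hA)
  refine h.eq_bot_of_invariant hS hF hx hxZ hA hAS (fun q hq => ?_) hQinv
  by_contra hqZ
  refine hAn (isNormal_of_forall_essential hS hF fun P hP => ?_)
  -- every essential subgroup is the centralizer of `q`
  have hAq : A = centralizerIn S (Subgroup.zpowers q) := (h.eq_of_mem hx hxZ (hQA hq) hqZ).symm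
  rcases hP with rfl | hP
  · refine ⟨hAS.le, fun α hα a ha => ?_⟩
    have hqA := hQA hq
    have hαq : autFun α q ∈ A :=
      hQA ((le_and_invariant_of_isNormal hS hn P (Or.inl rfl)).2 α hα q hq)
    have hm := mapTo_of_mem_autGroup le_rfl hα
    have hqS := hn.1 hq
    by_cases hαqZ : autFun α q ∈ Z
    · exfalso
      refine hqZ ?_
      by_contra hqZ'
      have hall : ∀ s ∈ P, s ∈ centralizerIn P (Subgroup.zpowers q) := fun s hs =>
        mem_cent_zpowers.mpr ⟨hs, hm.inj (P.mul_mem hqS hs) (P.mul_mem hs hqS) (by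
          rw [hm.map_mul hqS hs, hm.map_mul hs hqS,
            (h.central _ hαqZ _ (autFun_mem α hs)).eq])⟩
      rw [← hAq] at hall
      exact hAS.not_ge hall
    · rw [show A = centralizerIn P (Subgroup.zpowers (autFun α q)) from
        (h.eq_of_mem hx hxZ hαq hαqZ).symm]
      exact mem_cent_zpowers.mpr ⟨autFun_mem α (hAS.le ha), by
        show autFun α q * autFun α a = autFun α a * autFun α q
        rw [← hm.map_mul hqS (hAS.le ha), ← hm.map_mul (hAS.le ha) hqS]
        rw [hAq] at ha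
        rw [(mem_cent_zpowers.mp ha).2.eq]⟩
  · have hPS := ne_top_of_isEssential hS hF hP
    obtain ⟨y, hy, hyZ, hPe⟩ := h.exists_eq_cent hS hP hPS
    obtain ⟨hQP, -⟩ := le_and_invariant_of_isNormal hS hn P (Or.inr hP)
    have hPq : centralizerIn S (Subgroup.zpowers q) = P :=
      (h.eq_of_mem hy hyZ (hPe ▸ hQP hq) hqZ).trans hPe.symm
    rw [hAq, hPq]
    exact ⟨le_rfl, fun α _ a ha => autFun_mem α ha⟩

end SpecialCent

end Cfsg.Agent.Fusion
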