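import Cfsg.Agent.Lib.Fusion.PrimeIndexMain

/-!
Two weakly normal subsystems over the same subgroup: the second contains `O^{p'}` of the first.
-/

set_option autoImplicit false

namespace Cfsg.Agent.Fusion

open Cfsg.FusionSystem (centralizerIn normalizerIn)

variable {Ω : Type*} [Group Ω] {S T : Subgroup Ω} {F : FusionSystem S}
variable {E D : FusionSystem T} {P Q R : Subgroup Ω} {f g z k : Ω → Ω} {p : ℕ}

/-- A map of both systems. -/
def Both (E D : FusionSystem T) (P : Subgroup Ω) (f : Ω → Ω) : Prop := MapTo E P f ∧ MapTo D P f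

theorem Both.transport (hE : E.IsInvariantIn F) (hD : D.IsInvariantIn F) (hPT : P ≤ T)
    (hf : Both E D P f) {a : MulAut T} (ha : a ∈ F.autGroup T) :
    Both E D (img (autFun a) P) (fun y => autFun a (f (autFun a⁻¹ y))) := by
  have ha' := mapTo_of_mem_autGroup hE.2.1.1 ha
  have key : ∀ {K : FusionSystem T}, K.IsInvariantIn F → MapTo K P f →
      MapTo K (img (autFun a) P) (fun y => autFun a (f (autFun a⁻¹ y))) := by
    intro K hK hfK
    obtain ⟨g, hg, hgx⟩ := IsInvariantIn.transport hK hPT hfK ha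
    refine hg.congr' fun y hy => ?_
    obtain ⟨x, hx, rfl⟩ := (ha'.mem_img_iff hPT).mp hy
    show autFun a (f (autFun a⁻¹ (autFun a x))) = _
    rw [autFun_inv_autFun a (hPT hx), hgx x hx]
  exact ⟨key hE hf.1, key hD hf.2⟩

variable [Finite S] [Fact p.Prime]

/-- `O^{p'}` of the automizers in `E` lies in `D`. -/
theorem ppP_le_of_invariant (hS : IsPGroup p S) (hEs : E.IsSaturated p) (hE : E.IsInvariantIn F)
    (hD : D.IsInvariantIn F) (hQ : Q ≤ T) : ppP E p Q ≤ D.autGroup Q := by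
  have hTS : T ≤ S := hE.2.1.1
  have := finite_of_le hTS
  have hTp := hS.to_le hTS
  refine Subgroup.map_le_iff_le_comap.mpr ((Subgroup.closure_le _).mpr ?_)
  rintro ⟨α, hα⟩ ⟨j, hj⟩
  show α ∈ D.autGroup Q
  obtain ⟨Q', hQQ', hn⟩ := exists_isFullyNormalized (F := E) hQ
  obtain ⟨γ, hγ, hγQ⟩ := isConj_iff.mp hQQ'
  set α' := MulAut.congr (isoEquiv hγ hγQ) α with hα'
  have hα'E : α' ∈ E.autGroup Q' := map_congr_autGroup hγ hγQ ▸ ⟨α, hα, rfl⟩
  have hpow : α' ^ p ^ j = 1 := by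
    rw [hα', ← map_pow, ← hj, ← Subgroup.orderOf_coe (⟨α, hα⟩ : E.autGroup Q), pow_orderOf_eq_one,
      map_one]
  have hN := IsInvariantIn.normal_autGroup hD hn.1
  have hK : ((D.autGroup Q').subgroupOf (E.autGroup Q')).Normal := ⟨fun n hn' β =>
    hN.conj_mem ⟨(n : MulAut Q'), IsSubsystemOf.autGroup_le hE.1 _ n.2⟩ hn'
      ⟨(β : MulAut Q'), IsSubsystemOf.autGroup_le hE.1 _ β.2⟩⟩
  have hα'D : α' ∈ D.autGroup Q' := mem_of_pow_eq_one_of_normal hTp
    (isFullyAutomized_of_isFullyNormalized hTp hEs hn) hK (autInducedBy_le_autGroup hn.1) hα'E hpow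
  obtain ⟨k, hk, hkγ, -, hkimg⟩ := hγ.exists_iso_inverse
  rw [hγQ] at hk
  obtain ⟨g, hg, hgx⟩ := IsInvariantIn.conj hD le_rfl hn.1 (mapTo_of_mem_autGroup hn.1 hα'D)
    (fun x hx => autFun_mem _ hx) (IsSubsystemOf.mapTo hE.1 hk)
  have he : img k Q' = Q := by rw [← hγQ]; exact hkimg Q le_rfl
  rw [he] at hg
  refine (mem_autGroup_iff hQ).mpr (hg.congr' fun x hx => ?_)
  have h1 := hgx (γ x) (hγQ ▸ mem_img_of_mem hx)
  rw [hkγ x hx, hα', autFun_congr hγ hγQ α hx, hkγ _ (autFun_mem α hx)] at h1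
  exact h1.symm

theorem both_of_ezero (hS : IsPGroup p S) (hEs : E.IsSaturated p) (hE : E.IsInvariantIn F)
    (hD : D.IsInvariantIn F) {ℋ : Set (Subgroup Ω)} (hf : Ezero E p ℋ P f) : Both E D P f :=
  ⟨hf.mapTo, mapTo_of_ezero D le_rfl (fun _ _ hQ => ppP_le_of_invariant hS hEs hE hD hQ) hf⟩

theorem pow_mem_of_normalizes {G : Type*} [Group G] {B I : Subgroup G} (hIB : I ≤ B)
    [(I.subgroupOf B).Normal] {x y : G} (hx : x ∈ B) (hy : ∀ b ∈ B, y * b * y⁻¹ ∈ B) {n : ℕ}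
    (hn : y ^ n ∈ I) : (x * y) ^ (n * I.relIndex B) ∈ I := by
  have hyi : ∀ i : ℕ, ∀ b ∈ B, y ^ i * b * (y ^ i)⁻¹ ∈ B := by
    intro i
    induction i with
    | zero => intro b hb; simpa using hb
    | succ i ih =>
      intro b hb
      have := ih _ (hy b hb)
      rw [pow_succ]
      convert this using 1
      group
  have h : ∀ i : ℕ, (x * y) ^ i * (y ^ i)⁻¹ ∈ B := by
    intro i
    induction i with
    | zero => simp
    | succ i ih =>
      have := B.mul_mem ih (hyi i x hx)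
      convert this using 1
      rw [pow_succ, pow_succ]
      group
  have h1 : (x * y) ^ n ∈ B := by
    have := B.mul_mem (h n) (hIB hn)
    rwa [inv_mul_cancel_right] at this
  have h2 := Subgroup.pow_index_mem (I.subgroupOf B) ⟨_, h1⟩
  rw [pow_mul]
  exact h2

theorem inn_normal (T : Subgroup Ω) : (Inn T).Normal := by
  refine ⟨?_⟩
  rintro _ ⟨t, rfl⟩ β
  exact ⟨β t, MulEquiv.ext fun y => by simp⟩

theorem not_dvd_relIndex_inn (hS : IsPGroup p S) (hTS : T ≤ S) (hEs : E.IsSaturated p) :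
    ¬ p ∣ (Inn T).relIndex (E.autGroup T) := by
  have := finite_of_le hTS
  have hTp := hS.to_le hTS
  rw [← autInducedBy_self_eq_inn]
  exact ((isFullyAutomized_iff hTp).mp
    (isFullyAutomized_of_isFullyNormalized hTp hEs isFullyNormalized_top)).2

/-- Iterating `μ ∘ z`. -/
theorem both_of_iterate (hE : E.IsInvariantIn F) (hD : D.IsInvariantIn F) (hR : R ≤ T)
    {μ : MulAut T} (hμ : μ ∈ F.autGroup T) {n : ℕ} (hn : ¬ p ∣ n) (hμn : μ ^ n ∈ Inn T)
    (hkm : ∀ x ∈ R, k x ∈ R) {j : ℕ} (hk : ∀ x ∈ R, k^[p ^ j] x = x) (hz : Both E D R z)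
    (hkz : ∀ x ∈ R, k x = autFun μ (z x)) : ∀ i, Both E D R (k^[i]) := by
  have hm : ∀ i, ∀ x ∈ R, k^[i] x ∈ R := by
    intro i
    induction i with
    | zero => intro x hx; exact hx
    | succ i ih => intro x hx; rw [Function.iterate_succ_apply']; exact hkm _ (ih x hx)
  have hstep : ∀ i, ∃ zi, Both E D R zi ∧ ∀ x ∈ R, k^[i] x = autFun (μ ^ i) (zi x) := by
    intro i
    induction i with
    | zero =>
      exact ⟨fun x => x, ⟨mapTo_id E hR, mapTo_id D hR⟩,
        fun x hx => by rw [pow_zero, autFun_one (hR hx)]; rfl⟩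
    | succ i ih =>
      obtain ⟨zi, hzi, hzx⟩ := ih
      have hw := Both.transport hE hD hR hz (a := (μ ^ i)⁻¹)
        (Subgroup.inv_mem _ (Subgroup.pow_mem _ hμ i))
      have hmem : ∀ x ∈ R, zi x ∈ img (autFun (μ ^ i)⁻¹) R := fun x hx => by
        rw [← autFun_inv_autFun (μ ^ i) (hzi.1.mem hx), ← hzx x hx]
        exact mem_img_of_mem (hm i x hx)
      refine ⟨_, ⟨hzi.1.comp hw.1 hmem, hzi.2.comp hw.2 hmem⟩, fun x hx => ?_⟩
      have hzT : z (k^[i] x) ∈ T := hz.1.mem (hm i x hx)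
      rw [Function.iterate_succ_apply', hkz _ (hm i x hx), inv_inv, ← hzx x hx, pow_succ',
        autFun_mul _ _ (autFun_mem _ hzT), autFun_autFun_inv _ hzT]
  have hnB : Both E D R (k^[n]) := by
    obtain ⟨zn, hzn, hznx⟩ := hstep n
    obtain ⟨t, ht⟩ := hμn
    have hc : ∀ x ∈ R, k^[n] x = cj (t : Ω) (zn x) := fun x hx => by
      rw [hznx x hx, ← ht, autFun_apply _ (hzn.1.mem hx)]
      rfl
    exact ⟨(hzn.1.comp (mapTo_cj le_rfl t.2) fun x hx => hzn.1.mem hx).congr' hc,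
      (hzn.2.comp (mapTo_cj le_rfl t.2) fun x hx => hzn.2.mem hx).congr' hc⟩
  intro i
  have hall : ∀ e, Both E D R (k^[n * e]) := by
    intro e
    induction e with
    | zero => exact ⟨mapTo_id E hR, mapTo_id D hR⟩
    | succ e ih =>
      have hc : ∀ x ∈ R, k^[n * (e + 1)] x = k^[n] (k^[n * e] x) := fun x _ => by
        rw [← Function.iterate_add_apply]; congr 2; ring
      exact ⟨(ih.1.comp hnB.1 (hm _)).congr' hc, (ih.2.comp hnB.2 (hm _)).congr' hc⟩
  obtain ⟨e, he⟩ : ∃ e, n * e ≡ i [MOD p ^ (j + 1)] := by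
    have hcop : Nat.Coprime n (p ^ (j + 1)) :=
      (((Fact.out : p.Prime).coprime_iff_not_dvd).mpr hn).symm.pow_right _
    have hone : 1 < p ^ (j + 1) := one_lt_pow₀ (Fact.out : p.Prime).one_lt (by omega)
    obtain ⟨e, he⟩ := Nat.exists_mul_mod_eq_one_of_coprime hcop hone
    refine ⟨e * i, ?_⟩
    have h1 : n * e ≡ 1 [MOD p ^ (j + 1)] := by
      rw [Nat.ModEq, he.2, Nat.mod_eq_of_lt hone]
    simpa [mul_assoc] using h1.mul_right i
  have hper : ∀ c a, ∀ x ∈ R, k^[a + p ^ (j + 1) * c] x = k^[a] x := by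
    have hp1 : ∀ c, ∀ x ∈ R, k^[p ^ j * c] x = x := by
      intro c
      induction c with
      | zero => intro x _; rfl
      | succ c ih => intro x hx; rw [Nat.mul_succ, Function.iterate_add_apply, hk x hx, ih x hx]
    intro c a x hx
    rw [Function.iterate_add_apply, pow_succ, mul_assoc, hp1 _ x hx]
  have hx : ∀ x ∈ R, k^[i] x = k^[n * e] x := by
    intro x hx
    rw [← Nat.mod_add_div i (p ^ (j + 1)), ← Nat.mod_add_div (n * e) (p ^ (j + 1)), hper _ _ x hx,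
      hper _ _ x hx, he]
  exact ⟨(hall e).1.congr' hx, (hall e).2.congr' hx⟩

/-- The climbing step. -/
theorem mapTo_top_of_mapTo_centric (hS : IsPGroup p S) (hE : E.IsWeaklyNormalIn F p)
    (hD : D.IsWeaklyNormalIn F p) {b : MulAut T} (hb : b ∈ E.autGroup T) (hR : E.IsCentric R)
    (hRD : MapTo D R (autFun b)) : MapTo D T (autFun b) := by
  have hTS : T ≤ S := hE.2.2.2.1.1
  have := finite_of_le hTS
  have hTp := hS.to_le hTS
  have hbE := mapTo_of_mem_autGroup le_rfl hb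
  have hbF := IsSubsystemOf.mapTo hE.2.2.1 hbE
  induction hm : Nat.card T - Nat.card R using Nat.strong_induction_on generalizing R with
  | h m ih =>
  rcases eq_or_lt_of_le hR.1 with rfl | hlt
  · exact hRD
  set R' := img (autFun b) R with hR'
  have hR'E : E.IsCentric R' := IsCentric.conj hR (hbE.restrict hR.1).isConj
  have hR'D : D.IsCentric R' := by
    refine ⟨hR'E.1, fun Q hQ w hw => ?_⟩
    obtain ⟨g, hg, rfl⟩ := isConj_iff.mp hQ
    obtain ⟨a, ha, g₀, hg₀, hgx⟩ :=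
      IsInvariantIn.frattini hE.2.2 hR'E.1 (IsSubsystemOf.mapTo hD.2.2.1 hg)
    have ha' := mapTo_of_mem_autGroup hTS (Subgroup.inv_mem _ ha)
    have hw' := mem_centralizerIn.mp hw
    have h1 : autFun a⁻¹ w ∈ img g₀ R' := by
      refine hR'E.2 _ hg₀.isConj (mem_centralizerIn.mpr ⟨autFun_mem _ hw'.1, fun y hy => ?_⟩)
      obtain ⟨x, hx, rfl⟩ := (hg₀.mem_img_iff le_rfl).mp hy
      have h2 := congrArg (autFun a⁻¹) (hw'.2 _ (mem_img_of_mem hx))
      have hgT : g x ∈ T := hg.mem hx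
      rwa [ha'.map_mul hgT hw'.1, ha'.map_mul hw'.1 hgT, hgx x hx,
        autFun_inv_autFun a (hg₀.mem hx)] at h2
    obtain ⟨x, hx, hxw⟩ := (hg₀.mem_img_iff le_rfl).mp h1
    rw [← autFun_autFun_inv a hw'.1, ← hxw, ← hgx x hx]
    exact mem_img_of_mem hx
  obtain ⟨ψ, hψ, hψx⟩ := (isReceptive_iff.mp (isReceptive_of_isFullyCentralized hTp hD.1
    (isFullyCentralized_of_isCentric hR'D))).2 R _ hRD rfl
  set R₁ := normalizerIn T R with hR₁
  have hlt' : R < R₁ := lt_normalizerIn hTp hlt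
  have hR₁T : R₁ ≤ T := normalizerIn_le
  replace hψ := hψ.restrict (fun w hw => ⟨hw, autFun b w, autFun_mem b hw.1,
    fun x hx => hbE.map_conj hw.1 (hR.1 hx)⟩ : R₁ ≤ extSub T hRD)
  obtain ⟨m', hm', z, hz, hψz⟩ := frat_of_mapTo hTp hD.1 isFamily_centric hψ
  have hzB : Both E D R₁ z :=
    (both_of_ezero hS hD.1 hD.2.2 hE.2.2 hz).symm
  set k : Ω → Ω := fun x => autFun b⁻¹ (ψ x) with hk
  have hbinv := mapTo_of_mem_autGroup hTS
    (Subgroup.inv_mem _ (IsSubsystemOf.autGroup_le hE.2.2.1 _ hb))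
  have hkF : MapTo F R₁ k :=
    (IsSubsystemOf.mapTo hD.2.2.1 hψ).comp hbinv fun x hx => hψ.mem hx
  have hkfix : ∀ x ∈ R, k x = x := fun x hx => by
    show autFun b⁻¹ (ψ x) = x
    rw [hψx x hx, autFun_inv_autFun b (hR.1 hx)]
  have hc : ∀ y ∈ R₁, y⁻¹ * k y ∈ R := by
    intro y hy
    refine hR.2 R (isConj_refl hR.1) (mem_centralizerIn.mpr ⟨T.mul_mem (T.inv_mem (hR₁T hy))
      (autFun_mem _ (hψ.mem hy)), fun x hx => ?_⟩)
    have hyx : y * x * y⁻¹ ∈ R := conj_mem_of_mem_normalizerIn hy hx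
    have h1 := hkF.map_conj hy (hlt'.le hx)
    rw [hkfix _ hyx, hkfix x hx] at h1
    calc x * (y⁻¹ * k y) = y⁻¹ * (y * x * y⁻¹) * k y := by group
      _ = y⁻¹ * k y * x := by rw [h1]; group
  have hkm : ∀ y ∈ R₁, k y ∈ R₁ := fun y hy => by
    have := R₁.mul_mem hy (hlt'.le (hc y hy))
    rwa [mul_inv_cancel_left] at this
  have hit : ∀ (i : ℕ), ∀ y ∈ R₁, k^[i] y = y * (y⁻¹ * k y) ^ i := by
    intro i y hy
    induction i with
    | zero => simp
    | succ i ihi =>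
      have hci := R.pow_mem (hc y hy) i
      rw [Function.iterate_succ_apply', ihi, hkF.map_mul hy (hlt'.le hci), hkfix _ hci, pow_succ',
        ← mul_assoc y, mul_inv_cancel_left]
  obtain ⟨j, hj⟩ := IsPGroup.iff_card.mp hTp
  have hper : ∀ y ∈ R₁, k^[p ^ j] y = y := fun y hy => by
    rw [hit _ y hy, ← hj]
    have : (⟨_, hR.1 (hc y hy)⟩ : T) ^ Nat.card T = 1 := pow_card_eq_one'
    rw [show (y⁻¹ * k y) ^ Nat.card T = 1 from congrArg Subtype.val this, mul_one]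
  have hI := inn_normal T
  have hIB : Inn T ≤ E.autGroup T := inn_le_autGroup le_rfl
  have hIC : Inn T ≤ D.autGroup T := inn_le_autGroup le_rfl
  have hμ : b⁻¹ * m' ∈ F.autGroup T := Subgroup.mul_mem _
    (Subgroup.inv_mem _ (IsSubsystemOf.autGroup_le hE.2.2.1 _ hb))
    (IsSubsystemOf.autGroup_le hD.2.2.1 _ hm')
  have hnorm := IsInvariantIn.normal_autGroup hE.2.2 (le_refl T)
  have hm'n : m' ^ (Inn T).relIndex (D.autGroup T) ∈ Inn T :=
    Subgroup.pow_index_mem ((Inn T).subgroupOf (D.autGroup T)) ⟨m', hm'⟩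
  have hμn := pow_mem_of_normalizes hIB (Subgroup.inv_mem _ hb) (y := m') (fun e he =>
    hnorm.conj_mem ⟨e, IsSubsystemOf.autGroup_le hE.2.2.1 _ he⟩ he
      ⟨m', IsSubsystemOf.autGroup_le hD.2.2.1 _ hm'⟩) hm'n
  have hnp : ¬ p ∣ (Inn T).relIndex (D.autGroup T) * (Inn T).relIndex (E.autGroup T) :=
    (Fact.out : p.Prime).not_dvd_mul (not_dvd_relIndex_inn hS hTS hD.1)
      (not_dvd_relIndex_inn hS hTS hE.1)
  have hkB := both_of_iterate hE.2.2 hD.2.2 hR₁T hμ hnp hμn hkm hper hzB fun x hx => by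
    rw [autFun_mul _ _ (hzB.1.mem hx), ← hψz x hx]
  have hbD : MapTo D R₁ (autFun b) := by
    refine ((hkB (p ^ j - 1)).2.comp hψ fun y hy => (hkB (p ^ j - 1)).2.mem hy |> fun _ => ?_).congr'
      fun y hy => ?_
    · have hmem : ∀ i, ∀ y ∈ R₁, k^[i] y ∈ R₁ := fun i y hy => by
        rw [hit i y hy]; exact R₁.mul_mem hy (hlt'.le (R.pow_mem (hc y hy) i))
      exact hmem _ y hy
    · have hmem : k^[p ^ j - 1] y ∈ R₁ := by
        rw [hit _ y hy]; exact R₁.mul_mem hy (hlt'.le (R.pow_mem (hc y hy) _))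
      have h1 : k (k^[p ^ j - 1] y) = y := by
        rw [← Function.iterate_succ_apply' k, Nat.succ_eq_add_one, Nat.sub_add_cancel
          (Nat.one_le_pow _ _ (Fact.out : p.Prime).pos)]
        exact hper y hy
      calc autFun b y = autFun b (k (k^[p ^ j - 1] y)) := by rw [h1]
        _ = ψ (k^[p ^ j - 1] y) := autFun_autFun_inv b (hψ.mem hmem)
  refine ih _ ?_ (isCentric_mono hR hlt'.le hR₁T) hbD rfl
  have h1 : Nat.card R < Nat.card R₁ := card_lt_of_lt hlt' hR₁T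
  have h2 : Nat.card R₁ ≤ Nat.card T := Subgroup.card_le_of_le hR₁T
  omega

/-- A weakly normal subsystem over `T` contains the `p'`-residual of every other one. -/
theorem pPrimeResidual_le_of_weaklyNormal (hS : IsPGroup p S) (hE : E.IsWeaklyNormalIn F p)
    (hD : D.IsWeaklyNormalIn F p) {K : FusionSystem T} (hK : E.IsPPrimeResidual p K) :
    K.IsSubsystemOf D := by
  have hTS : T ≤ S := hE.2.2.2.1.1
  have := finite_of_le hTS
  have hTp := hS.to_le hTS
  have hℋ : IsFamily E p {P : Subgroup Ω | E.IsCentric P} := isFamily_centric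
  have hle := hK.2.2 _ (isSaturated_hSys hℋ aZero_le hTp hE.1 le_rfl)
    (hasPrimeToPIndex_hSys hℋ aZero_le hTp hE.1)
  have haz : aZero E p {P : Subgroup Ω | E.IsCentric P} ≤ D.autGroup T := by
    refine (Subgroup.closure_le _).mpr ?_
    rintro b ⟨hb, R, hR, hRb⟩
    exact (mem_autGroup_iff le_rfl).mpr (mapTo_top_of_mapTo_centric hS hE hD hb hR
      (both_of_ezero hS hE.1 hE.2.2 hD.2.2 hRb).2)
  intro P φ hφ
  obtain ⟨-, a, ha, f₀, hf₀, hfx⟩ := (mapTo_hSys_iff hℋ aZero_le).mp (mapTo_ev (hle P hφ))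
  exact mapTo_ev_iff.mp ((((both_of_ezero hS hE.1 hE.2.2 hD.2.2 hf₀).2).comp
    (mapTo_of_mem_autGroup le_rfl (haz ha)) fun x hx => hf₀.mapTo.mem hx).congr' hfx)

end Cfsg.Agent.Fusion
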