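import Cfsg.Agent.Lib.Fusion.ConstrainedComponents
import Cfsg.Agent.Lib.Fusion.NormalResidual
import Cfsg.Agent.Lib.Fusion.PrimeIndexMain

/-!
A normal subsystem over `U` acts trivially on `Q / (Q ⊓ U)` for every normal subgroup `Q`; the
components of a saturated system centralize its core.
-/

set_option autoImplicit false

namespace Cfsg.Agent.Fusion

open Cfsg.FusionSystem (centralizerIn normalizerIn imageAlong preimageAlong)

universe u

variable {Ω : Type u} [Group Ω] {S U T : Subgroup Ω} {F : FusionSystem S} {D : FusionSystem U}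
variable {P Q R : Subgroup Ω} {f g : Ω → Ω} {p : ℕ}

theorem pow_mul_mem_coset {V : Subgroup Ω} (hRn : ∀ v ∈ V, ∀ r ∈ R, v * r * v⁻¹ ∈ R) {w r : Ω}
    (hw : w ∈ V) (hr : r ∈ R) : ∀ n : ℕ, ∃ r' ∈ R, (w * r) ^ n = w ^ n * r' := by
  intro n
  induction n with
  | zero => exact ⟨1, R.one_mem, by simp⟩
  | succ n ih =>
    obtain ⟨r', hr', he⟩ := ih
    refine ⟨(w⁻¹ * r' * w⁻¹⁻¹) * r, R.mul_mem (hRn _ (V.inv_mem hw) _ hr') hr, ?_⟩
    rw [pow_succ, pow_succ, he]
    group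

/-- An automorphism of order prime to `p` moving `q` by a `p`-element `w` it fixes modulo `R`
fixes `q` modulo `R`. -/
theorem mem_of_translate {V : Subgroup Ω} [Finite V] [Fact p.Prime] (hV : IsPGroup p V) (hRV : R ≤ V)
    (hRn : ∀ v ∈ V, ∀ r ∈ R, v * r * v⁻¹ ∈ R) {δ : MulAut V} (hδ : (orderOf δ).Coprime p)
    (hδR : ∀ r ∈ R, autFun δ r ∈ R) {q w : Ω} (hq : q ∈ V) (hw : w ∈ V)
    (h1 : autFun δ q = w * q) (h2 : w⁻¹ * autFun δ w ∈ R) : w ∈ R := by
  have hm : MapTo (innerFusionSystem V) V (fun x => x) := mapTo_id _ le_rfl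
  have hmul : ∀ {a b : Ω}, a ∈ V → b ∈ V → autFun δ (a * b) = autFun δ a * autFun δ b :=
    fun {a b} ha hb => by
      rw [autFun_apply δ (V.mul_mem ha hb), autFun_apply δ ha, autFun_apply δ hb]
      exact congrArg Subtype.val (_root_.map_mul δ ⟨a, ha⟩ ⟨b, hb⟩)
  have hpow : ∀ (n : ℕ) {a : Ω}, a ∈ V → autFun δ (a ^ n) = autFun δ a ^ n := by
    intro n a ha
    induction n with
    | zero =>
      rw [pow_zero, pow_zero, autFun_apply δ V.one_mem]
      exact congrArg Subtype.val (_root_.map_one δ)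
    | succ n ih => rw [pow_succ, pow_succ, hmul (V.pow_mem ha n) ha, ih]
  have hiter : ∀ n : ℕ, ∃ r ∈ R, autFun (δ ^ n) q = w ^ n * r * q := by
    intro n
    induction n with
    | zero => exact ⟨1, R.one_mem, by simp [autFun_one hq]⟩
    | succ n ih =>
      obtain ⟨r, hr, he⟩ := ih
      obtain ⟨r', hr', he'⟩ := pow_mul_mem_coset hRn hw h2 n
      rw [mul_inv_cancel_left] at he'
      refine ⟨w⁻¹ * (r' * autFun δ r) * w⁻¹⁻¹,
        hRn _ (V.inv_mem hw) _ (R.mul_mem hr' (hδR r hr)), ?_⟩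
      rw [pow_succ', autFun_mul _ _ hq, he,
        hmul (V.mul_mem (V.pow_mem hw n) (hRV hr)) hq, hmul (V.pow_mem hw n) (hRV hr), hpow n hw,
        he', h1, pow_succ]
      group
  obtain ⟨r, hr, he⟩ := hiter (orderOf δ)
  rw [pow_orderOf_eq_one, autFun_one hq] at he
  have hwm : w ^ orderOf δ ∈ R := by
    have : w ^ orderOf δ * r = 1 := mul_eq_right.mp he.symm
    rw [mul_eq_one_iff_eq_inv.mp this]
    exact R.inv_mem hr
  obtain ⟨k, hk⟩ := hV ⟨w, hw⟩
  have hco : (orderOf δ).Coprime (orderOf w) := by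
    refine Nat.Coprime.coprime_dvd_right (orderOf_dvd_of_pow_eq_one ?_) (hδ.pow_right k)
    exact congrArg Subtype.val hk
  obtain ⟨m, hm'⟩ := exists_pow_eq_self_of_coprime hco
  exact hm' ▸ R.pow_mem hwm m

/-- Maps with an extension to `P Q` acting trivially on `Q / R`. -/
def TrivMod (F : FusionSystem S) (Q R P : Subgroup Ω) (f : Ω → Ω) : Prop :=
  ∃ g, MapTo F (P ⊔ Q) g ∧ (∀ x ∈ P, g x = f x) ∧ (∀ q ∈ Q, g q ∈ Q) ∧ ∀ q ∈ Q, q⁻¹ * g q ∈ R

namespace TrivMod

theorem congr_fun (h : TrivMod F Q R P f) (hfg : ∀ x ∈ P, g x = f x) : TrivMod F Q R P g := by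
  obtain ⟨k, hk, hkf, hkQ, hkR⟩ := h
  exact ⟨k, hk, fun x hx => (hkf x hx).trans (hfg x hx).symm, hkQ, hkR⟩

theorem restrict (h : TrivMod F Q R P f) {P₀ : Subgroup Ω} (hP : P₀ ≤ P) :
    TrivMod F Q R P₀ f := by
  obtain ⟨k, hk, hkf, hkQ, hkR⟩ := h
  exact ⟨k, hk.restrict (sup_le_sup_right hP Q), fun x hx => hkf x (hP hx), hkQ, hkR⟩

theorem comp {P' : Subgroup Ω} (h : TrivMod F Q R P f) (h' : TrivMod F Q R P' g)
    (hm : ∀ x ∈ P, f x ∈ P') : TrivMod F Q R P (fun x => g (f x)) := by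
  obtain ⟨k, hk, hkf, hkQ, hkR⟩ := h
  obtain ⟨k', hk', hkg, hkQ', hkR'⟩ := h'
  have hmem : ∀ x ∈ P ⊔ Q, k x ∈ P' ⊔ Q := fun x hx => by
    have h1 : img k (P ⊔ Q) ≤ P' ⊔ Q := by
      rw [hk.img_sup le_sup_left le_sup_right]
      exact sup_le_sup (img_le_of_forall fun y hy => hkf y hy ▸ hm y hy) (img_le_of_forall hkQ)
    exact h1 (mem_img_of_mem hx)
  refine ⟨fun x => k' (k x), hk.comp hk' hmem, fun x hx => ?_, fun q hq => hkQ' _ (hkQ q hq),
    fun q hq => ?_⟩
  · show k' (k x) = g (f x)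
    rw [hkf x hx, hkg _ (hm x hx)]
  · show q⁻¹ * k' (k q) ∈ R
    have := R.mul_mem (hkR q hq) (hkR' _ (hkQ q hq))
    rwa [show q⁻¹ * k q * ((k q)⁻¹ * k' (k q)) = q⁻¹ * k' (k q) by group] at this

theorem inverse [Finite S] (h : TrivMod F Q R P f) {k : Ω → Ω} (hk : ∀ x ∈ P, k (f x) = x) :
    TrivMod F Q R (img f P) k := by
  obtain ⟨e, he, hef, heQ, heR⟩ := h
  obtain ⟨d, hd, hde, -, -⟩ := he.exists_iso_inverse
  have hQ : Q ≤ S := le_sup_right.trans he.le
  have := finite_of_le hQ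
  have hQi : img e Q = Q := img_eq_self_of_forall (he.restrict le_sup_right) heQ
  have hi : img e (P ⊔ Q) = img f P ⊔ Q := by
    rw [he.img_sup le_sup_left le_sup_right, hQi, img_congr hef]
  rw [hi] at hd
  have hpre : ∀ y ∈ Q, ∃ q ∈ Q, e q = y := fun y hy =>
    ((he.restrict le_sup_right).mem_img_iff le_rfl).mp (hQi.symm ▸ hy)
  refine ⟨d, hd, fun y hy => ?_, fun y hy => ?_, fun y hy => ?_⟩
  · obtain ⟨x, hx, rfl⟩ : ∃ x ∈ P, e x = y :=
      ((he.restrict le_sup_left).mem_img_iff le_rfl).mp ((img_congr hef).symm ▸ hy)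
    rw [hde x (Subgroup.mem_sup_left hx), hef x hx, hk x hx]
  · obtain ⟨q, hq, rfl⟩ := hpre y hy
    rw [hde q (Subgroup.mem_sup_right hq)]
    exact hq
  · obtain ⟨q, hq, rfl⟩ := hpre y hy
    rw [hde q (Subgroup.mem_sup_right hq),
      show (e q)⁻¹ * q = (q⁻¹ * e q)⁻¹ by group]
    exact R.inv_mem (heR q hq)

theorem of_cj (hQ : F.IsNormal Q) (hP : P ≤ S) {s : Ω} (hs : s ∈ S)
    (hsR : ∀ q ∈ Q, q⁻¹ * (s * q * s⁻¹) ∈ R) : TrivMod F Q R P (cj s) :=
  ⟨cj s, mapTo_cj (sup_le hP hQ.1) hs, fun _ _ => rfl,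
    fun q hq => StronglyClosed.conj_mem (IsNormal.stronglyClosed hQ) hs hq, hsR⟩

/-- Conjugation by a map of the big system keeping `R` invariant. -/
theorem conj [Finite S] (hQ : F.IsNormal Q) (hRQ : R ≤ Q) (hR : F.StronglyClosed R)
    {σ : MulAut P} (h : TrivMod F Q R P (autFun σ)) {h₀ : Ω → Ω} (hh : MapTo F P h₀)
    {P' : Subgroup Ω} (hP' : img h₀ P = P') :
    TrivMod F Q R P' (autFun (MulAut.congr (isoEquiv hh hP') σ)) := by
  subst hP'
  obtain ⟨e, he, hef, heQ, heR⟩ := h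
  obtain ⟨a, ha, hah, haQ⟩ := (isNormal_iff.mp hQ).2 P h₀ hh
  obtain ⟨b, hb, hba, -, -⟩ := ha.exists_iso_inverse
  have hi : img a (P ⊔ Q) = img h₀ P ⊔ Q := by
    rw [ha.img_sup le_sup_left le_sup_right, haQ, img_congr hah]
  rw [hi] at hb
  have hpre : ∀ y ∈ Q, ∃ q ∈ Q, a q = y := fun y hy =>
    ((ha.restrict le_sup_right).mem_img_iff le_rfl).mp (haQ.symm ▸ hy)
  have hbm : ∀ y ∈ img h₀ P ⊔ Q, b y ∈ P ⊔ Q := fun y hy => by
    obtain ⟨x, hx, rfl⟩ := (ha.mem_img_iff le_rfl).mp (hi.symm ▸ hy : y ∈ img a (P ⊔ Q))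
    rw [hba x hx]
    exact hx
  have hem : ∀ x ∈ P ⊔ Q, e x ∈ P ⊔ Q := fun x hx => by
    have h1 : img e (P ⊔ Q) ≤ P ⊔ Q := by
      rw [he.img_sup le_sup_left le_sup_right]
      exact sup_le_sup (img_le_of_forall fun y hy => hef y hy ▸ autFun_mem σ hy)
        (img_le_of_forall heQ)
    exact h1 (mem_img_of_mem hx)
  refine ⟨fun y => a (e (b y)), (hb.comp he hbm).comp ha fun y hy => hem _ (hbm y hy),
    fun y hy => ?_, fun y hy => ?_, fun y hy => ?_⟩
  · obtain ⟨x, hx, rfl⟩ := (hh.mem_img_iff le_rfl).mp hy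
    show a (e (b (h₀ x))) = _
    rw [autFun_congr hh rfl σ hx, ← hah x hx, hba x (Subgroup.mem_sup_left hx), hef x hx,
      hah _ (autFun_mem σ hx)]
  · obtain ⟨q, hq, rfl⟩ := hpre y hy
    show a (e (b (a q))) ∈ Q
    rw [hba q (Subgroup.mem_sup_right hq), ← haQ]
    exact mem_img_of_mem (heQ q hq)
  · obtain ⟨q, hq, rfl⟩ := hpre y hy
    show (a q)⁻¹ * a (e (b (a q))) ∈ R
    have hqV : q ∈ P ⊔ Q := Subgroup.mem_sup_right hq
    rw [hba q hqV, ← ha.map_inv hqV,
      ← ha.map_mul (Subgroup.inv_mem _ hqV) (hem q hqV)]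
    exact StronglyClosed.map_mem hR ha (Subgroup.mem_sup_right (hRQ (heR q hq))) (heR q hq)

end TrivMod

/-- The normal subgroups of `F` meet the base of a normal subsystem in normal subgroups. -/
theorem isNormal_inf [Finite S] [Fact p.Prime] (hS : IsPGroup p S) (hD : D.IsNormalIn F p)
    (hQ : F.IsNormal Q) : D.IsNormal (Q ⊓ U) := by
  obtain ⟨hDs, -, hI⟩ := hD.1
  have hUS : U ≤ S := hI.2.1.1
  have := finite_of_le hUS
  obtain ⟨n, h0, hn, hmono, hnorm, hcomm⟩ := exists_normal_series hS hQ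
  refine isNormal_of_stronglyClosed_series (hS.to_le hUS) hDs
    (fun i : Fin (n + 1) => ucs Q i ⊓ U) ?_ ?_
    (fun a b hab => inf_le_inf_right U (hmono hab))
    (fun i => stronglyClosed_inf_of_subsystem hI.1 (IsNormal.stronglyClosed (hnorm _)))
    (fun i x hx k hk => ⟨hcomm i x hx.1 k hk.1,
      U.mul_mem (U.inv_mem hx.2) (U.mul_mem (U.mul_mem hk.2 hx.2) (U.inv_mem hk.2))⟩)
  · simp [h0]
  · simp [hn]

theorem conj_mem_inf [Finite S] (hD : D.IsNormalIn F p) (hQ : F.IsNormal Q) {s r : Ω}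
    (hs : s ∈ S) (hr : r ∈ Q ⊓ U) : s * r * s⁻¹ ∈ Q ⊓ U :=
  ⟨StronglyClosed.conj_mem (IsNormal.stronglyClosed hQ) hs hr.1,
    StronglyClosed.conj_mem hD.1.2.2.2.1 hs hr.2⟩

theorem trivMod_inner [Finite S] (hD : D.IsNormalIn F p) (hQ : F.IsNormal Q) (hP : P ≤ S) {t : Ω}
    (ht : t ∈ U) : TrivMod F Q (Q ⊓ U) P (cj t) := by
  have hUsc := hD.1.2.2.2.1
  refine TrivMod.of_cj hQ hP (hUsc.1 ht) fun q hq => ⟨Q.mul_mem (Q.inv_mem hq)
    (StronglyClosed.conj_mem (IsNormal.stronglyClosed hQ) (hUsc.1 ht) hq), ?_⟩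
  rw [show q⁻¹ * (t * q * t⁻¹) = (q⁻¹ * t * q⁻¹⁻¹) * t⁻¹ by group]
  exact U.mul_mem (StronglyClosed.conj_mem hUsc (S.inv_mem (hQ.1 hq)) ht) (U.inv_mem ht)

/-- An element of `Aut_D(U)` of order prime to `p` acts trivially on `Q / (Q ⊓ U)`. -/
theorem trivMod_aut_coprime [Finite S] [Fact p.Prime] (hS : IsPGroup p S) (hD : D.IsNormalIn F p)
    (hQ : F.IsNormal Q) {a : MulAut U} (ha : a ∈ D.autGroup U) (hap : (orderOf a).Coprime p) :
    TrivMod F Q (Q ⊓ U) U (autFun a) := by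
  obtain ⟨⟨hDs, hF, hI⟩, hext⟩ := id hD
  have hUsc := hI.2.1
  have hUS : U ≤ S := hUsc.1
  have := finite_of_le hUS
  have := finite_mulAut U
  set C := centralizerIn S U with hC
  have hCS : C ≤ S := centralizerIn_le
  set W := U ⊔ C with hW
  obtain ⟨β, hβ, hβU, hβC⟩ := hext a ha
  have hWS : W ≤ S := sup_le hUS hCS
  have hβm := mapTo_of_mem_autGroup hWS hβ
  obtain ⟨g, hg, hgβ, hgQ⟩ := (isNormal_iff.mp hQ).2 W _ hβm
  set V := W ⊔ Q with hV
  have hVS : V ≤ S := sup_le hWS hQ.1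
  have := finite_of_le hVS
  have := finite_mulAut V
  have hgV : img g V = V := by
    rw [hV, hg.img_sup le_sup_left le_sup_right, hgQ, img_congr hgβ, img_autFun]
  set γ := autOf hg hgV
  have hγ : γ ∈ F.autGroup V := autOf_mem hg hgV
  have hUV : U ≤ V := le_sup_left.trans le_sup_left
  have hCV : C ≤ V := le_sup_right.trans le_sup_left
  have hQV : Q ≤ V := le_sup_right
  have hγU : ∀ x ∈ U, autFun γ x = autFun a x := fun x hx => by
    rw [autFun_autOf hg hgV (hUV hx), hgβ x (Subgroup.mem_sup_left hx),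
      autFun_apply β (Subgroup.mem_sup_left hx), autFun_apply a hx]
    exact hβU ⟨x, hx⟩
  have hγC : ∀ c ∈ C, c⁻¹ * autFun γ c ∈ U ⊓ Subgroup.centralizer (U : Set Ω) := fun c hc => by
    rw [autFun_autOf hg hgV (hCV hc), hgβ c (Subgroup.mem_sup_right hc),
      autFun_apply β (Subgroup.mem_sup_right hc)]
    exact hβC ⟨c, Subgroup.mem_sup_right hc⟩ hc
  obtain ⟨k, hk, hkp⟩ := exists_pow_coprime γ hap
  set δ := γ ^ k with hδd
  have hδ : δ ∈ F.autGroup V := Subgroup.pow_mem _ hγ k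
  have hδm := mapTo_of_mem_autGroup hVS hδ
  have hδU : ∀ x ∈ U, autFun δ x = autFun a x := by
    have h1 : ∀ n : ℕ, ∀ x ∈ U, autFun (γ ^ n) x = autFun (a ^ n) x := by
      intro n
      induction n with
      | zero => intro x hx; rw [pow_zero, pow_zero, autFun_one (hUV hx), autFun_one hx]
      | succ n ih =>
        intro x hx
        rw [autFun_pow_succ γ n (hUV hx), autFun_pow_succ a n hx, hγU x hx,
          ih _ (autFun_mem a hx)]
    intro x hx
    have h2 : a ^ k = a := (pow_eq_pow_iff_modEq.mpr hk).trans (pow_one a)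
    rw [hδd, h1 k x hx, h2]
  have hδC : ∀ c ∈ C, c⁻¹ * autFun δ c ∈ U := by
    have h1 : ∀ n : ℕ, ∀ c ∈ C, c⁻¹ * autFun (γ ^ n) c ∈ U := by
      intro n
      induction n with
      | zero => intro c hc; rw [pow_zero, autFun_one (hCV hc), inv_mul_cancel]; exact U.one_mem
      | succ n ih =>
        intro c hc
        rw [autFun_pow_succ γ n (hCV hc)]
        have h2 : autFun γ c ∈ C := by
          have h3 := (hγC c hc)
          have h4 : c⁻¹ * autFun γ c ∈ C :=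
            mem_centralizerIn.mpr ⟨hUS h3.1, Subgroup.mem_centralizer_iff.mp h3.2⟩
          have := C.mul_mem hc h4
          rwa [mul_inv_cancel_left] at this
        have := U.mul_mem (hγC c hc).1 (ih _ h2)
        rwa [show c⁻¹ * autFun γ c * ((autFun γ c)⁻¹ * autFun (γ ^ n) (autFun γ c))
          = c⁻¹ * autFun (γ ^ n) (autFun γ c) by group] at this
    exact h1 k
  have hQsc := IsNormal.stronglyClosed hQ
  have hδQ : ∀ q ∈ Q, autFun δ q ∈ Q := fun q hq => StronglyClosed.map_mem hQsc hδm (hQV hq) hq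
  have hRsc := StronglyClosed.inf hQsc hUsc
  have hVp := hS.to_le hVS
  refine ⟨autFun δ, hδm.restrict (sup_le hUV hQV), hδU, hδQ, fun q hq => ?_⟩
  have hqS := hQ.1 hq
  set w := autFun δ q * q⁻¹ with hwd
  have hwQ : w ∈ Q := Q.mul_mem (hδQ q hq) (Q.inv_mem hq)
  have hwS := hQ.1 hwQ
  -- `w` acts on `U` as an element of `U`
  obtain ⟨cq, hcq⟩ := exists_conjAut (P := U) (StronglyClosed.le_normalizer hUsc hqS)
  obtain ⟨cw, hcw⟩ := exists_conjAut (P := U) (StronglyClosed.le_normalizer hUsc hwS)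
  have hcqF : cq ∈ F.autGroup U :=
    autInducedBy_le_autGroup hUS (mem_autInducedBy_iff_cj.mpr ⟨q, hqS, hcq⟩)
  have hcwS : cw ∈ autInducedBy S U := mem_autInducedBy_iff_cj.mpr ⟨w, hwS, hcw⟩
  have heq : cw = a * cq * a⁻¹ * cq⁻¹ := by
    rw [eq_mul_inv_iff_mul_eq, eq_mul_inv_iff_mul_eq]
    refine autFun_ext fun x hx => ?_
    rw [autFun_mul _ _ hx, autFun_mul _ _ (autFun_mem a hx), autFun_mul _ _ hx,
      hcw _ (autFun_mem cq (autFun_mem a hx)), hcq _ (autFun_mem a hx), hcq x hx,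
      ← hδU x hx]
    show cj w (cj q (autFun δ x)) = autFun a (q * x * q⁻¹)
    rw [← hδU _ (StronglyClosed.conj_mem hUsc hqS hx)]
    rw [hδm.map_conj (hQV hq) (hUV hx), hwd, cj_apply, cj_apply]
    group
  have hN : ((D.autGroup U).subgroupOf (F.autGroup U)).Normal :=
    IsInvariantIn.normal_autGroup hI le_rfl
  have haF : a ∈ F.autGroup U := IsSubsystemOf.autGroup_le hI.1 U ha
  have hcwD : cw ∈ D.autGroup U := by
    rw [heq, show a * cq * a⁻¹ * cq⁻¹ = a * (cq * a⁻¹ * cq⁻¹) by group]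
    exact Subgroup.mul_mem _ ha (Subgroup.mem_subgroupOf.mp
      (hN.conj_mem ⟨a⁻¹, Subgroup.inv_mem _ haF⟩ (Subgroup.inv_mem _ ha) ⟨cq, hcqF⟩))
  have hcwI : cw ∈ autInducedBy U U := by
    rw [← inn_eq_autInducedBy]
    have hle : Inn U ≤ D.autGroup U := inn_le_autGroup le_rfl
    have := inn_normal U
    have : ((Inn U).subgroupOf (D.autGroup U)).Normal := inferInstance
    obtain ⟨n, hn⟩ := isPGroup_autInducedBy hS U ⟨cw, hcwS⟩
    have hn' : cw ^ p ^ n = 1 := congrArg Subtype.val hn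
    have hco : ((Inn U).relIndex (D.autGroup U)).Coprime (orderOf cw) :=
      Nat.Coprime.coprime_dvd_right (orderOf_dvd_of_pow_eq_one hn')
        ((((Fact.out : p.Prime).coprime_iff_not_dvd.mpr
          (not_dvd_relIndex_inn hS hUS hDs))).symm.pow_right n)
    obtain ⟨m, hm⟩ := exists_pow_eq_self_of_coprime hco
    rw [← hm]
    exact Subgroup.pow_mem _
      (Subgroup.pow_index_mem ((Inn U).subgroupOf (D.autGroup U)) ⟨cw, hcwD⟩) m
  obtain ⟨u, hu, huw⟩ := mem_autInducedBy_iff_cj.mp hcwI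
  have hc : u⁻¹ * w ∈ C := by
    refine mem_centralizerIn.mpr ⟨S.mul_mem (S.inv_mem (hUS hu)) hwS, fun x hx => ?_⟩
    have h1 : u * x * u⁻¹ = w * x * w⁻¹ := (huw x hx).symm.trans (hcw x hx)
    calc x * (u⁻¹ * w) = u⁻¹ * (u * x * u⁻¹) * w := by group
      _ = u⁻¹ * (w * x * w⁻¹) * w := by rw [h1]
      _ = u⁻¹ * w * x := by group
  set c := u⁻¹ * w with hcd
  have hwuc : w = u * c := by rw [hcd, mul_inv_cancel_left]
  have hwR : w ∈ Q ⊓ U := by
    refine mem_of_translate hVp (inf_le_left.trans hQV)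
      (fun v hv r hr => conj_mem_inf hD hQ (hVS hv) hr) (hδd ▸ hkp)
      (fun r hr => StronglyClosed.map_mem hRsc hδm (hQV hr.1) hr) (hQV hq) (hQV hwQ)
      (by rw [hwd, inv_mul_cancel_right]) ⟨Q.mul_mem (Q.inv_mem hwQ) (hδQ w hwQ), ?_⟩
    have h1 : u⁻¹ * autFun a u ∈ U := U.mul_mem (U.inv_mem hu) (autFun_mem a hu)
    have h2 : autFun δ w = autFun a u * autFun δ c := by
      rw [hwuc, hδm.map_mul (hUV hu) (hCV hc), hδU u hu]
    have h3 : (u⁻¹ * autFun a u) * c = c * (u⁻¹ * autFun a u) := (mem_centralizerIn.mp hc).2 _ h1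
    rw [h2, hwuc, show (u * c)⁻¹ * (autFun a u * autFun δ c)
      = c⁻¹ * ((u⁻¹ * autFun a u) * c) * (c⁻¹ * autFun δ c) by group, h3, inv_mul_cancel_left]
    exact U.mul_mem h1 (hδC c hc)
  have := conj_mem_inf hD hQ (S.inv_mem hqS) hwR
  rwa [hwd, show q⁻¹ * (autFun δ q * q⁻¹) * q⁻¹⁻¹ = q⁻¹ * autFun δ q by group] at this

/-- Every map of a normal subsystem extends to a map acting trivially on `Q / (Q ⊓ U)`. -/
theorem trivMod_of_mapTo [Finite S] [Fact p.Prime] (hS : IsPGroup p S) (hD : D.IsNormalIn F p)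
    (hQ : F.IsNormal Q) (hf : MapTo D P f) : TrivMod F Q (Q ⊓ U) P f := by
  obtain ⟨hDs, hF, hI⟩ := hD.1
  have hUS : U ≤ S := hI.2.1.1
  have := finite_of_le hUS
  have hUp := hS.to_le hUS
  set R := Q ⊓ U with hR
  have hRsc : F.StronglyClosed R := StronglyClosed.inf (IsNormal.stronglyClosed hQ) hI.2.1
  have hone : ∀ P : Subgroup Ω, P ≤ U → TrivMod F Q R P (autFun (1 : MulAut P)) := fun P hP =>
    (trivMod_inner hD hQ (hP.trans hUS) U.one_mem).congr_fun fun x hx => by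
      rw [autFun_one hx, cj_one]
  have hmul : ∀ {P : Subgroup Ω} {a b : MulAut P}, TrivMod F Q R P (autFun a) →
      TrivMod F Q R P (autFun b) → TrivMod F Q R P (autFun (a * b)) := fun {P a b} ha hb =>
    (hb.comp ha fun x hx => autFun_mem b hx).congr_fun fun x hx => autFun_mul a b hx
  have hinv : ∀ {P : Subgroup Ω} {a : MulAut P}, TrivMod F Q R P (autFun a) →
      TrivMod F Q R P (autFun a⁻¹) := fun {P a} ha => by
    have h1 := ha.inverse (k := autFun a⁻¹) fun x hx => autFun_inv_autFun a hx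
    rwa [img_autFun] at h1
  -- conjugates of elements of `Aut_U(P)`
  have hp : ∀ P : Subgroup Ω, D.IsFullyNormalized P → ∀ α ∈ D.autGroup P, ∀ k : ℕ,
      α ^ p ^ k = 1 → TrivMod F Q R P (autFun α) := by
    intro P hP α hα k hk
    have hPU := hP.1
    have := finite_of_le hPU
    have := finite_mulAut P
    have hpz : IsPGroup p (Subgroup.zpowers α) := by
      obtain ⟨i, -, hi⟩ := (Nat.dvd_prime_pow Fact.out).mp (orderOf_dvd_of_pow_eq_one hk)
      exact IsPGroup.of_card (n := i) ((Nat.card_zpowers α).trans hi)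
    obtain ⟨β, hβ, hβc⟩ := exists_conj_le_autInducedBy
      (isFullyAutomized_of_isFullyNormalized hUp hDs hP) (Subgroup.zpowers_le.mpr hα) hpz
    obtain ⟨t, ht, htx⟩ := mem_autInducedBy_iff_cj.mp (hβc α (Subgroup.mem_zpowers α))
    have h1 : TrivMod F Q R P (autFun (β * α * β⁻¹)) :=
      (trivMod_inner hD hQ (hPU.trans hUS) ht).congr_fun htx
    have hm := IsSubsystemOf.mapTo hI.1 (mapTo_of_mem_autGroup hPU (Subgroup.inv_mem _ hβ))
    have h2 := TrivMod.conj hQ inf_le_left hRsc h1 hm (img_autFun β⁻¹)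
    refine h2.congr_fun fun y hy => ?_
    obtain ⟨x, hx, rfl⟩ : ∃ x ∈ P, autFun β⁻¹ x = y :=
      ⟨autFun β y, autFun_mem β hy, autFun_inv_autFun β hy⟩
    rw [autFun_congr hm (img_autFun β⁻¹) _ hx, autFun_mul _ _ hx, autFun_mul _ _ (autFun_mem β⁻¹ hx),
      autFun_inv_autFun β (autFun_mem α (autFun_mem β⁻¹ hx))]
  have hppP : ∀ P : Subgroup Ω, P ≤ U → ∀ α ∈ ppP D p P, TrivMod F Q R P (autFun α) := by
    intro P hP α hα
    obtain ⟨P', hPP', hP'n⟩ := exists_isFullyNormalized (F := D) hP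
    have := finite_of_le hP
    have := finite_mulAut P
    obtain ⟨h₀, hh₀, hh₀P⟩ := isConj_iff.mp (isConj_symm hPP')
    obtain ⟨a, ha, rfl⟩ := hα
    induction ha using Subgroup.closure_induction with
    | mem x hx =>
      obtain ⟨k, hk⟩ := hx
      subst hh₀P
      have hk' : (x : MulAut (img h₀ P')) ^ p ^ k = 1 := by
        rw [← hk]
        exact congrArg Subtype.val (pow_orderOf_eq_one x)
      set σ := (MulAut.congr (isoEquiv hh₀ rfl)).symm (x : MulAut (img h₀ P')) with hσ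
      have hσD : σ ∈ D.autGroup P' := by
        obtain ⟨τ, hτ, hτx⟩ : (x : MulAut (img h₀ P')) ∈
            (D.autGroup P').map (MulAut.congr (isoEquiv hh₀ rfl)).toMonoidHom :=
          (map_congr_autGroup hh₀ rfl).symm ▸ x.2
        rwa [hσ, ← hτx, MulEquiv.toMonoidHom_eq_coe, MonoidHom.coe_coe,
          MulEquiv.symm_apply_apply]
      have h1 := TrivMod.conj hQ inf_le_left hRsc
        (hp P' hP'n σ hσD k (by rw [hσ, ← _root_.map_pow, hk', _root_.map_one]))
        (IsSubsystemOf.mapTo hI.1 hh₀) rfl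
      refine h1.congr_fun fun y hy => ?_
      exact congrArg (fun e => autFun e y) ((MulAut.congr (isoEquiv hh₀ rfl)).apply_symm_apply _).symm
    | one => exact hone P hP
    | mul x y _ _ hx hy => exact hmul hx hy
    | inv x _ hx => exact hinv hx
  have hez : ∀ {P : Subgroup Ω} {f : Ω → Ω},
      Ezero D p {P : Subgroup Ω | D.IsCentric P} P f → TrivMod F Q R P f := by
    intro P f hf
    induction hf with
    | base X α _ hXU hα P hP g hg => exact ((hppP X hXU α hα).restrict hP).congr_fun hg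
    | cj P s g hP hs hg => exact (trivMod_inner hD hQ (hP.trans hUS) hs).congr_fun hg
    | comp P f g h _ _ hh ih ih' =>
      exact (ih.comp ih' fun x hx => mem_img_of_mem hx).congr_fun hh
  obtain ⟨a, ha, f₀, hf₀, hfx⟩ := frat_of_mapTo hUp hDs isFamily_centric hf
  have haU : TrivMod F Q R U (autFun a) := by
    obtain ⟨b, hb, c, hc, rfl⟩ :=
      exists_eq_mul_of_isFullyNormalized hUp hDs isFullyNormalized_top ha
    obtain ⟨t, ht, htx⟩ := mem_autInducedBy_iff_cj.mp hc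
    refine hmul ?_ ((trivMod_inner hD hQ hUS ht).congr_fun htx)
    exact oP_induction (C := fun b => TrivMod F Q R U (autFun b)) (hone U le_rfl)
      (fun _ _ _ _ => hmul) (fun _ _ => hinv)
      (fun b hb hbp => trivMod_aut_coprime hS hD hQ hb hbp) b hb
  exact ((hez hf₀).comp haU fun x hx => hf₀.mapTo.mem hx).congr_fun hfx

/-- The core of a quasisimple system is central. -/
theorem core_le_center_of_quasisimple [Finite S] [Fact p.Prime] (hS : IsPGroup p S)
    (hq : F.Quasisimple p) : F.core ≤ F.center := by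
  obtain ⟨hF, hhyp, hsimp⟩ := hq
  set θ := QuotientGroup.mk' (F.center.subgroupOf S)
  have hZc := isCentral_center F
  have hR := isNormal_core F
  have hsc : F.StronglyClosed F.center := IsNormal.stronglyClosed (IsCentral.isNormal hZc)
  have hker : kerIn θ = F.center := by
    rw [kerIn, QuotientGroup.ker_mk', Subgroup.map_subgroupOf_eq_of_le hZc.1]
  have hr : θ.range = ⊤ := MonoidHom.range_eq_top.mpr (QuotientGroup.mk'_surjective _)
  obtain ⟨E, hfac⟩ : ∃ E, F.IsFactorSystem (kerIn θ) θ E :=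
    ⟨_, isFactorSystem_factorSys F θ hr (hker.symm ▸ hsc)⟩
  rw [hker] at hfac
  obtain ⟨hEs, hEne, hEsimp⟩ := hsimp _ hfac
  have hmor := IsFactorSystem.isSurjectiveMorphism hS hF hsc hfac
  have hTbp : IsPGroup p ↥(⊤ : Subgroup (↥S ⧸ F.center.subgroupOf S)) :=
    (hS.to_quotient _).to_subgroup ⊤
  rcases hEsimp _ _ (isNormalIn_inner hTbp hEs (isNormal_image hmor hR)) with h | ⟨-, hin⟩
  · exact fun x hx => hker ▸ mem_kerIn.mpr
      ⟨hR.1 hx, Subgroup.mem_bot.mp (h ▸ th_mem_imageAlong hR.1 hx)⟩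
  · exfalso
    set K : Subgroup (↥S ⧸ F.center.subgroupOf S) := ⊤
    have hfoc : F.focalSubgroup ≤ preimageAlong θ ⁅K, K⁆ := by
      refine focal_le_iff.mpr fun P f hf x hx => ?_
      obtain ⟨f', hf', hff⟩ := IsMorphism.exists_map hmor.1 hf
      obtain ⟨φ, hφ, hφf⟩ := id hf'
      rw [← hin _] at hφ
      obtain ⟨-, g, -, hgx⟩ := hφ
      refine mem_preimageAlong.mpr ⟨S.mul_mem (S.inv_mem (hf.le hx)) (hf.mem hx), ?_⟩
      rw [th_mul θ (S.inv_mem (hf.le hx)) (hf.mem hx), th_inv θ (hf.le hx), ← hff x hx,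
        ← hφf ⟨_, th_mem_imageAlong hf.le hx⟩, hgx]
      have h1 := Subgroup.commutator_mem_commutator
        (K.inv_mem (Subgroup.mem_top (th θ x) : th θ x ∈ K)) (Subgroup.mem_top g : g ∈ K)
      convert h1 using 1
      simp [commutatorElement_def, mul_assoc]
    have hcomm : commutator (↥S ⧸ F.center.subgroupOf S) = ⊤ := by
      refine eq_top_iff.mpr fun y _ => ?_
      obtain ⟨s, rfl⟩ := QuotientGroup.mk'_surjective (F.center.subgroupOf S) y
      have h1 := hfoc (hyperfocal_le_focal (p := p) (hhyp.symm.le s.2))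
      rw [commutator_def, ← th_coe θ s]
      exact (mem_preimageAlong.mp h1).2
    have := (hS.to_quotient (F.center.subgroupOf S)).isNilpotent
    have : Nontrivial (↥S ⧸ F.center.subgroupOf S) := by
      obtain ⟨y, -, hy⟩ := (Subgroup.bot_or_exists_ne_one K).resolve_left hEne
      exact ⟨y, 1, hy⟩
    exact (Group.IsSolvable.commutator_lt_top_of_nontrivial _).ne hcomm

/-- A map of a component extends to a map fixing the core. -/
def FixCore (F : FusionSystem S) (Q P : Subgroup Ω) (f : Ω → Ω) : Prop :=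
  ∃ g, MapTo F (P ⊔ Q) g ∧ (∀ x ∈ P, g x = f x) ∧ ∀ q ∈ Q, g q = q

theorem trivMod_bot_iff : TrivMod F Q ⊥ P f ↔ FixCore F Q P f := by
  constructor
  · rintro ⟨g, hg, hgf, -, hgR⟩
    exact ⟨g, hg, hgf, fun q hq => (inv_mul_eq_one.mp (Subgroup.mem_bot.mp (hgR q hq))).symm⟩
  · rintro ⟨g, hg, hgf, hgQ⟩
    exact ⟨g, hg, hgf, fun q hq => (hgQ q hq).symm ▸ hq,
      fun q hq => Subgroup.mem_bot.mpr (by rw [hgQ q hq, inv_mul_cancel])⟩

/-- The inductive step: a subsystem of a normal subsystem with full hyperfocal subgroup, fixing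
`Q ⊓ U`, fixes `Q`. -/
theorem fixCore_step [Finite S] [Fact p.Prime] (hS : IsPGroup p S) (hD : D.IsNormalIn F p)
    (hQ : F.IsNormal Q) {C : FusionSystem T} (hC : C.IsSaturated p)
    (hCD : C.IsSubsystemOf D) (hH : C.hyperfocalSubgroup p = T)
    (hT : T ≤ centralizerIn U (Q ⊓ U))
    (hfix : ∀ (P : Subgroup Ω) (f : Ω → Ω), MapTo C P f → FixCore D (Q ⊓ U) P f) :
    T ≤ centralizerIn S Q ∧ ∀ (P : Subgroup Ω) (f : Ω → Ω), MapTo C P f → FixCore F Q P f := by
  obtain ⟨hDs, hF, hI⟩ := hD.1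
  have hUsc := hI.2.1
  have hUS : U ≤ S := hUsc.1
  have hQsc := IsNormal.stronglyClosed hQ
  have hTU : T ≤ U := hT.trans centralizerIn_le
  have hTS : T ≤ S := hTU.trans hUS
  have := finite_of_le hTS
  have hTp := hS.to_le hTS
  set R := Q ⊓ U with hR
  -- extensions trivial on `Q / R` and on `R`
  have hextR : ∀ (P : Subgroup Ω) (f : Ω → Ω), MapTo C P f → ∃ g, MapTo F (P ⊔ Q) g ∧
      (∀ x ∈ P, g x = f x) ∧ (∀ r ∈ R, g r = r) ∧ (∀ q ∈ Q, g q ∈ Q) ∧
      ∀ q ∈ Q, q⁻¹ * g q ∈ R := by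
    intro P f hf
    obtain ⟨g₁, hg₁, hg₁f, hg₁R⟩ := hfix P f hf
    obtain ⟨g, hg, hgg, hgQ, hgR⟩ := trivMod_of_mapTo hS hD hQ hg₁
    refine ⟨g, hg.restrict (sup_le_sup_right le_sup_left Q),
      fun x hx => (hgg x (Subgroup.mem_sup_left hx)).trans (hg₁f x hx),
      fun r hr => (hgg r (Subgroup.mem_sup_right hr)).trans (hg₁R r hr), hgQ, hgR⟩
  have hcR : ∀ x ∈ T, ∀ r ∈ R, r * x = x * r := fun x hx r hr =>
    (mem_centralizerIn.mp (hT hx)).2 r hr
  -- `T` centralizes `Q`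
  have hTQ : T ≤ centralizerIn S Q := by
    refine fun x hx => mem_centralizerIn.mpr ⟨hTS hx, fun q hq => ?_⟩
    suffices hsuf : C.hyperfocalSubgroup p ≤ Subgroup.centralizer ({q} : Set Ω) by
      exact Subgroup.mem_centralizer_iff.mp (hsuf (hH.symm ▸ hx)) q rfl
    refine hyperfocal_le_iff.mpr fun P hP α hα x hxP => ?_
    obtain ⟨g, hg, hgα, hgR, hgQ, hgq⟩ :=
      hextR P _ (mapTo_of_mem_autGroup hP (oP_le hα))
    set y := autFun α x with hy
    have hxT := hP hxP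
    have hyT := hP (autFun_mem α hxP)
    have hxS := hTS hxT
    have hqS := hQ.1 hq
    have hrQ : x * q * x⁻¹ * q⁻¹ ∈ R := ⟨Q.mul_mem (StronglyClosed.conj_mem hQsc hxS hq)
      (Q.inv_mem hq), by
        rw [show x * q * x⁻¹ * q⁻¹ = x * (q * x⁻¹ * q⁻¹) by group]
        exact U.mul_mem (hTU hxT) (StronglyClosed.conj_mem hUsc hqS (U.inv_mem (hTU hxT)))⟩
    set ρ := q⁻¹ * g q with hρd
    have hρ : ρ ∈ R := hgq q hq
    have hgq' : g q = q * ρ := by rw [hρd, mul_inv_cancel_left]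
    have hxV : x ∈ P ⊔ Q := Subgroup.mem_sup_left hxP
    have hqV : q ∈ P ⊔ Q := Subgroup.mem_sup_right hq
    have h1 : x * q * x⁻¹ * q⁻¹ = y * q * y⁻¹ * q⁻¹ := by
      rw [← hgR _ hrQ, hg.map_mul (Subgroup.mul_mem _ (Subgroup.mul_mem _ hxV hqV)
          (Subgroup.inv_mem _ hxV)) (Subgroup.inv_mem _ hqV),
        hg.map_conj hxV hqV, hg.map_inv hqV, hgα x hxP, ← hy, hgq']
      calc y * (q * ρ) * y⁻¹ * (q * ρ)⁻¹ = y * q * (ρ * y⁻¹) * (ρ⁻¹ * q⁻¹) := by group
        _ = y * q * (y⁻¹ * ρ) * (ρ⁻¹ * q⁻¹) := by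
            rw [hcR _ (T.inv_mem hyT) ρ hρ]
        _ = y * q * y⁻¹ * q⁻¹ := by group
    refine Subgroup.mem_centralizer_iff.mpr fun z hz => ?_
    rw [Set.mem_singleton_iff.mp hz]
    have h2 : x * q * x⁻¹ = y * q * y⁻¹ := mul_right_cancel h1
    calc q * (x⁻¹ * y) = x⁻¹ * (x * q * x⁻¹) * y := by group
      _ = x⁻¹ * (y * q * y⁻¹) * y := by rw [h2]
      _ = x⁻¹ * y * q := by group
  refine ⟨hTQ, fun P f hf => ?_⟩
  have hinner : ∀ {P : Subgroup Ω} {t : Ω}, P ≤ T → t ∈ T → TrivMod F Q ⊥ P (cj t) :=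
    fun {P t} hP ht => TrivMod.of_cj hQ (hP.trans hTS) (hTS ht) fun q hq => by
      rw [← (mem_centralizerIn.mp (hTQ ht)).2 q hq, mul_inv_cancel_right, inv_mul_cancel]
      exact Subgroup.one_mem _
  refine trivMod_bot_iff.mp (alperin_prop hTp hC (fun P f => TrivMod F Q ⊥ P f)
    (fun _ h hfg => h.congr_fun hfg) (fun hP hg => hinner hP hg)
    (fun _ _ hm hf hg => hf.comp hg hm) (fun _ _ hgf hf => hf.inverse hgf) ?_ hf)
  intro X hX α hα
  have hXn : C.IsFullyNormalized X := isFullyNormalized_of_eq_top_or_essential hX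
  have hXT := hXn.1
  have hXS := hXT.trans hTS
  have := finite_of_le hXS
  have := finite_mulAut X
  obtain ⟨b, hb, c, hc, rfl⟩ := exists_eq_mul_of_isFullyNormalized hTp hC hXn hα
  obtain ⟨t, ht, htx⟩ := mem_autInducedBy_iff_cj.mp hc
  refine (((hinner hXT ht).congr_fun htx).comp (?_ : TrivMod F Q ⊥ X (autFun b))
    fun x hx => autFun_mem c hx).congr_fun fun x hx => autFun_mul b c hx
  refine oP_induction (C := fun b => TrivMod F Q ⊥ X (autFun b))
    ((hinner hXT T.one_mem).congr_fun fun x hx => by rw [autFun_one hx, cj_one])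
    (fun a b _ _ ha hb => (hb.comp ha fun x hx => autFun_mem b hx).congr_fun
      fun x hx => autFun_mul a b hx)
    (fun a _ ha => by
      have h1 := ha.inverse (k := autFun a⁻¹) fun x hx => autFun_inv_autFun a hx
      rwa [img_autFun] at h1)
    (fun a ha hap => ?_) b hb
  -- an automorphism of order prime to `p`
  obtain ⟨g, hg, hga, hgR, hgQ, hgq⟩ := hextR X _ (mapTo_of_mem_autGroup hXT ha)
  set V := X ⊔ Q with hV
  have hVS : V ≤ S := sup_le hXS hQ.1
  have := finite_of_le hVS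
  have := finite_mulAut V
  have := finite_of_le hQ.1
  have hgV : img g V = V := by
    rw [hV, hg.img_sup le_sup_left le_sup_right, img_congr hga, img_autFun,
      img_eq_self_of_forall (hg.restrict le_sup_right) hgQ]
  set γ := autOf hg hgV
  have hRV : R ≤ V := inf_le_left.trans le_sup_right
  have hγ : ∀ n : ℕ, (∀ x ∈ X, autFun (γ ^ n) x = autFun (a ^ n) x) ∧
      (∀ r ∈ R, autFun (γ ^ n) r = r) ∧ ∀ q ∈ Q, autFun (γ ^ n) q ∈ Q ∧
        q⁻¹ * autFun (γ ^ n) q ∈ R := by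
    intro n
    induction n with
    | zero =>
      refine ⟨fun x hx => ?_, fun r hr => ?_, fun q hq => ?_⟩
      · rw [pow_zero, pow_zero, autFun_one hx, autFun_one (Subgroup.mem_sup_left hx)]
      · rw [pow_zero, autFun_one (hRV hr)]
      · rw [pow_zero, autFun_one (Subgroup.mem_sup_right hq), inv_mul_cancel]
        exact ⟨hq, R.one_mem⟩
    | succ n ih =>
      refine ⟨fun x hx => ?_, fun r hr => ?_, fun q hq => ?_⟩
      · rw [autFun_pow_succ γ n (Subgroup.mem_sup_left hx), autFun_pow_succ a n hx,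
          autFun_autOf hg hgV (Subgroup.mem_sup_left hx), hga x hx, ih.1 _ (autFun_mem a hx)]
      · rw [autFun_pow_succ γ n (hRV hr), autFun_autOf hg hgV (hRV hr), hgR r hr, ih.2.1 r hr]
      · rw [autFun_pow_succ γ n (Subgroup.mem_sup_right hq),
          autFun_autOf hg hgV (Subgroup.mem_sup_right hq)]
        obtain ⟨h1, h2⟩ := ih.2.2 _ (hgQ q hq)
        refine ⟨h1, ?_⟩
        have := R.mul_mem (hgq q hq) h2
        rwa [show q⁻¹ * g q * ((g q)⁻¹ * autFun (γ ^ n) (g q)) = q⁻¹ * autFun (γ ^ n) (g q) by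
          group] at this
  obtain ⟨k, hk, hkp⟩ := exists_pow_coprime γ hap
  obtain ⟨hkX, hkR, hkQ⟩ := hγ k
  have h2 : a ^ k = a := (pow_eq_pow_iff_modEq.mpr hk).trans (pow_one a)
  refine trivMod_bot_iff.mpr ⟨autFun (γ ^ k),
    mapTo_of_mem_autGroup hVS (Subgroup.pow_mem _ (autOf_mem hg hgV) k),
    fun x hx => by rw [hkX x hx, h2], fun q hq => ?_⟩
  have hqV : q ∈ V := Subgroup.mem_sup_right hq
  obtain ⟨-, hq2⟩ := hkQ q hq
  set w := autFun (γ ^ k) q * q⁻¹ with hwd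
  have hwR : w ∈ R := by
    have := conj_mem_inf hD hQ (hQ.1 hq) hq2
    rwa [show q * (q⁻¹ * autFun (γ ^ k) q) * q⁻¹ = w by rw [hwd]; group] at this
  have hw1 : w ∈ (⊥ : Subgroup Ω) := by
    refine mem_of_translate (hS.to_le hVS) bot_le (fun v _ r hr => ?_) hkp (fun r hr => ?_) hqV
      (hRV hwR) (by rw [hwd, inv_mul_cancel_right]) ?_
    · rw [Subgroup.mem_bot.mp hr, mul_one, mul_inv_cancel]; exact Subgroup.one_mem _
    · rw [Subgroup.mem_bot.mp hr, autFun_apply _ V.one_mem]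
      exact Subgroup.mem_bot.mpr (congrArg Subtype.val (_root_.map_one (γ ^ k)))
    · rw [hkR w hwR, inv_mul_cancel]; exact Subgroup.one_mem _
  exact mul_inv_eq_one.mp (Subgroup.mem_bot.mp hw1)

/-- The components centralize the core. -/
theorem component_centralizes_core [Fact p.Prime] {C : FusionSystem T}
    (hC : C.IsSubnormalIn F p) [Finite S] (hS : IsPGroup p S) (hF : F.IsSaturated p)
    (hq : C.Quasisimple p) :
    T ≤ centralizerIn S F.core ∧
      ∀ (P : Subgroup Ω) (f : Ω → Ω), MapTo C P f → FixCore F F.core P f := by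
  rename_i hp hfin
  revert hp hfin hS hF hq
  induction hC with
  | refl F₀ q =>
    intro hp hfin hS hF hq
    have hZ := isCentral_center F₀
    have hle := core_le_center_of_quasisimple hS hq
    refine ⟨fun x hx => mem_centralizerIn.mpr ⟨hx, fun y hy =>
      (Subgroup.mem_centralizer_iff.mp (FusionSystem.center_le_centralizer _ (hle hy)) x hx).symm⟩,
      fun P f hf => ?_⟩
    obtain ⟨g, hg, hgf, hgZ⟩ := (isCentral_iff.mp hZ).2 P f hf
    exact ⟨g, hg.restrict (sup_le_sup_left hle P), hgf, fun q hq => hgZ q (hle hq)⟩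
  | @step U₀ S₀ E₀ D₀ F₀ q hED hDF ih =>
    intro hp hfin hS hF hq
    have hUS := hDF.1.2.2.2.1.1
    have := finite_of_le hUS
    obtain ⟨hT, hfix⟩ := ih (hS.to_le hUS) hDF.1.1 hq
    have hQ := isNormal_core F₀
    have hle := le_core (isNormal_inf hS hDF hQ)
    have hsub : ∀ {A B : Subgroup Ω} {E₁ : FusionSystem A} {E₂ : FusionSystem B} {n : ℕ},
        E₁.IsSubnormalIn E₂ n → E₁.IsSubsystemOf E₂ := by
      intro A B E₁ E₂ n h
      induction h with
      | refl => exact fun _ _ h => h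
      | step _ h2 ih => exact fun P φ hx => h2.1.2.2.1 P (ih P hx)
    exact fixCore_step hS hDF hQ hq.1 (hsub hED) hq.2.1
      (fun x hx => mem_centralizerIn.mpr ⟨centralizerIn_le (hT hx),
        fun y hy => (mem_centralizerIn.mp (hT hx)).2 y (hle hy)⟩)
      fun P f hf => by
        obtain ⟨g, hg, hgf, hgR⟩ := hfix P f hf
        exact ⟨g, hg.restrict (sup_le_sup_left hle P), hgf, fun r hr => hgR r (hle hr)⟩

/-- The layer centralizes the core. -/
theorem layer_centralizes_core [Finite S] [Fact p.Prime] (hS : IsPGroup p S) (hF : F.IsSaturated p)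
    {E : FusionSystem T} (hE : E.IsLayerOf F p) (P : Subgroup Ω) :
    E.Hom P ⊆ F.centralizerHom F.core P := by
  have hQ := isNormal_core F
  refine hE.2.2 _ (cSys F hQ.1) (isNormalIn_cSys hS hF hQ) (fun V C hC X φ hφ => ?_) P
  obtain ⟨hV, hfix⟩ := component_centralizes_core hC.1 hS hF hC.2
  have hf := mapTo_ev hφ
  exact mapTo_ev_iff.mp ((mapTo_cSys_iff (isCentralizerSystem_cSys F hQ.1)).mpr
    ⟨hf.le.trans hV, fun x hx => hV (hf.mem hx), hfix X _ hf⟩)

end Cfsg.Agent.Fusion
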