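import Cfsg.Agent.Lib.Fusion.Invariant
import Cfsg.Prelude.Def_FusionComponents

/-!
Subnormal subsystems.
-/

set_option autoImplicit false

namespace Cfsg.Agent.Fusion

open Cfsg.FusionSystem (centralizerIn normalizerIn)

universe u

variable {Ω : Type u} [Group Ω] {T S : Subgroup Ω} {E : FusionSystem T} {F : FusionSystem S} {p : ℕ}

theorem IsSubnormalIn.le (h : E.IsSubnormalIn F p) : T ≤ S := by
  induction h with
  | refl => exact le_rfl
  | step _ hn ih => exact ih.trans hn.1.2.2.2.1.1

/-- A normal subsystem: fully normalized in the big system implies fully normalized in the small one. -/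
theorem isFullyNormalized_of_isInvariantIn [Finite S] [Fact p.Prime] (hS : IsPGroup p S)
    (hF : F.IsSaturated p) (h : E.IsInvariantIn F) {P : Subgroup Ω} (hPT : P ≤ T)
    (hP : F.IsFullyNormalized P) : E.IsFullyNormalized P := by
  have hTS : T ≤ S := h.2.1.1
  refine ⟨hPT, fun R hR => ?_⟩
  have hRF := isConj_symm (IsSubsystemOf.isConj h.1 hR)
  obtain ⟨g, hg, hgP⟩ := exists_map_normalizerIn hS
    (isFullyAutomized_of_isFullyNormalized hS hF hP)
    (isReceptive_of_isFullyNormalized hS hF hP) hRF
  have hle : normalizerIn T R ≤ normalizerIn S R := inf_le_inf_right _ hTS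
  have := finite_of_le ((normalizerIn_le (S := T) (P := P)).trans hTS)
  rw [← hg.card_img hle]
  refine Subgroup.card_le_of_le (img_le_of_forall fun z hz => ?_)
  have h1 := hg.map_mem_normalizerIn (le_normalizerIn (isConj_le_left hRF)) (hle hz) (hle hz)
  rw [hgP] at h1
  exact ⟨StronglyClosed.map_mem h.2.1 hg (hle hz) hz.1, h1.2⟩

theorem IsSubnormalIn.isFullyNormalized (h : E.IsSubnormalIn F p) [Finite S] [Fact p.Prime]
    (hS : IsPGroup p S) (hF : F.IsSaturated p) :
    ∀ P ≤ T, F.IsFullyNormalized P → E.IsFullyNormalized P := by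
  rename_i hfin hp
  revert hfin hS hF hp
  induction h with
  | refl => intro _ _ _ _ P _ hP; exact hP
  | step hsub hn ih =>
    intro hfin hp hS hF P hPT hP
    have hUS := hn.1.2.2.2.1.1
    haveI := finite_of_le hUS
    exact ih (hS.to_le hUS) hn.1.1 P hPT
      (isFullyNormalized_of_isInvariantIn hS hF hn.1.2.2 (hPT.trans (IsSubnormalIn.le hsub)) hP)

end Cfsg.Agent.Fusion
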