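import Cfsg.Agent.Lib.Fusion.SolvableSystem
import Cfsg.Agent.Lib.Fusion.Subnormal

/-!
Subnormal subsystems of constrained systems are constrained.
-/

set_option autoImplicit false

namespace Cfsg.Agent.Fusion

open Cfsg.FusionSystem (centralizerIn normalizerIn)

variable {Ω : Type*} [Group Ω] {S T : Subgroup Ω} {F : FusionSystem S} {E : FusionSystem T} {p : ℕ}

theorem stronglyClosed_inf_of_subsystem (h : E.IsSubsystemOf F) {A : Subgroup Ω}
    (hA : F.StronglyClosed A) : E.StronglyClosed (A ⊓ T) :=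
  stronglyClosed_iff.mpr ⟨inf_le_right, fun _ _ hR hf x hx =>
    ⟨StronglyClosed.map_mem hA (IsSubsystemOf.mapTo h hf) hx (hR hx).1, hf.mem hx⟩⟩

variable [Finite S] [Fact p.Prime]

theorem isConstrained_of_normal (hS : IsPGroup p S) (hF : F.IsConstrained p)
    (hE : E.IsWeaklyNormalIn F p) : E.IsConstrained p := by
  obtain ⟨hFs, Q, hQ, hQc⟩ := hF
  obtain ⟨hEs, -, hEi⟩ := hE
  have hT : T ≤ S := hEi.2.1.1
  haveI := finite_of_le hT
  have hTp := hS.to_le hT
  have hQsc := IsNormal.stronglyClosed hQ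
  have hmT : ∀ {a x : Ω}, a ∈ T → x ∈ S → x⁻¹ * (a * x * a⁻¹) ∈ T := fun {a x} ha hx => by
    rw [show x⁻¹ * (a * x * a⁻¹) = (x⁻¹ * a * x) * a⁻¹ by group]
    refine T.mul_mem ?_ (T.inv_mem ha)
    simpa using StronglyClosed.conj_mem hEi.2.1 (S.inv_mem hx) ha
  -- `Q ∩ T` is normal in `E`
  obtain ⟨n, h0, hn, hmono, hnorm, hcomm⟩ := exists_normal_series hS hQ
  set R := Q ⊓ T with hR
  have hRn : E.IsNormal R := by
    refine isNormal_of_stronglyClosed_series hTp hEs (fun i : Fin (n + 1) => ucs Q i ⊓ T) ?_ ?_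
      (fun a b hab => inf_le_inf_right T (hmono hab))
      (fun i => stronglyClosed_inf_of_subsystem hEi.1 (IsNormal.stronglyClosed (hnorm _)))
      (fun i x hx k hk => ⟨hcomm i x hx.1 k hk.1,
        T.mul_mem (T.inv_mem hx.2) (T.mul_mem (T.mul_mem hk.2 hx.2) (T.inv_mem hk.2))⟩)
    · simp [h0]
    · simp [hn, hR]
  set K := centralizerIn T R with hK
  have hKc : E.StronglyClosed K := stronglyClosed_centralizerIn hRn
  have hKR : E.StronglyClosed (R ⊓ K) :=
    StronglyClosed.inf (IsNormal.stronglyClosed hRn) hKc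
  -- an element of `T` centralizing `Q` lies in `Q`
  have hcQ : ∀ c ∈ T, (∀ q ∈ Q, q * c = c * q) → c ∈ Q := fun c hc h =>
    centralizerIn_le_of_isCentric hQc (mem_centralizerIn.mpr ⟨hT hc, h⟩)
  have hKn : E.IsNormal K := by
    refine isNormal_of_stronglyClosed_series hTp hEs ![⊥, R ⊓ K, K] rfl rfl
      (Fin.monotone_iff_le_succ.mpr fun i => by
        fin_cases i
        · exact bot_le
        · exact inf_le_right)
      (fun i => by
        fin_cases i
        · exact hKR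
        · exact hKc) fun i x hx k hk => ?_
    fin_cases i
    · have h1 := (mem_centralizerIn.mp hk).2 x hx.1
      show x⁻¹ * (k * x * k⁻¹) ∈ (⊥ : Subgroup Ω)
      rw [Subgroup.mem_bot, ← h1]
      group
    · have hxK : x ∈ K := hx
      have hcK : x⁻¹ * (k * x * k⁻¹) ∈ K :=
        K.mul_mem (K.inv_mem hxK) (K.mul_mem (K.mul_mem hk hxK) (K.inv_mem hk))
      refine ⟨⟨hcQ _ hcK.1 fun q hq => ?_, hcK.1⟩, hcK⟩
      -- both `k` and `x` move `q` by elements of `R`, which they centralize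
      have hd : ∀ a ∈ K, ∃ d ∈ R, a * q * a⁻¹ = q * d := by
        intro a ha
        refine ⟨q⁻¹ * (a * q * a⁻¹), ⟨Q.mul_mem (Q.inv_mem hq)
          ((Subgroup.mem_normalizer_iff.mp (IsNormal.le_normalizer hQ (hT ha.1)) q).mp hq),
          hmT ha.1 (hQ.1 hq)⟩, by group⟩
      have hfix : ∀ a ∈ K, ∀ d ∈ R, a * d * a⁻¹ = d := fun a ha d hd => by
        rw [← (mem_centralizerIn.mp ha).2 d hd, mul_inv_cancel_right]
      obtain ⟨d, hdR, hkq⟩ := hd k hk
      obtain ⟨e, heR, hxq⟩ := hd x hxK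
      obtain ⟨d', hd'R, hxiq⟩ := hd x⁻¹ (K.inv_mem hxK)
      obtain ⟨e', he'R, hkiq⟩ := hd k⁻¹ (K.inv_mem hk)
      have he' : e' = d⁻¹ := by
        have h1 : k⁻¹ * (k * q * k⁻¹) * k = q * e' * (k⁻¹ * d * k⁻¹⁻¹) := by
          rw [hkq]
          calc k⁻¹ * (q * d) * k = (k⁻¹ * q * k⁻¹⁻¹) * (k⁻¹ * d * k⁻¹⁻¹) := by group
            _ = _ := by rw [hkiq]
        rw [hfix _ (K.inv_mem hk) d hdR,
          show k⁻¹ * (k * q * k⁻¹) * k = q by group, mul_assoc, left_eq_mul] at h1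
        exact eq_inv_of_mul_eq_one_left h1
      have hd' : d' = e⁻¹ := by
        have h1 : x⁻¹ * (x * q * x⁻¹) * x = q * d' * (x⁻¹ * e * x⁻¹⁻¹) := by
          rw [hxq]
          calc x⁻¹ * (q * e) * x = (x⁻¹ * q * x⁻¹⁻¹) * (x⁻¹ * e * x⁻¹⁻¹) := by group
            _ = _ := by rw [hxiq]
        rw [hfix _ (K.inv_mem hxK) e heR,
          show x⁻¹ * (x * q * x⁻¹) * x = q by group, mul_assoc, left_eq_mul] at h1
        exact eq_inv_of_mul_eq_one_left h1
      have hcomm2 : Commute d e := by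
        have hd' : d = (q⁻¹ * k * q) * k⁻¹ := by
          calc d = q⁻¹ * (q * d) := by group
            _ = q⁻¹ * (k * q * k⁻¹) := by rw [hkq]
            _ = _ := by group
        have he1 : q * e * q⁻¹ ∈ R := ⟨Q.mul_mem (Q.mul_mem hq heR.1) (Q.inv_mem hq), by
          simpa using StronglyClosed.conj_mem hEi.2.1 (hQ.1 hq) heR.2⟩
        have h1 := hfix k hk _ he1
        have h2 := hfix k⁻¹ (K.inv_mem hk) e heR
        rw [hd', commute_iff_eq]
        calc q⁻¹ * k * q * k⁻¹ * e = q⁻¹ * (k * q * (k⁻¹ * e * k⁻¹⁻¹)) * k⁻¹ := by group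
          _ = q⁻¹ * (k * (q * e * q⁻¹) * k⁻¹) * k * q * k⁻¹ := by rw [h2]; group
          _ = e * (q⁻¹ * k * q * k⁻¹) := by rw [h1]; group
      have hval : (x⁻¹ * (k * x * k⁻¹)) * q * (x⁻¹ * (k * x * k⁻¹))⁻¹ = q := by
        calc (x⁻¹ * (k * x * k⁻¹)) * q * (x⁻¹ * (k * x * k⁻¹))⁻¹
            = x⁻¹ * (k * (x * (k⁻¹ * q * k⁻¹⁻¹) * x⁻¹) * k⁻¹) * x := by group
          _ = x⁻¹ * (k * ((x * q * x⁻¹) * (x * e' * x⁻¹)) * k⁻¹) * x := by rw [hkiq]; group
          _ = x⁻¹ * ((k * q * k⁻¹) * (k * (e * e') * k⁻¹)) * x := by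
              rw [hxq, hfix x hxK e' he'R]; group
          _ = (x⁻¹ * q * x⁻¹⁻¹) * (x⁻¹ * (d * (e * e')) * x⁻¹⁻¹) := by
              rw [hkq, hfix k hk _ (R.mul_mem heR he'R)]; group
          _ = q := by
              rw [hxiq, hfix _ (K.inv_mem hxK) _ (R.mul_mem hdR (R.mul_mem heR he'R)), hd', he',
                ← mul_assoc d, hcomm2.eq]
              group
      exact (mul_inv_eq_iff_eq_mul.mp hval).symm
  refine ⟨hEs, R ⊔ K, isNormal_sup hRn hKn, isCentric_of_isFullyCentralized ?_ fun c hc => ?_⟩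
  · have hn' : E.IsNormal (R ⊔ K) := isNormal_sup hRn hKn
    refine ⟨hn'.1, fun X hX => ?_⟩
    obtain ⟨f, hf, rfl⟩ := isConj_iff.mp hX
    rw [StronglyClosed.img_eq (IsNormal.stronglyClosed hn') hf le_rfl]
  · exact Subgroup.mem_sup_right (mem_centralizerIn.mpr ⟨hc.1, fun y hy =>
      (mem_centralizerIn.mp hc).2 y (Subgroup.mem_sup_left hy)⟩)

theorem isConstrained_of_subnormal (hS : IsPGroup p S) (hF : F.IsConstrained p)
    (h : E.IsSubnormalIn F p) : E.IsConstrained p := by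
  rename_i hfin hp
  revert hfin hp hS hF
  induction h with
  | refl => intro _ _ _ hF; exact hF
  | step _ hn ih =>
    intro hfin hp hS hF
    have hUS := hn.1.2.2.2.1.1
    haveI := finite_of_le hUS
    exact ih (hS.to_le hUS) (isConstrained_of_normal hS hF hn.1)

end Cfsg.Agent.Fusion
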