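import Cfsg.Agent.Lib.Fusion.NormalCriteria
import Cfsg.Agent.Lib.Fusion.Invariant

/-!
The closure under `F` of a subgroup normal in a weakly normal subsystem is normal.
-/

set_option autoImplicit false

namespace Cfsg.Agent.Fusion

open Cfsg.FusionSystem (centralizerIn normalizerIn)

variable {Ω : Type*} [Group Ω] {S T R Q : Subgroup Ω} {F : FusionSystem S} {E : FusionSystem T}
variable {p : ℕ}

theorem isNormal_img_of_invariant [Finite S] (hi : E.IsInvariantIn F) {α : MulAut T}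
    (hα : α ∈ F.autGroup T) (hR : E.IsNormal R) : E.IsNormal (img (autFun α) R) := by
  have hTS : T ≤ S := hi.2.1.1
  have ha : MapTo F T (autFun α) := mapTo_of_mem_autGroup hTS hα
  refine isNormal_iff.mpr ⟨(img_mono hR.1).trans (img_autFun α).le, fun P f hf => ?_⟩
  obtain ⟨g, hg, hgx⟩ := IsInvariantIn.transport hi hf.le hf (Subgroup.inv_mem _ hα)
  obtain ⟨ψ, hψ, hψx, hψR⟩ := (isNormal_iff.mp hR).2 _ g hg
  obtain ⟨χ, hχ, hχx⟩ := IsInvariantIn.transport hi hψ.le hψ hα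
  have hP1 : img (autFun α⁻¹) P ≤ T := hg.le
  have he : img (autFun α) (img (autFun α⁻¹) P ⊔ R) = P ⊔ img (autFun α) R := by
    rw [ha.img_sup hP1 hR.1]
    congr 1
    rw [(mapTo_of_mem_autGroup hTS (Subgroup.inv_mem _ hα)).img_img hf.le]
    exact (img_congr fun x hx => autFun_autFun_inv α (hf.le hx)).trans img_id
  rw [he] at hχ
  refine ⟨χ, hχ, fun x hx => ?_, ?_⟩
  · have h1 : autFun α⁻¹ x ∈ img (autFun α⁻¹) P := mem_img_of_mem hx
    have h2 := hχx _ (Subgroup.mem_sup_left h1)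
    rw [autFun_autFun_inv α (hf.le hx), hψx _ h1, hgx x hx,
      autFun_autFun_inv α (hf.mem hx)] at h2
    exact h2
  · rw [ha.img_img hR.1, img_congr (fun x hx => hχx x (Subgroup.mem_sup_right hx)),
      ← hψ.img_img le_sup_right, hψR]

theorem isNormal_closure_images [Finite S] [Fact p.Prime] (hS : IsPGroup p S)
    (hE : E.IsWeaklyNormalIn F p) (hR : E.IsNormal R) :
    F.IsNormal (Subgroup.closure {x : Ω | ∃ φ ∈ F.Hom R, ∃ r : R, x = φ r}) := by
  obtain ⟨hEs, hF, hi⟩ := hE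
  have hTS : T ≤ S := hi.2.1.1
  have := finite_of_le hTS
  set C := Subgroup.closure {x : Ω | ∃ φ ∈ F.Hom R, ∃ r : R, x = φ r} with hCd
  let M : Set (Subgroup Ω) := {Q | E.IsNormal Q ∧ Q ≤ C}
  have hM : E.IsNormal (sSup M) ∧ sSup M ≤ C :=
    sSup_mem_of_sup_closed (S := T) (p := fun Q => E.IsNormal Q ∧ Q ≤ C) (fun _ h => h.1.1)
      ⟨isNormal_bot E, bot_le⟩
      (fun _ _ hA hB => ⟨isNormal_sup hA.1 hB.1, sup_le hA.2 hB.2⟩)
  have hCE : E.IsNormal C := by
    have : sSup M = C := by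
      refine le_antisymm hM.2 ((Subgroup.closure_le _).mpr ?_)
      rintro x ⟨φ, hφ, r, rfl⟩
      obtain ⟨α, hα, f₀, hf₀, hx⟩ := IsInvariantIn.frattini hi hR.1 (mapTo_ev hφ)
      have hf₀R : img f₀ R = R :=
        StronglyClosed.img_eq (IsNormal.stronglyClosed hR) hf₀ le_rfl
      have hle : img (autFun α) R ≤ C := by
        refine img_le_of_forall fun y hy => ?_
        obtain ⟨z, hz, rfl⟩ := (hf₀.mem_img_iff le_rfl).mp (hf₀R.symm ▸ hy : y ∈ img f₀ R)
        exact Subgroup.subset_closure ⟨φ, hφ, ⟨z, hz⟩, by rw [← hx z hz, ev_apply φ hz]⟩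
      refine (le_sSup (show img (autFun α) R ∈ M from
        ⟨isNormal_img_of_invariant hi hα hR, hle⟩) : _ ≤ sSup M) ?_
      rw [← ev_coe φ r, hx r r.2]
      exact mem_img_of_mem (hf₀R.le (mem_img_of_mem r.2))
    exact this ▸ hM.1
  have hinv : ∀ α ∈ F.autGroup T, ∀ x ∈ C, autFun α x ∈ C := by
    intro α hα
    have ha : MapTo F T (autFun α) := mapTo_of_mem_autGroup hTS hα
    suffices h : img (autFun α) C ≤ C from fun x hx => h (mem_img_of_mem hx)
    refine (Subgroup.closure_le _).mpr ?_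
    rintro _ ⟨x, hx, rfl⟩
    suffices h : C ≤ (C.comap (((T.subtype).comp α.toMonoidHom))).map T.subtype by
      obtain ⟨t, ht, rfl⟩ := h hx
      show autFun α (t : Ω) ∈ C
      rw [autFun_coe]; exact ht
    refine (Subgroup.closure_le _).mpr ?_
    rintro y ⟨φ, hφ, r, rfl⟩
    have hy : φ r ∈ T := by
      rw [← ev_coe φ r]
      exact StronglyClosed.map_mem hi.2.1 (mapTo_ev hφ) r.2 (hR.1 r.2)
    refine ⟨⟨φ r, hy⟩, ?_, rfl⟩
    show ((α ⟨φ r, hy⟩ : T) : Ω) ∈ C
    have hfm : ∀ z ∈ R, ev φ z ∈ T := fun z hz =>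
      StronglyClosed.map_mem hi.2.1 (mapTo_ev hφ) hz (hR.1 hz)
    obtain ⟨ψ, hψ, hψx⟩ := (mapTo_ev hφ).comp ha hfm
    exact Subgroup.subset_closure ⟨ψ, hψ, r,
      by rw [hψx r]; show _ = autFun α (ev φ r); rw [ev_coe, autFun_apply α hy]⟩
  obtain ⟨n, h0, hn, hmono, hnor, hcomm⟩ := exists_normal_series (hS.to_le hTS) hCE
  refine isNormal_of_stronglyClosed_series hS hF (fun i : Fin (n + 1) => ucs C i) (by simpa using h0)
    (by simpa using hn) (fun a b hab => hmono (Fin.val_fin_le.mpr hab)) (fun i => ?_)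
    (fun i x hx k hk => hcomm i x hx k hk)
  set U := ucs C ((i.succ : Fin (n + 1)) : ℕ) with hU
  refine stronglyClosed_iff.mpr ⟨(hnor _).1.trans hTS, fun Q f hQ hf x hx => ?_⟩
  obtain ⟨α, hα, f₀, hf₀, hfx⟩ := IsInvariantIn.frattini hi (hQ.trans (hnor _).1) hf
  have h1 : f₀ x ∈ U := StronglyClosed.map_mem (IsNormal.stronglyClosed (hnor _)) hf₀ hx (hQ hx)
  rw [hfx x hx]
  have hUC : U ≤ C := Subgroup.map_subtype_le _
  have ha : MapTo F C (autFun α) :=
    (mapTo_of_mem_autGroup hTS hα).restrict hCE.1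
  have := finite_of_le (hCE.1.trans hTS)
  have himg : img (autFun α) C = C := img_eq_self_of_forall ha (hinv α hα)
  obtain ⟨u, hu, hux⟩ := h1
  have hchar : (Subgroup.upperCentralSeries C ((i.succ : Fin (n + 1)) : ℕ)).map
      (autOf ha himg).toMonoidHom = Subgroup.upperCentralSeries C ((i.succ : Fin (n + 1)) : ℕ) :=
    Subgroup.characteristic_iff_map_eq.mp inferInstance _
  refine ⟨autOf ha himg u, hchar ▸ ⟨u, hu, rfl⟩, ?_⟩
  show ((autOf ha himg u : C) : Ω) = autFun α (f₀ x)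
  rw [← hux, ← autFun_coe (autOf ha himg) u]
  exact autFun_autOf ha himg u.2

end Cfsg.Agent.Fusion
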