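import Cfsg.Agent.Lib.Fusion.CentralizerNormal
import Cfsg.Agent.Lib.Fusion.CentralLift.Recursion
import Cfsg.Agent.Lib.Fusion.ConstrainedSubnormal
import Cfsg.Agent.Lib.Fusion.CoreDecomp
import Cfsg.Agent.Lib.Fusion.WeaklyNormalCore
import Cfsg.Agent.Lib.Fusion.IndexP.Main
import Mathlib.Data.Set.Card

/-!
A saturated system is constrained if and only if it has no component.
-/

set_option autoImplicit false

namespace Cfsg.Agent.Fusion

open Cfsg.FusionSystem (centralizerIn normalizerIn imageAlong preimageAlong)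
open CentralLift (exists_lift_central LMap)
open scoped commutatorElement

universe u

variable {Ω : Type u} [Group Ω] {S T R Q : Subgroup Ω} {F : FusionSystem S} {E : FusionSystem T}
  {p : ℕ}

/-- All maps of a system. -/
def mapsSet (F : FusionSystem S) : Set (Σ P : Subgroup Ω, (P →* Ω)) := {x | x.2 ∈ F.Hom x.1}

theorem finite_mapsSet [Finite S] (F : FusionSystem S) : (mapsSet F).Finite := by
  haveI := finite_subgroups_le (S := S)
  haveI : ∀ P : {P : Subgroup Ω // P ≤ S}, Finite (P.1 →* S) := fun P => by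
    haveI : Finite P.1 := finite_of_le P.2
    exact Finite.of_injective (fun f => (f : P.1 → S)) DFunLike.coe_injective
  refine (Set.finite_range fun x : Σ P : {P : Subgroup Ω // P ≤ S}, (P.1 →* S) =>
    (⟨x.1.1, S.subtype.comp x.2⟩ : Σ P : Subgroup Ω, (P →* Ω))).subset ?_
  rintro ⟨P, φ⟩ hφ
  exact ⟨⟨⟨P, (F.le_of_mem hφ).1⟩, φ.codRestrict S (F.le_of_mem hφ).2⟩, rfl⟩

theorem ncard_mapsSet_lt [Finite S] (hsub : E.IsSubsystemOf F)
    (hne : ¬ ∀ P, F.Hom P ⊆ E.Hom P) : (mapsSet E).ncard < (mapsSet F).ncard := by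
  refine Set.ncard_lt_ncard ⟨fun x hx => hsub x.1 hx, fun h => hne fun P φ hφ => ?_⟩
    (finite_mapsSet F)
  exact h (show (⟨P, φ⟩ : Σ P : Subgroup Ω, (P →* Ω)) ∈ mapsSet F from hφ)

theorem not_all_of_lt (hne : T ≠ S) (hTS : T ≤ S) : ¬ ∀ P, F.Hom P ⊆ E.Hom P := fun h => by
  obtain ⟨φ, hφ, -⟩ := mapTo_id F (le_refl S)
  exact hne (le_antisymm hTS (E.le_of_mem (h S hφ)).1)

variable [Finite S] [Fact p.Prime]

theorem core_centric_iff : F.IsConstrained p ↔ F.IsSaturated p ∧ centralizerIn S F.core ≤ F.core := by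
  constructor
  · rintro ⟨hF, Q, hQ, hQc⟩
    exact ⟨hF, (centralizerIn_anti (le_core hQ)).trans
      ((centralizerIn_le_of_isCentric hQc).trans (le_core hQ))⟩
  · rintro ⟨hF, h⟩
    refine ⟨hF, F.core, isNormal_core F, (isNormal_core F).1, fun X hX => ?_⟩
    obtain ⟨f, hf, rfl⟩ := isConj_iff.mp hX
    rwa [StronglyClosed.img_eq (IsNormal.stronglyClosed (isNormal_core F)) hf le_rfl]

/-- A constrained normal subsystem has centralizer of the core inside the core. -/
theorem centralizerIn_core_le_of_normal (hS : IsPGroup p S) (hE : E.IsNormalIn F p)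
    (hEc : E.IsConstrained p) : centralizerIn T F.core ≤ F.core := by
  obtain ⟨-, R, hR, hRc⟩ := hEc
  have hRQ : R ≤ F.core := by
    refine le_trans ?_ (le_core (isNormal_closure_images hS hE.1 hR))
    intro x hx
    have hTS : T ≤ S := hE.1.2.2.2.1.1
    obtain ⟨φ, hφ, hφx⟩ := mapTo_id F (hR.1.trans hTS)
    exact Subgroup.subset_closure ⟨φ, hφ, ⟨x, hx⟩, (hφx ⟨x, hx⟩).symm⟩
  exact (centralizerIn_anti hRQ).trans ((centralizerIn_le_of_isCentric hRc).trans hRQ)

/-- A system without components is constrained. -/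
theorem isConstrained_of_no_component : ∀ (n : ℕ) {S : Subgroup Ω} [Finite S] (F : FusionSystem S),
    (mapsSet F).ncard = n → IsPGroup p S → F.IsSaturated p →
    (¬ ∃ (T : Subgroup Ω) (C : FusionSystem T), C.IsComponentIn F p) → F.IsConstrained p := by
  intro n
  induction n using Nat.strong_induction_on with
  | h n ih =>
  intro S _ F hn hS hF hno
  have key : ∀ {T : Subgroup Ω} (E : FusionSystem T), E.IsNormalIn F p →
      (¬ ∀ P, F.Hom P ⊆ E.Hom P) → centralizerIn T F.core ≤ F.core := by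
    intro T E hE hne
    have hTS : T ≤ S := hE.1.2.2.2.1.1
    haveI := finite_of_le hTS
    refine centralizerIn_core_le_of_normal hS hE
      (ih _ (hn ▸ ncard_mapsSet_lt hE.1.2.2.1 hne) E rfl (hS.to_le hTS) hE.1.1 ?_)
    rintro ⟨U, C, hC, hCq⟩
    exact hno ⟨U, C, hC.step hE, hCq⟩
  set Q := F.core with hQd
  have hQ : F.IsNormal Q := isNormal_core F
  have hQS := hQ.1
  by_contra hcon
  have hnc : ¬ centralizerIn S Q ≤ Q := fun h => hcon (core_centric_iff.mpr ⟨hF, h⟩)
  -- the core is central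
  have hC := isNormalIn_cSys hS hF hQ
  have hall : ∀ P, F.Hom P ⊆ (cSys F hQS).Hom P := by
    by_contra hne
    refine hnc fun x hx => key _ hC hne ?_
    exact mem_centralizerIn.mpr ⟨hx, (mem_centralizerIn.mp hx).2⟩
  have hST : S ≤ centralizerIn S Q := by
    obtain ⟨φ, hφ, -⟩ := mapTo_id F (le_refl S)
    exact ((cSys F hQS).le_of_mem (hall S hφ)).1
  have hQc : F.IsCentral Q := by
    refine isCentral_iff.mpr ⟨hQS, fun P f hf => ?_⟩
    obtain ⟨φ, hφ, hφf⟩ := id hf
    obtain ⟨-, -, g, hg, hgf, hgQ⟩ :=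
      (mapTo_cSys_iff (isCentralizerSystem_cSys F hQS)).mp ⟨φ, hall P hφ, hφf⟩
    exact ⟨g, hg, hgf, hgQ⟩
  have hZQ : F.center = Q := le_antisymm
    (le_core (IsCentral.isNormal (isCentral_center F))) (le_sSup hQc)
  have hQlt : ¬ S ≤ Q := fun h => hnc (centralizerIn_le.trans h)
  -- the hyperfocal subgroup is everything
  have hhyp : F.hyperfocalSubgroup p = S := by
    by_contra hne
    obtain ⟨a, ha⟩ := hS.exists_card_eq
    have hlt : F.hyperfocalSubgroup p < S := lt_of_le_of_ne hyperfocal_le hne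
    haveI := finite_of_le (hyperfocal_le (F := F) (p := p))
    obtain ⟨b, hb⟩ := (hS.to_le (hyperfocal_le (F := F) (p := p))).exists_card_eq
    have hcard : Nat.card ((F.hyperfocalSubgroup p).subgroupOf S) = p ^ b := by
      rw [Nat.card_congr (Subgroup.subgroupOfEquivOfLe hyperfocal_le).toEquiv, hb]
    have hp : p.Prime := Fact.out
    have hba : b < a := by
      have h1 : Nat.card (F.hyperfocalSubgroup p) < Nat.card S :=
        lt_of_le_of_ne (Subgroup.card_le_of_le hlt.le)
          fun he => hlt.ne (Subgroup.eq_of_le_of_card_ge hlt.le he.ge)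
      rw [ha, hb] at h1
      exact (Nat.pow_lt_pow_iff_right hp.one_lt).mp h1
    obtain ⟨U', hU', hTU'⟩ := Sylow.exists_subgroup_card_pow_prime_le p
      (m := a - 1) (ha ▸ pow_dvd_pow p (Nat.sub_le a 1)) _ hcard (by omega)
    set U := U'.map S.subtype with hUdef
    have hUS : U ≤ S := Subgroup.map_subtype_le _
    have hUU : U.subgroupOf S = U' :=
      Subgroup.comap_map_eq_self_of_injective S.subtype_injective _
    have hindex : (U.subgroupOf S).index = p := by
      have h1 := U'.card_mul_index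
      rw [hU', ha, show p ^ a = p ^ (a - 1) * p by rw [← pow_succ]; congr 1; omega] at h1
      rw [hUU]
      exact Nat.eq_of_mul_eq_mul_left (pow_pos hp.pos _) h1
    haveI hUn : (U.subgroupOf S).Normal := by
      refine Subgroup.normal_of_index_eq_minFac_card ?_
      rw [hindex, ha, Nat.pow_minFac (by omega), hp.minFac_eq]
    have hhU : F.hyperfocalSubgroup p ≤ U := fun x hx =>
      ⟨⟨x, hyperfocal_le hx⟩, hTU' (Subgroup.mem_subgroupOf.mpr hx), rfl⟩
    obtain ⟨E, hE, hEi⟩ := IndexP.exists_index_p hS hF hUS hindex hhU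
    have hEn : E.IsNormalIn F p := pPowerIndex_isNormalIn hS hF hUS (fun s hs x hx =>
      Subgroup.mem_subgroupOf.mp (hUn.conj_mem ⟨x, hUS hx⟩
        (Subgroup.mem_subgroupOf.mpr hx) ⟨s, hs⟩)) hE hEi
    have hUne : U ≠ S := fun he => hp.one_lt.ne' (by
      rw [← hindex, he, Subgroup.subgroupOf_self, Subgroup.index_top])
    have hUQ : U ≤ Q := fun x hx => key E hEn (not_all_of_lt hUne hUS)
      (mem_centralizerIn.mpr ⟨hx, (mem_centralizerIn.mp (hST (hUS hx))).2⟩)
    -- then `S` is abelian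
    haveI : IsCyclic (↥S ⧸ U.subgroupOf S) := isCyclic_of_prime_card (p := p) hindex
    have hab : ∀ a b : S, a * b = b * a := by
      refine (MonoidHom.isMulCommutative_of_isCyclic_of_ker_le_center
        (QuotientGroup.mk' (U.subgroupOf S)) fun x hx => ?_).is_comm.comm
      rw [QuotientGroup.ker_mk'] at hx
      refine Subgroup.mem_center_iff.mpr fun y => Subtype.ext ?_
      exact ((mem_centralizerIn.mp (hST y.2)).2 x (hUQ hx)).symm
    have hSn : F.IsNormal S := isNormal_of_stronglyClosed hS hF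
      (stronglyClosed_iff.mpr ⟨le_rfl, fun _ _ _ hf _ hx => hf.mem hx⟩) fun P hP x hx =>
        centralizerIn_le_of_isCentric hP.1 (mem_centralizerIn.mpr
          ⟨hx, fun y hy => congrArg Subtype.val (hab ⟨y, hP.1.1 hy⟩ ⟨x, hx⟩)⟩)
    exact hQlt (le_core hSn)
  -- the system is a component of itself
  refine hno ⟨S, F, .refl F p, hF, hhyp, fun Eb hEb => ?_⟩
  set θ := QuotientGroup.mk' (F.center.subgroupOf S)
  have hcS : F.center ≤ S := hZQ ▸ hQS
  have hsc : F.StronglyClosed F.center :=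
    IsNormal.stronglyClosed (IsCentral.isNormal (isCentral_center F))
  have hker : kerIn θ = F.center := by
    rw [kerIn, QuotientGroup.ker_mk', Subgroup.map_subgroupOf_eq_of_le hcS]
  have hmor := IsFactorSystem.isSurjectiveMorphism hS hF hsc hEb
  refine ⟨isSaturated_image hS hF hmor, fun htop => hQlt fun x hx => ?_, fun U D hD => ?_⟩
  · have h1 : th θ x ∈ (⊥ : Subgroup _) := htop ▸ Subgroup.mem_top _
    rw [← hZQ, ← hker]
    exact mem_kerIn.mpr ⟨hx, Subgroup.mem_bot.mp h1⟩
  obtain ⟨T, EL, hT, hEL, hmap⟩ := exists_lift_central hS hF hmor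
    (hker.symm ▸ isCentral_center F) hD
  by_cases hnot : ∀ P, F.Hom P ⊆ EL.Hom P
  · right
    obtain ⟨φ, hφ, -⟩ := mapTo_id F (le_refl S)
    have hST' : S ≤ preimageAlong θ U := hT ▸ (EL.le_of_mem (hnot S hφ)).1
    have hUtop : U = ⊤ := by
      refine eq_top_iff.mpr fun y _ => ?_
      obtain ⟨s, rfl⟩ := QuotientGroup.mk'_surjective (F.center.subgroupOf S) y
      rw [← th_coe θ s]
      exact (mem_preimageAlong.mp (hST' s.2)).2
    refine ⟨hUtop, fun P => Set.Subset.antisymm (hD.1.2.2.1 P) fun ψ hψ => ?_⟩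
    obtain ⟨hPr, f, hf, hff⟩ := IsSurjectiveMorphism.exists_lift hmor (mapTo_ev hψ)
    obtain ⟨χ, hχ, hχf⟩ := id hf
    obtain ⟨-, -, g', hg', hgg⟩ := hmap _ f ⟨χ, hnot _ hχ, hχf⟩
    rw [imageAlong_preimageAlong hPr] at hg'
    refine hg'.hom_mem fun y => ?_
    obtain ⟨x, hx, hxy⟩ := exists_preimage hPr y.2
    rw [← hxy, hgg x hx, ← hff x hx, hxy, ev_coe]
  · left
    refine (Subgroup.eq_bot_iff_forall _).mpr fun y hy => ?_
    have hle : T ≤ Q := fun x hx => key EL hEL hnot (mem_centralizerIn.mpr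
      ⟨hx, (mem_centralizerIn.mp (hST (hEL.1.2.2.2.1.1 hx))).2⟩)
    obtain ⟨x, hx, rfl⟩ := exists_preimage (θ := θ) (P' := U)
      (fun z _ => QuotientGroup.mk'_surjective (F.center.subgroupOf S) z) hy
    have h1 := hle (hT.symm.le hx)
    rw [← hZQ, ← hker] at h1
    exact (mem_kerIn.mp h1).2

/-- A constrained system has no component. -/
theorem no_component_of_isConstrained (hS : IsPGroup p S) (hF : F.IsConstrained p) :
    ¬ ∃ (T : Subgroup Ω) (C : FusionSystem T), C.IsComponentIn F p := by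
  rintro ⟨T, C, hsub, hCs, hhyp, hsimp⟩
  have hTS := IsSubnormalIn.le hsub
  haveI := finite_of_le hTS
  have hTp := hS.to_le hTS
  obtain ⟨-, R, hR, hRc⟩ := isConstrained_of_subnormal hS hF hsub
  set θ := QuotientGroup.mk' (C.center.subgroupOf T)
  have hZc := isCentral_center C
  have hker : kerIn θ = C.center := by
    rw [kerIn, QuotientGroup.ker_mk', Subgroup.map_subgroupOf_eq_of_le hZc.1]
  have hsc : C.StronglyClosed (kerIn θ) :=
    hker.symm ▸ IsNormal.stronglyClosed (IsCentral.isNormal hZc)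
  have hr : θ.range = ⊤ := MonoidHom.range_eq_top.mpr (QuotientGroup.mk'_surjective _)
  have hfac := isFactorSystem_factorSys C θ hr hsc
  rw [hker] at hfac
  obtain ⟨hEs, hEne, hEsimp⟩ := hsimp _ hfac
  have hmor := IsFactorSystem.isSurjectiveMorphism hTp hCs
    (IsNormal.stronglyClosed (IsCentral.isNormal hZc)) hfac
  have hTbp : IsPGroup p ↥(⊤ : Subgroup (↥T ⧸ C.center.subgroupOf T)) :=
    (hTp.to_quotient _).to_subgroup ⊤
  rcases hEsimp _ _ (isNormalIn_inner hTbp hEs (isNormal_image hmor hR)) with h | ⟨htop, hin⟩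
  · have hRZ : R ≤ C.center := fun x hx => hker ▸ mem_kerIn.mpr
      ⟨hR.1 hx, Subgroup.mem_bot.mp (h ▸ th_mem_imageAlong hR.1 hx)⟩
    have hTZ : T ≤ C.center := fun x hx =>
      hRZ (centralizerIn_le_of_isCentric hRc (mem_centralizerIn.mpr ⟨hx, fun y hy =>
        (Subgroup.mem_centralizer_iff.mp (C.center_le_centralizer (hRZ hy)) x hx).symm⟩))
    refine hEne (eq_bot_iff.mpr fun y _ => ?_)
    obtain ⟨s, rfl⟩ := QuotientGroup.mk'_surjective (C.center.subgroupOf T) y
    exact Subgroup.mem_bot.mpr ((QuotientGroup.eq_one_iff s).mpr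
      (Subgroup.mem_subgroupOf.mpr (hTZ s.2)))
  · set K : Subgroup (↥T ⧸ C.center.subgroupOf T) := ⊤
    have hfoc : C.focalSubgroup ≤ preimageAlong θ ⁅K, K⁆ := by
      refine focal_le_iff.mpr fun P f hf x hx => ?_
      obtain ⟨f', hf', hff⟩ := IsMorphism.exists_map hmor.1 hf
      obtain ⟨φ, hφ, hφf⟩ := id hf'
      rw [← hin _] at hφ
      obtain ⟨-, g, -, hgx⟩ := hφ
      refine mem_preimageAlong.mpr ⟨T.mul_mem (T.inv_mem (hf.le hx)) (hf.mem hx), ?_⟩
      rw [th_mul θ (T.inv_mem (hf.le hx)) (hf.mem hx), th_inv θ (hf.le hx), ← hff x hx,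
        ← hφf ⟨_, th_mem_imageAlong hf.le hx⟩, hgx]
      have h1 := Subgroup.commutator_mem_commutator
        (K.inv_mem (Subgroup.mem_top (th θ x) : th θ x ∈ K)) (Subgroup.mem_top g : g ∈ K)
      convert h1 using 1
      simp [commutatorElement_def, mul_assoc]
    have hcomm : commutator (↥T ⧸ C.center.subgroupOf T) = ⊤ := by
      refine eq_top_iff.mpr fun y _ => ?_
      obtain ⟨s, rfl⟩ := QuotientGroup.mk'_surjective (C.center.subgroupOf T) y
      have h1 := hfoc (hyperfocal_le_focal (p := p) (hhyp.symm.le s.2))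
      rw [commutator_def, ← th_coe θ s]
      exact (mem_preimageAlong.mp h1).2
    haveI : Finite (↥T ⧸ C.center.subgroupOf T) := inferInstance
    haveI := (hTp.to_quotient (C.center.subgroupOf T)).isNilpotent
    haveI : Nontrivial (↥T ⧸ C.center.subgroupOf T) := by
      obtain ⟨y, -, hy⟩ := (Subgroup.bot_or_exists_ne_one K).resolve_left hEne
      exact ⟨y, 1, hy⟩
    exact (Group.IsSolvable.commutator_lt_top_of_nontrivial _).ne hcomm

/-- A saturated system is constrained if and only if it has no component. -/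
theorem isConstrained_iff_no_component (hS : IsPGroup p S) (hF : F.IsSaturated p) :
    F.IsConstrained p ↔ ¬ ∃ (T : Subgroup Ω) (C : FusionSystem T), C.IsComponentIn F p :=
  ⟨no_component_of_isConstrained hS, isConstrained_of_no_component _ F rfl hS hF⟩

end Cfsg.Agent.Fusion
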