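import Cfsg.Prelude.Def_FusionComponents
import Cfsg.Agent.Lib.Fusion.Saturation

/-!
Direct products of two fusion systems: existence and saturation.
-/

set_option autoImplicit false

namespace Cfsg.Agent.Fusion

open Cfsg.FusionSystem (centralizerIn normalizerIn IsProductSystem)

variable {Ω₁ Ω₂ : Type*} [Group Ω₁] [Group Ω₂] {S₁ : Subgroup Ω₁} {S₂ : Subgroup Ω₂}
variable {F₁ : FusionSystem S₁} {F₂ : FusionSystem S₂} {E : FusionSystem (S₁.prod S₂)}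
variable {P Q : Subgroup (Ω₁ × Ω₂)} {p : ℕ}

/-- First projection of a subgroup of a product. -/
abbrev pr₁ (P : Subgroup (Ω₁ × Ω₂)) : Subgroup Ω₁ := P.map (MonoidHom.fst Ω₁ Ω₂)

/-- Second projection of a subgroup of a product. -/
abbrev pr₂ (P : Subgroup (Ω₁ × Ω₂)) : Subgroup Ω₂ := P.map (MonoidHom.snd Ω₁ Ω₂)

theorem fst_mem_pr₁ {x : Ω₁ × Ω₂} (hx : x ∈ P) : x.1 ∈ pr₁ P := ⟨x, hx, rfl⟩

theorem snd_mem_pr₂ {x : Ω₁ × Ω₂} (hx : x ∈ P) : x.2 ∈ pr₂ P := ⟨x, hx, rfl⟩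

theorem le_prod_of_pr (h₁ : pr₁ P ≤ S₁) (h₂ : pr₂ P ≤ S₂) : P ≤ S₁.prod S₂ :=
  fun _ hx => Subgroup.mem_prod.mpr ⟨h₁ (fst_mem_pr₁ hx), h₂ (snd_mem_pr₂ hx)⟩

/-- The homomorphism given by a pair of maps. -/
def pairHom (φ₁ : pr₁ P →* Ω₁) (φ₂ : pr₂ P →* Ω₂) : P →* Ω₁ × Ω₂ where
  toFun x := (φ₁ ⟨(x : Ω₁ × Ω₂).1, fst_mem_pr₁ x.2⟩, φ₂ ⟨(x : Ω₁ × Ω₂).2, snd_mem_pr₂ x.2⟩)
  map_one' := Prod.ext (_root_.map_one φ₁) (_root_.map_one φ₂)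
  map_mul' a b := Prod.ext
    (_root_.map_mul φ₁ ⟨(a : Ω₁ × Ω₂).1, fst_mem_pr₁ a.2⟩ ⟨(b : Ω₁ × Ω₂).1, fst_mem_pr₁ b.2⟩)
    (_root_.map_mul φ₂ ⟨(a : Ω₁ × Ω₂).2, snd_mem_pr₂ a.2⟩ ⟨(b : Ω₁ × Ω₂).2, snd_mem_pr₂ b.2⟩)

/-- The direct product of two fusion systems. -/
noncomputable def prodSys (F₁ : FusionSystem S₁) (F₂ : FusionSystem S₂) :
    FusionSystem (S₁.prod S₂) where
  Hom P := {φ | P ≤ S₁.prod S₂ ∧ ∃ φ₁ ∈ F₁.Hom (pr₁ P), ∃ φ₂ ∈ F₂.Hom (pr₂ P),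
    ∀ x : P, φ x = (ev φ₁ (x : Ω₁ × Ω₂).1, ev φ₂ (x : Ω₁ × Ω₂).2)}
  le_of_mem := by
    rintro P φ ⟨hP, φ₁, hφ₁, φ₂, hφ₂, h⟩
    refine ⟨hP, fun x => ?_⟩
    rw [h x]
    exact Subgroup.mem_prod.mpr
      ⟨(mapTo_ev hφ₁).mem (fst_mem_pr₁ x.2), (mapTo_ev hφ₂).mem (snd_mem_pr₂ x.2)⟩
  injective_of_mem := by
    rintro P φ ⟨hP, φ₁, hφ₁, φ₂, hφ₂, h⟩ a b hab
    rw [h a, h b, Prod.ext_iff] at hab
    exact Subtype.ext (Prod.ext ((mapTo_ev hφ₁).inj (fst_mem_pr₁ a.2) (fst_mem_pr₁ b.2) hab.1)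
      ((mapTo_ev hφ₂).inj (snd_mem_pr₂ a.2) (snd_mem_pr₂ b.2) hab.2))
  conj_mem := by
    intro P g hP hg
    obtain ⟨hg₁, hg₂⟩ := Subgroup.mem_prod.mp hg
    have h₁ : pr₁ P ≤ S₁ := by rintro _ ⟨x, hx, rfl⟩; exact (Subgroup.mem_prod.mp (hP hx)).1
    have h₂ : pr₂ P ≤ S₂ := by rintro _ ⟨x, hx, rfl⟩; exact (Subgroup.mem_prod.mp (hP hx)).2
    refine ⟨hP, _, F₁.conj_mem h₁ hg₁, _, F₂.conj_mem h₂ hg₂, fun x => ?_⟩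
    rw [ev_apply _ (fst_mem_pr₁ x.2), ev_apply _ (snd_mem_pr₂ x.2)]
    rfl
  comp_mem := by
    rintro P Q φ ψ ⟨hP, φ₁, hφ₁, φ₂, hφ₂, hφ⟩ ⟨hQ, ψ₁, hψ₁, ψ₂, hψ₂, hψ⟩ h
    have hm₁ : ∀ x ∈ pr₁ P, ev φ₁ x ∈ pr₁ Q := by
      rintro _ ⟨x, hx, rfl⟩
      have := fst_mem_pr₁ (h ⟨x, hx⟩)
      rwa [hφ] at this
    have hm₂ : ∀ x ∈ pr₂ P, ev φ₂ x ∈ pr₂ Q := by
      rintro _ ⟨x, hx, rfl⟩
      have := snd_mem_pr₂ (h ⟨x, hx⟩)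
      rwa [hφ] at this
    obtain ⟨χ₁, hχ₁, hχ₁f⟩ := (mapTo_ev hφ₁).comp (mapTo_ev hψ₁) hm₁
    obtain ⟨χ₂, hχ₂, hχ₂f⟩ := (mapTo_ev hφ₂).comp (mapTo_ev hψ₂) hm₂
    refine ⟨hP, χ₁, hχ₁, χ₂, hχ₂, fun x => ?_⟩
    show ψ ⟨φ x, h x⟩ = _
    rw [hψ, ev_apply χ₁ (fst_mem_pr₁ x.2), ev_apply χ₂ (snd_mem_pr₂ x.2), hχ₁f, hχ₂f]
    show (ev ψ₁ (φ x).1, ev ψ₂ (φ x).2) = _
    rw [hφ x]
  inv_mem := by
    rintro P φ ⟨hP, φ₁, hφ₁, φ₂, hφ₂, hφ⟩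
    obtain ⟨σ₁, hσ₁, hσ₁f, -, -⟩ := (mapTo_ev hφ₁).exists_iso_inverse
    obtain ⟨σ₂, hσ₂, hσ₂f, -, -⟩ := (mapTo_ev hφ₂).exists_iso_inverse
    have h₁ : pr₁ φ.range ≤ img (ev φ₁) (pr₁ P) := by
      rintro _ ⟨_, ⟨x, rfl⟩, rfl⟩
      rw [hφ x]; exact mem_img_of_mem (fst_mem_pr₁ x.2)
    have h₂ : pr₂ φ.range ≤ img (ev φ₂) (pr₂ P) := by
      rintro _ ⟨_, ⟨x, rfl⟩, rfl⟩
      rw [hφ x]; exact mem_img_of_mem (snd_mem_pr₂ x.2)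
    obtain ⟨τ₁, hτ₁, hτ₁f⟩ := hσ₁.restrict h₁
    obtain ⟨τ₂, hτ₂, hτ₂f⟩ := hσ₂.restrict h₂
    refine ⟨pairHom τ₁ τ₂, ⟨le_prod_of_pr ((hσ₁.restrict h₁).le) ((hσ₂.restrict h₂).le),
      τ₁, hτ₁, τ₂, hτ₂, fun y => ?_⟩, fun x => ?_⟩
    · rw [ev_apply τ₁ (fst_mem_pr₁ y.2), ev_apply τ₂ (snd_mem_pr₂ y.2)]; rfl
    · show (τ₁ _, τ₂ _) = _
      rw [hτ₁f, hτ₂f]
      show (σ₁ (φ x).1, σ₂ (φ x).2) = _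
      rw [hφ x, hσ₁f _ (fst_mem_pr₁ x.2), hσ₂f _ (snd_mem_pr₂ x.2)]

theorem isProductSystem_prodSys (F₁ : FusionSystem S₁) (F₂ : FusionSystem S₂) :
    IsProductSystem F₁ F₂ (prodSys F₁ F₂) := by
  refine fun P φ => and_congr_right fun _ => ⟨?_, ?_⟩
  · rintro ⟨φ₁, hφ₁, φ₂, hφ₂, h⟩
    exact ⟨φ₁, hφ₁, φ₂, hφ₂, fun x h₁ h₂ => by rw [h x, ev_apply φ₁ h₁, ev_apply φ₂ h₂]⟩
  · rintro ⟨φ₁, hφ₁, φ₂, hφ₂, h⟩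
    exact ⟨φ₁, hφ₁, φ₂, hφ₂, fun x => by
      rw [ev_apply φ₁ (fst_mem_pr₁ x.2), ev_apply φ₂ (snd_mem_pr₂ x.2)]
      exact h x _ _⟩

theorem mapTo_prod_iff (hE : IsProductSystem F₁ F₂ E) {f : Ω₁ × Ω₂ → Ω₁ × Ω₂} :
    MapTo E P f ↔ ∃ f₁ f₂, MapTo F₁ (pr₁ P) f₁ ∧ MapTo F₂ (pr₂ P) f₂ ∧
      ∀ x ∈ P, f x = (f₁ x.1, f₂ x.2) := by
  constructor
  · rintro ⟨φ, hφ, hφf⟩
    obtain ⟨-, φ₁, hφ₁, φ₂, hφ₂, h⟩ := (hE P φ).mp hφ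
    refine ⟨ev φ₁, ev φ₂, mapTo_ev hφ₁, mapTo_ev hφ₂, fun x hx => ?_⟩
    rw [← hφf ⟨x, hx⟩, h ⟨x, hx⟩ (fst_mem_pr₁ hx) (snd_mem_pr₂ hx),
      ev_apply φ₁ (fst_mem_pr₁ hx), ev_apply φ₂ (snd_mem_pr₂ hx)]
  · rintro ⟨f₁, f₂, h₁, h₂, hf⟩
    obtain ⟨φ₁, hφ₁, hφ₁f⟩ := id h₁
    obtain ⟨φ₂, hφ₂, hφ₂f⟩ := id h₂
    refine ⟨pairHom φ₁ φ₂, (hE P _).mpr ⟨le_prod_of_pr h₁.le h₂.le, φ₁, hφ₁, φ₂, hφ₂,
      fun x _ _ => rfl⟩, fun x => ?_⟩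
    show (φ₁ _, φ₂ _) = _
    rw [hφ₁f, hφ₂f, hf x x.2]

theorem mapTo_pair (hE : IsProductSystem F₁ F₂ E) {f₁ : Ω₁ → Ω₁} {f₂ : Ω₂ → Ω₂}
    (h₁ : MapTo F₁ (pr₁ P) f₁) (h₂ : MapTo F₂ (pr₂ P) f₂) :
    MapTo E P (fun x => (f₁ x.1, f₂ x.2)) :=
  (mapTo_prod_iff hE).mpr ⟨f₁, f₂, h₁, h₂, fun _ _ => rfl⟩

theorem pr₁_img {f : Ω₁ × Ω₂ → Ω₁ × Ω₂} {f₁ : Ω₁ → Ω₁} (hf : MapTo E P f)
    (h₁ : MapTo F₁ (pr₁ P) f₁) (h : ∀ x ∈ P, (f x).1 = f₁ x.1) :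
    pr₁ (img f P) = img f₁ (pr₁ P) := by
  ext y
  rw [h₁.mem_img_iff le_rfl]
  constructor
  · rintro ⟨z, hz, rfl⟩
    obtain ⟨x, hx, rfl⟩ := (hf.mem_img_iff le_rfl).mp hz
    exact ⟨x.1, fst_mem_pr₁ hx, (h x hx).symm⟩
  · rintro ⟨_, ⟨x, hx, rfl⟩, rfl⟩
    exact ⟨f x, mem_img_of_mem hx, h x hx⟩

theorem pr₂_img {f : Ω₁ × Ω₂ → Ω₁ × Ω₂} {f₂ : Ω₂ → Ω₂} (hf : MapTo E P f)
    (h₂ : MapTo F₂ (pr₂ P) f₂) (h : ∀ x ∈ P, (f x).2 = f₂ x.2) :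
    pr₂ (img f P) = img f₂ (pr₂ P) := by
  ext y
  rw [h₂.mem_img_iff le_rfl]
  constructor
  · rintro ⟨z, hz, rfl⟩
    obtain ⟨x, hx, rfl⟩ := (hf.mem_img_iff le_rfl).mp hz
    exact ⟨x.2, snd_mem_pr₂ hx, (h x hx).symm⟩
  · rintro ⟨_, ⟨x, hx, rfl⟩, rfl⟩
    exact ⟨f x, mem_img_of_mem hx, h x hx⟩

theorem isReceptive_of_pr (hE : IsProductSystem F₁ F₂ E) (h₁ : F₁.IsReceptive (pr₁ Q))
    (h₂ : F₂.IsReceptive (pr₂ Q)) : E.IsReceptive Q := by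
  refine isReceptive_iff.mpr ⟨le_prod_of_pr h₁.1 h₂.1, fun P f hf hfQ => ?_⟩
  obtain ⟨f₁, f₂, hf₁, hf₂, hff⟩ := (mapTo_prod_iff hE).mp hf
  have e₁ := hfQ ▸ (pr₁_img hf hf₁ fun x hx => by rw [hff x hx])
  have e₂ := hfQ ▸ (pr₂_img hf hf₂ fun x hx => by rw [hff x hx])
  obtain ⟨g₁, hg₁, hg₁f⟩ := (isReceptive_iff.mp h₁).2 _ f₁ hf₁ e₁.symm
  obtain ⟨g₂, hg₂, hg₂f⟩ := (isReceptive_iff.mp h₂).2 _ f₂ hf₂ e₂.symm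
  have hsub : ∀ g ∈ extSub (S₁.prod S₂) hf,
      g.1 ∈ extSub S₁ hf₁ ∧ g.2 ∈ extSub S₂ hf₂ := by
    rintro g ⟨hgN, h, hh, hx⟩
    obtain ⟨hgS, hgP⟩ := mem_normalizerIn.mp hgN
    obtain ⟨hh₁, hh₂⟩ := Subgroup.mem_prod.mp hh
    obtain ⟨hgS₁, hgS₂⟩ := Subgroup.mem_prod.mp hgS
    refine ⟨⟨mem_normalizerIn.mpr ⟨hgS₁, fun y => ⟨?_, fun hy => ?_⟩⟩, h.1, hh₁, ?_⟩,
      ⟨mem_normalizerIn.mpr ⟨hgS₂, fun y => ⟨?_, fun hy => ?_⟩⟩, h.2, hh₂, ?_⟩⟩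
    · rintro ⟨x, hx', rfl⟩
      exact ⟨g * x * g⁻¹, (hgP x).mp hx', rfl⟩
    · obtain ⟨x, hx', he⟩ := hy
      refine ⟨g⁻¹ * x * g, (hgP _).mpr ((show g * (g⁻¹ * x * g) * g⁻¹ = x by group).symm ▸ hx'), ?_⟩
      have he' : x.1 = g.1 * y * g.1⁻¹ := he
      show g.1⁻¹ * x.1 * g.1 = y
      rw [he']; group
    · rintro _ ⟨x, hx', rfl⟩
      have h1 := congrArg Prod.fst (hx x hx')
      rw [hff _ ((hgP x).mp hx'), Prod.fst_mul, Prod.fst_mul, hff x hx'] at h1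
      exact h1
    · rintro ⟨x, hx', rfl⟩
      exact ⟨g * x * g⁻¹, (hgP x).mp hx', rfl⟩
    · obtain ⟨x, hx', he⟩ := hy
      refine ⟨g⁻¹ * x * g, (hgP _).mpr ((show g * (g⁻¹ * x * g) * g⁻¹ = x by group).symm ▸ hx'), ?_⟩
      have he' : x.2 = g.2 * y * g.2⁻¹ := he
      show g.2⁻¹ * x.2 * g.2 = y
      rw [he']; group
    · rintro _ ⟨x, hx', rfl⟩
      have h1 := congrArg Prod.snd (hx x hx')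
      rw [hff _ ((hgP x).mp hx'), Prod.snd_mul, Prod.snd_mul, hff x hx'] at h1
      exact h1
  refine ⟨fun x => (g₁ x.1, g₂ x.2), mapTo_pair hE (hg₁.restrict ?_) (hg₂.restrict ?_),
    fun x hx => ?_⟩
  · rintro _ ⟨g, hg, rfl⟩; exact (hsub g hg).1
  · rintro _ ⟨g, hg, rfl⟩; exact (hsub g hg).2
  · show (g₁ x.1, g₂ x.2) = f x
    rw [hff x hx, hg₁f _ (fst_mem_pr₁ hx), hg₂f _ (snd_mem_pr₂ hx)]

theorem isPGroup_prod (h₁ : IsPGroup p S₁) (h₂ : IsPGroup p S₂) : IsPGroup p (S₁.prod S₂) := by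
  intro x
  obtain ⟨a, ha⟩ := h₁ ⟨(x : Ω₁ × Ω₂).1, (Subgroup.mem_prod.mp x.2).1⟩
  obtain ⟨b, hb⟩ := h₂ ⟨(x : Ω₁ × Ω₂).2, (Subgroup.mem_prod.mp x.2).2⟩
  have ha' : (x : Ω₁ × Ω₂).1 ^ p ^ a = 1 := congrArg Subtype.val ha
  have hb' : (x : Ω₁ × Ω₂).2 ^ p ^ b = 1 := congrArg Subtype.val hb
  refine ⟨a + b, Subtype.ext ?_⟩
  rw [Subgroup.coe_pow, Subgroup.coe_one]
  refine Prod.ext ?_ ?_
  · rw [Prod.pow_fst, pow_add, pow_mul, ha', one_pow]; rfl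
  · rw [Prod.pow_snd, pow_add, mul_comm, pow_mul, hb', one_pow]; rfl

theorem finite_prod [Finite S₁] [Finite S₂] : Finite (S₁.prod S₂) :=
  Finite.of_equiv _ (S₁.prodEquiv S₂).toEquiv.symm

theorem isSaturated_prod [Finite S₁] [Finite S₂] [Fact p.Prime] (h₁ : IsPGroup p S₁)
    (h₂ : IsPGroup p S₂) (hF₁ : F₁.IsSaturated p) (hF₂ : F₂.IsSaturated p)
    (hE : IsProductSystem F₁ F₂ E) : E.IsSaturated p := by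
  intro P hP
  have := finite_prod (S₁ := S₁) (S₂ := S₂)
  have hS := isPGroup_prod h₁ h₂
  have hp₁ : pr₁ P ≤ S₁ := by rintro _ ⟨x, hx, rfl⟩; exact (Subgroup.mem_prod.mp (hP hx)).1
  have hp₂ : pr₂ P ≤ S₂ := by rintro _ ⟨x, hx, rfl⟩; exact (Subgroup.mem_prod.mp (hP hx)).2
  obtain ⟨A₁, hA₁, hA₁n⟩ := exists_isFullyNormalized (F := F₁) hp₁
  obtain ⟨A₂, hA₂, hA₂n⟩ := exists_isFullyNormalized (F := F₂) hp₂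
  obtain ⟨u₁, hu₁, rfl⟩ := isConj_iff.mp hA₁
  obtain ⟨u₂, hu₂, rfl⟩ := isConj_iff.mp hA₂
  have hu := mapTo_pair hE hu₁ hu₂
  have e₁ := pr₁_img hu hu₁ fun _ _ => rfl
  have e₂ := pr₂_img hu hu₂ fun _ _ => rfl
  set U := img (fun x : Ω₁ × Ω₂ => (u₁ x.1, u₂ x.2)) P with hU
  rw [← e₁] at hA₁n
  rw [← e₂] at hA₂n
  have hUS : U ≤ S₁.prod S₂ := hu.img_le
  have := finite_of_le hUS
  have := finite_of_le hA₁n.1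
  have := finite_of_le hA₂n.1
  have := finite_mulAut U
  have := finite_mulAut (pr₁ U)
  have := finite_mulAut (pr₂ U)
  have hcomp : ∀ α : E.autGroup U, ∃ a ∈ F₁.autGroup (pr₁ U), ∃ b ∈ F₂.autGroup (pr₂ U),
      ∀ x ∈ U, autFun (α : MulAut U) x = (autFun a x.1, autFun b x.2) := by
    intro α
    have hm := mapTo_of_mem_autGroup hUS α.2
    obtain ⟨f₁, f₂, hf₁, hf₂, hf⟩ := (mapTo_prod_iff hE).mp hm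
    have i₁ : img f₁ (pr₁ U) = pr₁ U := by
      rw [← pr₁_img hm hf₁ fun x hx => by rw [hf x hx], img_autFun]
    have i₂ : img f₂ (pr₂ U) = pr₂ U := by
      rw [← pr₂_img hm hf₂ fun x hx => by rw [hf x hx], img_autFun]
    refine ⟨autOf hf₁ i₁, autOf_mem hf₁ i₁, autOf hf₂ i₂, autOf_mem hf₂ i₂, fun x hx => ?_⟩
    rw [hf x hx, autFun_autOf hf₁ i₁ (fst_mem_pr₁ hx), autFun_autOf hf₂ i₂ (snd_mem_pr₂ hx)]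
  choose π₁ hπ₁ π₂ hπ₂ hπ using hcomp
  have hmul₁ : ∀ α β, π₁ (α * β) = π₁ α * π₁ β := fun α β => autFun_ext fun y hy => by
    obtain ⟨x, hx, rfl⟩ := hy
    have h1 := congrArg Prod.fst (hπ (α * β) x hx)
    rw [Subgroup.coe_mul, autFun_mul _ _ hx, hπ α _ (autFun_mem _ hx), hπ β x hx] at h1
    show autFun (π₁ (α * β)) x.1 = autFun (π₁ α * π₁ β) x.1
    rw [autFun_mul _ _ (fst_mem_pr₁ hx)]
    exact h1.symm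
  have hmul₂ : ∀ α β, π₂ (α * β) = π₂ α * π₂ β := fun α β => autFun_ext fun y hy => by
    obtain ⟨x, hx, rfl⟩ := hy
    have h1 := congrArg Prod.snd (hπ (α * β) x hx)
    rw [Subgroup.coe_mul, autFun_mul _ _ hx, hπ α _ (autFun_mem _ hx), hπ β x hx] at h1
    show autFun (π₂ (α * β)) x.2 = autFun (π₂ α * π₂ β) x.2
    rw [autFun_mul _ _ (snd_mem_pr₂ hx)]
    exact h1.symm
  obtain ⟨R⟩ := (inferInstance : Nonempty (Sylow p (E.autGroup U)))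
  set M₁ : E.autGroup U →* MulAut (pr₁ U) := MonoidHom.mk' π₁ hmul₁
  set M₂ : E.autGroup U →* MulAut (pr₂ U) := MonoidHom.mk' π₂ hmul₂
  obtain ⟨β₁, hβ₁, hβ₁c⟩ := exists_conj_le_autInducedBy
    (isFullyAutomized_of_isFullyNormalized h₁ hF₁ hA₁n)
    (A := (R : Subgroup (E.autGroup U)).map M₁)
    (by rintro _ ⟨α, -, rfl⟩; exact hπ₁ α) (R.isPGroup'.map _)
  obtain ⟨β₂, hβ₂, hβ₂c⟩ := exists_conj_le_autInducedBy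
    (isFullyAutomized_of_isFullyNormalized h₂ hF₂ hA₂n)
    (A := (R : Subgroup (E.autGroup U)).map M₂)
    (by rintro _ ⟨α, -, rfl⟩; exact hπ₂ α) (R.isPGroup'.map _)
  have hm₁ := mapTo_of_mem_autGroup hA₁n.1 hβ₁
  have hm₂ := mapTo_of_mem_autGroup hA₂n.1 hβ₂
  have hm := mapTo_pair hE hm₁ hm₂
  have f₁ := (pr₁_img hm hm₁ fun _ _ => rfl).trans (img_autFun β₁)
  have f₂ := (pr₂_img hm hm₂ fun _ _ => rfl).trans (img_autFun β₂)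
  set m := fun x : Ω₁ × Ω₂ => (autFun β₁ x.1, autFun β₂ x.2) with hmdef
  have hQS : img m U ≤ S₁.prod S₂ := hm.img_le
  refine ⟨img m U, isConj_trans hu.isConj hm.isConj, ?_, isReceptive_of_pr hE
    (f₁.symm ▸ isReceptive_of_isFullyNormalized h₁ hF₁ hA₁n)
    (f₂.symm ▸ isReceptive_of_isFullyNormalized h₂ hF₂ hA₂n)⟩
  refine (isFullyAutomized_iff hS).mpr ⟨hQS, fun hdvd => R.not_dvd_index (hdvd.trans ?_)⟩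
  set e := MulAut.congr (isoEquiv hm rfl) with he
  set Φ : E.autGroup U →* E.autGroup (img m U) :=
    ((e.toMonoidHom.comp (E.autGroup U).subtype).codRestrict _
      fun b => map_congr_autGroup hm rfl ▸ ⟨b, b.2, rfl⟩)
  have hΦs : Function.Surjective Φ := by
    rintro ⟨b, hb⟩
    rw [← map_congr_autGroup hm rfl] at hb
    obtain ⟨a, ha, rfl⟩ := hb
    exact ⟨⟨a, ha⟩, rfl⟩
  refine dvd_trans ?_ (Subgroup.index_map_dvd _ hΦs)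
  refine Subgroup.index_dvd_of_le ?_
  rintro _ ⟨α, hα, rfl⟩
  obtain ⟨k₁, hk₁, hk₁x⟩ := mem_autInducedBy_iff_cj.mp (hβ₁c _ ⟨α, hα, rfl⟩)
  obtain ⟨k₂, hk₂, hk₂x⟩ := mem_autInducedBy_iff_cj.mp (hβ₂c _ ⟨α, hα, rfl⟩)
  refine mem_autInducedBy_iff_cj.mpr ⟨(k₁, k₂), Subgroup.mem_prod.mpr ⟨hk₁, hk₂⟩, fun y hy => ?_⟩
  obtain ⟨x, hx, rfl⟩ := (hm.mem_img_iff le_rfl).mp hy
  show autFun (e (α : MulAut U)) (m x) = _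
  rw [he, autFun_congr hm rfl _ hx, hπ α x hx]
  have hx₁ := fst_mem_pr₁ (P := U) hx
  have hx₂ := snd_mem_pr₂ (P := U) hx
  have q₁ := hk₁x (autFun β₁ x.1) (autFun_mem β₁ hx₁)
  have q₂ := hk₂x (autFun β₂ x.2) (autFun_mem β₂ hx₂)
  rw [autFun_mul _ _ (autFun_mem β₁ hx₁), autFun_inv_autFun β₁ hx₁, autFun_mul _ _ hx₁] at q₁
  rw [autFun_mul _ _ (autFun_mem β₂ hx₂), autFun_inv_autFun β₂ hx₂, autFun_mul _ _ hx₂] at q₂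
  exact Prod.ext q₁ q₂

end Cfsg.Agent.Fusion
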