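import Cfsg.Prelude.Def_FusionFitting
import Cfsg.Agent.Lib.Fusion.ConstrainedComponents
import Cfsg.Agent.Lib.Fusion.Product

/-!
A saturated system is constrained if and only if its core carries its generalized Fitting system.
-/

set_option autoImplicit false

namespace Cfsg.Agent.Fusion

open Cfsg.FusionSystem (centralizerIn normalizerIn imageAlong preimageAlong)

universe u

variable {Ω : Type u} [Group Ω] {S T Q : Subgroup Ω} {F : FusionSystem S} {p : ℕ}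

/-- The inner system is a central product of itself and the trivial system. -/
theorem isCentralProductOf_inner_bot (Q : Subgroup Ω) :
    FusionSystem.IsCentralProductOf (innerFusionSystem Q) (innerFusionSystem (⊥ : Subgroup Ω))
      (innerFusionSystem Q) := by
  let θ : ↥(Q.prod (⊥ : Subgroup Ω)) →* Ω :=
    (MonoidHom.fst Ω Ω).comp (Q.prod (⊥ : Subgroup Ω)).subtype
  have hP := isProductSystem_prodSys (innerFusionSystem Q) (innerFusionSystem (⊥ : Subgroup Ω))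
  refine ⟨_, hP, ⊥, θ, bot_le, bot_inf_eq _, bot_inf_eq _, fun x hx => rfl, fun y hy => ?_, bot_le,
    fun s => ?_, ?_, fun P' φ' => ?_⟩
  · exact (Subgroup.mem_bot.mp (Subgroup.mem_prod.mp hy).2).symm
  · obtain ⟨⟨a, b⟩, hs⟩ := s
    obtain rfl : b = 1 := Subgroup.mem_bot.mp (Subgroup.mem_prod.mp hs).2
    rw [Subgroup.mem_bot, Prod.ext_iff]
    exact ⟨fun h => ⟨h, rfl⟩, fun h => h.1⟩
  · ext y
    refine ⟨?_, fun hy => ⟨⟨(y, 1), Subgroup.mem_prod.mpr ⟨hy, Subgroup.one_mem _⟩⟩, rfl⟩⟩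
    rintro ⟨s, rfl⟩
    exact (Subgroup.mem_prod.mp s.2).1
  have hth : ∀ {x : Ω × Ω}, x ∈ Q.prod (⊥ : Subgroup Ω) → th θ x = x.1 :=
    fun {x} hx => th_apply θ hx
  constructor
  · rintro ⟨hP', g, hg, hgx⟩
    have hg' : ((g, 1) : Ω × Ω) ∈ Q.prod (⊥ : Subgroup Ω) :=
      Subgroup.mem_prod.mpr ⟨hg, Subgroup.one_mem _⟩
    obtain ⟨φ, hφ, hφf⟩ :=
      mapTo_cj (F := prodSys (innerFusionSystem Q) (innerFusionSystem (⊥ : Subgroup Ω)))
        (preimageAlong_le (θ := θ) (P' := P')) hg'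
    have hm : ∀ x ∈ preimageAlong θ P', cj ((g, 1) : Ω × Ω) x ∈ Q.prod (⊥ : Subgroup Ω) :=
      fun x hx => Subgroup.mul_mem _ (Subgroup.mul_mem _ hg' (preimageAlong_le hx))
        (Subgroup.inv_mem _ hg')
    refine ⟨hP', φ, hφ, (inducedAlong_iff (f' := cj g) preimageAlong_le hm hφf
      fun y => hgx y).mpr fun x hx => ⟨(mem_preimageAlong.mp hx).2, ?_⟩⟩
    rw [hth (preimageAlong_le hx), hth (hm x hx)]
    rfl
  · rintro ⟨hP', φ, hφ, hind⟩
    obtain ⟨f₁, f₂, h₁, -, hf⟩ := (mapTo_prod_iff hP).mp (mapTo_ev hφ)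
    obtain ⟨-, g, hg, hgx⟩ := mapTo_inner_iff.mp h₁
    have h := (inducedAlong_iff (f' := ev φ') preimageAlong_le
      (fun z hz => (mapTo_ev hφ).mem hz) (fun z => (ev_coe φ z).symm)
      (fun y => (ev_coe φ' y).symm)).mp hind
    refine ⟨hP', g, hg, fun y => ?_⟩
    have hy : ((y : Ω), (1 : Ω)) ∈ Q.prod (⊥ : Subgroup Ω) :=
      Subgroup.mem_prod.mpr ⟨hP' y.2, Subgroup.one_mem _⟩
    have hx : ((y : Ω), (1 : Ω)) ∈ preimageAlong θ P' :=
      mem_preimageAlong.mpr ⟨hy, (hth hy).symm ▸ y.2⟩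
    have h1 := (h _ hx).2
    rw [hth hy, hth ((mapTo_ev hφ).mem hx), hf _ hx, ev_coe] at h1
    rw [h1]
    exact hgx _ (fst_mem_pr₁ hx)

theorem isConstrained_iff_isGeneralizedFittingOf [Finite S] [Fact p.Prime] (hS : IsPGroup p S)
    (hF : F.IsSaturated p) :
    F.IsConstrained p ↔ (innerFusionSystem F.core).IsGeneralizedFittingOf F p := by
  constructor
  · intro hc
    have hno := (isConstrained_iff_no_component hS hF).mp hc
    refine ⟨⊥, innerFusionSystem ⊥, ⟨isNormalIn_inner hS hF (isNormal_bot F),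
      fun U C hC => absurd ⟨U, C, hC⟩ hno, fun R D _ _ => isSubsystemOf_inner bot_le⟩,
      isCentralProductOf_inner_bot F.core⟩
  · rintro ⟨T, E, ⟨hEn, hEc, -⟩, D₀, -, Z, θ, -, -, -, hθ₁, hθ₂, hfac⟩
    refine (isConstrained_iff_no_component hS hF).mpr ?_
    rintro ⟨U, C, hC⟩
    have hTQ : T ≤ F.core := fun y hy => by
      have hy' : ((1 : Ω), y) ∈ F.core.prod T := Subgroup.mem_prod.mpr ⟨Subgroup.one_mem _, hy⟩
      rw [← hfac.2.2.1]
      exact ⟨⟨_, hy'⟩, hθ₂ y hy'⟩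
    have hab : ∀ a ∈ T, ∀ b ∈ T, a * b = b * a := fun a ha b hb => by
      have h1 : ((a, (1 : Ω))) ∈ F.core.prod T :=
        Subgroup.mem_prod.mpr ⟨hTQ ha, Subgroup.one_mem _⟩
      have h2 : (((1 : Ω), b)) ∈ F.core.prod T := Subgroup.mem_prod.mpr ⟨Subgroup.one_mem _, hb⟩
      have he : (⟨(a, 1), h1⟩ : ↥(F.core.prod T)) * ⟨(1, b), h2⟩ = ⟨(1, b), h2⟩ * ⟨(a, 1), h1⟩ :=
        Subtype.ext (by simp)
      have h3 := congrArg θ he
      rw [map_mul, map_mul, hθ₁ a h1, hθ₂ b h2] at h3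
      exact h3
    have hTS : T ≤ S := hEn.1.2.2.2.1.1
    obtain ⟨φ, hφ, -⟩ := mapTo_id C (le_refl U)
    have hUT : U ≤ T := (E.le_of_mem (hEc U C hC U hφ)).1
    haveI := finite_of_le (hUT.trans hTS)
    have hUp := hS.to_le (hUT.trans hTS)
    have hCs := hC.2.1
    have hUn : C.IsNormal U := isNormal_of_stronglyClosed hUp hCs
      (stronglyClosed_iff.mpr ⟨le_rfl, fun _ _ _ hf _ hx => hf.mem hx⟩) fun P hP x hx =>
        centralizerIn_le_of_isCentric hP.1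
          (mem_centralizerIn.mpr ⟨hx, fun y hy => hab y (hUT (hP.1.1 hy)) x (hUT hx)⟩)
    exact no_component_of_isConstrained hUp ⟨hCs, U, hUn, isCentric_top⟩
      ⟨U, C, .refl C p, hC.2⟩

end Cfsg.Agent.Fusion
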