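import Cfsg.Agent.Lib.Fusion.NormalizerSaturated
import Cfsg.Agent.Lib.Fusion.NormalizerModel
import Cfsg.Agent.Lib.Fusion.ModelExistence
import Cfsg.Agent.Lib.Fusion.ModelUniqueness
import Cfsg.Agent.Lib.SL2Dickson.Stability
import Cfsg.Agent.Lib.Transfer.Quadratic
import Cfsg.Prelude.Def_FusionReduction

/-!
Models of normalizer systems inside a `K`-normalizer system are subgroups of models of the
whole system; section-freeness is inherited.
-/

set_option autoImplicit false

namespace Cfsg.Agent.Fusion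

open Cfsg.FusionSystem (centralizerIn normalizerIn imageAlong preimageAlong)

universe u v

variable {Ω : Type u} [Group Ω] {S : Subgroup Ω} {F : FusionSystem S} {P Q R : Subgroup Ω}
variable {K : Subgroup (MulAut Q)} {p : ℕ}

theorem kNorm_id_le_normalizer [Finite Q] : kNorm S K id ≤ Subgroup.normalizer (Q : Set Ω) :=
  fun _ hx => mem_normalizer_of_forall fun _ hy => (mem_kNorm_id.mp hx).2.mem hy

/-- The map back of `hrec` carries `kNorm` into `kNorm`. -/
theorem map_kNorm {φ ψ : Ω → Ω} (hφ : MapTo F Q φ)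
    (hψ : MapTo F (kNorm S K φ ⊔ img φ Q) ψ) (hψK : InK K fun q => ψ (φ q)) {y : Ω}
    (hy : y ∈ kNorm S K φ) : ψ y ∈ kNorm S K id := by
  have hy' := (le_sup_left : _ ≤ kNorm S K φ ⊔ img φ Q) hy
  have hq'' : ∀ q ∈ Q, φ q ∈ kNorm S K φ ⊔ img φ Q := fun q hq =>
    Subgroup.mem_sup_right (mem_img_of_mem hq)
  obtain ⟨-, k, hk, hky⟩ := hy
  obtain ⟨χ, hχ, hχψ⟩ := hψK
  replace hχψ : ∀ x ∈ Q, ψ (φ x) = autFun χ x := hχψ
  refine mem_kNorm_id.mpr ⟨hψ.mem hy', χ * k * χ⁻¹,
    K.mul_mem (K.mul_mem hχ hk) (K.inv_mem hχ), fun q hq => ?_⟩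
  have hq' := autFun_mem χ⁻¹ hq
  have h1 := hψ.map_conj hy' (hq'' _ hq')
  rw [hky _ hq', hχψ _ (autFun_mem k hq'), hχψ _ hq', autFun_autFun_inv χ hq] at h1
  rw [cj_apply, ← h1, autFun_mul _ _ hq, autFun_mul _ _ (autFun_mem _ hq)]

variable [Finite S] [Fact p.Prime]

/-- A model of a normalizer system in a `K`-normalizer system embeds in one of `F`. -/
theorem exists_model_hom (hS : IsPGroup p S) (hF : F.IsSaturated p) (hQ : Q ≤ S)
    (hrec : ∀ f, MapTo F Q f →
      ∃ ψ, MapTo F (kNorm S K f ⊔ img f Q) ψ ∧ InK K fun q => ψ (f q))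
    {T : Subgroup Ω} (hT : T = kNorm S K id) (hcase : Q ≤ T ∨ K = ⊥)
    {E : FusionSystem T}
    (hE : ∀ P f, MapTo E P f ↔ P ≤ T ∧ (∀ x ∈ P, f x ∈ T) ∧
      ∃ g, MapTo F (P ⊔ Q) g ∧ (∀ x ∈ P, g x = f x) ∧ InK K g)
    (hRn : E.IsFullyNormalized R) (hRc : E.IsCentric R)
    {N : FusionSystem (normalizerIn T R)} (hN : E.IsNormalizerSystem R N)
    {L₁ : Type u} [Group L₁] {ι₁ : ↥(normalizerIn T R) →* L₁} (h₁ : N.IsModel p L₁ ι₁) :
    ∃ (T' : Subgroup Ω), F.IsFullyNormalized T' ∧ F.IsCentric T' ∧ Nat.card R ≤ Nat.card T' ∧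
      ∃ (N' : FusionSystem (normalizerIn S T')), F.IsNormalizerSystem T' N' ∧
        ∃ (L : Type u) (_ : Group L) (ι : ↥(normalizerIn S T') →* L), N'.IsModel p L ι ∧
          ∃ e : L₁ →* L, Function.Injective e := by
  classical
  have hTS : T ≤ S := hT ▸ fun x hx => hx.1
  have hRT : R ≤ T := hRn.1
  have hRS : R ≤ S := hRT.trans hTS
  have := finite_of_le hQ
  have := finite_of_le hRS
  set A := R ⊔ Q with hAdef
  have hAS : A ≤ S := sup_le hRS hQ
  have := finite_of_le hAS
  have := finite_of_le hTS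
  have hTnQ : T ≤ Subgroup.normalizer (Q : Set Ω) := hT ▸ kNorm_id_le_normalizer
  -- `A` is centric in `F`
  have hkN : ∀ (f : Ω → Ω), MapTo F A f → ∀ x ∈ R, f x ∈ kNorm S K f := by
    intro f hf x hx
    obtain ⟨-, k, hk, hkx⟩ := (hT ▸ hRT hx : x ∈ kNorm S K id)
    have hxA : x ∈ A := Subgroup.mem_sup_left hx
    refine ⟨hf.mem hxA, k, hk, fun q hq => ?_⟩
    rw [← hf.map_conj hxA (Subgroup.mem_sup_right hq), show x * q * x⁻¹ = autFun k q from hkx q hq]
  have hback : ∀ f, MapTo F A f → ∃ ψ, MapTo F (kNorm S K f ⊔ img f Q) ψ ∧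
      (∀ y ∈ kNorm S K f, ψ y ∈ T) ∧ MapTo E R (fun x => ψ (f x)) := by
    intro f hf
    have hfQ := hf.restrict (le_sup_right : Q ≤ A)
    obtain ⟨ψ, hψ, hψK⟩ := hrec f hfQ
    have hval : ∀ y ∈ kNorm S K f, ψ y ∈ T := fun y hy => hT ▸ map_kNorm hfQ hψ hψK hy
    have hdom : img f A ≤ kNorm S K f ⊔ img f Q := by
      rw [hAdef, hf.img_sup le_sup_left le_sup_right]
      exact sup_le_sup_right (img_le_of_forall (hkN f hf)) _
    exact ⟨ψ, hψ, hval, (hE R _).mpr ⟨hRT, fun x hx => hval _ (hkN f hf x hx), fun x => ψ (f x),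
      hf.comp hψ fun x hx => hdom (mem_img_of_mem hx), fun _ _ => rfl, hψK⟩⟩
  have hAc : F.IsCentric A := by
    refine ⟨hAS, fun B hB => ?_⟩
    obtain ⟨f, hf, rfl⟩ := isConj_iff.mp hB
    obtain ⟨ψ, hψ, hval, hh⟩ := hback f hf
    intro y hy
    obtain ⟨hyS, hyc⟩ := mem_centralizerIn.mp hy
    have hyk : y ∈ kNorm S K f := ⟨hyS, 1, K.one_mem, fun q hq => by
      rw [autFun_one hq, ← hyc _ (mem_img_of_mem (Subgroup.mem_sup_right hq)),
        mul_inv_cancel_right]⟩
    have h1 : ψ y ∈ centralizerIn T (img (fun x => ψ (f x)) R) := by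
      refine mem_centralizerIn.mpr ⟨hval y hyk, fun z hz => ?_⟩
      obtain ⟨x, hx, rfl⟩ := (hh.mem_img_iff le_rfl).mp hz
      have hx' := Subgroup.mem_sup_left (T := img f Q) (hkN f hf x hx)
      have hy' := Subgroup.mem_sup_left (T := img f Q) hyk
      show ψ (f x) * ψ y = ψ y * ψ (f x)
      rw [← hψ.map_mul hx' hy', ← hψ.map_mul hy' hx',
        hyc _ (mem_img_of_mem (Subgroup.mem_sup_left hx))]
    obtain ⟨x, hx, hxy⟩ := (hh.mem_img_iff le_rfl).mp (hRc.2 _ hh.isConj h1)
    have := hψ.inj (Subgroup.mem_sup_left (hkN f hf x hx)) (Subgroup.mem_sup_left hyk) hxy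
    exact this ▸ mem_img_of_mem (Subgroup.mem_sup_left hx)
  -- a fully normalized conjugate
  obtain ⟨T', hAT', hT'n⟩ := exists_isFullyNormalized (F := F) hAS
  obtain ⟨g, hg, hgA⟩ := exists_map_normalizerIn hS
    (isFullyAutomized_of_isFullyNormalized hS hF hT'n)
    (isReceptive_of_isFullyNormalized hS hF hT'n) hAT'
  set D := normalizerIn S A with hD
  have := finite_of_le (normalizerIn_le (S := S) (P := A))
  have hAD : A ≤ D := le_normalizerIn hAS
  have hT'c : F.IsCentric T' := ⟨hT'n.1, fun B hB => hAc.2 B (isConj_trans hAT' hB)⟩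
  have hN' := isNormalizerSystem_nSys F hT'n.1
  have := finite_of_le (normalizerIn_le (S := S) (P := T'))
  obtain ⟨L, _, ι, hmod⟩ := exists_model (hS.to_le normalizerIn_le)
    (isConstrained_normalizerSystem hS hF hT'n hT'c hN')
  have := hmod.1
  refine ⟨T', hT'n, hT'c,
    isConj_card hAT' ▸ Subgroup.card_le_of_le (le_sup_left : R ≤ A),
    _, hN', L, inferInstance, ι, hmod, ?_⟩
  have hgD : ∀ y ∈ D, g y ∈ normalizerIn S T' := by
    intro y hy
    refine mem_normalizerIn_of_forall hT'n.1 (hg.mem hy) fun z hz => ?_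
    rw [← hgA] at hz ⊢
    obtain ⟨x, hx, rfl⟩ := ((hg.restrict hAD).mem_img_iff le_rfl).mp hz
    rw [← hg.map_conj hy (hAD hx)]
    exact mem_img_of_mem (conj_mem_of_mem_normalizerIn hy hx)
  let τ : Ω → L := fun y => th ι (g y)
  have hτmul : ∀ x ∈ D, ∀ y ∈ D, τ (x * y) = τ x * τ y := fun x hx y hy => by
    show th ι (g (x * y)) = _
    rw [hg.map_mul hx hy, th_mul ι (hgD x hx) (hgD y hy)]
  have hτinj : ∀ x ∈ D, ∀ y ∈ D, τ x = τ y → x = y := fun x hx y hy h =>
    hg.inj hx hy (th_inj hmod.2.1.1 (hgD x hx) (hgD y hy) h)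
  have hτ1 : τ 1 = 1 := by show th ι (g 1) = 1; rw [hg.map_one, th_one]
  have hτinv : ∀ x ∈ D, τ x⁻¹ = (τ x)⁻¹ := fun x hx => by
    refine eq_inv_of_mul_eq_one_left ?_
    rw [← hτmul _ (D.inv_mem hx) _ hx, inv_mul_cancel, hτ1]
  have hτconj : ∀ x ∈ D, ∀ y ∈ D, τ (x * y * x⁻¹) = τ x * τ y * (τ x)⁻¹ := fun x hx y hy => by
    rw [hτmul _ (D.mul_mem hx hy) _ (D.inv_mem hx), hτmul _ hx _ hy, hτinv _ hx]
  let U := normalizerIn T R
  have hUD : U ≤ D := fun y hy => mem_normalizerIn_of_forall hAS (hTS (normalizerIn_le hy))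
    fun z hz => by
      have hle : A ≤ A.comap (MulAut.conj y).toMonoidHom := sup_le
        (fun x hx => Subgroup.mem_sup_left (conj_mem_of_mem_normalizerIn hy hx))
        (fun x hx => Subgroup.mem_sup_right
          ((Subgroup.mem_normalizer_iff.mp (hTnQ (normalizerIn_le hy)) x).mp hx))
      exact hle hz
  have hRU : R ≤ U := le_normalizerIn hRT
  have hRD : R ≤ D := hRU.trans hUD
  have hQD : Q ≤ D := (le_sup_right : Q ≤ A).trans hAD
  -- the subgroup of `L`
  let M : Subgroup L :=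
    { carrier := {l | (∀ x ∈ R, ∃ x' ∈ R, τ x' = l * τ x * l⁻¹) ∧
        ∃ k ∈ K, ∀ q ∈ Q, τ (autFun k q) = l * τ q * l⁻¹}
      one_mem' := ⟨fun x hx => ⟨x, hx, by simp⟩, 1, K.one_mem,
        fun q hq => by rw [autFun_one hq]; simp⟩
      mul_mem' := by
        rintro a b ⟨ha, k, hk, hka⟩ ⟨hb, l, hl, hlb⟩
        refine ⟨fun x hx => ?_, k * l, K.mul_mem hk hl, fun q hq => ?_⟩
        · obtain ⟨x', hx', e1⟩ := hb x hx
          obtain ⟨x'', hx'', e2⟩ := ha x' hx'
          refine ⟨x'', hx'', ?_⟩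
          rw [e2, e1]; group
        · rw [autFun_mul _ _ hq, hka _ (autFun_mem l hq), hlb q hq]; group
      inv_mem' := by
        rintro a ⟨ha, k, hk, hka⟩
        refine ⟨fun x hx => ?_, k⁻¹, K.inv_mem hk, fun q hq => ?_⟩
        · choose x' hx' e using fun x : R => ha x x.2
          have hinj : Function.Injective fun x : R => (⟨x' x, hx' x⟩ : R) := by
            intro y z hyz
            have h1 : τ (x' y) = τ (x' z) := congrArg (fun w : R => τ w) hyz
            rw [e, e] at h1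
            exact Subtype.ext (hτinj _ (hRD y.2) _ (hRD z.2)
              (mul_left_cancel (mul_right_cancel h1)))
          obtain ⟨y, hy⟩ := (Finite.injective_iff_surjective.mp hinj) ⟨x, hx⟩
          refine ⟨y, y.2, ?_⟩
          rw [← show x' y = x from congrArg Subtype.val hy, e]
          group
        · have h1 := hka _ (autFun_mem k⁻¹ hq)
          rw [autFun_autFun_inv k hq] at h1
          rw [h1]; group }
  have hMA : ∀ l ∈ M, ∀ x ∈ A, ∃ x' ∈ A, τ x' = l * τ x * l⁻¹ := by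
    intro l hl
    let C : Subgroup Ω :=
      { carrier := {x | x ∈ A ∧ ∃ x' ∈ A, τ x' = l * τ x * l⁻¹}
        one_mem' := ⟨A.one_mem, 1, A.one_mem, by rw [hτ1]; simp⟩
        mul_mem' := by
          rintro a b ⟨ha, a', ha', e1⟩ ⟨hb, b', hb', e2⟩
          refine ⟨A.mul_mem ha hb, a' * b', A.mul_mem ha' hb', ?_⟩
          rw [hτmul _ (hAD ha') _ (hAD hb'), e1, e2, hτmul _ (hAD ha) _ (hAD hb)]; group
        inv_mem' := by
          rintro a ⟨ha, a', ha', e1⟩
          refine ⟨A.inv_mem ha, a'⁻¹, A.inv_mem ha', ?_⟩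
          rw [hτinv _ (hAD ha'), e1, hτinv _ (hAD ha)]; group }
    have hle : A ≤ C := sup_le
      (fun x hx => ⟨Subgroup.mem_sup_left hx, let ⟨x', hx', e⟩ := hl.1 x hx
        ⟨x', Subgroup.mem_sup_left hx', e⟩⟩)
      (fun q hq => ⟨Subgroup.mem_sup_right hq, let ⟨k, _, hkq⟩ := hl.2
        ⟨autFun k q, Subgroup.mem_sup_right (autFun_mem k hq), hkq q hq⟩⟩)
    exact fun x hx => (hle hx).2
  have hUM : ∀ y ∈ U, τ y ∈ M := by
    intro y hy
    refine ⟨fun x hx => ⟨y * x * y⁻¹, conj_mem_of_mem_normalizerIn hy hx,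
      hτconj y (hUD hy) x (hRD hx)⟩, ?_⟩
    obtain ⟨-, k, hk, hky⟩ := (hT ▸ normalizerIn_le hy : y ∈ kNorm S K id)
    refine ⟨k, hk, fun q hq => ?_⟩
    rw [← show y * q * y⁻¹ = autFun k q from hky q hq]
    exact hτconj y (hUD hy) q (hQD hq)
  let j : U →* M := MonoidHom.mk' (fun y => ⟨τ y, hUM y y.2⟩)
    fun a b => Subtype.ext (hτmul _ (hUD a.2) _ (hUD b.2))
  have hjth : ∀ y (hy : y ∈ U), ((j ⟨y, hy⟩ : M) : L) = τ y := fun _ _ => rfl
  have hjinj : Function.Injective j := fun a b h =>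
    Subtype.ext (hτinj _ (hUD a.2) _ (hUD b.2) (congrArg Subtype.val h))
  -- `τ` on `A`
  have hτA : ∀ {t : Ω}, t ∈ T' → ∃ x ∈ A, τ x = th ι t := by
    intro t ht
    rw [← hgA] at ht
    obtain ⟨x, hx, rfl⟩ := ((hg.restrict hAD).mem_img_iff le_rfl).mp ht
    exact ⟨x, hx, rfl⟩
  have hAT : ∀ x ∈ A, g x ∈ T' := fun x hx => hgA ▸ mem_img_of_mem hx
  have hUp : IsPGroup p U := hS.to_le ((normalizerIn_le).trans hTS)
  obtain ⟨gi, hgi, hgig, hggi, -⟩ := hg.exists_iso_inverse
  have hgidom : ∀ {y : Ω}, y ∈ img g D → ∃ x ∈ D, g x = y := fun hy =>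
    (hg.mem_img_iff le_rfl).mp hy
  -- `M` is a model
  have hmodel : N.IsModel p M j := by
    refine ⟨inferInstance, ⟨hjinj, fun P hP φ hφ => ?_⟩, ?_, ?_⟩
    · constructor
      · intro hmem
        obtain ⟨-, -, e, he, heφ, heR⟩ := (mapTo_nSys_iff hN).mp (mapTo_ev hmem)
        obtain ⟨-, -, e', he', hee, hK⟩ := (hE _ _).mp he
        set D' := P ⊔ R ⊔ Q with hD'
        have hD'D : D' ≤ D := sup_le (sup_le (hP.trans hUD) hRD) hQD
        have hAD' : A ≤ D' := sup_le_sup_right le_sup_right _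
        have hR' : img e' R = R := by rw [img_congr fun x hx => hee x (Subgroup.mem_sup_right hx), heR]
        have hPD' : P ≤ D' := le_sup_left.trans le_sup_left
        have hP' : img e' P ≤ D := img_le_of_forall fun x hx => hUD (by
          rw [hee x (Subgroup.mem_sup_left hx), heφ x hx, ev_apply φ hx]; exact hφ _)
        have himgD : ∀ x ∈ D', e' x ∈ D := by
          intro x hx
          have : img e' D' ≤ D := by
            rw [hD', he'.img_sup le_sup_left le_sup_right,
              (he'.restrict le_sup_left).img_sup le_sup_left le_sup_right, hR', hK.img_eq]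
            exact sup_le (sup_le hP' hRD) hQD
          exact this (mem_img_of_mem hx)
        have hA' : ∀ x ∈ A, e' x ∈ A := by
          intro x hx
          have : img e' A ≤ A := by
            rw [hAdef, (he'.restrict hAD').img_sup le_sup_left le_sup_right, hR', hK.img_eq]
          exact this (mem_img_of_mem hx)
        -- the map in the normalizer system
        have hgi' : MapTo F (img g D') gi := hgi.restrict (img_mono hD'D)
        have hm : ∀ y ∈ img g D', gi y ∈ D' := fun y hy => by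
          obtain ⟨x, hx, rfl⟩ := ((hg.restrict hD'D).mem_img_iff le_rfl).mp hy
          rw [hgig x (hD'D hx)]; exact hx
        have hc : MapTo F (img g D') (fun y => g (e' (gi y))) :=
          (hgi'.comp he' hm).comp hg fun y hy => himgD _ (hm y hy)
        have hT'D : T' ≤ img g D' := hgA ▸ img_mono hAD'
        have := finite_of_le hT'n.1
        have hc' : MapTo (nSys F hT'n.1) (img g D') (fun y => g (e' (gi y))) := by
          refine (mapTo_nSys_iff hN').mpr ⟨img_le_of_forall fun x hx => hgD x (hD'D hx),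
            fun y hy => hgD _ (himgD _ (hm y hy)), _, by rwa [sup_eq_left.mpr hT'D],
            fun _ _ => rfl, img_eq_self_of_forall (hc.restrict hT'D) fun y hy => ?_⟩
          obtain ⟨x, hx, rfl⟩ := ((hg.restrict hAD).mem_img_iff le_rfl).mp (hgA ▸ hy : y ∈ img g A)
          rw [hgig x (hAD hx)]
          exact hAT _ (hA' x hx)
        obtain ⟨l, hl⟩ := IsRealizedBy.exists_conj hmod.2.1 hc'
        have hl' : ∀ x ∈ D', τ (e' x) = l * τ x * l⁻¹ := by
          intro x hx
          have h := hl (g x) (mem_img_of_mem hx)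
          rwa [hgig x (hD'D hx)] at h
        have hlM : l ∈ M := by
          refine ⟨fun x hx => ⟨e' x, ?_, hl' x (hAD' (Subgroup.mem_sup_left hx))⟩, ?_⟩
          · rw [← hR']; exact mem_img_of_mem hx
          · obtain ⟨k, hk, hke⟩ := hK
            exact ⟨k, hk, fun q hq => hke q hq ▸ hl' q (Subgroup.mem_sup_right hq)⟩
        refine ⟨⟨l, hlM⟩, fun x => Subtype.ext ?_⟩
        show τ (φ x) = l * τ x * l⁻¹
        rw [← hl' x (hPD' x.2), hee _ (Subgroup.mem_sup_left x.2), heφ _ x.2, ev_coe]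
      · rintro ⟨⟨l, hlM⟩, hl⟩
        have hlP : ∀ x : P, τ (φ x) = l * τ x * l⁻¹ := fun x => congrArg Subtype.val (hl x)
        set D' := P ⊔ R ⊔ Q with hD'
        have hD'D : D' ≤ D := sup_le (sup_le (hP.trans hUD) hRD) hQD
        have hAD' : A ≤ D' := sup_le_sup_right le_sup_right _
        let C : Subgroup Ω :=
          { carrier := {x | x ∈ D ∧ ∃ x' ∈ D, τ x' = l * τ x * l⁻¹}
            one_mem' := ⟨D.one_mem, 1, D.one_mem, by rw [hτ1]; simp⟩
            mul_mem' := by
              rintro a b ⟨ha, a', ha', e1⟩ ⟨hb, b', hb', e2⟩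
              refine ⟨D.mul_mem ha hb, a' * b', D.mul_mem ha' hb', ?_⟩
              rw [hτmul _ ha' _ hb', e1, e2, hτmul _ ha _ hb]; group
            inv_mem' := by
              rintro a ⟨ha, a', ha', e1⟩
              refine ⟨D.inv_mem ha, a'⁻¹, D.inv_mem ha', ?_⟩
              rw [hτinv _ ha', e1, hτinv _ ha]; group }
        have hD'C : D' ≤ C := sup_le (sup_le
          (fun x hx => ⟨hUD (hP hx), φ ⟨x, hx⟩, hUD (hφ _), hlP ⟨x, hx⟩⟩)
          (fun x hx => ⟨hRD hx, let ⟨x', hx', e⟩ := hlM.1 x hx; ⟨x', hRD hx', e⟩⟩))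
          (fun q hq => ⟨hQD hq, let ⟨k, _, hkq⟩ := hlM.2
            ⟨autFun k q, hQD (autFun_mem k hq), hkq q hq⟩⟩)
        obtain ⟨f', hf', hf'l⟩ := IsRealizedBy.exists_mapTo hmod.2.1
          (P := img g D') (img_le_of_forall fun x hx => hgD x (hD'D hx)) l fun y hy => by
            obtain ⟨x, hx, rfl⟩ := ((hg.restrict hD'D).mem_img_iff le_rfl).mp hy
            obtain ⟨x', hx', e⟩ := (hD'C hx).2
            exact e ▸ th_mem_range ι _
        obtain ⟨-, hf'N, k', hk', hk'f, -⟩ := (mapTo_nSys_iff hN').mp hf'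
        have hf'D : ∀ x ∈ D', f' (g x) ∈ img g D := by
          intro x hx
          obtain ⟨x', hx', e⟩ := (hD'C hx).2
          have := th_inj hmod.2.1.1 (hf'N _ (mem_img_of_mem hx)) (hgD x' hx')
            ((hf'l _ (mem_img_of_mem hx)).trans e.symm)
          exact this ▸ mem_img_of_mem hx'
        have he' : MapTo F D' (fun x => gi (k' (g x))) := by
          refine ((hg.restrict hD'D).comp (hk'.restrict le_sup_left) fun x hx =>
            mem_img_of_mem hx).comp hgi fun x hx => ?_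
          show k' (g x) ∈ img g D
          rw [hk'f _ (mem_img_of_mem hx)]; exact hf'D x hx
        set e' := fun x => gi (k' (g x)) with he'def
        have he'D : ∀ x ∈ D', e' x ∈ D ∧ τ (e' x) = l * τ x * l⁻¹ := by
          intro x hx
          obtain ⟨z, hz, hzx⟩ := hgidom (hf'D x hx)
          have h1 : e' x = z := by
            show gi (k' (g x)) = z
            rw [hk'f _ (mem_img_of_mem hx), ← hzx, hgig z hz]
          refine ⟨h1 ▸ hz, ?_⟩
          rw [h1]
          show th ι (g z) = _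
          rw [hzx]
          exact hf'l _ (mem_img_of_mem hx)
        have heR : ∀ x ∈ R, e' x ∈ R := fun x hx => by
          obtain ⟨x', hx', e⟩ := hlM.1 x hx
          obtain ⟨h1, h2⟩ := he'D x (hAD' (Subgroup.mem_sup_left hx))
          rw [hτinj _ h1 _ (hRD hx') (h2.trans e.symm)]; exact hx'
        have heφ : ∀ x : P, e' x = φ x := fun x => by
          obtain ⟨h1, h2⟩ := he'D x ((le_sup_left.trans le_sup_left : P ≤ D') x.2)
          exact hτinj _ h1 _ (hUD (hφ x)) (h2.trans (hlP x).symm)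
        have heK : InK K e' := by
          obtain ⟨k, hk, hkq⟩ := hlM.2
          refine ⟨k, hk, fun q hq => ?_⟩
          obtain ⟨h1, h2⟩ := he'D q (Subgroup.mem_sup_right hq)
          exact hτinj _ h1 _ (hQD (autFun_mem k hq)) (h2.trans (hkq q hq).symm)
        have hval : ∀ x ∈ P ⊔ R, e' x ∈ T := by
          intro x hx
          have : img e' (P ⊔ R) ≤ T := by
            rw [(he'.restrict le_sup_left).img_sup le_sup_left le_sup_right]
            exact sup_le (img_le_of_forall fun y hy => normalizerIn_le (heφ ⟨y, hy⟩ ▸ hφ _))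
              (img_le_of_forall fun y hy => hRT (heR y hy))
          exact this (mem_img_of_mem hx)
        have heE : MapTo E (P ⊔ R) e' := (hE _ _).mpr ⟨sup_le (hP.trans normalizerIn_le) hRT,
          hval, e', he', fun _ _ => rfl, heK⟩
        refine ((mapTo_nSys_iff hN).mpr ⟨hP, fun x hx => (ev_apply φ hx).symm ▸ hφ _, e', heE,
          fun x hx => (heφ ⟨x, hx⟩).trans (ev_apply φ hx).symm, ?_⟩).hom_mem fun x =>
            (ev_coe φ x).symm
        exact img_eq_self_of_forall (heE.restrict le_sup_right) heR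
    · -- Sylow
      have hrp : IsPGroup p j.range := hUp.of_surjective j.rangeRestrict j.rangeRestrict_surjective
      obtain ⟨V, hV⟩ := hrp.exists_le_sylow
      refine ⟨V, le_antisymm ?_ hV⟩
      have hcardj : Nat.card j.range = Nat.card U :=
        (Nat.card_congr (MonoidHom.ofInjective hjinj).toEquiv).symm
      refine (Subgroup.eq_of_le_of_card_ge hV ?_).ge
      rw [hcardj]
      -- conjugate into the Sylow subgroup
      set VL := (V : Subgroup M).map M.subtype with hVL
      have hT'norm := isNormal_normalizerSystem hT'n.1 hN'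
      set I := imageAlong ι T' with hI
      have hIn : I.Normal := IsModel.normal_imageAlong hmod hT'norm
      have hT'N : T' ≤ normalizerIn S T' := le_normalizerIn hT'n.1
      have hIp : IsPGroup p I := IsPGroup.map
        (((hS.to_le hT'n.1).of_equiv (Subgroup.subgroupOfEquivOfLe hT'N).symm)) ι
      have hW : IsPGroup p (VL ⊔ I : Subgroup L) := (V.2.map _).to_sup_of_normal_right hIp
      obtain ⟨W, hWle⟩ := hW.exists_le_sylow
      obtain ⟨TL, hTL⟩ := hmod.2.2.1
      obtain ⟨a, ha⟩ := MulAction.exists_smul_eq L W TL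
      have haI : ∀ x ∈ A, ∃ t ∈ T', th ι t = a * τ x * a⁻¹ := by
        intro x hx
        have h1 : τ x ∈ I := th_mem_imageAlong hT'N (hAT x hx)
        exact (mem_imageAlong hT'N).mp (hIn.conj_mem _ h1 a)
      obtain ⟨f₀, hf₀, hf₀a⟩ := IsRealizedBy.exists_mapTo hmod.2.1 hT'N a fun y hy => by
        obtain ⟨x, hx, hxy⟩ := hτA hy
        obtain ⟨t, -, e⟩ := haI x hx
        rw [← hxy, ← e]; exact th_mem_range ι _
      obtain ⟨-, hf₀N, k₀, hk₀, hk₀f, -⟩ := (mapTo_nSys_iff hN').mp hf₀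
      have hf₁ : MapTo F A (fun x => k₀ (g x)) :=
        (hg.restrict hAD).comp (hk₀.restrict le_sup_left) hAT
      set f₁ := fun x => k₀ (g x) with hf₁def
      have hf₁eq : ∀ x ∈ A, th ι (f₁ x) = a * τ x * a⁻¹ ∧ f₁ x ∈ normalizerIn S T' := by
        intro x hx
        have h1 : f₁ x = f₀ (g x) := hk₀f _ (hAT x hx)
        rw [h1]
        exact ⟨hf₀a _ (hAT x hx), hf₀N _ (hAT x hx)⟩
      obtain ⟨ψ, hψ, hval, hh⟩ := hback f₁ hf₁
      have hR₂ := hRn.2 _ hh.isConj
      have hVs : ∀ v : V, ∃ s : Ω, s ∈ kNorm S K f₁ ∧ s ∈ normalizerIn S T' ∧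
          th ι s = a * ((v : M) : L) * a⁻¹ ∧
          ψ s ∈ normalizerIn T (img (fun x => ψ (f₁ x)) R) := by
        intro v
        have h1 : a * ((v : M) : L) * a⁻¹ ∈ ι.range := by
          rw [← hTL, ← ha, Sylow.coe_subgroup_smul]
          exact Subgroup.smul_mem_pointwise_smul _ _ _
            (hWle (Subgroup.mem_sup_left ⟨_, v.2, rfl⟩))
        obtain ⟨s, hs, hsv⟩ := exists_th_eq h1
        have hvM := (v : M).2
        have hsk : s ∈ kNorm S K f₁ := by
          obtain ⟨k, hk, hkq⟩ := hvM.2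
          refine ⟨normalizerIn_le hs, k, hk, fun q hq => ?_⟩
          obtain ⟨e1, m1⟩ := hf₁eq q (Subgroup.mem_sup_right hq)
          obtain ⟨e2, m2⟩ := hf₁eq _ (Subgroup.mem_sup_right (autFun_mem k hq))
          refine th_inj hmod.2.1.1 (mul_mem (mul_mem hs m1) (inv_mem hs)) m2 ?_
          rw [th_conj ι hs m1, e1, e2, hkq q hq, hsv]
          group
        refine ⟨s, hsk, hs, hsv, ?_⟩
        have := finite_of_le ((hh.img_le).trans hTS)
        refine mem_normalizerIn_of_forall hh.img_le (hval s hsk) fun z hz => ?_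
        obtain ⟨x, hx, rfl⟩ := (hh.mem_img_iff le_rfl).mp hz
        obtain ⟨x', hx', ex⟩ := hvM.1 x hx
        obtain ⟨e1, m1⟩ := hf₁eq x (Subgroup.mem_sup_left hx)
        obtain ⟨e2, m2⟩ := hf₁eq x' (Subgroup.mem_sup_left hx')
        have h3 : s * f₁ x * s⁻¹ = f₁ x' := by
          refine th_inj hmod.2.1.1 (mul_mem (mul_mem hs m1) (inv_mem hs)) m2 ?_
          rw [th_conj ι hs m1, e1, e2, ex, hsv]
          group
        show ψ s * ψ (f₁ x) * (ψ s)⁻¹ ∈ _
        rw [← hψ.map_conj (Subgroup.mem_sup_left hsk)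
          (Subgroup.mem_sup_left (hkN f₁ hf₁ x hx)), h3]
        exact mem_img_of_mem hx'
      choose s hs1 hs2 hs3 hs4 using hVs
      refine le_trans ?_ hR₂
      have := finite_of_le ((normalizerIn_le (S := T) (P := img (fun x => ψ (f₁ x)) R)).trans hTS)
      refine Nat.card_le_card_of_injective (fun v : V => (⟨ψ (s v), hs4 v⟩ :
        normalizerIn T (img (fun x => ψ (f₁ x)) R))) fun v w hvw => ?_
      have h1 := hψ.inj (Subgroup.mem_sup_left (hs1 v)) (Subgroup.mem_sup_left (hs1 w))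
        (congrArg Subtype.val hvw)
      have h2 := congrArg (th ι) h1
      rw [hs3, hs3] at h2
      exact Subtype.ext (Subtype.ext (mul_left_cancel (mul_right_cancel h2)))
    · -- the centralizer of the core
      set RM := (R.subgroupOf U).map j with hRM
      have hRMn : RM.Normal := by
        refine ⟨?_⟩
        rintro _ ⟨y, hy, rfl⟩ l
        obtain ⟨x', hx', e⟩ := l.2.1 y hy
        exact ⟨⟨x', hRU hx'⟩, hx', Subtype.ext e⟩
      have hRMp : IsPGroup p RM :=
        ((hS.to_le hRS).of_equiv (Subgroup.subgroupOfEquivOfLe hRU).symm).map j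
      refine (Subgroup.centralizer_le (le_pCore hRMn hRMp)).trans ?_
      refine le_pCore Subgroup.normal_centralizer ?_
      rintro ⟨c, hc⟩
      obtain ⟨b, m, hm, hord⟩ := Nat.exists_eq_pow_mul_and_not_dvd (orderOf_pos c).ne' p
        (Fact.out : p.Prime).ne_one
      refine ⟨b, Subtype.ext ?_⟩
      show c ^ p ^ b = 1
      set d := c ^ p ^ b with hd
      have hdC := Subgroup.pow_mem _ hc (p ^ b)
      rw [← hd] at hdC
      have hdm : d ^ m = 1 := by rw [hd, ← pow_mul, ← hord, pow_orderOf_eq_one]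
      have hcop : (orderOf (d : L)).Coprime p := by
        rw [Subgroup.orderOf_coe]
        exact Nat.Coprime.coprime_dvd_left (orderOf_dvd_of_pow_eq_one hdm)
          ((Fact.out : p.Prime).coprime_iff_not_dvd.mpr hm).symm
      have hdR : ∀ x ∈ R, Commute (d : L) (τ x) := fun x hx =>
        (congrArg Subtype.val (Subgroup.mem_centralizer_iff.mp hdC (j ⟨x, hRU hx⟩)
          ⟨⟨x, hRU hx⟩, hx, rfl⟩)).symm
      have hdQ : ∀ q ∈ Q, Commute (d : L) (τ q) := by
        obtain ⟨k, hk, hkq⟩ := d.2.2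
        rcases hcase with hQT | hK
        swap
        · intro q hq
          have h := hkq q hq
          rw [hK, Subgroup.mem_bot] at hk
          rw [hk, autFun_one hq] at h
          exact (mul_inv_eq_iff_eq_mul.mp h.symm)
        let τQ : Subgroup Ω → Subgroup L := fun B => imageAlong ι (img g B)
        have hτQ : ∀ B : Subgroup Ω, B ≤ A → ∀ {z : L}, z ∈ τQ B ↔ ∃ x ∈ B, τ x = z := by
          intro B hB z
          rw [mem_imageAlong (img_le_of_forall fun x hx => hgD x (hAD (hB hx)))]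
          constructor
          · rintro ⟨y, hy, rfl⟩
            obtain ⟨x, hx, rfl⟩ := ((hg.restrict (hB.trans hAD)).mem_img_iff le_rfl).mp hy
            exact ⟨x, hx, rfl⟩
          · rintro ⟨x, hx, rfl⟩; exact ⟨g x, mem_img_of_mem hx, rfl⟩
        have hp' : ∀ B : Subgroup Ω, B ≤ A → IsPGroup p (τQ B) := fun B hB => by
          have hle : img g B ≤ normalizerIn S T' :=
            img_le_of_forall fun x hx => hgD x (hAD (hB hx))
          exact IsPGroup.map ((hS.to_le (hle.trans normalizerIn_le)).of_equiv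
            (Subgroup.subgroupOfEquivOfLe hle).symm) ι
        have hQn : ∀ l : L, (∀ q ∈ Q, ∃ q' ∈ Q, τ q' = l * τ q * l⁻¹) →
            l ∈ Subgroup.normalizer ((τQ Q : Subgroup L) : Set L) := by
          intro l h
          refine mem_normalizer_of_forall fun z hz => ?_
          obtain ⟨q, hq, rfl⟩ := (hτQ Q le_sup_right).mp hz
          exact (hτQ Q le_sup_right).mpr (h q hq)
        intro q hq
        refine Cfsg.Agent.Transfer.commute_of_commute_fixed (P := τQ R) (hp' R le_sup_left)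
          (hp' Q le_sup_right) ?_ hcop
          (hQn _ fun q hq => ⟨_, autFun_mem k hq, hkq q hq⟩) ?_ ?_ (τ q)
          ((hτQ Q le_sup_right).mpr ⟨q, hq, rfl⟩)
        · intro z hz
          obtain ⟨x, hx, rfl⟩ := (hτQ R le_sup_left).mp hz
          refine hQn _ fun q hq => ⟨x * q * x⁻¹, ?_, hτconj x (hRD hx) q (hQD hq)⟩
          exact (Subgroup.mem_normalizer_iff.mp (hTnQ (hRT hx)) q).mp hq
        · intro z hz
          obtain ⟨x, hx, rfl⟩ := (hτQ R le_sup_left).mp hz
          exact hdR x hx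
        · intro z hz hzc
          obtain ⟨v, hv, rfl⟩ := (hτQ Q le_sup_right).mp hz
          refine hdR v (hRc.2 R (isConj_refl hRT) (mem_centralizerIn.mpr
            ⟨hQT hv, fun x hx => hτinj _ (D.mul_mem (hRD hx) (hQD hv)) _
              (D.mul_mem (hQD hv) (hRD hx)) ?_⟩))
          rw [hτmul _ (hRD hx) _ (hQD hv), hτmul _ (hQD hv) _ (hRD hx)]
          exact (hzc _ ((hτQ R le_sup_left).mpr ⟨x, hx, rfl⟩)).eq
      have hdA : ∀ x ∈ A, Commute (d : L) (τ x) := by
        let C : Subgroup Ω :=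
          { carrier := {x | x ∈ D ∧ Commute (d : L) (τ x)}
            one_mem' := ⟨D.one_mem, hτ1 ▸ Commute.one_right _⟩
            mul_mem' := fun {a b} ha hb =>
              ⟨D.mul_mem ha.1 hb.1, hτmul _ ha.1 _ hb.1 ▸ ha.2.mul_right hb.2⟩
            inv_mem' := fun {a} ha => ⟨D.inv_mem ha.1, hτinv _ ha.1 ▸ ha.2.inv_right⟩ }
        have hle : A ≤ C := sup_le (fun x hx => ⟨hRD hx, hdR x hx⟩)
          (fun q hq => ⟨hQD hq, hdQ q hq⟩)
        exact fun x hx => (hle hx).2
      obtain ⟨z, hzT', -, hzd⟩ := IsModel.centralizer_eq hmod (isNormal_normalizerSystem hT'n.1 hN')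
        (isCentric_normalizerSystem hT'c hN') (c := (d : L)) fun t ht => by
          obtain ⟨x, hx, hxt⟩ := hτA ht
          rw [← hxt]; exact (hdA x hx).eq
      obtain ⟨e, he⟩ := hS ⟨z, hT'n.1 hzT'⟩
      have hz1 : z ^ p ^ e = 1 := congrArg Subtype.val he
      have h1 : (d : L) ^ p ^ e = 1 := by
        have hzN := le_normalizerIn hT'n.1 hzT'
        rw [hzd, th_apply ι hzN, ← map_pow, ← map_one ι]
        exact congrArg ι (Subtype.ext hz1)
      exact Subtype.ext (orderOf_eq_one_iff.mp (Nat.eq_one_of_dvd_coprimes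
        (hcop.pow_right e) dvd_rfl (orderOf_dvd_of_pow_eq_one h1)))
  have := finite_of_le ((normalizerIn_le (S := T) (P := R)).trans hTS)
  obtain ⟨e, -⟩ := IsModel.exists_iso h₁ hmodel
  exact ⟨M.subtype.comp e.toMonoidHom, M.subtype_injective.comp e.injective⟩

/-- Section-freeness is inherited by `K`-normalizer systems. -/
theorem isSectionFree_kSys (hS : IsPGroup p S) (hF : F.IsSaturated p) (hQ : Q ≤ S)
    (hrec : ∀ f, MapTo F Q f →
      ∃ ψ, MapTo F (kNorm S K f ⊔ img f Q) ψ ∧ InK K fun q => ψ (f q))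
    {T : Subgroup Ω} (hT : T = kNorm S K id) (hcase : Q ≤ T ∨ K = ⊥)
    {E : FusionSystem T}
    (hE : ∀ P f, MapTo E P f ↔ P ≤ T ∧ (∀ x ∈ P, f x ∈ T) ∧
      ∃ g, MapTo F (P ⊔ Q) g ∧ (∀ x ∈ P, g x = f x) ∧ InK K g)
    {H : Type v} [Group H] (hH : F.IsSectionFree p H) : E.IsSectionFree p H := by
  intro R hRn hRc N hN L₁ _ ι₁ h₁ hinv
  obtain ⟨T', hn, hc, -, N', hN', L, _, ι, hmod, e, he⟩ :=
    exists_model_hom hS hF hQ hrec hT hcase hE hRn hRc hN h₁
  refine hH T' hn hc N' hN' L ι hmod ?_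
  exact Cfsg.Agent.SL2Dickson.involves_trans (M := e.range)
    (MonoidHom.ofInjective he).symm.toMonoidHom (MonoidHom.ofInjective he).symm.surjective hinv

/-- Normalizer systems inherit section-freeness. -/
theorem isSectionFree_normalizerSystem (hS : IsPGroup p S)
    (hF : F.IsSaturated p) (hQ : F.IsFullyNormalized Q) {E : FusionSystem (normalizerIn S Q)}
    (hE : F.IsNormalizerSystem Q E) {H : Type v} [Group H] (hH : F.IsSectionFree p H) :
    E.IsSectionFree p H := by
  have hQS := hQ.1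
  have := finite_of_le hQS
  refine isSectionFree_kSys (K := (⊤ : Subgroup (MulAut Q))) hS hF hQS (fun f hf => ?_) ?_
    (Or.inl (le_normalizerIn hQS)) ?_ hH
  · obtain ⟨ψ, hψ, hψQ⟩ := exists_map_normalizerIn hS
      (isFullyAutomized_of_isFullyNormalized hS hF hQ)
      (isReceptive_of_isFullyNormalized hS hF hQ) (isConj_symm hf.isConj)
    have hle : kNorm S (⊤ : Subgroup (MulAut Q)) f ⊔ img f Q ≤ normalizerIn S (img f Q) := by
      refine sup_le (fun x hx => ?_) (le_normalizerIn hf.img_le)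
      obtain ⟨hxS, k, -, hk⟩ := hx
      refine mem_normalizerIn_of_forall hf.img_le hxS fun y hy => ?_
      obtain ⟨q, hq, rfl⟩ := (hf.mem_img_iff le_rfl).mp hy
      exact hk q hq ▸ mem_img_of_mem (autFun_mem k hq)
    have hc : MapTo F Q fun q => ψ (f q) :=
      hf.comp hψ fun q hq => le_normalizerIn hf.img_le (mem_img_of_mem hq)
    refine ⟨ψ, hψ.restrict hle, autOf hc ?_, Subgroup.mem_top _,
      fun x hx => (autFun_autOf hc _ hx).symm⟩
    rw [← hf.img_img le_rfl, hψQ]
  · ext x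
    rw [mem_kNorm_id]
    constructor
    · intro hx
      refine ⟨hx.1, Q.normalizerMonoidHom ⟨x, hx.2⟩, Subgroup.mem_top _, fun q hq => ?_⟩
      rw [autFun_apply _ hq]
      rfl
    · exact fun ⟨hxS, hK⟩ => mem_normalizerIn_of_forall hQS hxS fun y hy => hK.mem hy
  · intro P f
    rw [mapTo_nSys_iff hE]
    constructor
    · rintro ⟨h1, h2, g, hg, hgf, hgQ⟩
      exact ⟨h1, h2, g, hg, hgf, (inK_top_iff hg).mpr hgQ⟩
    · rintro ⟨h1, h2, g, hg, hgf, hgK⟩
      exact ⟨h1, h2, g, hg, hgf, hgK.img_eq⟩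

/-- A model of a normalizer system in a normalizer system embeds in a model of `F`. -/
theorem exists_model_hom_normalizer (hS : IsPGroup p S)
    (hF : F.IsSaturated p) (hQ : F.IsFullyNormalized Q) {E : FusionSystem (normalizerIn S Q)}
    (hE : F.IsNormalizerSystem Q E) (hRn : E.IsFullyNormalized R) (hRc : E.IsCentric R)
    {N : FusionSystem (normalizerIn (normalizerIn S Q) R)} (hN : E.IsNormalizerSystem R N)
    {L₁ : Type u} [Group L₁] {ι₁ : ↥(normalizerIn (normalizerIn S Q) R) →* L₁}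
    (h₁ : N.IsModel p L₁ ι₁) :
    ∃ (T' : Subgroup Ω), F.IsFullyNormalized T' ∧ F.IsCentric T' ∧ Nat.card R ≤ Nat.card T' ∧
      ∃ (N' : FusionSystem (normalizerIn S T')), F.IsNormalizerSystem T' N' ∧
        ∃ (L : Type u) (_ : Group L) (ι : ↥(normalizerIn S T') →* L), N'.IsModel p L ι ∧
          ∃ e : L₁ →* L, Function.Injective e := by
  have hQS := hQ.1
  have := finite_of_le hQS
  refine exists_model_hom (K := (⊤ : Subgroup (MulAut Q))) hS hF hQS (fun f hf => ?_) ?_
    (Or.inl (le_normalizerIn hQS)) ?_ hRn hRc hN h₁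
  · obtain ⟨ψ, hψ, hψQ⟩ := exists_map_normalizerIn hS
      (isFullyAutomized_of_isFullyNormalized hS hF hQ)
      (isReceptive_of_isFullyNormalized hS hF hQ) (isConj_symm hf.isConj)
    have hle : kNorm S (⊤ : Subgroup (MulAut Q)) f ⊔ img f Q ≤ normalizerIn S (img f Q) := by
      refine sup_le (fun x hx => ?_) (le_normalizerIn hf.img_le)
      obtain ⟨hxS, k, -, hk⟩ := hx
      refine mem_normalizerIn_of_forall hf.img_le hxS fun y hy => ?_
      obtain ⟨q, hq, rfl⟩ := (hf.mem_img_iff le_rfl).mp hy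
      exact hk q hq ▸ mem_img_of_mem (autFun_mem k hq)
    have hc : MapTo F Q fun q => ψ (f q) :=
      hf.comp hψ fun q hq => le_normalizerIn hf.img_le (mem_img_of_mem hq)
    refine ⟨ψ, hψ.restrict hle, autOf hc ?_, Subgroup.mem_top _,
      fun x hx => (autFun_autOf hc _ hx).symm⟩
    rw [← hf.img_img le_rfl, hψQ]
  · ext x
    rw [mem_kNorm_id]
    constructor
    · intro hx
      refine ⟨hx.1, Q.normalizerMonoidHom ⟨x, hx.2⟩, Subgroup.mem_top _, fun q hq => ?_⟩
      rw [autFun_apply _ hq]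
      rfl
    · exact fun ⟨hxS, hK⟩ => mem_normalizerIn_of_forall hQS hxS fun y hy => hK.mem hy
  · intro P f
    rw [mapTo_nSys_iff hE]
    constructor
    · rintro ⟨h1, h2, g, hg, hgf, hgQ⟩
      exact ⟨h1, h2, g, hg, hgf, (inK_top_iff hg).mpr hgQ⟩
    · rintro ⟨h1, h2, g, hg, hgf, hgK⟩
      exact ⟨h1, h2, g, hg, hgf, hgK.img_eq⟩

/-- Centralizer systems inherit section-freeness. -/
theorem isSectionFree_centralizerSystem (hS : IsPGroup p S)
    (hF : F.IsSaturated p) (hQ : F.IsFullyCentralized Q) {E : FusionSystem (centralizerIn S Q)}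
    (hE : F.IsCentralizerSystem Q E) {H : Type v} [Group H] (hH : F.IsSectionFree p H) :
    E.IsSectionFree p H := by
  have hQS := hQ.1
  refine isSectionFree_kSys (K := (⊥ : Subgroup (MulAut Q))) hS hF hQS (fun f hf => ?_) ?_
    (Or.inr rfl) ?_ hH
  · obtain ⟨g, hg, hgf, -, hgimg⟩ := hf.exists_iso_inverse
    have himg : img g (img f Q) = Q := hgimg Q le_rfl
    obtain ⟨ψ, hψ, hψg⟩ :=
      (isReceptive_iff.mp (isReceptive_of_isFullyCentralized hS hF hQ)).2 _ g hg himg
    have hle : kNorm S (⊥ : Subgroup (MulAut Q)) f ⊔ img f Q ≤ extSub S hg := by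
      refine sup_le (fun x hx => centralizerIn_le_extSub hg ?_) (le_extSub hg)
      obtain ⟨hxS, k, hk, hkx⟩ := hx
      refine mem_centralizerIn.mpr ⟨hxS, fun y hy => ?_⟩
      obtain ⟨q, hq, rfl⟩ := (hf.mem_img_iff le_rfl).mp hy
      have h1 := hkx q hq
      rw [Subgroup.mem_bot.mp hk, autFun_one hq, mul_inv_eq_iff_eq_mul] at h1
      exact h1.symm
    refine ⟨ψ, hψ.restrict hle, inK_bot_iff.mpr fun x hx => ?_⟩
    show ψ (f x) = x
    rw [hψg _ (mem_img_of_mem hx), hgf x hx]
  · ext x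
    rw [mem_kNorm_id, inK_bot_iff, mem_centralizerIn]
    refine and_congr_right fun _ => forall_congr' fun q => forall_congr' fun _ => ?_
    rw [cj_apply, mul_inv_eq_iff_eq_mul, eq_comm]
  · intro P f
    rw [mapTo_cSys_iff hE]
    simp only [inK_bot_iff]

end Cfsg.Agent.Fusion
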