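import Cfsg.Agent.S5194
import Cfsg.Agent.Lib.Fusion.InnerCriteria
import Cfsg.Agent.Lib.Fusion.CentralQuotient
import Cfsg.Agent.Lib.Fusion.KModel

/-!
For `p` odd a non-inner saturated system has a non-inner normalizer system of a centric subgroup
normal in `S`.
-/

set_option autoImplicit false

namespace Cfsg.Agent.Fusion

open Cfsg.FusionSystem (centralizerIn normalizerIn imageAlong preimageAlong)

universe u

variable {Ω : Type u} [Group Ω] {S : Subgroup Ω} {F : FusionSystem S} {p : ℕ}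

/-- Every map is conjugation by an element of `S`. -/
def IsInnerSys (F : FusionSystem S) : Prop :=
  ∀ (P : Subgroup Ω) (f : Ω → Ω), MapTo F P f → MapTo (innerFusionSystem S) P f

theorem IsInnerSys.hom_eq (h : IsInnerSys F) (P : Subgroup Ω) :
    F.Hom P = (innerFusionSystem S).Hom P :=
  Set.ext fun _ => ⟨fun hφ => mapTo_ev_iff.mp (h P _ (mapTo_ev hφ)),
    fun hφ => mapTo_ev_iff.mp (le_iff_mapTo.mp (inner_le F) P _ (mapTo_ev hφ))⟩

theorem centre_le_normalizer {s : Ω} (hs : s ∈ S) :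
    s ∈ Subgroup.normalizer ((S ⊓ Subgroup.centralizer (S : Set Ω) : Subgroup Ω) : Set Ω) := by
  refine Subgroup.mem_normalizer_iff.mpr fun z => ⟨fun hz => ?_, fun hz => ?_⟩
  · rwa [Subgroup.mem_centralizer_iff.mp hz.2 s hs, mul_inv_cancel_right]
  · have h := Subgroup.mem_centralizer_iff.mp hz.2 s⁻¹ (S.inv_mem hs)
    have h2 : z = s * z * s⁻¹ := by
      calc z = s⁻¹ * (s * z * s⁻¹) * s := by group
        _ = s * z * s⁻¹ * s⁻¹ * s := by rw [h]
        _ = s * z * s⁻¹ := inv_mul_cancel_right _ _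
    rwa [← h2] at hz

theorem centralizerIn_JAb_le [Finite S] :
    centralizerIn S (Cfsg.Agent.Transfer.JAb 0 S) ≤ Cfsg.Agent.Transfer.JAb 0 S := by
  obtain ⟨A₀, hA₀⟩ := Cfsg.Agent.Transfer.exists_isMaxAbIn (e := 0) (⊤ : Subgroup S)
  have hA := Cfsg.Agent.Transfer.isMaxAbIn_map hA₀ S.subtype S.subtype_injective.injOn
  rw [← MonoidHom.range_eq_map, Subgroup.range_subtype] at hA
  set A := A₀.map S.subtype
  intro x hx
  obtain ⟨hxS, hxc⟩ := mem_centralizerIn.mp hx
  have hAJ : A ≤ Cfsg.Agent.Transfer.JAb 0 S := Cfsg.Agent.Transfer.le_JAb hA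
  set B := A ⊔ Subgroup.zpowers x with hB
  have hBS : B ≤ S := sup_le hA.1 (Subgroup.zpowers_le.mpr hxS)
  have hxA : Subgroup.zpowers x ≤ Subgroup.centralizer (A : Set Ω) :=
    Subgroup.zpowers_le.mpr (Subgroup.mem_centralizer_iff.mpr fun a ha => hxc a (hAJ ha))
  have hBB : B ≤ Subgroup.centralizer (B : Set Ω) := by
    refine sup_le (Subgroup.le_centralizer_iff.mp (sup_le ?_ hxA))
      (Subgroup.le_centralizer_iff.mp (sup_le (Subgroup.le_centralizer_iff.mp hxA) ?_))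
    · intro a ha
      exact Subgroup.mem_centralizer_iff.mpr fun b hb => (Cfsg.Agent.Transfer.AbExp.commute hA.2.1 hb ha).eq
    · refine Subgroup.zpowers_le.mpr (Subgroup.mem_centralizer_iff.mpr ?_)
      rintro _ ⟨k, rfl⟩
      exact (Commute.zpow_left (Commute.refl x) k).eq
  have hBe : Cfsg.Agent.Transfer.AbExp 0 B :=
    ⟨⟨⟨fun a b => Subtype.ext (Subgroup.mem_centralizer_iff.mp (hBB b.2) a a.2)⟩⟩,
      fun a _ => pow_zero a⟩
  have : Finite B := finite_of_le hBS
  exact hAJ ((Subgroup.eq_of_le_of_card_ge le_sup_left (hA.2.2 B hBS hBe)).symm ▸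
    Subgroup.mem_sup_right (Subgroup.mem_zpowers x))

theorem exists_centric_not_inner (p : ℕ) [Fact p.Prime] : ∀ (n : ℕ) (Ω : Type u)
    [Group Ω] (S : Subgroup Ω) [Finite S], Nat.card S ≤ n → IsPGroup p S →
    ∀ F : FusionSystem S, F.IsSaturated p →
    (p ≠ 2 ∨ F.IsSectionFree p (Equiv.Perm (Fin 4))) → ¬ IsInnerSys F →
    ∃ (W : Subgroup Ω) (hW : W ≤ S), S ≤ Subgroup.normalizer (W : Set Ω) ∧
      centralizerIn S W ≤ W ∧ ¬ IsInnerSys (nSys F hW) := by
  intro n
  induction n with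
  | zero => intro Ω _ S _ hn; exact absurd Nat.card_pos (not_lt.mpr hn)
  | succ n ih =>
  intro Ω _ S _ hn hS F hF hp hne
  set J := Cfsg.Agent.Transfer.JAb 0 S with hJ
  have hJS : J ≤ S := Cfsg.Agent.Transfer.JAb_le S
  have hJn : S ≤ Subgroup.normalizer (J : Set Ω) :=
    Subgroup.le_normalizer.trans (Cfsg.Agent.Transfer.normalizer_le_normalizer_JAb S)
  by_cases hJin : IsInnerSys (nSys F hJS)
  swap
  · exact ⟨J, hJS, hJn, centralizerIn_JAb_le, hJin⟩
  set Z := S ⊓ Subgroup.centralizer (S : Set Ω) with hZ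
  have hZS : Z ≤ S := inf_le_left
  set T := centralizerIn S Z with hT
  set C : FusionSystem T := cSys F hZS with hC
  have hSZ : ∀ s ∈ S, ∀ z ∈ Z, s * z = z * s := fun s hs z hz =>
    Subgroup.mem_centralizer_iff.mp hz.2 s hs
  have hTS : T = S := le_antisymm centralizerIn_le fun s hs =>
    mem_centralizerIn.mpr ⟨hs, fun z hz => (hSZ s hs z hz).symm⟩
  have hCne : ¬ IsInnerSys C := by
    intro hCin
    refine hne fun P f hf => ?_
    have h := Cfsg.Agent.S5194.main p hS F hF hp J hJ Z hZ ?_ ?_ P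
    · obtain ⟨φ, hφ, hφf⟩ := hf
      exact ⟨φ, h ▸ hφ, hφf⟩
    · intro C' hC' P
      rw [hC' P, ← isCentralizerSystem_cSys F hZS P]
      exact IsInnerSys.hom_eq hCin P
    · intro N' hN' P
      rw [hN' P, ← isNormalizerSystem_nSys F hJS P]
      exact IsInnerSys.hom_eq hJin P
  have hZfn : F.IsFullyNormalized Z := isFullyNormalized_of_normal hZS fun s hs =>
    centre_le_normalizer hs
  have hCiff : ∀ {P : Subgroup Ω} {f : Ω → Ω}, MapTo C P f ↔ P ≤ T ∧ (∀ x ∈ P, f x ∈ T) ∧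
      ∃ g, MapTo F (P ⊔ Z) g ∧ (∀ x ∈ P, g x = f x) ∧ ∀ x ∈ Z, g x = x :=
    mapTo_cSys_iff (isCentralizerSystem_cSys F hZS)
  have : Finite T := finite_of_le centralizerIn_le
  have hTp : IsPGroup p T := hS.to_le centralizerIn_le
  have hCsat : C.IsSaturated p := isSaturated_centralizerSystem hS hF
    (isFullyCentralized_of_isFullyNormalized hS hF hZfn) (isCentralizerSystem_cSys F hZS)
  have hZT : Z ≤ T := hTS.symm ▸ hZS
  have hZcen : C.IsCentral Z := by
    refine isCentral_iff.mpr ⟨hZT, fun P f hf => ?_⟩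
    obtain ⟨hP, hfT, g, hg, hgf, hgZ⟩ := hCiff.mp hf
    refine ⟨g, hCiff.mpr ⟨sup_le hP hZT, fun x hx => ?_, g, by rwa [sup_assoc, sup_idem],
      fun _ _ => rfl, hgZ⟩, hgf, hgZ⟩
    exact hTS.symm ▸ hg.mem hx
  have hZnorm : C.IsNormal Z := by
    refine isNormal_iff.mpr ⟨hZT, fun P f hf => ?_⟩
    obtain ⟨g, hg, hgf, hgZ⟩ := (isCentral_iff.mp hZcen).2 P f hf
    exact ⟨g, hg, hgf, by rw [img_congr (g := fun x => x) hgZ, img_id]⟩
  obtain ⟨Ω', _, S', θ, E, hmor, hker, hEsat, _, hS'p, hlt⟩ :=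
    exists_quotient hTp hCsat (IsNormal.stronglyClosed hZnorm)
  have hS1 : S ≠ ⊥ := by
    intro hb
    refine hne fun P f hf => mapTo_inner_iff.mpr ⟨hf.le, 1, S.one_mem, fun x hx => ?_⟩
    have hx1 : x = 1 := Subgroup.mem_bot.mp (hb ▸ hf.le hx)
    rw [hx1, hf.map_one]; simp
  have hZne : Z ≠ ⊥ := by
    intro hb
    have : Nontrivial S := (Subgroup.nontrivial_iff_ne_bot S).mpr hS1
    have := hS.center_nontrivial
    obtain ⟨z, hz, hz1⟩ := (Subgroup.bot_or_exists_ne_one (Subgroup.center S)).resolve_left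
      ((Subgroup.nontrivial_iff_ne_bot _).mp this)
    have hzZ : (z : Ω) ∈ Z := ⟨z.2, Subgroup.mem_centralizer_iff.mpr fun y hy =>
      congrArg Subtype.val (Subgroup.mem_center_iff.mp hz ⟨y, hy⟩)⟩
    rw [hb, Subgroup.mem_bot] at hzZ
    exact hz1 (Subtype.ext hzZ)
  have hEne : ¬ IsInnerSys E := by
    intro hEin
    have hKp : IsPGroup p (C.autGroup (kerIn θ)) := by
      rintro ⟨α, hα⟩
      refine ⟨0, Subtype.ext (autFun_ext fun x hx => ?_)⟩
      rw [pow_zero, pow_one, OneMemClass.coe_one, autFun_one hx]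
      exact IsCentral.apply_eq hZcen (mapTo_of_mem_autGroup kerIn_le hα) (hker ▸ hx) hx
    have heq := eq_inner_of_quotient hTp hCsat hmor (hker.symm ▸ hZnorm) hKp hS'p hEin
    exact hCne fun P f hf => heq ▸ hf
  have hcard : Nat.card S' ≤ n := by
    have h1 := hlt hZne
    rw [hTS] at h1
    omega
  obtain ⟨W', hW', hW'n, hW'c, hW'ne⟩ := ih Ω' S' hcard hS'p E hEsat (hp.imp id fun h => isSectionFree_quotient hTp hCsat hmor (hker.symm ▸ hZcen)
      (isSectionFree_centralizerSystem hS hF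
        (isFullyCentralized_of_isFullyNormalized hS hF hZfn)
        (isCentralizerSystem_cSys F hZS) h)) hEne
  set W := preimageAlong θ W' with hW
  have hWT : W ≤ T := preimageAlong_le
  refine ⟨W, hWT.trans centralizerIn_le, fun s hs => ?_, fun x hx => ?_, fun hin => hW'ne ?_⟩
  · have h1 : s ∈ preimageAlong θ (normalizerIn S' W') :=
      mem_preimageAlong.mpr ⟨hTS.symm ▸ hs, hmor.2.1 ▸ th_mem_range θ s,
        hW'n (hmor.2.1 ▸ th_mem_range θ s)⟩
    rw [preimageAlong_normalizerIn hmor hW'] at h1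
    exact h1.2
  · obtain ⟨hxS, hxc⟩ := mem_centralizerIn.mp hx
    have hxT : x ∈ T := hTS.symm ▸ hxS
    refine mem_preimageAlong.mpr ⟨hxT, hW'c (mem_centralizerIn.mpr
      ⟨hmor.2.1 ▸ th_mem_range θ x, fun y hy => ?_⟩)⟩
    obtain ⟨z, hz, rfl⟩ := exists_preimage (hmor.2.1.symm ▸ hW' : W' ≤ θ.range) hy
    rw [← th_mul θ (preimageAlong_le hz) hxT, ← th_mul θ hxT (preimageAlong_le hz), hxc z hz]
  · intro P' f' hf'
    obtain ⟨hP', -, g', hg', hg'f, hg'W⟩ :=
      (mapTo_nSys_iff (isNormalizerSystem_nSys E hW')).mp hf'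
    obtain ⟨hle, g, hg, hgg⟩ := IsSurjectiveMorphism.exists_lift hmor hg'
    have hmono : ∀ A, A ≤ P' ⊔ W' → preimageAlong θ A ≤ preimageAlong θ (P' ⊔ W') :=
      fun A hA x hx => mem_preimageAlong.mpr
        ⟨(mem_preimageAlong.mp hx).1, hA (mem_preimageAlong.mp hx).2⟩
    have hgW : ∀ x ∈ W, g x ∈ W := fun x hx => mem_preimageAlong.mpr
      ⟨hg.mem (hmono W' le_sup_right hx), by
        rw [← hgg x (hmono W' le_sup_right hx), ← hg'W]
        exact mem_img_of_mem (mem_preimageAlong.mp hx).2⟩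
    set P := preimageAlong θ P' with hP
    have hgF : MapTo F (P ⊔ W) g := by
      obtain ⟨-, -, k, hk, hkg, -⟩ :=
        hCiff.mp (hg.restrict (sup_le (hmono P' le_sup_left) (hmono W' le_sup_right)))
      exact (hk.restrict le_sup_left).congr' fun x hx => (hkg x hx).symm
    have : Finite W := finite_of_le (hWT.trans centralizerIn_le)
    have hgimg : img g W = W := img_eq_self_of_forall (hgF.restrict le_sup_right) hgW
    have hSN : S ≤ normalizerIn S W := fun s hs => ⟨hs, by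
      have h1 : s ∈ preimageAlong θ (normalizerIn S' W') :=
        mem_preimageAlong.mpr ⟨hTS.symm ▸ hs, hmor.2.1 ▸ th_mem_range θ s,
          hW'n (hmor.2.1 ▸ th_mem_range θ s)⟩
      rw [preimageAlong_normalizerIn hmor hW'] at h1
      exact h1.2⟩
    have hgN : MapTo (nSys F (hWT.trans centralizerIn_le)) P g :=
      (mapTo_nSys_iff (isNormalizerSystem_nSys F _)).mpr
        ⟨fun x hx => hSN (centralizerIn_le (preimageAlong_le hx)),
          fun x hx => hSN (hgF.mem (Subgroup.mem_sup_left hx)), g, hgF, fun _ _ => rfl, hgimg⟩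
    obtain ⟨-, s, hs, hsg⟩ := mapTo_inner_iff.mp (hin P g hgN)
    have hsT : s ∈ T := hTS.symm ▸ normalizerIn_le hs
    refine mapTo_inner_iff.mpr ⟨hP', th θ s, ⟨hmor.2.1 ▸ th_mem_range θ s,
      hW'n (hmor.2.1 ▸ th_mem_range θ s)⟩, fun y hy => ?_⟩
    obtain ⟨x, hx, rfl⟩ := exists_preimage
      (hmor.2.1.symm ▸ hP'.trans normalizerIn_le : P' ≤ θ.range) hy
    rw [← hg'f _ hy, hgg x (hmono P' le_sup_left hx), hsg x hx]
    rw [
      th_conj θ hsT (preimageAlong_le hx)]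

end Cfsg.Agent.Fusion
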