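import Cfsg.Agent.Lib.Fusion.SimpleGroupSystem

/-!
The criterion for a simple fusion system of a group, checked in a covering group whose
`p`-elements are determined by their images.
-/

set_option autoImplicit false

namespace Cfsg.Agent.Fusion

open Cfsg.FusionSystem (centralizerIn normalizerIn)

universe u v

variable {G' : Type v} [Group G'] {G : Type u} [Group G] [Finite G] {p : ℕ} [Fact p.Prime]

omit [Fact p.Prime] in
theorem eq_of_map_eq_of_isPGroup {π : G' →* G}
    (hinj : ∀ (s t : G') (k l : ℕ), s ^ p ^ k = 1 → t ^ p ^ l = 1 → π s = π t → s = t)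
    {U : Subgroup G'} (hU : IsPGroup p U) {s : G'} (hs : s ∈ U) {t : G'}
    (ht : ∃ l, t ^ p ^ l = 1) (h : π s = π t) : s = t := by
  obtain ⟨k, hk⟩ := hU ⟨s, hs⟩
  obtain ⟨l, hl⟩ := ht
  exact hinj s t k l (congrArg Subtype.val hk) hl h

/-- The criterion, checked in a cover in which `p`-elements are determined by their images. -/
theorem isSimple_gfs_of_cover [Finite G'] (π : G' →* G) (hπ : Function.Surjective π)
    (hinj : ∀ (s t : G') (k l : ℕ), s ^ p ^ k = 1 → t ^ p ^ l = 1 → π s = π t → s = t)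
    (P : Sylow p G') (S : Sylow p G) (hP1 : (P : Subgroup G') ≠ ⊥)
    (hsc : ∀ T : Subgroup G', T ≤ P → T ≠ ⊥ →
      (∀ g : G', ∀ x ∈ T, g * x * g⁻¹ ∈ (P : Subgroup G') → g * x * g⁻¹ ∈ T) →
      (P : Subgroup G') ≤ T)
    (hgen : Subgroup.normalizer ((P : Subgroup G') : Set G') ≤
      Subgroup.closure (localGen p (P : Subgroup G'))) :
    (groupFusionSystem (S : Subgroup G)).IsSimple p := by
  set P₀ : Sylow p G := P.mapSurjective hπ with hP₀
  have hP₀' : (P₀ : Subgroup G) = (P : Subgroup G').map π := rfl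
  have hpel : ∀ {x : G'}, x ∈ (P : Subgroup G') → ∃ k, x ^ p ^ k = 1 := fun {x} hx => by
    obtain ⟨k, hk⟩ := P.2 ⟨x, hx⟩
    exact ⟨k, congrArg Subtype.val hk⟩
  have hconj : ∀ {g x : G'}, x ∈ (P : Subgroup G') → ∃ k, (g * x * g⁻¹) ^ p ^ k = 1 :=
    fun {g x} hx => by
      obtain ⟨k, hk⟩ := hpel hx
      exact ⟨k, by rw [conj_pow, hk, mul_one, mul_inv_cancel]⟩
  have hmem : ∀ {x : G'}, (∃ k, x ^ p ^ k = 1) → π x ∈ (P₀ : Subgroup G) →
      x ∈ (P : Subgroup G') := by
    intro x hx hxS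
    rw [hP₀'] at hxS
    obtain ⟨s, hs, e⟩ := hxS
    rw [← eq_of_map_eq_of_isPGroup hinj P.2 hs hx e]
    exact hs
  refine isSimple_gfs P₀ S ?_ (fun T hTP hT1 hT => ?_) ?_
  · rw [hP₀']
    intro h
    refine hP1 ((Subgroup.eq_bot_iff_forall _).2 fun x hx => ?_)
    have e : π x = π 1 := by
      rw [map_one, ← Subgroup.mem_bot, ← h]
      exact ⟨x, hx, rfl⟩
    exact eq_of_map_eq_of_isPGroup hinj P.2 hx ⟨0, by simp⟩ e
  · have hne : T.comap π ⊓ (P : Subgroup G') ≠ ⊥ := fun h => hT1 <| by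
      refine (Subgroup.eq_bot_iff_forall _).2 fun y hy => ?_
      have hy' := hTP hy
      rw [hP₀'] at hy'
      obtain ⟨x, hx, rfl⟩ := hy'
      have : x ∈ T.comap π ⊓ (P : Subgroup G') := ⟨hy, hx⟩
      rw [h, Subgroup.mem_bot] at this
      rw [this, map_one]
    have h0 := hsc _ inf_le_right hne fun g x hx hgx => ⟨?_, hgx⟩
    · rw [hP₀']
      rintro _ ⟨x, hx, rfl⟩
      exact (h0 hx).1
    · show π (g * x * g⁻¹) ∈ T
      rw [map_mul, map_mul, map_inv]
      refine hT _ _ hx.1 ?_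
      rw [← map_inv, ← map_mul, ← map_mul, hP₀']
      exact ⟨_, hgx, rfl⟩
  · intro y hy
    obtain ⟨g, rfl⟩ := hπ y
    have hg : g ∈ Subgroup.normalizer ((P : Subgroup G') : Set G') :=
      mem_normalizer_of_forall fun x hx => by
        refine hmem (hconj hx) ?_
        rw [map_mul, map_mul, map_inv]
        exact (Subgroup.mem_normalizer_iff.mp hy (π x)).mp (by rw [hP₀']; exact ⟨x, hx, rfl⟩)
    have hle : Subgroup.closure (localGen p (P : Subgroup G')) ≤
        (Subgroup.closure (localGen p (P₀ : Subgroup G))).comap π := by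
      rw [Subgroup.closure_le]
      rintro x (hx | ⟨hxN, Q, hQP, hQC, hQn, hxQ⟩)
      · exact Subgroup.subset_closure (Or.inl (show π x ∈ (P₀ : Subgroup G) by
          rw [hP₀']; exact ⟨x, hx, rfl⟩))
      refine Subgroup.subset_closure (Or.inr ⟨?_, Q.map π, ?_, ?_, ?_, ?_⟩)
      · refine mem_normalizer_of_forall ?_
        intro y hy
        rw [hP₀'] at hy ⊢
        obtain ⟨z, hz, rfl⟩ := hy
        exact ⟨x * z * x⁻¹, (Subgroup.mem_normalizer_iff.mp hxN z).mp hz,
          by rw [map_mul, map_mul, map_inv]⟩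
      · rw [hP₀']
        exact Subgroup.map_mono hQP
      · intro z hz
        obtain ⟨hzP, hzc⟩ := mem_centralizerIn.mp hz
        rw [hP₀'] at hzP
        obtain ⟨s, hs, rfl⟩ := hzP
        refine ⟨s, hQC (mem_centralizerIn.mpr ⟨hs, fun q hq => ?_⟩), rfl⟩
        have e := hzc (π q) ⟨q, hq, rfl⟩
        rw [← map_mul, ← map_mul] at e
        have h1 : s * q ∈ (P : Subgroup G') := mul_mem hs (hQP hq)
        have h2 : q * s ∈ (P : Subgroup G') := mul_mem (hQP hq) hs
        first
          | exact eq_of_map_eq_of_isPGroup hinj P.2 h1 (hpel h2) e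
          | exact eq_of_map_eq_of_isPGroup hinj P.2 h2 (hpel h1) e
      · rw [hP₀']
        exact (Subgroup.map_mono hQn).trans (Subgroup.le_normalizer_map π)
      · have h1 : Subgroup.closure (pElts p (Subgroup.normalizer (Q : Set G'))) ≤
            (Subgroup.closure (pElts p (Subgroup.normalizer (Q.map π : Set G)))).comap π := by
          rw [Subgroup.closure_le]
          rintro z ⟨hz, k, hk⟩
          exact Subgroup.subset_closure ⟨Subgroup.le_normalizer_map π ⟨z, hz, rfl⟩, k,
            by rw [← map_pow, hk, map_one]⟩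
        exact h1 hxQ
    exact hle (hgen hg)

end Cfsg.Agent.Fusion
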