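import Mathlib

/-!
Shift invariant groups of functions on `ZMod p`, and surjections onto the regular wreath product.
-/

set_option autoImplicit false

namespace Cfsg.Agent.Fusion

variable {p : ℕ} [hp : Fact p.Prime]

theorem shift_closed_top (W : AddSubgroup (ZMod p → ZMod p))
    (hshift : ∀ v ∈ W, (fun j => v (j - 1)) ∈ W) {f : ZMod p → ZMod p} (hfW : f ∈ W)
    (hf : ∑ j, f j ≠ 0) : W = ⊤ := by
  classical
  haveI : CharP (AddMonoidAlgebra (ZMod p) (ZMod p)) p :=
    charP_of_injective_ringHom (f := AddMonoidAlgebra.singleZeroRingHom)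
      (fun a b h => AddMonoidAlgebra.single_right_injective h) p
  let T : AddMonoidAlgebra (ZMod p) (ZMod p) →+ (ZMod p → ZMod p) :=
    { toFun := fun a j => a.coeff j
      map_zero' := rfl
      map_add' := fun _ _ => rfl }
  set V := W.comap T with hV
  have hshiftn : ∀ (n : ℕ) (v : ZMod p → ZMod p), v ∈ W → (fun j => v (j - n)) ∈ W := by
    intro n
    induction n with
    | zero => intro v hv; simpa using hv
    | succ n ih =>
      intro v hv
      have h2 := hshift _ (ih v hv)
      convert h2 using 1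
      funext j
      push_cast
      ring_nf
  have hmulV : ∀ (a b : AddMonoidAlgebra (ZMod p) (ZMod p)), b ∈ V → a * b ∈ V := by
    intro a b hb
    induction a using AddMonoidAlgebra.induction_linear with
    | zero => rw [zero_mul]; exact V.zero_mem
    | add x y hx hy => rw [add_mul]; exact V.add_mem hx hy
    | single k c =>
      show T (AddMonoidAlgebra.single k c * b) ∈ W
      have h1 : T (AddMonoidAlgebra.single k c * b) = c.val • fun j => T b (j - (k.val : ZMod p)) := by
        funext j
        show (AddMonoidAlgebra.single k c * b).coeff j = _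
        rw [AddMonoidAlgebra.coeff_single_mul_apply, Pi.smul_apply, nsmul_eq_mul, ZMod.natCast_zmod_val,
          ZMod.natCast_zmod_val, neg_add_eq_sub]
        rfl
      rw [h1]
      exact W.nsmul_mem (hshiftn _ _ hb) _
  have hTsum : ∀ g : ZMod p → ZMod p, T (∑ k, AddMonoidAlgebra.single k (g k)) = g := by
    intro g
    rw [map_sum]
    funext j
    rw [Finset.sum_apply, Finset.sum_eq_single j]
    · exact Finsupp.single_eq_same
    · exact fun b _ hb => Finsupp.single_eq_of_ne hb.symm
    · exact fun h => absurd (Finset.mem_univ j) h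
  set e : AddMonoidAlgebra (ZMod p) (ZMod p) := ∑ k, AddMonoidAlgebra.single k (f k) with he
  have hTe : T e = f := hTsum f
  have heV : e ∈ V := show T e ∈ W from hTe ▸ hfW
  have hpow : e ^ p = AddMonoidAlgebra.single 0 (∑ k, f k) := by
    rw [he, sum_pow_char]
    simp only [AddMonoidAlgebra.single_pow, ZMod.pow_card]
    rw [show (fun k : ZMod p => AddMonoidAlgebra.single (p • k) (f k)) =
      fun k => AddMonoidAlgebra.single 0 (f k) from funext fun k => by simp]
    exact (map_sum (AddMonoidAlgebra.singleZeroRingHom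
      (R := ZMod p) (M := ZMod p)) f Finset.univ).symm
  have hone : (1 : AddMonoidAlgebra (ZMod p) (ZMod p)) ∈ V := by
    have h1 : (1 : AddMonoidAlgebra (ZMod p) (ZMod p)) =
        AddMonoidAlgebra.single 0 (∑ k, f k)⁻¹ * e ^ (p - 1) * e := by
      rw [mul_assoc, ← pow_succ, Nat.sub_add_cancel hp.out.one_le, hpow,
        AddMonoidAlgebra.single_mul_single, add_zero, inv_mul_cancel₀ hf,
        AddMonoidAlgebra.one_def]
    rw [h1]
    exact hmulV _ _ heV
  refine (AddSubgroup.eq_top_iff' W).mpr fun v => ?_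
  set a : AddMonoidAlgebra (ZMod p) (ZMod p) := ∑ k, AddMonoidAlgebra.single k (v k) with ha
  have hTa : T a = v := hTsum v
  rw [← hTa]
  have := hmulV a 1 hone
  rwa [mul_one] at this

/-- A cocycle over a surjection to `ZMod p`, hitting a vector with nonzero sum over the kernel, gives
a surjection onto a Sylow `p`-subgroup of `Sym(p²)`. -/
theorem exists_wreath_surjection {G : Type*} [Group G] (hG : IsPGroup p G) (π : G → ZMod p)
    (hπ : ∀ a b, π (a * b) = π a + π b) (F : G → ZMod p → ZMod p)
    (hF : ∀ a b j, F (a * b) j = F a (j + π b) + F b j) {t : G} (ht : π t = 1) {m : G}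
    (hm : π m = 0) (hsum : ∑ j, F m j ≠ 0) :
    ∃ (W : Sylow p (Equiv.Perm (Fin (p ^ 2)))) (f : G →* ↥(W : Subgroup (Equiv.Perm (Fin (p ^ 2))))),
      Function.Surjective f := by
  classical
  have hπ1 : π 1 = 0 := by
    have := hπ 1 1
    rwa [one_mul, left_eq_add] at this
  have hπinv : ∀ a, π a⁻¹ = -π a := fun a => by
    have := hπ a⁻¹ a
    rw [inv_mul_cancel, hπ1] at this
    exact eq_neg_of_add_eq_zero_left this.symm
  have hF1 : ∀ j, F 1 j = 0 := fun j => by
    have := hF 1 1 j
    rwa [one_mul, hπ1, add_zero, left_eq_add] at this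
  let act : G → (ZMod p × ZMod p) → (ZMod p × ZMod p) := fun a x => (x.1 + π a, x.2 + F a x.1)
  have hact : ∀ a b x, act (a * b) x = act a (act b x) := fun a b x => by
    show (_, _) = (_, _)
    rw [hπ, hF]
    exact Prod.ext (by ring) (by ring)
  have hact1 : ∀ x, act 1 x = x := fun x => by simp [act, hπ1, hF1]
  let perm : G →* Equiv.Perm (ZMod p × ZMod p) :=
    MonoidHom.mk' (fun a => ⟨act a, act a⁻¹, fun x => by rw [← hact, inv_mul_cancel, hact1],
      fun x => by rw [← hact, mul_inv_cancel, hact1]⟩) fun a b => Equiv.ext fun x => hact a b x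
  -- the functions realized by the kernel
  let W₀ : AddSubgroup (ZMod p → ZMod p) :=
    { carrier := {v | ∃ a, π a = 0 ∧ F a = v}
      zero_mem' := ⟨1, hπ1, funext hF1⟩
      add_mem' := by
        rintro _ _ ⟨a, ha, rfl⟩ ⟨b, hb, rfl⟩
        exact ⟨a * b, by rw [hπ, ha, hb, add_zero], funext fun j => by rw [hF, hb, add_zero]; rfl⟩
      neg_mem' := by
        rintro _ ⟨a, ha, rfl⟩
        refine ⟨a⁻¹, by rw [hπinv, ha, neg_zero], funext fun j => ?_⟩
        have := hF a⁻¹ a j
        rw [inv_mul_cancel, hF1, ha, add_zero] at this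
        exact eq_neg_of_add_eq_zero_left this.symm }
  have htop : W₀ = ⊤ := by
    refine shift_closed_top W₀ ?_ (f := F m) ⟨m, hm, rfl⟩ hsum
    rintro _ ⟨a, ha, rfl⟩
    refine ⟨t * a * t⁻¹, by rw [hπ, hπ, hπinv, ht, ha]; ring, funext fun j => ?_⟩
    have h1 : F (t * t⁻¹) j = 0 := by rw [mul_inv_cancel]; exact hF1 j
    rw [hF, hπinv, ht] at h1
    rw [hF, hF, hπinv, ht, ha, add_zero, ← sub_eq_add_neg]
    rw [← sub_eq_add_neg] at h1
    linear_combination h1
  have hbase : ∀ v : ZMod p → ZMod p, ∃ a, π a = 0 ∧ F a = v := fun v =>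
    (htop.ge (AddSubgroup.mem_top v) : v ∈ W₀)
  have hsurjπ : ∀ k : ZMod p, ∃ a, π a = k := by
    intro k
    refine ⟨t ^ k.val, ?_⟩
    have : ∀ n : ℕ, π (t ^ n) = n := by
      intro n
      induction n with
      | zero => simp [hπ1]
      | succ n ih => rw [pow_succ, hπ, ih, ht]; push_cast; ring
    rw [this, ZMod.natCast_zmod_val]
  -- counting
  have hcard : p ^ (p + 1) ≤ Nat.card perm.range := by
    choose sa hsa hsav using hbase
    choose sk hsk using hsurjπ
    have hinj : Function.Injective fun x : ZMod p × (ZMod p → ZMod p) =>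
        (⟨perm (sk x.1 * sa x.2), _, rfl⟩ : perm.range) := by
      intro x y hxy
      have h1 : ∀ z, act (sk x.1 * sa x.2) z = act (sk y.1 * sa y.2) z := fun z =>
        congrArg (fun e : perm.range => (e : Equiv.Perm (ZMod p × ZMod p)) z) hxy
      have hk : x.1 = y.1 := by
        have := congrArg Prod.fst (h1 0)
        simpa [act, hπ, hsa, hsk] using this
      refine Prod.ext hk (funext fun j => ?_)
      have := congrArg Prod.snd (h1 (j, 0))
      simpa [act, hF, hsa, hsav, hk] using this
    have h2 := Nat.card_le_card_of_injective _ hinj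
    rwa [Nat.card_prod, Nat.card_fun, Nat.card_zmod, ← pow_succ'] at h2
  -- transport to `Fin (p ^ 2)`
  let e : ZMod p × ZMod p ≃ Fin (p ^ 2) :=
    Fintype.equivFinOfCardEq (by simp [sq])
  let perm' : G →* Equiv.Perm (Fin (p ^ 2)) := (Equiv.permCongrHom e).toMonoidHom.comp perm
  have hr : perm'.range = perm.range.map (Equiv.permCongrHom e).toMonoidHom := by
    rw [MonoidHom.range_eq_map, MonoidHom.range_eq_map, Subgroup.map_map]
  have hcard' : Nat.card perm'.range = Nat.card perm.range := by
    rw [hr, Subgroup.card_map_of_injective (Equiv.permCongrHom e).injective]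
  have hp' : IsPGroup p perm'.range := by
    rw [MonoidHom.range_eq_map]
    exact (hG.of_equiv Subgroup.topEquiv.symm).map perm'
  obtain ⟨W, hW⟩ := hp'.exists_le_sylow
  have hWcard : Nat.card (W : Subgroup (Equiv.Perm (Fin (p ^ 2)))) = p ^ (p + 1) := by
    rw [W.card_eq_multiplicity, Nat.card_perm, Nat.card_fin, sq]
    congr 1
    rw [Nat.factorization_def _ hp.out, padicValNat_factorial_mul]
    conv_lhs => enter [1, 2, 1]; rw [← mul_one p]
    rw [padicValNat_factorial_mul]
    simp
    omega
  have heq : perm'.range = (W : Subgroup (Equiv.Perm (Fin (p ^ 2)))) :=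
    Subgroup.eq_of_le_of_card_ge hW (by rw [hWcard, hcard']; exact hcard)
  refine ⟨W, perm'.codRestrict _ fun a => heq.le ⟨a, rfl⟩, ?_⟩
  rintro ⟨y, hy⟩
  obtain ⟨a, ha⟩ := heq.ge hy
  exact ⟨a, Subtype.ext ha⟩

end Cfsg.Agent.Fusion
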