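import Cfsg.Agent.Lib.Fusion.IsoComponent

/-!
Images of subnormal subsystems and components.
-/

set_option autoImplicit false

namespace Cfsg.Agent.Fusion

universe w

variable {Ω : Type w} [Group Ω] {S T : Subgroup Ω} {F : FusionSystem S} {E : FusionSystem T}
variable {u v : Ω → Ω} {p : ℕ}

theorem IsSubnormalIn.transport (h : E.IsSubnormalIn F p) :
    ∀ [Finite S] [Fact p.Prime], IsPGroup p S → ∀ {S' : Subgroup Ω} {F' : FusionSystem S'},
      SysIso F F' u v → ∀ {T' : Subgroup Ω} {E' : FusionSystem T'}, SysIso E E' u v →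
        E'.IsSubnormalIn F' p := by
  induction h with
  | refl F p =>
    intro _ _ _ S' F' hF T' E' hE
    obtain rfl : T' = S' := hE.bij.imgX_top ▸ hF.bij.imgX_top
    rw [hE.unique hF]
    exact .refl _ _
  | @step U S₀ E D F₀ p hsub hn ih =>
    intro _ _ hS S' F' hF T' E' hE
    have hUS := hn.1.2.2.2.1.1
    have := finite_of_le hUS
    have hD := sysIso_imgSys D (hF.bij.restrict hUS)
    exact .step (ih (hS.to_le hUS) hD hE) (hF.isNormalIn hS hD hn)

theorem bij_of_mapTo (hf : MapTo F T u) : ∃ k, Bij T (img u T) u k := by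
  obtain ⟨k, -, hku, huk, -⟩ := hf.exists_iso_inverse
  refine ⟨k, fun x hx => mem_img_of_mem hx, fun y hy => ?_, hku, huk,
    fun x hx y hy => hf.map_mul hx hy⟩
  obtain ⟨x, hx, rfl⟩ := (hf.mem_img_iff le_rfl).mp hy
  rwa [hku x hx]

theorem IsSubnormalIn.image_by_map (h : E.IsSubnormalIn F p) :
    ∀ [Finite S] [Fact p.Prime], IsPGroup p S → F.IsSaturated p → ∀ {u v : Ω → Ω},
      MapTo F T u → ∀ {T' : Subgroup Ω} {E' : FusionSystem T'}, SysIso E E' u v →
        E'.IsSubnormalIn F p := by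
  induction h with
  | refl F p =>
    intro _ _ _ _ u v hu T' E' hE
    have hS : img u T = T := img_eq_self_of_forall hu fun x hx => hu.mem hx
    obtain rfl : T' = T := hE.bij.imgX_top.symm.trans hS
    have hv : MapTo F T' v := by
      obtain ⟨k, hk, hku, -, -⟩ := hu.exists_iso_inverse
      rw [hS] at hk
      refine hk.congr' fun y hy => ?_
      conv_rhs => rw [← hE.bij.right y hy]
      exact (hku _ (hE.bij.mem' y hy)).symm
    have hFF : SysIso F F u v := by
      refine ⟨hE.bij, fun P f hf => ?_, fun P f hf => ?_⟩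
      · refine ((hv.restrict (hE.bij.imgX_le hf.le)).comp hf fun y hy => ?_).comp hu
          fun y hy => hf.mem ?_
        · obtain ⟨x, hx, rfl⟩ := (hE.bij.mem_imgX_iff hf.le).mp hy
          rwa [hE.bij.left x (hf.le hx)]
        · obtain ⟨x, hx, rfl⟩ := (hE.bij.mem_imgX_iff hf.le).mp hy
          rwa [hE.bij.left x (hf.le hx)]
      · refine ((hu.restrict (hE.bij.symm.imgX_le hf.le)).comp hf fun y hy => ?_).comp hv
          fun y hy => hf.mem ?_
        · exact (hE.bij.mem_imgX_symm_iff hf.le (hE.bij.symm.imgX_le hf.le hy)).mp hy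
        · exact (hE.bij.mem_imgX_symm_iff hf.le (hE.bij.symm.imgX_le hf.le hy)).mp hy
    rw [hE.unique hFF]
    exact .refl _ _
  | @step U S E D F p hsub hn ih =>
    intro _ _ hS hF u v hu T' E' hE
    have hTU := IsSubnormalIn.le hsub
    have hUS := hn.1.2.2.2.1.1
    have := finite_of_le hUS
    obtain ⟨α, hα, u₀, hu₀, hux⟩ := IsInvariantIn.frattini hn.1.2.2 hTU hu
    obtain ⟨k₀, hb₀⟩ := bij_of_mapTo hu₀
    have hE₀ := sysIso_imgSys E hb₀
    have hsub₀ := ih (hS.to_le hUS) hn.1.1 hu₀ hE₀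
    have hαD : SysIso D D (autFun α) (autFun α⁻¹) := by
      have key : ∀ {a : MulAut U}, a ∈ F.autGroup U → ∀ (P : Subgroup Ω) (f : Ω → Ω),
          MapTo D P f → MapTo D (img (autFun a) P) (fun y => autFun a (f (autFun a⁻¹ y))) := by
        intro a ha P f hf
        obtain ⟨g, hg, hgx⟩ := IsInvariantIn.transport hn.1.2.2 hf.le hf ha
        refine hg.congr' fun y hy => ?_
        obtain ⟨x, hx, rfl⟩ :=
          ((mapTo_of_mem_autGroup hUS ha).mem_img_iff hf.le).mp hy
        show autFun a (f (autFun a⁻¹ (autFun a x))) = _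
        rw [autFun_inv_autFun a (hf.le hx), hgx x hx]
      refine ⟨⟨fun x hx => autFun_mem α hx, fun x hx => autFun_mem _ hx,
        fun x hx => autFun_inv_autFun α hx, fun x hx => autFun_autFun_inv α hx,
        fun x hx y hy => (mapTo_of_mem_autGroup hUS hα).map_mul hx hy⟩, key hα, fun P f hf => ?_⟩
      have h1 := key (Subgroup.inv_mem _ hα) P f hf
      rw [inv_inv] at h1
      exact h1
    have hcomp : SysIso (imgSys E hb₀) E' (autFun α) (autFun α⁻¹) := by
      refine (hE₀.symm.trans hE).congr (fun y hy => ?_) fun z hz => ?_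
      · obtain ⟨x, hx, rfl⟩ := (hu₀.mem_img_iff le_rfl).mp hy
        show autFun α (u₀ x) = u (k₀ (u₀ x))
        rw [hb₀.left x hx, hux x hx]
      · show autFun α⁻¹ z = u₀ (v z)
        have hx := hE.bij.mem' z hz
        conv_lhs => rw [← hE.bij.right z hz, hux _ hx]
        exact autFun_inv_autFun α (hu₀.mem hx)
    exact .step (IsSubnormalIn.transport hsub₀ (hS.to_le hUS) hαD hcomp) hn

end Cfsg.Agent.Fusion
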