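import Cfsg.Prelude.Def_FusionComponents
import Cfsg.Agent.Lib.Fusion.Puig

/-!
Morphisms and factor systems of fusion systems: plain-function interface, existence of the factor
system, morphism to it, saturation of images.
-/

set_option autoImplicit false

namespace Cfsg.Agent.Fusion

open Cfsg.FusionSystem (centralizerIn normalizerIn imageAlong preimageAlong InducedAlong)

variable {Ω : Type*} [Group Ω] {S : Subgroup Ω} {Ω' : Type*} [Group Ω'] {S' : Subgroup Ω'}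
variable {F : FusionSystem S} {E : FusionSystem S'} {T P Q R : Subgroup Ω} {f g : Ω → Ω}
variable {P' Q' : Subgroup Ω'} {θ : S →* Ω'} {p : ℕ}

open Classical in
/-- A homomorphism defined on `S`, as a plain function (`1` outside `S`). -/
noncomputable def th (θ : S →* Ω') : Ω → Ω' := fun x => if h : x ∈ S then θ ⟨x, h⟩ else 1

theorem th_apply (θ : S →* Ω') {x : Ω} (h : x ∈ S) : th θ x = θ ⟨x, h⟩ := by rw [th, dif_pos h]

@[simp] theorem th_coe (θ : S →* Ω') (x : S) : th θ x = θ x := th_apply θ x.2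

theorem th_mul (θ : S →* Ω') {x y : Ω} (hx : x ∈ S) (hy : y ∈ S) :
    th θ (x * y) = th θ x * th θ y := by
  rw [th_apply θ hx, th_apply θ hy, th_apply θ (S.mul_mem hx hy), ← _root_.map_mul]; rfl

theorem th_inv (θ : S →* Ω') {x : Ω} (hx : x ∈ S) : th θ x⁻¹ = (th θ x)⁻¹ := by
  rw [th_apply θ hx, th_apply θ (S.inv_mem hx), ← _root_.map_inv]; rfl

@[simp] theorem th_one (θ : S →* Ω') : th θ 1 = 1 := by
  rw [th_apply θ S.one_mem]; exact _root_.map_one θ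

theorem th_conj (θ : S →* Ω') {x y : Ω} (hx : x ∈ S) (hy : y ∈ S) :
    th θ (x * y * x⁻¹) = th θ x * th θ y * (th θ x)⁻¹ := by
  rw [th_mul θ (S.mul_mem hx hy) (S.inv_mem hx), th_mul θ hx hy, th_inv θ hx]

theorem th_mem_range (θ : S →* Ω') (x : Ω) : th θ x ∈ θ.range := by
  by_cases h : x ∈ S
  · exact th_apply θ h ▸ ⟨_, rfl⟩
  · rw [th, dif_neg h]; exact Subgroup.one_mem _

/-- The kernel of `θ`, inside the ambient group. -/
def kerIn (θ : S →* Ω') : Subgroup Ω := θ.ker.map S.subtype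

theorem mem_kerIn {x : Ω} : x ∈ kerIn θ ↔ x ∈ S ∧ th θ x = 1 := by
  constructor
  · rintro ⟨s, hs, rfl⟩
    exact ⟨s.2, (th_coe θ s).trans hs⟩
  · rintro ⟨hx, h⟩
    exact ⟨⟨x, hx⟩, (th_apply θ hx).symm.trans h, rfl⟩

theorem kerIn_le : kerIn θ ≤ S := fun _ h => (mem_kerIn.mp h).1

theorem th_eq_iff {x y : Ω} (hx : x ∈ S) (hy : y ∈ S) :
    th θ x = th θ y ↔ x⁻¹ * y ∈ kerIn θ := by
  rw [mem_kerIn, and_iff_right (S.mul_mem (S.inv_mem hx) hy), th_mul θ (S.inv_mem hx) hy,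
    th_inv θ hx, inv_mul_eq_one]

theorem mem_preimageAlong {x : Ω} : x ∈ preimageAlong θ P' ↔ x ∈ S ∧ th θ x ∈ P' := by
  constructor
  · rintro ⟨s, hs, rfl⟩
    exact ⟨s.2, (th_coe θ s).symm ▸ hs⟩
  · rintro ⟨hx, h⟩
    exact ⟨⟨x, hx⟩, (th_apply θ hx ▸ h : θ ⟨x, hx⟩ ∈ P'), rfl⟩

theorem preimageAlong_le : preimageAlong θ P' ≤ S := fun _ h => (mem_preimageAlong.mp h).1

theorem kerIn_le_preimageAlong : kerIn θ ≤ preimageAlong θ P' := fun x hx =>
  mem_preimageAlong.mpr ⟨kerIn_le hx, (mem_kerIn.mp hx).2 ▸ P'.one_mem⟩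

theorem mem_imageAlong (hP : P ≤ S) {y : Ω'} : y ∈ imageAlong θ P ↔ ∃ x ∈ P, th θ x = y := by
  constructor
  · rintro ⟨s, hs, rfl⟩
    exact ⟨s, hs, th_coe θ s⟩
  · rintro ⟨x, hx, rfl⟩
    exact ⟨⟨x, hP hx⟩, hx, (th_apply θ (hP hx)).symm⟩

theorem th_mem_imageAlong (hP : P ≤ S) {x : Ω} (hx : x ∈ P) : th θ x ∈ imageAlong θ P :=
  (mem_imageAlong hP).mpr ⟨x, hx, rfl⟩

theorem imageAlong_le_range : imageAlong θ P ≤ θ.range := by
  rintro _ ⟨s, -, rfl⟩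
  exact ⟨s, rfl⟩

theorem exists_preimage (h : P' ≤ θ.range) {y : Ω'} (hy : y ∈ P') :
    ∃ x ∈ preimageAlong θ P', th θ x = y := by
  obtain ⟨s, rfl⟩ := h hy
  exact ⟨s, mem_preimageAlong.mpr ⟨s.2, (th_coe θ s).symm ▸ hy⟩, th_coe θ s⟩

theorem imageAlong_preimageAlong (h : P' ≤ θ.range) : imageAlong θ (preimageAlong θ P') = P' := by
  ext y
  rw [mem_imageAlong preimageAlong_le]
  refine ⟨?_, exists_preimage h⟩
  rintro ⟨x, hx, rfl⟩
  exact (mem_preimageAlong.mp hx).2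

theorem preimageAlong_imageAlong (hP : P ≤ S) (hT : kerIn θ ≤ P) :
    preimageAlong θ (imageAlong θ P) = P := by
  refine le_antisymm (fun x hx => ?_) fun x hx =>
    mem_preimageAlong.mpr ⟨hP hx, th_mem_imageAlong hP hx⟩
  obtain ⟨hxS, hx'⟩ := mem_preimageAlong.mp hx
  obtain ⟨z, hz, hzx⟩ := (mem_imageAlong hP).mp hx'
  have := P.mul_mem hz (hT ((th_eq_iff (hP hz) hxS).mp hzx))
  rwa [mul_inv_cancel_left] at this

/-- `f'` with source `P'` is induced by `f` with source `P`, in plain-function form. -/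
theorem inducedAlong_iff {φ : P →* Ω} {φ' : P' →* Ω'} {f' : Ω' → Ω'} (hP : P ≤ S)
    (hfS : ∀ x ∈ P, f x ∈ S) (hφ : ∀ x : P, φ x = f x) (hφ' : ∀ y : P', φ' y = f' y) :
    InducedAlong θ φ φ' ↔ ∀ x ∈ P, th θ x ∈ P' ∧ f' (th θ x) = th θ (f x) := by
  constructor
  · rintro ⟨_, hfS', hP', h⟩ x hx
    have h1 := h ⟨x, hx⟩
    rw [hφ'] at h1
    refine ⟨th_apply θ (hP hx) ▸ hP' ⟨x, hx⟩, ?_⟩
    rw [th_apply θ (hP hx), th_apply θ (hfS x hx), h1]
    exact congrArg θ (Subtype.ext (hφ ⟨x, hx⟩))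
  · intro h
    refine ⟨hP, fun x => (hφ x).symm ▸ hfS x x.2,
      fun x => th_apply θ (hP x.2) ▸ (h x x.2).1, fun x => ?_⟩
    rw [hφ']
    show f' (θ ⟨x, hP x.2⟩) = _
    rw [← th_apply θ (hP x.2), (h x x.2).2, th_apply θ (hfS x x.2)]
    exact congrArg θ (Subtype.ext (hφ x).symm)

/-! ### Factor systems -/

open Classical in
/-- The homomorphism induced on `P'` by `f`. -/
theorem exists_induced_hom (hP' : P' ≤ θ.range) (hf : MapTo F (preimageAlong θ P') f)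
    (hker : ∀ x ∈ kerIn θ, f x ∈ kerIn θ) :
    ∃ φ' : P' →* Ω', ∀ x (hx : x ∈ preimageAlong θ P'),
      φ' ⟨th θ x, (mem_preimageAlong.mp hx).2⟩ = th θ (f x) := by
  choose sel hsel hsel' using fun y : P' => exists_preimage hP' y.2
  have hind : ∀ (y : P') x, x ∈ preimageAlong θ P' → th θ x = y →
      th θ (f (sel y)) = th θ (f x) := by
    intro y x hx hxy
    refine (th_eq_iff (hf.mem (hsel y)) (hf.mem hx)).mpr ?_
    rw [← hf.map_inv (hsel y), ← hf.map_mul (Subgroup.inv_mem _ (hsel y)) hx]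
    exact hker _ ((th_eq_iff (preimageAlong_le (hsel y)) (preimageAlong_le hx)).mp
      ((hsel' y).trans hxy.symm))
  refine ⟨MonoidHom.mk' (fun y => th θ (f (sel y))) fun a b => ?_, fun x hx => hind _ x hx rfl⟩
  rw [hind (a * b) (sel a * sel b) (Subgroup.mul_mem _ (hsel a) (hsel b))
    (by rw [th_mul θ (preimageAlong_le (hsel a)) (preimageAlong_le (hsel b)), hsel', hsel']; rfl),
    hf.map_mul (hsel a) (hsel b), th_mul θ (hf.mem (hsel a)) (hf.mem (hsel b))]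

section Factor

theorem IsFactorSystem.kerIn_eq (hE : F.IsFactorSystem T θ E) : kerIn θ = T := by
  ext x
  rw [mem_kerIn]
  refine ⟨fun ⟨hx, h⟩ => (hE.2.1 ⟨x, hx⟩).mp (th_apply θ hx ▸ h), fun hx => ?_⟩
  refine ⟨hE.1 hx, ?_⟩
  rw [th_apply θ (hE.1 hx)]
  exact (hE.2.1 ⟨x, hE.1 hx⟩).mpr hx

theorem IsFactorSystem.exists_lift (hE : F.IsFactorSystem T θ E) {f' : Ω' → Ω'}
    (hf' : MapTo E P' f') :
    P' ≤ θ.range ∧ ∃ f, MapTo F (preimageAlong θ P') f ∧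
      ∀ x ∈ preimageAlong θ P', f' (th θ x) = th θ (f x) := by
  obtain ⟨φ', hφ', hφ'f⟩ := hf'
  obtain ⟨hle, φ, hφ, hind⟩ := (hE.2.2.2 P' φ').mp hφ'
  refine ⟨hE.2.2.1 ▸ hle, ev φ, mapTo_ev hφ, fun x hx => ?_⟩
  exact ((inducedAlong_iff preimageAlong_le (fun z hz => (mapTo_ev hφ).mem hz)
    (fun z => (ev_coe φ z).symm) hφ'f).mp hind x hx).2

theorem IsFactorSystem.mapTo_of_lift (hE : F.IsFactorSystem T θ E) (hP' : P' ≤ θ.range)
    (hf : MapTo F (preimageAlong θ P') f) (hker : ∀ x ∈ kerIn θ, f x ∈ kerIn θ) :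
    ∃ f', MapTo E P' f' ∧ ∀ x ∈ preimageAlong θ P', f' (th θ x) = th θ (f x) := by
  obtain ⟨φ', hφ'⟩ := exists_induced_hom hP' hf hker
  obtain ⟨φ, hφ, hφf⟩ := id hf
  have hmem : φ' ∈ E.Hom P' := by
    refine (hE.2.2.2 P' φ').mpr ⟨hE.2.2.1 ▸ hP', φ, hφ, ?_⟩
    refine (inducedAlong_iff (f' := ev φ') preimageAlong_le (fun z hz => hf.mem hz) hφf
      (fun y => (ev_coe φ' y).symm)).mpr fun x hx => ⟨(mem_preimageAlong.mp hx).2, ?_⟩
    rw [ev_apply φ' (mem_preimageAlong.mp hx).2, hφ' x hx]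
  exact ⟨ev φ', mapTo_ev hmem, fun x hx => by
    rw [ev_apply φ' (mem_preimageAlong.mp hx).2, hφ' x hx]⟩

end Factor

theorem IsMorphism.exists_map (h : F.IsMorphism E θ) (hf : MapTo F P f) :
    ∃ f', MapTo E (imageAlong θ P) f' ∧ ∀ x ∈ P, f' (th θ x) = th θ (f x) := by
  obtain ⟨φ, hφ, hφf⟩ := id hf
  obtain ⟨φ', hφ', hind⟩ := h.2 P φ hφ
  refine ⟨ev φ', mapTo_ev hφ', fun x hx => ?_⟩
  exact ((inducedAlong_iff hf.le (fun z hz => hf.mem hz) hφf
    (fun y => (ev_coe φ' y).symm)).mp hind x hx).2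

theorem IsMorphism.stronglyClosed_kerIn (h : F.IsMorphism E θ) : F.StronglyClosed (kerIn θ) := by
  refine stronglyClosed_iff.mpr ⟨kerIn_le, fun R f hR hf x hx => ?_⟩
  obtain ⟨f', hf', hff'⟩ := IsMorphism.exists_map h hf
  refine mem_kerIn.mpr ⟨hf.mem hx, ?_⟩
  rw [← hff' x hx, (mem_kerIn.mp (hR hx)).2, hf'.map_one]

theorem IsSurjectiveMorphism.exists_lift (h : F.IsSurjectiveMorphism E θ) {f' : Ω' → Ω'}
    (hf' : MapTo E P' f') :
    P' ≤ θ.range ∧ ∃ f, MapTo F (preimageAlong θ P') f ∧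
      ∀ x ∈ preimageAlong θ P', f' (th θ x) = th θ (f x) := by
  have hle : P' ≤ θ.range := h.2.1.symm ▸ hf'.le
  obtain ⟨φ', hφ', hφ'f⟩ := hf'
  obtain ⟨φ, hφ, hind⟩ := h.2.2 P' (E.le_of_mem hφ').1 φ' hφ'
  refine ⟨hle, ev φ, mapTo_ev hφ, fun x hx => ?_⟩
  exact ((inducedAlong_iff preimageAlong_le (fun z hz => (mapTo_ev hφ).mem hz)
    (fun z => (ev_coe φ z).symm) hφ'f).mp hind x hx).2

/-- A saturated system maps onto its factor system. -/
theorem IsFactorSystem.isSurjectiveMorphism [Finite S] [Fact p.Prime] (hS : IsPGroup p S)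
    (hF : F.IsSaturated p) (hT : F.StronglyClosed T) (hE : F.IsFactorSystem T θ E) :
    F.IsSurjectiveMorphism E θ := by
  have hk := IsFactorSystem.kerIn_eq hE
  refine ⟨⟨fun s => hE.2.2.1 ▸ ⟨s, rfl⟩, fun P φ hφ => ?_⟩, hE.2.2.1,
    fun P' hP' φ' hφ' => ((hE.2.2.2 P' φ').mp hφ').2⟩
  obtain ⟨g, hg, hgf⟩ := exists_map_mod hS hF hT (mapTo_ev hφ)
  have hP : P ≤ S := (F.le_of_mem hφ).1
  have hpre : preimageAlong θ (imageAlong θ P) ≤ P ⊔ T := by
    intro x hx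
    obtain ⟨hxS, hx'⟩ := mem_preimageAlong.mp hx
    obtain ⟨z, hz, hzx⟩ := (mem_imageAlong hP).mp hx'
    have := Subgroup.mul_mem_sup hz (hk ▸ (th_eq_iff (hP hz) hxS).mp hzx : z⁻¹ * x ∈ T)
    rwa [mul_inv_cancel_left] at this
  have hgr := hg.restrict hpre
  obtain ⟨f', hf', hfg⟩ := IsFactorSystem.mapTo_of_lift hE imageAlong_le_range hgr fun x hx =>
    hk.symm ▸ StronglyClosed.map_mem hT hgr (kerIn_le_preimageAlong hx) (hk ▸ hx)
  obtain ⟨φ', hφ', hφ'f⟩ := id hf'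
  refine ⟨φ', hφ', (inducedAlong_iff hP (fun z hz => (mapTo_ev hφ).mem hz)
    (fun z => (ev_coe φ z).symm) hφ'f).mpr fun x hx => ⟨th_mem_imageAlong hP hx, ?_⟩⟩
  rw [hfg x (mem_preimageAlong.mpr ⟨hP hx, th_mem_imageAlong hP hx⟩)]
  refine ((th_eq_iff ((mapTo_ev hφ).mem hx) (hg.mem (Subgroup.mem_sup_left hx))).mpr ?_).symm
  exact hk.symm ▸ hgf x hx

/-- The factor system along `θ`. -/
noncomputable def factorSys (F : FusionSystem S) (θ : S →* Ω') [Finite S] (hr : θ.range = S')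
    (hT : F.StronglyClosed (kerIn θ)) : FusionSystem S' where
  Hom P' := {φ' | P' ≤ S' ∧ ∃ φ ∈ F.Hom (preimageAlong θ P'), InducedAlong θ φ φ'}
  le_of_mem := by
    rintro P' φ' ⟨hle, φ, hφ, hind⟩
    refine ⟨hle, fun y => ?_⟩
    obtain ⟨x, hx, hxy⟩ := exists_preimage (hr.symm ▸ hle : P' ≤ θ.range) y.2
    have h1 := ((inducedAlong_iff (f' := ev φ') preimageAlong_le
      (fun z hz => (mapTo_ev hφ).mem hz) (fun z => (ev_coe φ z).symm)
      (fun y => (ev_coe φ' y).symm)).mp hind x hx).2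
    rw [hxy, ev_coe] at h1
    exact hr ▸ h1 ▸ th_mem_range θ _
  injective_of_mem := by
    rintro P' φ' ⟨hle, φ, hφ, hind⟩
    rw [← MonoidHom.ker_eq_bot_iff, eq_bot_iff]
    intro y hy
    obtain ⟨x, hx, hxy⟩ := exists_preimage (hr.symm ▸ hle : P' ≤ θ.range) y.2
    have h1 := ((inducedAlong_iff (f' := ev φ') preimageAlong_le
      (fun z hz => (mapTo_ev hφ).mem hz) (fun z => (ev_coe φ z).symm)
      (fun y => (ev_coe φ' y).symm)).mp hind x hx).2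
    rw [hxy, ev_coe, (hy : φ' y = 1)] at h1
    have h2 := StronglyClosed.mem_of_map_mem hT (mapTo_ev hφ) hx
      (mem_kerIn.mpr ⟨(mapTo_ev hφ).mem hx, h1.symm⟩)
    rw [Subgroup.mem_bot]
    exact Subtype.ext (hxy.symm.trans (mem_kerIn.mp h2).2)
  conj_mem := by
    intro P' g hP' hg
    obtain ⟨s, hs⟩ : g ∈ θ.range := hr.symm ▸ hg
    refine ⟨hP', conjHom _ (s : Ω), F.conj_mem preimageAlong_le s.2, ?_⟩
    refine (inducedAlong_iff (f := cj (s : Ω)) (f' := cj g) preimageAlong_le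
      (fun z hz => S.mul_mem (S.mul_mem s.2 (preimageAlong_le hz)) (S.inv_mem s.2))
      (fun z => rfl) (fun y => rfl)).mpr fun x hx => ⟨(mem_preimageAlong.mp hx).2, ?_⟩
    simp only [cj_apply]
    rw [th_conj θ s.2 (preimageAlong_le hx), th_coe, hs]
  comp_mem := by
    rintro P' Q' φ' ψ' ⟨hP', φ, hφ, hφi⟩ ⟨hQ', ψ, hψ, hψi⟩ h
    have hf := mapTo_ev hφ
    have hg := mapTo_ev hψ
    have hφ2 := (inducedAlong_iff (f' := ev φ') preimageAlong_le
      (fun z hz => hf.mem hz) (fun z => (ev_coe φ z).symm) (fun y => (ev_coe φ' y).symm)).mp hφi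
    have hψ2 := (inducedAlong_iff (f' := ev ψ') preimageAlong_le
      (fun z hz => hg.mem hz) (fun z => (ev_coe ψ z).symm) (fun y => (ev_coe ψ' y).symm)).mp hψi
    have hmem : ∀ x ∈ preimageAlong θ P', ev φ x ∈ preimageAlong θ Q' := fun x hx =>
      mem_preimageAlong.mpr ⟨hf.mem hx, by
        rw [← (hφ2 x hx).2, ev_apply φ' (hφ2 x hx).1]; exact h _⟩
    obtain ⟨χ, hχ, hχf⟩ := hf.comp hg hmem
    refine ⟨hP', χ, hχ, (inducedAlong_iff (f' := fun y => ev ψ' (ev φ' y)) preimageAlong_le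
      (fun z hz => (hf.comp hg hmem).mem hz) hχf fun y => ?_).mpr fun x hx =>
        ⟨(hφ2 x hx).1, ?_⟩⟩
    · show ψ' (φ'.codRestrict Q' h y) = _
      rw [ev_coe, ev_apply ψ' (h y)]
      rfl
    · rw [(hφ2 x hx).2, (hψ2 _ (hmem x hx)).2]
  inv_mem := by
    rintro P' φ' ⟨hP', φ, hφ, hind⟩
    have hf := mapTo_ev hφ
    have hφ2 := (inducedAlong_iff (f' := ev φ') preimageAlong_le
      (fun z hz => hf.mem hz) (fun z => (ev_coe φ z).symm) (fun y => (ev_coe φ' y).symm)).mp hind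
    obtain ⟨σ, hσ, hσf, -, -⟩ := hf.exists_iso_inverse
    have hpre : preimageAlong θ φ'.range ≤ img (ev φ) (preimageAlong θ P') := by
      intro y hy
      obtain ⟨hyS, ⟨z, hz⟩⟩ := mem_preimageAlong.mp hy
      obtain ⟨x, hx, hxz⟩ := exists_preimage (hr.symm ▸ hP' : P' ≤ θ.range) z.2
      have h1 := (hφ2 x hx).2
      rw [hxz, ev_coe, hz] at h1
      have h2 := Subgroup.mul_mem _ (mem_img_of_mem (f := ev φ) hx)
        (StronglyClosed.le_img hT hf kerIn_le_preimageAlong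
          ((th_eq_iff (hf.mem hx) hyS).mp h1.symm))
      rwa [mul_inv_cancel_left] at h2
    have hσr := hσ.restrict hpre
    have hr' : φ'.range ≤ θ.range := by
      rintro _ ⟨z, rfl⟩
      obtain ⟨x, hx, hxz⟩ := exists_preimage (hr.symm ▸ hP' : P' ≤ θ.range) z.2
      have h1 := (hφ2 x hx).2
      rw [hxz, ev_coe] at h1
      exact h1 ▸ th_mem_range θ _
    obtain ⟨ψ', hψ'⟩ := exists_induced_hom hr' hσr fun x hx =>
      StronglyClosed.map_mem hT hσr (kerIn_le_preimageAlong hx) hx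
    obtain ⟨ψ, hψ, hψσ⟩ := id hσr
    refine ⟨ψ', ⟨hr ▸ hr', ψ, hψ, (inducedAlong_iff (f' := ev ψ') preimageAlong_le
      (fun z hz => hσr.mem hz) hψσ (fun y => (ev_coe ψ' y).symm)).mpr fun x hx =>
        ⟨(mem_preimageAlong.mp hx).2, by rw [ev_apply ψ' (mem_preimageAlong.mp hx).2, hψ' x hx]⟩⟩,
      fun y => ?_⟩
    obtain ⟨x, hx, hxy⟩ := exists_preimage (hr.symm ▸ hP' : P' ≤ θ.range) y.2
    have h1 := (hφ2 x hx).2
    rw [hxy, ev_coe] at h1
    have hx' : ev φ x ∈ preimageAlong θ φ'.range :=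
      mem_preimageAlong.mpr ⟨hf.mem hx, h1 ▸ ⟨y, rfl⟩⟩
    have := hψ' _ hx'
    rw [hσf x hx, hxy] at this
    refine Eq.trans (congrArg ψ' (Subtype.ext ?_)) this
    exact h1

theorem isFactorSystem_factorSys [Finite S] (F : FusionSystem S) (θ : S →* Ω')
    (hr : θ.range = S') (hT : F.StronglyClosed (kerIn θ)) :
    F.IsFactorSystem (kerIn θ) θ (factorSys F θ hr hT) := by
  refine ⟨kerIn_le, fun s => ?_, hr, fun P' φ' => Iff.rfl⟩
  rw [mem_kerIn, th_coe]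
  exact ⟨fun h => ⟨s.2, h⟩, fun h => h.2⟩

end Cfsg.Agent.Fusion
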