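import Cfsg.Agent.Lib.Fusion.IsoTransport
import Cfsg.Agent.Lib.Fusion.Quotient

/-!
Components under isomorphisms and under maps of the system.
-/

set_option autoImplicit false

namespace Cfsg.Agent.Fusion

open Cfsg.FusionSystem (centralizerIn normalizerIn preimageAlong)

variable {Ω Ω' : Type*} [Group Ω] [Group Ω'] {S T : Subgroup Ω} {S' T' : Subgroup Ω'}
variable {F : FusionSystem S} {F' : FusionSystem S'} {E : FusionSystem T} {E' : FusionSystem T'}
variable {u : Ω → Ω'} {v : Ω' → Ω} {p : ℕ}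

theorem SysIso.hyperfocal_le [Finite T] (h : SysIso E E' u v) :
    imgX u (E.hyperfocalSubgroup p) ≤ E'.hyperfocalSubgroup p := by
  refine imgX_le_of_forall fun y hy => ?_
  suffices hle : E.hyperfocalSubgroup p ≤ imgX v (E'.hyperfocalSubgroup p) by
    have hy' := Cfsg.Agent.Fusion.hyperfocal_le (F := E) hy
    exact (h.bij.mem_imgX_symm_iff Cfsg.Agent.Fusion.hyperfocal_le hy').mp (hle hy)
  refine hyperfocal_le_iff.mpr fun P hP α hα x hx => ?_
  obtain ⟨a, ha, rfl⟩ := hα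
  obtain ⟨Φ, hΦ⟩ := IsMorphism.exists_autHom (h.isSurjectiveMorphism).1 hP
  have him : ∀ {z : Ω}, z ∈ P → th h.bij.hom z = u z := fun hz => h.bij.th_hom (hP hz)
  have hm : th h.bij.hom x ∈ Cfsg.FusionSystem.imageAlong h.bij.hom P := th_mem_imageAlong hP hx
  have hax : autFun (a : MulAut P) x ∈ T := hP (autFun_mem _ hx)
  have h1 := mem_hyperfocal (F := E') (p := p)
    (imageAlong_le_range.trans h.bij.range_hom.le)
    (α := (Φ a : MulAut (Cfsg.FusionSystem.imageAlong h.bij.hom P)))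
    ⟨Φ a, Cfsg.Agent.Transfer.map_pResidual_le Φ ⟨a, ha, rfl⟩, rfl⟩ hm
  rw [hΦ a x hx, him hx, h.bij.th_hom hax, ← h.bij.map_inv (hP hx),
    ← h.bij.map_mul _ (T.inv_mem (hP hx)) _ hax] at h1
  refine (h.bij.mem_imgX_symm_iff Cfsg.Agent.Fusion.hyperfocal_le
    (T.mul_mem (T.inv_mem (hP hx)) hax)).mpr h1

theorem SysIso.isCentral (h : SysIso E E' u v) {Q : Subgroup Ω} (hQ : E.IsCentral Q) :
    E'.IsCentral (imgX u Q) := by
  obtain ⟨hQT, hext⟩ := isCentral_iff.mp hQ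
  refine isCentral_iff.mpr ⟨h.bij.imgX_le hQT, fun P' f' hf' => ?_⟩
  have hf := h.map' P' f' hf'
  obtain ⟨g, hg, hgf, hgQ⟩ := hext _ _ hf
  have h1 := h.map _ _ hg
  rw [h.bij.imgX_sup hf.le hQT, h.bij.symm.imgX_imgX hf'.le] at h1
  refine ⟨_, h1, fun y hy => ?_, fun y hy => ?_⟩
  · show u (g (v y)) = f' y
    rw [hgf _ (mem_imgX_of_mem hy), h.bij.right y (hf'.le hy), h.bij.right _ (hf'.mem hy)]
  · obtain ⟨x, hx, rfl⟩ := (h.bij.mem_imgX_iff hQT).mp hy
    show u (g (v (u x))) = u x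
    rw [h.bij.left x (hQT hx), hgQ x hx]

theorem SysIso.center_eq [Finite T] (h : SysIso E E' u v) : imgX u E.center = E'.center := by
  have := h.bij.finite
  have h1 := (isCentral_center E).1
  have h2 := (isCentral_center E').1
  refine le_antisymm (le_sSup (h.isCentral (isCentral_center E))) ?_
  rw [← h.bij.symm.imgX_imgX h2]
  exact imgX_mono (le_sSup (h.symm.isCentral (isCentral_center E')))

/-- Factor systems of isomorphic systems are isomorphic. -/
theorem SysIso.factor {Ω₁ Ω₂ : Type*} [Group Ω₁] [Group Ω₂] {T₁ : Subgroup Ω₁} {T₂ : Subgroup Ω₂}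
    {Z : Subgroup Ω} {Z' : Subgroup Ω'} {θ : T →* Ω₁} {θ' : T' →* Ω₂}
    {E₁ : FusionSystem T₁} {E₂ : FusionSystem T₂} {u₁ : Ω₁ → Ω₂} {v₁ : Ω₂ → Ω₁}
    (h : SysIso E E' u v) (h₁ : E.IsFactorSystem Z θ E₁) (h₂ : E'.IsFactorSystem Z' θ' E₂)
    (hb : Bij T₁ T₂ u₁ v₁) (hcomm : ∀ x ∈ T, u₁ (th θ x) = th θ' (u x))
    (hsc : E.StronglyClosed Z) (hsc' : E'.StronglyClosed Z') : SysIso E₁ E₂ u₁ v₁ := by
  have hcomm' : ∀ y ∈ T', v₁ (th θ' y) = th θ (v y) := fun y hy => by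
    conv_lhs => rw [← h.bij.right y hy, ← hcomm _ (h.bij.mem' y hy)]
    exact hb.left _ (h₁.2.2.1.le (th_mem_range θ _))
  refine ⟨hb, fun P f hf => ?_, fun P' f' hf' => ?_⟩
  · obtain ⟨hP, l, hl, hlf⟩ := IsFactorSystem.exists_lift h₁ hf
    have hl' := h.map _ _ hl
    have hpre : imgX u (preimageAlong θ P) = preimageAlong θ' (imgX u₁ P) := by
      refine le_antisymm (imgX_le_of_forall fun x hx => ?_) fun y hy => ?_
      · have hxT := preimageAlong_le hx
        refine mem_preimageAlong.mpr ⟨h.bij.mem x hxT, ?_⟩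
        rw [← hcomm x hxT]
        exact mem_imgX_of_mem (mem_preimageAlong.mp hx).2
      · obtain ⟨hyT, hy'⟩ := mem_preimageAlong.mp hy
        rw [← h.bij.right y hyT]
        refine mem_imgX_of_mem (mem_preimageAlong.mpr ⟨h.bij.mem' y hyT, ?_⟩)
        obtain ⟨a, ha, hay⟩ := (hb.mem_imgX_iff (h₁.2.2.1 ▸ hP)).mp hy'
        rw [← hcomm' y hyT, ← hay, hb.left a (h₁.2.2.1.le (hP ha))]
        exact ha
    rw [hpre] at hl'
    have hP' : imgX u₁ P ≤ θ'.range := h₂.2.2.1.symm ▸ hb.imgX_le (h₁.2.2.1 ▸ hP)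
    obtain ⟨g, hg, hgl⟩ := IsFactorSystem.mapTo_of_lift h₂ hP' hl' fun x hx =>
      (IsFactorSystem.kerIn_eq h₂).symm ▸ StronglyClosed.map_mem hsc' hl'
        (kerIn_le_preimageAlong hx) ((IsFactorSystem.kerIn_eq h₂) ▸ hx)
    refine hg.congr' fun y hy => ?_
    obtain ⟨a, ha, rfl⟩ := (hb.mem_imgX_iff (h₁.2.2.1 ▸ hP)).mp hy
    obtain ⟨x, hx, hxa⟩ := exists_preimage hP ha
    have hxT := preimageAlong_le hx
    have hx' : u x ∈ preimageAlong θ' (imgX u₁ P) := hpre ▸ mem_imgX_of_mem hx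
    show u₁ (f (v₁ (u₁ a))) = g (u₁ a)
    rw [hb.left a (h₁.2.2.1.le (hP ha)), ← hxa, hlf x hx, hcomm _ (hl.mem hx), hcomm x hxT,
      hgl _ hx', h.bij.left x hxT]
  · obtain ⟨hP, l, hl, hlf⟩ := IsFactorSystem.exists_lift h₂ hf'
    have hl' := h.map' _ _ hl
    have hpre : imgX v (preimageAlong θ' P') = preimageAlong θ (imgX v₁ P') := by
      refine le_antisymm (imgX_le_of_forall fun x hx => ?_) fun y hy => ?_
      · have hxT := preimageAlong_le hx
        refine mem_preimageAlong.mpr ⟨h.bij.mem' x hxT, ?_⟩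
        rw [← hcomm' x hxT]
        exact mem_imgX_of_mem (mem_preimageAlong.mp hx).2
      · obtain ⟨hyT, hy'⟩ := mem_preimageAlong.mp hy
        rw [← h.bij.left y hyT]
        refine mem_imgX_of_mem (mem_preimageAlong.mpr ⟨h.bij.mem y hyT, ?_⟩)
        obtain ⟨a, ha, hay⟩ := (hb.symm.mem_imgX_iff (h₂.2.2.1 ▸ hP)).mp hy'
        rw [← hcomm y hyT, ← hay, hb.right a (h₂.2.2.1.le (hP ha))]
        exact ha
    rw [hpre] at hl'
    have hP' : imgX v₁ P' ≤ θ.range := h₁.2.2.1.symm ▸ hb.symm.imgX_le (h₂.2.2.1 ▸ hP)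
    obtain ⟨g, hg, hgl⟩ := IsFactorSystem.mapTo_of_lift h₁ hP' hl' fun x hx =>
      (IsFactorSystem.kerIn_eq h₁).symm ▸ StronglyClosed.map_mem hsc hl'
        (kerIn_le_preimageAlong hx) ((IsFactorSystem.kerIn_eq h₁) ▸ hx)
    refine hg.congr' fun y hy => ?_
    obtain ⟨a, ha, rfl⟩ := (hb.symm.mem_imgX_iff (h₂.2.2.1 ▸ hP)).mp hy
    obtain ⟨x, hx, hxa⟩ := exists_preimage hP ha
    have hxT := preimageAlong_le hx
    have hx' : v x ∈ preimageAlong θ (imgX v₁ P') := hpre ▸ mem_imgX_of_mem hx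
    show v₁ (f' (u₁ (v₁ a))) = g (v₁ a)
    rw [hb.right a (h₂.2.2.1.le (hP ha)), ← hxa, hlf x hx, hcomm' _ (hl.mem hx), hcomm' x hxT,
      hgl _ hx', h.bij.right x hxT]

theorem SysIso.isSimple [Finite S] [Fact p.Prime] (hS : IsPGroup p S) (h : SysIso F F' u v)
    (hs : F.IsSimple p) : F'.IsSimple p := by
  obtain ⟨hF, hne, hsimp⟩ := hs
  have := h.bij.finite
  refine ⟨h.isSaturated hS hF, fun he => hne ?_, fun T' E' hE' => ?_⟩
  · rw [eq_bot_iff]
    intro x hx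
    have h1 := h.bij.mem x hx
    rw [he, Subgroup.mem_bot] at h1
    rw [Subgroup.mem_bot]
    exact h.bij.inj hx S.one_mem (h1.trans h.bij.map_one.symm)
  have hT' : T' ≤ S' := hE'.1.2.2.2.1.1
  have hb := h.bij.symm.restrict hT'
  have hiso := sysIso_imgSys E' hb
  rcases hsimp _ _ (h.symm.isNormalIn (h.bij.isPGroup hS) hiso hE') with h0 | ⟨h0, hall⟩
  · refine Or.inl (eq_bot_iff.mpr fun y hy => ?_)
    have h1 : v y ∈ imgX v T' := mem_imgX_of_mem hy
    rw [h0, Subgroup.mem_bot] at h1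
    rw [Subgroup.mem_bot]
    exact h.bij.symm.inj (hT' hy) S'.one_mem (h1.trans h.bij.symm.map_one.symm)
  · have hTS : T' = S' := by
      rw [← h.bij.symm.imgX_imgX hT', h0, h.bij.imgX_top]
    subst hTS
    refine Or.inr ⟨rfl, fun P => Set.Subset.antisymm (hE'.1.2.2.1 P) fun φ hφ => ?_⟩
    have h1 := h.map' P _ (mapTo_ev hφ)
    have h2 : MapTo (imgSys E' hb) (imgX v P) (fun x => v (ev φ (u x))) := by
      obtain ⟨ψ, hψ, hψf⟩ := h1
      exact ⟨ψ, (hall _).symm ▸ hψ, hψf⟩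
    exact mapTo_ev_iff.mp (hiso.mapTo_iff.symm.mp ((mapTo_imgSys_iff hb).mp h2) |>
      fun _ => hiso.symm.mapTo_iff.mpr ⟨(mapTo_ev hφ).le, fun y hy => (mapTo_ev hφ).mem hy, h2⟩)

theorem SysIso.quasisimple [Finite T] [Fact p.Prime] (hT : IsPGroup p T) (h : SysIso E E' u v)
    (hq : E.Quasisimple p) : E'.Quasisimple p := by
  obtain ⟨hsat, hhyp, hsimp⟩ := hq
  have := h.bij.finite
  refine ⟨h.isSaturated hT hsat,
    le_antisymm Cfsg.Agent.Fusion.hyperfocal_le ?_, fun E₂ hE₂ => ?_⟩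
  · have := h.hyperfocal_le (p := p)
    rwa [hhyp, h.bij.imgX_top] at this
  have hc := h.center_eq
  have hcT := (isCentral_center E).1
  have hcT' := (isCentral_center E').1
  set θ := QuotientGroup.mk' (E.center.subgroupOf T)
  set θ' := QuotientGroup.mk' (E'.center.subgroupOf T')
  have hk : kerIn θ = E.center := by
    rw [kerIn, QuotientGroup.ker_mk', Subgroup.map_subgroupOf_eq_of_le hcT]
  have hscl : E.StronglyClosed (kerIn θ) :=
    hk.symm ▸ IsNormal.stronglyClosed (IsCentral.isNormal (isCentral_center E))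
  have hr : θ.range = ⊤ := MonoidHom.range_eq_top.mpr (QuotientGroup.mk'_surjective _)
  have hE₁ : E.IsFactorSystem E.center θ (factorSys E θ hr hscl) :=
    ⟨hcT, fun s => ((isFactorSystem_factorSys E θ hr hscl).2.1 s).trans (by rw [hk]), hr,
      fun _ _ => Iff.rfl⟩
  let e : T ≃* T' :=
    { toFun := fun x => ⟨u x, h.bij.mem x x.2⟩
      invFun := fun y => ⟨v y, h.bij.mem' y y.2⟩
      left_inv := fun x => Subtype.ext (h.bij.left x x.2)
      right_inv := fun y => Subtype.ext (h.bij.right y y.2)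
      map_mul' := fun a b => Subtype.ext (h.bij.map_mul a a.2 b b.2) }
  have he : (E.center.subgroupOf T).map e.toMonoidHom = E'.center.subgroupOf T' := by
    ext y
    rw [Subgroup.mem_map_equiv, Subgroup.mem_subgroupOf, Subgroup.mem_subgroupOf, ← hc]
    refine ⟨fun hy => ?_, fun hy => ?_⟩
    · rw [← h.bij.right y y.2]
      exact mem_imgX_of_mem hy
    · obtain ⟨x, hx, hxy⟩ := (h.bij.mem_imgX_iff hcT).mp hy
      show v y ∈ E.center
      rw [← hxy, h.bij.left x (hcT hx)]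
      exact hx
  let ē := QuotientGroup.congr _ _ e he
  have hb : Bij (⊤ : Subgroup (T ⧸ E.center.subgroupOf T))
      (⊤ : Subgroup (T' ⧸ E'.center.subgroupOf T')) ē ē.symm :=
    ⟨fun _ _ => trivial, fun _ _ => trivial, fun x _ => ē.symm_apply_apply x,
      fun y _ => ē.apply_symm_apply y, fun x _ y _ => map_mul ē x y⟩
  have hiso := h.factor hE₁ hE₂ hb (fun x hx => by
    rw [th_apply θ hx, th_apply θ' (h.bij.mem x hx)]
    exact QuotientGroup.congr_mk _ _ e he ⟨x, hx⟩)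
    (IsNormal.stronglyClosed (IsCentral.isNormal (isCentral_center E)))
    (IsNormal.stronglyClosed (IsCentral.isNormal (isCentral_center E')))
  exact hiso.isSimple ((hT.to_quotient _).of_equiv Subgroup.topEquiv.symm) (hsimp _ hE₁)

end Cfsg.Agent.Fusion
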