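import Cfsg.Agent.Lib.Fusion.NormalSubgroupSystem

/-!
For a system realized by `ι : S →* G` and a normal subgroup `N` of `G`: the subsystem of `N`,
and the quotient by a normal subgroup meeting the image of `S` trivially.
-/

set_option autoImplicit false

namespace Cfsg.Agent.Fusion

open Cfsg.FusionSystem (centralizerIn normalizerIn imageAlong preimageAlong)

universe u v

variable {Ω : Type u} [Group Ω] {S : Subgroup Ω} {F : FusionSystem S} {P : Subgroup Ω}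
variable {G : Type v} [Group G] {ι : S →* G} {p : ℕ} {f : Ω → Ω}

/-- The system on the preimage of `N` given by conjugation with elements of `N`. -/
def realizedSubSystem (hι : Function.Injective ι) (N : Subgroup G) :
    FusionSystem (preimageAlong ι N) where
  Hom P := {φ | P ≤ preimageAlong ι N ∧ (∀ x : P, φ x ∈ preimageAlong ι N) ∧
    ∃ g ∈ N, ∀ x : P, th ι (φ x) = g * th ι x * g⁻¹}
  le_of_mem h := ⟨h.1, h.2.1⟩
  injective_of_mem := by
    rintro P φ ⟨hP, -, g, -, hg⟩ x y hxy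
    refine Subtype.ext (th_inj hι (mem_preimageAlong.mp (hP x.2)).1
      (mem_preimageAlong.mp (hP y.2)).1 ?_)
    have h := hg x
    rw [hxy, hg y] at h
    exact (mul_left_cancel (mul_right_cancel h)).symm
  conj_mem := by
    intro P g hP hg
    have hgS := mem_preimageAlong.mp hg
    refine ⟨hP, fun x => mul_mem (mul_mem hg (hP x.2)) (inv_mem hg), th ι g, hgS.2, fun x => ?_⟩
    exact th_conj ι hgS.1 (mem_preimageAlong.mp (hP x.2)).1
  comp_mem := by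
    rintro P Q φ ψ ⟨hP, -, g, hg, hgx⟩ ⟨-, hψ, h, hh, hhx⟩ hval
    refine ⟨hP, fun x => hψ ⟨φ x, hval x⟩, h * g, mul_mem hh hg, fun x => ?_⟩
    show th ι (ψ ⟨φ x, hval x⟩) = _
    rw [hhx ⟨φ x, hval x⟩]
    show h * th ι (φ x) * h⁻¹ = _
    rw [hgx x]
    group
  inv_mem := by
    rintro P φ ⟨hP, hφ, g, hg, hgx⟩
    have hinj : Function.Injective φ := fun x y hxy => by
      refine Subtype.ext (th_inj hι (mem_preimageAlong.mp (hP x.2)).1
        (mem_preimageAlong.mp (hP y.2)).1 ?_)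
      have h := hgx x
      rw [hxy, hgx y] at h
      exact (mul_left_cancel (mul_right_cancel h)).symm
    set e := MonoidHom.ofInjective hinj with he
    refine ⟨P.subtype.comp e.symm.toMonoidHom,
      ⟨by rintro _ ⟨x, rfl⟩; exact hφ x, fun z => hP (e.symm z).2, g⁻¹, inv_mem hg, fun z => ?_⟩,
      fun x => ?_⟩
    · obtain ⟨x, rfl⟩ := e.surjective z
      show th ι ((e.symm (e x) : P) : Ω) = g⁻¹ * th ι (φ x) * g⁻¹⁻¹
      rw [MulEquiv.symm_apply_apply, hgx x]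
      group
    · show ((e.symm (e x) : P) : Ω) = x
      rw [MulEquiv.symm_apply_apply]

theorem mapTo_realizedSub_iff {hι : Function.Injective ι} {N : Subgroup G} :
    MapTo (realizedSubSystem hι N) P f ↔ P ≤ preimageAlong ι N ∧
      (∀ x ∈ P, f x ∈ preimageAlong ι N) ∧
      (∀ x ∈ P, ∀ y ∈ P, f (x * y) = f x * f y) ∧
      ∃ g ∈ N, ∀ x ∈ P, th ι (f x) = g * th ι x * g⁻¹ := by
  constructor
  · intro h
    obtain ⟨φ, ⟨hP, hφ, g, hg, hgx⟩, hφf⟩ := id h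
    exact ⟨hP, fun x hx => hφf ⟨x, hx⟩ ▸ hφ ⟨x, hx⟩, fun x hx y hy => h.map_mul hx hy, g, hg,
      fun x hx => hφf ⟨x, hx⟩ ▸ hgx ⟨x, hx⟩⟩
  · rintro ⟨hP, hf, hmul, g, hg, hgx⟩
    exact ⟨MonoidHom.mk' (fun x : P => f x) fun a b => hmul a a.2 b b.2,
      ⟨hP, fun x => hf x x.2, g, hg, fun x => hgx x x.2⟩, fun _ => rfl⟩

variable [Finite G] [Fact p.Prime]

/-- The preimage of a normal subgroup gives a normal subsystem. -/
theorem IsRealizedBy.isNormalIn_sub [Finite S] (h : F.IsRealizedBy ι) (T : Sylow p G)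
    (hT : (T : Subgroup G) = ι.range) (N : Subgroup G) [N.Normal] :
    (realizedSubSystem h.1 N).IsNormalIn F p := by
  classical
  set T₀ := preimageAlong ι N with hT₀
  have hT₀S : T₀ ≤ S := preimageAlong_le
  have : Finite T₀ := finite_of_le hT₀S
  have hmem : ∀ {x : Ω}, x ∈ T₀ ↔ x ∈ S ∧ th ι x ∈ N := mem_preimageAlong
  have hNc : ∀ (g : G) {x : G}, x ∈ N → g * x * g⁻¹ ∈ N := fun g x hx =>
    (inferInstance : N.Normal).conj_mem x hx g
  set T' := (T : Subgroup G) ⊓ N with hT'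
  have hth' : ∀ {x : Ω}, x ∈ T₀ → th ι x ∈ T' := fun {x} hx =>
    ⟨hT ▸ th_mem_range ι x, (hmem.mp hx).2⟩
  have hpre : ∀ {y : G}, y ∈ T' → ∃ x ∈ T₀, th ι x = y := by
    intro y hy
    obtain ⟨x, hx, rfl⟩ := exists_th_eq (show y ∈ ι.range from hT ▸ hy.1)
    exact ⟨x, hmem.mpr ⟨hx, hy.2⟩, rfl⟩
  have hmul : ∀ {P : Subgroup Ω} {f : Ω → Ω}, P ≤ S → (∀ x ∈ P, f x ∈ S) →
      ∀ g : G, (∀ x ∈ P, th ι (f x) = g * th ι x * g⁻¹) → MapTo F P f :=
    fun hP hf g hg => IsRealizedBy.mapTo_of_conj h hP hf g hg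
  have hsubsys : (realizedSubSystem h.1 N).IsSubsystemOf F := by
    rintro P φ ⟨hP, hφ, g, -, hg⟩
    exact mapTo_ev_iff.mp (hmul (hP.trans hT₀S)
      (fun x hx => hT₀S (ev_apply φ hx ▸ hφ ⟨x, hx⟩)) g fun x hx => ev_apply φ hx ▸ hg ⟨x, hx⟩)
  have hsat : (realizedSubSystem h.1 N).IsSaturated p := by
    obtain ⟨TN, hTN⟩ := exists_sylow_inf T N
    let ι₀ : T₀ →* N := (ι.comp (Subgroup.inclusion hT₀S)).codRestrict N fun x =>
      th_apply ι (hT₀S x.2) ▸ (hmem.mp x.2).2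
    have hι₀ : ∀ x : T₀, ((ι₀ x : N) : G) = th ι x := fun x => (th_apply ι (hT₀S x.2)).symm
    refine IsRealizedBy.isSaturated (ι := ι₀) ?_ TN ?_
    · refine ⟨fun x y hxy => Subgroup.inclusion_injective hT₀S (h.1 (congrArg Subtype.val hxy)),
        fun P hP φ hφ => ⟨?_, ?_⟩⟩
      · rintro ⟨-, -, g, hg, hgx⟩
        refine ⟨⟨g, hg⟩, fun x => Subtype.ext ?_⟩
        show _ = g * ((ι₀ ⟨x, hP x.2⟩ : N) : G) * g⁻¹
        rw [hι₀, hι₀]
        exact hgx x
      · rintro ⟨g, hg⟩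
        refine ⟨hP, hφ, g, g.2, fun x => ?_⟩
        have h1 := congrArg Subtype.val (hg x)
        simp only [Subgroup.coe_mul, InvMemClass.coe_inv, hι₀] at h1
        exact h1
    · rw [hTN]
      ext y
      rw [Subgroup.mem_subgroupOf]
      constructor
      · intro hy
        obtain ⟨x, hx, hxy⟩ := hpre hy
        exact ⟨⟨x, hx⟩, Subtype.ext ((hι₀ _).trans hxy)⟩
      · rintro ⟨x, rfl⟩
        rw [hι₀]
        exact hth' x.2
  refine ⟨⟨hsat, IsRealizedBy.isSaturated h T hT, hsubsys, ?_, ?_, ?_⟩, ?_⟩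
  · refine stronglyClosed_iff.mpr ⟨hT₀S, fun R f hR hf x hx => ?_⟩
    obtain ⟨g, hg⟩ := IsRealizedBy.exists_conj h hf
    exact hmem.mpr ⟨hf.mem hx, hg x hx ▸ hNc g (hmem.mp (hR hx)).2⟩
  · rintro P hPT φ ⟨-, hφT, k, hk, hkx⟩ α hα
    obtain ⟨a, ha⟩ := IsRealizedBy.exists_conj h (mapTo_of_mem_autGroup hT₀S hα)
    set P' := (P.subgroupOf T₀).map (T₀.subtype.comp α.toMonoidHom) with hP'
    have hP'T : P' ≤ T₀ := by rintro _ ⟨y, -, rfl⟩; exact (α y).2
    have key : ∀ (x : P) (hx : φ x ∈ T₀),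
        th ι ((α ⟨φ x, hx⟩ : T₀) : Ω) =
          a * k * a⁻¹ * th ι ((α ⟨x, hPT x.2⟩ : T₀) : Ω) * (a * k * a⁻¹)⁻¹ := by
      intro x hx
      rw [← autFun_coe, ← autFun_coe, ha _ hx, ha _ (hPT x.2), hkx x]
      group
    have hval : ∀ y ∈ P', a * k * a⁻¹ * th ι y * (a * k * a⁻¹)⁻¹ ∈ ι.range := by
      rintro _ ⟨⟨y, hyT⟩, hy, rfl⟩
      exact (key ⟨y, hy⟩ (hφT _)).symm ▸ th_mem_range ι _
    obtain ⟨f, hf, hfx⟩ := IsRealizedBy.exists_mapTo h (hP'T.trans hT₀S) (a * k * a⁻¹) hval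
    obtain ⟨χ, hχ, hχf⟩ := id hf
    refine ⟨χ, ⟨hP'T, fun y => ?_, _, hNc a hk, fun y => ?_⟩, fun x hx hαx => ?_⟩
    · rw [hχf y]
      exact hmem.mpr ⟨hf.mem y.2, hfx y y.2 ▸ hNc _ (hmem.mp (hP'T y.2)).2⟩
    · rw [hχf y]; exact hfx y y.2
    · rw [hχf ⟨_, hαx⟩]
      refine th_inj h.1 (hf.mem hαx) (hT₀S (α _).2) ?_
      rw [hfx _ hαx, key x hx]
  · intro P hPT φ hφ
    obtain ⟨g, hg⟩ := IsRealizedBy.exists_conj h (mapTo_ev hφ)
    obtain ⟨TN, hTN⟩ := exists_sylow_inf T N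
    have htop := Sylow.normalizer_sup_eq_top TN
    have hmap : (TN : Subgroup N).map N.subtype = T' := by
      rw [hTN]; exact Subgroup.map_subgroupOf_eq_of_le inf_le_right
    rw [hmap] at htop
    obtain ⟨n, hn, k, hk, rfl⟩ : ∃ n ∈ Subgroup.normalizer (T' : Set G), ∃ k ∈ N, n * k = g := by
      have hmem : g ∈ Subgroup.normalizer (T' : Set G) ⊔ N := htop ▸ Subgroup.mem_top g
      rw [← SetLike.mem_coe, Subgroup.mul_normal] at hmem
      exact Set.mem_mul.mp hmem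
    obtain ⟨α, hα, hαx⟩ := IsRealizedBy.exists_mapTo h hT₀S n fun x hx =>
      hT ▸ ((Subgroup.mem_normalizer_iff.mp hn _).mp (hth' hx)).1
    have himg : img α T₀ = T₀ := img_eq_self_of_forall hα fun x hx =>
      hmem.mpr ⟨hα.mem hx, hαx x hx ▸ hNc n (hmem.mp hx).2⟩
    have hk' : ∀ x ∈ P, k * th ι x * k⁻¹ ∈ T' := by
      intro x hx
      refine (Subgroup.mem_normalizer_iff.mp hn _).mpr ?_
      have h1 : th ι (ev φ x) ∈ T' := ⟨hT ▸ th_mem_range ι _,
        hg x hx ▸ hNc _ (hmem.mp (hPT hx)).2⟩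
      rw [hg x hx] at h1
      convert h1 using 1
      group
    obtain ⟨f, hf, hfx⟩ := IsRealizedBy.exists_mapTo h (hPT.trans hT₀S) k
      fun x hx => hT ▸ (hk' x hx).1
    obtain ⟨φ₀, -, hφ₀⟩ := id hf
    refine ⟨autOf hα himg, autOf_mem hα himg, φ₀, ⟨hPT, fun x => ?_, k, hk, fun x => ?_⟩,
      fun x hx => ?_⟩
    · rw [hφ₀ x]; exact hmem.mpr ⟨hf.mem x.2, hfx x x.2 ▸ (hk' x x.2).2⟩
    · rw [hφ₀ x]; exact hfx x x.2
    · refine th_inj h.1 ((F.le_of_mem hφ).2 x) (hT₀S (autOf hα himg _).2) ?_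
      rw [← autFun_coe, autFun_autOf hα himg hx, hαx _ hx, hφ₀ x, hfx x x.2,
        ← ev_coe φ x, hg x x.2]
      group
  · intro α hα
    obtain ⟨-, hαT, -, m, hm, hmx⟩ :=
      mapTo_realizedSub_iff.mp (mapTo_of_mem_autGroup (le_refl T₀) hα)
    have hm' : MapTo (fusionSystemOfSubgroup N T' inf_le_right) T' (cj m) := by
      refine mapTo_fsSub_iff.mpr ⟨le_rfl, m, hm, fun y hy => ⟨rfl, ?_⟩⟩
      obtain ⟨x, hx, rfl⟩ := hpre hy
      exact hmx x hx ▸ hth' (hαT x hx)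
    have himg : img (cj m) T' = T' := img_eq_self_of_forall hm' fun y hy =>
      ((mapTo_fsSub_iff.mp hm').2.choose_spec.2 y hy).1 ▸
        ((mapTo_fsSub_iff.mp hm').2.choose_spec.2 y hy).2
    obtain ⟨β', hβ', hβT, hβc⟩ :=
      (isNormalIn_fsSub T N).2 (autOf hm' himg) (autOf_mem hm' himg)
    set U' := T' ⊔ centralizerIn (T : Subgroup G) T' with hU'
    have hU'T : U' ≤ (T : Subgroup G) := sup_le inf_le_left centralizerIn_le
    obtain ⟨-, g, hg⟩ := mapTo_gfs_iff.mp (mapTo_of_mem_autGroup hU'T hβ')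
    have hgT : ∀ x ∈ T₀, g * th ι x * g⁻¹ = th ι (autFun α x) := by
      intro x hx
      have hx' := hth' hx
      have h1 := hβT ⟨th ι x, hx'⟩
      rw [← autFun_coe, ← autFun_coe, autFun_autOf hm' himg hx'] at h1
      have h2 := (hg _ (Subgroup.mem_sup_left hx')).1
      rw [← h2, hmx x hx]
      exact h1
    have hcen : ∀ {c : Ω}, c ∈ centralizerIn S T₀ →
        th ι c ∈ centralizerIn (T : Subgroup G) T' := by
      intro c hc
      refine mem_centralizerIn.mpr ⟨hT ▸ th_mem_range ι c, fun y hy => ?_⟩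
      obtain ⟨x, hx, rfl⟩ := hpre hy
      rw [← th_mul ι (hT₀S hx) hc.1, ← th_mul ι hc.1 (hT₀S hx),
        (mem_centralizerIn.mp hc).2 x hx]
    have hcen' : ∀ {c : Ω}, c ∈ S → th ι c ∈ centralizerIn (T : Subgroup G) T' →
        c ∈ centralizerIn S T₀ := by
      intro c hcS hc
      refine mem_centralizerIn.mpr ⟨hcS, fun x hx => th_inj h.1 (mul_mem (hT₀S hx) hcS)
        (mul_mem hcS (hT₀S hx)) ?_⟩
      rw [th_mul ι (hT₀S hx) hcS, th_mul ι hcS (hT₀S hx),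
        (mem_centralizerIn.mp hc).2 _ (hth' hx)]
    set U := T₀ ⊔ centralizerIn S T₀ with hU
    have hUS : U ≤ S := sup_le hT₀S centralizerIn_le
    have hUU' : imageAlong ι U = U' := by
      refine le_antisymm ?_ (sup_le ?_ ?_)
      · refine Subgroup.map_le_iff_le_comap.mpr fun s hs => ?_
        have : U ≤ (U'.comap ι).map S.subtype := sup_le
          (fun x hx => mem_comap_th.mpr ⟨hT₀S hx, Subgroup.mem_sup_left (hth' hx)⟩)
          (fun c hc => mem_comap_th.mpr ⟨hc.1, Subgroup.mem_sup_right (hcen hc)⟩)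
        have h1 := (mem_comap_th.mp (this hs)).2
        rwa [Subgroup.coe_subtype, th_coe] at h1
      · intro y hy
        obtain ⟨x, hx, rfl⟩ := hpre hy
        exact th_mem_imageAlong hUS (Subgroup.mem_sup_left hx)
      · intro y hy
        obtain ⟨c, hc, rfl⟩ := exists_th_eq (show y ∈ ι.range from hT ▸ hy.1)
        exact th_mem_imageAlong hUS (Subgroup.mem_sup_right (hcen' hc hy))
    have : Finite U := finite_of_le hUS
    obtain ⟨f, hf, hfx⟩ := IsRealizedBy.exists_mapTo h hUS g fun x hx =>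
      hT ▸ hU'T ((hg _ (hUU' ▸ th_mem_imageAlong hUS hx)).1 ▸
        autFun_mem _ (hUU' ▸ th_mem_imageAlong hUS hx))
    have hfU : img f U = U := img_eq_self_of_forall hf fun x hx => by
      have hx' : th ι x ∈ U' := hUU' ▸ th_mem_imageAlong hUS hx
      have h1 : th ι (f x) ∈ imageAlong ι U := by
        rw [hUU', hfx x hx, ← (hg _ hx').1]
        exact autFun_mem _ hx'
      obtain ⟨y, hy, hyx⟩ := (mem_imageAlong hUS).mp h1
      exact th_inj h.1 (hUS hy) (hf.mem hx) hyx ▸ hy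
    refine ⟨autOf hf hfU, autOf_mem hf hfU, fun x => ?_, fun c hc => ?_⟩
    · rw [← autFun_coe, Subgroup.coe_inclusion, autFun_autOf hf hfU (Subgroup.mem_sup_left x.2)]
      refine th_inj h.1 (hf.mem (Subgroup.mem_sup_left x.2)) (hT₀S (α x).2) ?_
      rw [hfx _ (Subgroup.mem_sup_left x.2), ← autFun_coe]
      exact hgT x x.2
    · have hcS : (c : Ω) ∈ S := hc.1
      have hfc : f c ∈ S := hf.mem c.2
      have hc' : th ι c ∈ U' := Subgroup.mem_sup_right (hcen hc)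
      have h1 := hβc ⟨_, hc'⟩ (hcen hc)
      rw [← autFun_coe, (hg _ hc').1, ← hfx _ c.2, ← th_inv ι hcS,
        ← th_mul ι (S.inv_mem hcS) hfc] at h1
      rw [← autFun_coe, autFun_autOf hf hfU c.2]
      have h2 : (c : Ω)⁻¹ * f c ∈ S := mul_mem (inv_mem hcS) hfc
      refine ⟨hmem.mpr ⟨h2, h1.1.2⟩, (hcen' h2 ⟨h1.1.1, h1.2⟩).2⟩

omit [Fact p.Prime] in
/-- A system realized on a Sylow subgroup is also realized by the quotient by a normal subgroup
meeting that Sylow subgroup trivially. -/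
theorem IsRealizedBy.quotient (h : F.IsRealizedBy ι) (T : Sylow p G) [Fact p.Prime]
    (hT : (T : Subgroup G) = ι.range) (N : Subgroup G) [N.Normal] (hN : ι.range ⊓ N = ⊥) :
    F.IsRealizedBy ((QuotientGroup.mk' N).comp ι) := by
  have heq : ∀ {a b : G}, a ∈ ι.range → b ∈ ι.range →
      (QuotientGroup.mk a : G ⧸ N) = QuotientGroup.mk b → a = b := by
    intro a b ha hb hab
    have h1 : a⁻¹ * b ∈ ι.range ⊓ N :=
      ⟨ι.range.mul_mem (ι.range.inv_mem ha) hb, QuotientGroup.eq.mp hab⟩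
    rw [hN, Subgroup.mem_bot, inv_mul_eq_one] at h1
    exact h1
  refine ⟨fun x y hxy => h.1 (heq ⟨x, rfl⟩ ⟨y, rfl⟩ hxy), fun P hP φ hφ => ⟨?_, ?_⟩⟩
  · intro hφF
    obtain ⟨g, hg⟩ := (h.2 P hP φ hφ).mp hφF
    exact ⟨QuotientGroup.mk g, fun x => by
      show (QuotientGroup.mk (ι ⟨φ x, hφ x⟩) : G ⧸ N) = _
      rw [hg x]; rfl⟩
  · rintro ⟨γ, hγ⟩
    obtain ⟨a, rfl⟩ := QuotientGroup.mk_surjective γ
    let H : Subgroup G := ι.range ⊔ N
    let Q : Subgroup G := imageAlong ι P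
    have hQH : Q.map (MulAut.conj a).toMonoidHom ≤ H := by
      rintro _ ⟨y, hy, rfl⟩
      obtain ⟨x, hx, rfl⟩ := (mem_imageAlong hP).mp hy
      have h1 : (ι ⟨φ ⟨x, hx⟩, hφ _⟩)⁻¹ * (a * th ι x * a⁻¹) ∈ N := by
        refine QuotientGroup.eq.mp ?_
        rw [th_apply ι (hP hx)]
        exact hγ ⟨x, hx⟩
      have h2 : ι ⟨φ ⟨x, hx⟩, hφ _⟩ * ((ι ⟨φ ⟨x, hx⟩, hφ _⟩)⁻¹ * (a * th ι x * a⁻¹)) ∈ H :=
        H.mul_mem (Subgroup.mem_sup_left ⟨_, rfl⟩) (Subgroup.mem_sup_right h1)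
      rw [mul_inv_cancel_left] at h2
      exact h2
    have hTH : (T : Subgroup G) ≤ H := hT ▸ le_sup_left
    have hp' : IsPGroup p ((Q.map (MulAut.conj a).toMonoidHom).subgroupOf H) :=
      ((T.2.to_le (show Q ≤ (T : Subgroup G) from hT ▸ imageAlong_le_range)).map _).of_equiv
        (Subgroup.subgroupOfEquivOfLe hQH).symm
    obtain ⟨R, hR⟩ := hp'.exists_le_sylow
    obtain ⟨u, hu⟩ := MulAction.exists_smul_eq H R (T.subtype hTH)
    obtain ⟨s, hs, n, hn, hsn⟩ : ∃ s ∈ ι.range, ∃ n ∈ N, s * n = (u : G) := by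
      have := u.2
      rw [← SetLike.mem_coe, Subgroup.mul_normal] at this
      exact Set.mem_mul.mp this
    refine (h.2 P hP φ hφ).mpr ⟨n * a, fun x => ?_⟩
    set y := ι ⟨x, hP x.2⟩ with hy
    have hyQ : y ∈ Q := by
      rw [hy, ← th_apply ι (hP x.2)]; exact th_mem_imageAlong hP x.2
    have h1 : u * ⟨a * y * a⁻¹, hQH ⟨y, hyQ, rfl⟩⟩ * u⁻¹ ∈
        ((T.subtype hTH : Sylow p H) : Subgroup H) := by
      rw [← hu, Sylow.coe_subgroup_smul]
      exact Subgroup.smul_mem_pointwise_smul _ _ _ (hR ⟨y, hyQ, rfl⟩)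
    have h2 : (u : G) * (a * y * a⁻¹) * (u : G)⁻¹ ∈ ι.range := hT ▸ h1
    have h3 := mul_mem (mul_mem (inv_mem hs) h2) hs
    rw [← hsn] at h3
    have h4 : n * a * y * (n * a)⁻¹ ∈ ι.range := by
      convert h3 using 1
      group
    refine heq ⟨_, rfl⟩ h4 ?_
    have h5 : (QuotientGroup.mk n : G ⧸ N) = 1 := (QuotientGroup.eq_one_iff n).mpr hn
    rw [QuotientGroup.mk_mul, QuotientGroup.mk_mul, QuotientGroup.mk_inv, QuotientGroup.mk_mul,
      h5, one_mul]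
    exact hγ x

end Cfsg.Agent.Fusion
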