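import Cfsg.Agent.Lib.Fusion.ResidualInvariant
import Cfsg.Agent.Lib.Fusion.ModelBasic
import Cfsg.Agent.Lib.Fusion.RealizedNormal
import Cfsg.Agent.Lib.Fusion.GroupHyperfocal
import Cfsg.Agent.Lib.Fusion.PPowerIndex
import Cfsg.Agent.Lib.Fusion.IsoComponent
import Cfsg.Agent.Lib.Fusion.PSolvableExt
import Cfsg.Agent.Lib.Transfer.Constrained

/-!
Models of the residual subsystems of a constrained system.
-/

set_option autoImplicit false

namespace Cfsg.Agent.Fusion

open Cfsg.FusionSystem (centralizerIn normalizerIn preimageAlong)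

universe u v

variable {Ω : Type u} [Group Ω] {S : Subgroup Ω} {F E : FusionSystem S}
variable {G : Type v} [Group G] {ι : S →* G} {p : ℕ} [Finite S] [Fact p.Prime]

/-- Having a self-centralizing `O_p` passes to normal subgroups. -/
theorem centralizer_pCore_le_of_normal [Finite G] (N : Subgroup G) [N.Normal]
    (hc : Subgroup.centralizer ((pCore p G : Subgroup G) : Set G) ≤ pCore p G) :
    Subgroup.centralizer ((pCore p N : Subgroup N) : Set N) ≤ pCore p N := by
  have hbot : pPrimeCore p G = ⊥ := by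
    have hcop := Basics.pPrimeCore_coprime (G := G) p
    have hcop' : (Nat.card (pPrimeCore p G)).Coprime (Nat.card (pCore p G)) := by
      obtain ⟨k, hk⟩ := (isPGroup_pCore p G).exists_card_eq
      rw [hk]
      exact hcop.pow_right k
    have hdis := Subgroup.inf_eq_bot_of_coprime hcop'
    have hle : pPrimeCore p G ≤ pCore p G := fun x hx => hc (Subgroup.mem_centralizer_iff.mpr
      fun y hy => (Subgroup.commute_of_normal_of_disjoint _ _ inferInstance (normal_pCore p G)
        (disjoint_iff.mpr hdis) x y hx hy).eq.symm)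
    rwa [inf_eq_left.mpr hle] at hdis
  have h1 : IsPConstrained p G := by
    rw [Components.isPConstrained_iff]
    exact Transfer.cp_congr
      ((QuotientGroup.quotientMulEquivOfEq hbot).trans QuotientGroup.quotientBot).symm hc
  have h2 := Transfer.isPConstrained_of_normal N h1
  rw [Components.isPConstrained_iff] at h2
  have hbotN : pPrimeCore p N = ⊥ := by
    apply Subgroup.map_injective N.subtype_injective
    rw [Components.map_subtype_pPrimeCore_of_subnormal (Components.isSubnormal_of_normal N), hbot,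
      Subgroup.map_bot, bot_inf_eq]
  exact Transfer.cp_congr
    ((QuotientGroup.quotientMulEquivOfEq hbotN).trans QuotientGroup.quotientBot) h2

/-- The `p'`-residual has the normal closure of the Sylow subgroup as a model. -/
theorem IsModel.pPrimeResidual (h : F.IsModel p G ι) (hE : F.IsPPrimeResidual p E) :
    ∃ hle : ∀ s, ι s ∈ Subgroup.normalClosure (ι.range : Set G),
      E.IsModel p (Subgroup.normalClosure (ι.range : Set G)) (ι.codRestrict _ hle) := by
  have := h.1
  set H := Subgroup.normalClosure (ι.range : Set G) with hH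
  have hrH : ι.range ≤ H := Subgroup.le_normalClosure
  refine ⟨fun s => hrH ⟨s, rfl⟩, ?_⟩
  set ι' := ι.codRestrict H fun s => hrH ⟨s, rfl⟩ with hι'
  have hS := IsModel.isPGroup h
  have hF := IsModel.isSaturated h
  obtain ⟨T, hT⟩ := h.2.2.1
  have hTH : (T : Subgroup G) ≤ H := hT.le.trans hrH
  have hι'inj : Function.Injective ι' := fun a b hab => h.2.1.1 (congrArg Subtype.val hab)
  have hr' : ι'.range = ι.range.subgroupOf H := by
    ext x
    refine ⟨?_, ?_⟩
    · rintro ⟨s, rfl⟩; exact ⟨s, rfl⟩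
    · rintro ⟨s, hs⟩; exact ⟨s, Subtype.ext hs⟩
  refine ⟨inferInstance, ⟨hι'inj, fun P hP φ hφS => ?_⟩, ⟨T.subtype hTH, ?_⟩, ?_⟩
  rotate_left
  · rw [Sylow.coe_subtype, hr', hT]
  · exact centralizer_pCore_le_of_normal H h.2.2.2
  -- the core as a centric normal subgroup
  set Q := preimageAlong ι (pCore p G) with hQ
  have hQS : Q ≤ S := preimageAlong_le
  have := finite_of_le hQS
  have hQn : F.IsNormal Q := IsModel.isNormal_core_preimage h
  have hQc : F.IsCentric Q := IsModel.isCentric_core_preimage h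
  have hQE : E.IsCentric Q :=
    ⟨hQS, fun R hR => hQc.2 R (IsSubsystemOf.isConj hE.2.1.1 hR)⟩
  have hQm : ∀ g : G, ∀ x ∈ Q, g * th ι x * g⁻¹ ∈ pCore p G := fun g x hx =>
    (normal_pCore p G).conj_mem _ (mem_preimageAlong.mp hx).2 g
  have hgen : ∀ g ∈ H, ∃ a ∈ E.autGroup Q,
      ∀ x ∈ Q, th ι (autFun a x) = g * th ι x * g⁻¹ := by
    intro g hg
    refine Subgroup.closure_induction ?_ ?_ ?_ ?_ (show g ∈ Subgroup.closure
      (Group.conjugatesOfSet (ι.range : Set G)) from hg)
    · intro c hc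
      obtain ⟨f, hf, hfg⟩ := IsRealizedBy.exists_mapTo h.2.1 hQS c
        fun x hx => IsModel.pCore_le_range h (hQm c x hx)
      have himg : img f Q = Q := img_eq_self_of_forall hf fun x hx =>
        mem_preimageAlong.mpr ⟨hf.mem hx, (hfg x hx).symm ▸ hQm c x hx⟩
      refine ⟨autOf hf himg, hE.2.1.2 Q hQS ?_, fun x hx => by rw [autFun_autOf hf himg hx, hfg x hx]⟩
      -- the automorphism has `p`-power order
      obtain ⟨y, ⟨s, rfl⟩, hcs⟩ := Group.mem_conjugatesOfSet_iff.mp hc
      obtain ⟨k, hk⟩ := hS s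
      have hck : c ^ p ^ k = 1 := by
        obtain ⟨d, hd⟩ := _root_.isConj_iff.mp hcs
        rw [← hd, conj_pow, ← _root_.map_pow, hk, _root_.map_one, mul_one, mul_inv_cancel]
      have hiter : ∀ i : ℕ, ∀ x ∈ Q,
          th ι (autFun ((autOf hf himg) ^ i) x) = c ^ i * th ι x * (c ^ i)⁻¹ := by
        intro i
        induction i with
        | zero => intro x hx; rw [pow_zero, autFun_one hx, pow_zero]; simp
        | succ i ih =>
          intro x hx
          rw [pow_succ', autFun_mul _ _ hx, autFun_autOf hf himg (autFun_mem _ hx),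
            hfg _ (autFun_mem _ hx), ih x hx, pow_succ']
          group
      refine mem_ppP_of_pow (autOf_mem hf himg) (k := k) (autFun_ext fun x hx => ?_)
      refine th_inj h.2.1.1 (hQS (autFun_mem _ hx)) (hQS (autFun_mem _ hx)) ?_
      rw [hiter _ x hx, hck, autFun_one hx]
      simp
    · exact ⟨1, Subgroup.one_mem _, fun x hx => by rw [autFun_one hx]; simp⟩
    · rintro a b - - ⟨α, hα, hαx⟩ ⟨β, hβ, hβx⟩
      refine ⟨α * β, Subgroup.mul_mem _ hα hβ, fun x hx => ?_⟩
      rw [autFun_mul _ _ hx, hαx _ (autFun_mem _ hx), hβx x hx]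
      group
    · rintro a - ⟨α, hα, hαx⟩
      refine ⟨α⁻¹, Subgroup.inv_mem _ hα, fun x hx => ?_⟩
      have h1 := hαx _ (autFun_mem α⁻¹ hx)
      rw [autFun_autFun_inv α hx] at h1
      rw [h1]
      group
  constructor
  · intro hφ
    -- minimality against the system of the normal subgroup
    have key : ∀ {U : Subgroup Ω} (K : FusionSystem U), U = S → K.IsWeaklyNormalIn F p →
        E.IsSubsystemOf K := by
      rintro U K rfl hK
      exact pPrimeResidual_le_of_weaklyNormal hS (isWeaklyNormalIn_self hF) hK hE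
    have hn : (Subgroup.normalClosure (ι.range : Set G)).Normal := Subgroup.normalClosure_normal
    have heq : preimageAlong ι H = S :=
      le_antisymm preimageAlong_le fun x hx =>
        mem_preimageAlong.mpr ⟨hx, hrH (th_mem_range ι x)⟩
    obtain ⟨-, -, g, hg, hgx⟩ :=
      key _ heq (IsRealizedBy.isNormalIn_sub h.2.1 T hT H).1 P hφ
    refine ⟨⟨g, hg⟩, fun x => Subtype.ext ?_⟩
    have := hgx x
    rw [th_apply ι (hφS x), th_apply ι (hP x.2)] at this
    exact this
  · rintro ⟨⟨g, hg⟩, hgx⟩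
    have hfg : ∀ x ∈ P, th ι (ev φ x) = g * th ι x * g⁻¹ := fun x hx => by
      rw [ev_apply φ hx, th_apply ι (hφS ⟨x, hx⟩), th_apply ι (hP hx)]
      exact congrArg Subtype.val (hgx ⟨x, hx⟩)
    let K : Subgroup S := (ι.range.comap (MulAut.conj g).toMonoidHom).comap ι
    have hsup : P ⊔ Q ≤ K.map S.subtype := by
      refine sup_le (fun x hx => ⟨⟨x, hP hx⟩, ?_, rfl⟩) fun x hx => ⟨⟨x, hQS hx⟩, ?_, rfl⟩
      · show g * ι ⟨x, hP hx⟩ * g⁻¹ ∈ ι.range
        rw [← th_apply ι (hP hx), ← hfg x hx]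
        exact th_mem_range ι _
      · show g * ι ⟨x, hQS hx⟩ * g⁻¹ ∈ ι.range
        rw [← th_apply ι (hQS hx)]
        exact IsModel.pCore_le_range h (hQm g x hx)
    obtain ⟨w, hw, hwg⟩ := IsRealizedBy.exists_mapTo h.2.1 (sup_le hP hQS) g fun x hx => by
      obtain ⟨s, hs, rfl⟩ := hsup hx
      exact (th_coe ι s).symm ▸ hs
    obtain ⟨a, ha, hax⟩ := hgen g hg
    have hwQ : ∀ x ∈ Q, w x = autFun a x := fun x hx =>
      th_inj h.2.1.1 (hw.mem (Subgroup.mem_sup_right hx)) (hQS (autFun_mem a hx))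
        (by rw [hwg x (Subgroup.mem_sup_right hx), hax x hx])
    have hQEm : MapTo E Q w := (mapTo_of_mem_autGroup hQS ha).congr' hwQ
    have himg : img w Q = Q := by rw [img_congr hwQ, img_autFun]
    obtain ⟨ψ, hψ, hψx⟩ := (isReceptive_iff.mp (isReceptive_of_isFullyCentralized hS hE.1
      (isFullyCentralized_of_isCentric hQE))).2 Q w hQEm himg
    have hle : P ⊔ Q ≤ extSub S hQEm := fun y hy =>
      ⟨⟨sup_le hP hQS hy, IsNormal.le_normalizer hQn (sup_le hP hQS hy)⟩, w y, hw.mem hy,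
        fun x hx => hw.map_conj hy (Subgroup.mem_sup_right hx)⟩
    replace hψ := hψ.restrict hle
    obtain ⟨z, hz, -, hzy⟩ := eq_conj_of_eqOn_centric hS hF hQc le_sup_right
      (IsSubsystemOf.mapTo hE.2.1.1 hψ) hw hψx
    have hzm : z ∈ P ⊔ Q := Subgroup.mem_sup_right hz
    have hwE : MapTo E (P ⊔ Q) w :=
      ((mapTo_cj (sup_le hP hQS) (hQS hz)).comp hψ fun y hy =>
        Subgroup.mul_mem _ (Subgroup.mul_mem _ hzm hy) (Subgroup.inv_mem _ hzm)).congr'
        fun y hy => hzy y hy
    refine (hwE.restrict le_sup_left).hom_mem fun x => th_inj h.2.1.1 (hφS x)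
      (hw.mem (Subgroup.mem_sup_left x.2)) ?_
    rw [hwg x (Subgroup.mem_sup_left x.2), ← hfg x x.2, ev_coe]

omit [Fact p.Prime] in
theorem exists_coprime_pow [hp : Fact p.Prime] {a k : ℕ} (ha : a.Coprime p) :
    ∃ e, p ^ k ∣ e ∧ e ≡ 1 [MOD a] := by
  rcases Nat.lt_or_ge a 2 with h | h
  · refine ⟨p ^ k, dvd_rfl, ?_⟩
    interval_cases a
    · exact absurd (by simpa using ha) hp.out.ne_one
    · exact Nat.modEq_one
  · obtain ⟨e, he, he'⟩ := Nat.exists_mul_mod_eq_one_of_coprime
      ((Nat.Coprime.pow_right k ha).symm) h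
    exact ⟨p ^ k * e, Dvd.intro _ rfl, by rw [Nat.ModEq, he', Nat.mod_eq_of_lt h]⟩

/-- The `p`-residual has `O^p` of the group as a model. -/
theorem IsModel.pResidual (h : E.IsModel p G ι)
    {D : FusionSystem (E.hyperfocalSubgroup p)} (hD : E.IsPResidual p D) :
    E.hyperfocalSubgroup p = preimageAlong ι (Cfsg.pResidual p G) ∧
    ∃ ι' : E.hyperfocalSubgroup p →* Cfsg.pResidual p G,
      D.IsModel p (Cfsg.pResidual p G) ι' := by
  have := h.1
  set K := Cfsg.pResidual p G with hK
  have hS := IsModel.isPGroup h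
  obtain ⟨T, hT⟩ := h.2.2.1
  have hUS : (E.hyperfocalSubgroup p) ≤ S := hyperfocal_le
  -- prime to `p` automorphisms come from the residual
  have hoP : ∀ Q : Subgroup Ω, Q ≤ S → ∀ α ∈ oP E p Q, ∃ g ∈ K,
      ∀ x ∈ Q, th ι (autFun α x) = g * th ι x * g⁻¹ := by
    intro Q hQ
    refine oP_induction ⟨1, Subgroup.one_mem _, fun x hx => by rw [autFun_one hx]; simp⟩
      ?_ ?_ ?_
    · rintro a b - - ⟨g, hg, hga⟩ ⟨k, hk, hkb⟩
      refine ⟨g * k, mul_mem hg hk, fun x hx => ?_⟩
      rw [autFun_mul _ _ hx, hga _ (autFun_mem _ hx), hkb x hx]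
      group
    · rintro a - ⟨g, hg, hga⟩
      refine ⟨g⁻¹, inv_mem hg, fun x hx => ?_⟩
      have h1 := hga _ (autFun_mem a⁻¹ hx)
      rw [autFun_autFun_inv a hx] at h1
      rw [h1]
      group
    · intro a ha hcop
      obtain ⟨g, hg⟩ := IsRealizedBy.exists_conj h.2.1 (mapTo_of_mem_autGroup hQ ha)
      obtain ⟨k, hk⟩ := (Transfer.isPGroup_quotient_pResidual (G := G) (p := p))
        (QuotientGroup.mk' K g)
      obtain ⟨e, hpe, he⟩ := exists_coprime_pow (k := k) hcop
      have hiter : ∀ i : ℕ, ∀ x ∈ Q, th ι (autFun (a ^ i) x) = g ^ i * th ι x * (g ^ i)⁻¹ := by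
        intro i
        induction i with
        | zero => intro x hx; rw [pow_zero, autFun_one hx, pow_zero]; simp
        | succ i ih =>
          intro x hx
          rw [pow_succ', autFun_mul _ _ hx, hg _ (autFun_mem _ hx), ih x hx, pow_succ']
          group
      refine ⟨g ^ e, ?_, fun x hx => ?_⟩
      · obtain ⟨c, rfl⟩ := hpe
        rw [pow_mul]
        refine pow_mem ?_ c
        rw [← QuotientGroup.eq_one_iff (N := K)]
        exact hk
      · have hae : a ^ e = a := by
          conv_rhs => rw [← pow_one a]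
          exact pow_eq_pow_iff_modEq.mpr he
        rw [← hiter e x hx, hae]
  have hKn : K.Normal := inferInstance
  have hT'le : preimageAlong ι K ≤ S := preimageAlong_le
  have hmapK : ∀ {x : Ω}, x ∈ (E.hyperfocalSubgroup p) → th ι x ∈ K := by
    have : (E.hyperfocalSubgroup p) ≤ preimageAlong ι K := hyperfocal_le_iff.mpr fun P hP α hα x hx => by
      obtain ⟨g, hg, hgx⟩ := hoP P hP α hα
      refine mem_preimageAlong.mpr ⟨S.mul_mem (S.inv_mem (hP hx)) (hP (autFun_mem _ hx)), ?_⟩
      rw [th_mul ι (S.inv_mem (hP hx)) (hP (autFun_mem _ hx)), th_inv ι (hP hx), hgx x hx,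
        show (th ι x)⁻¹ * (g * th ι x * g⁻¹) = (th ι x)⁻¹ * g * th ι x * g⁻¹ by group]
      refine mul_mem ?_ (inv_mem hg)
      have := hKn.conj_mem g hg (th ι x)⁻¹
      rwa [inv_inv] at this
    exact fun {x} hx => (mem_preimageAlong.mp (this hx)).2
  -- the hyperfocal subgroup, through the group system
  have hKU : preimageAlong ι K ≤ (E.hyperfocalSubgroup p) := by
    have hb : ∃ v, Bij S ι.range (th ι) v := by
      classical
      refine ⟨fun y => if hy : y ∈ ι.range then (exists_th_eq hy).choose else 1,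
        fun x hx => th_mem_range ι x, fun y hy => ?_, fun x hx => ?_, fun y hy => ?_,
        fun x hx y hy => th_mul ι hx hy⟩
      · show (if hy : y ∈ ι.range then (exists_th_eq hy).choose else 1) ∈ S
        rw [dif_pos hy]
        exact (exists_th_eq hy).choose_spec.1
      · show (if hy : th ι x ∈ ι.range then (exists_th_eq hy).choose else 1) = x
        rw [dif_pos (th_mem_range ι x)]
        exact th_inj h.2.1.1 (exists_th_eq (th_mem_range ι x)).choose_spec.1 hx
          (exists_th_eq (th_mem_range ι x)).choose_spec.2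
      · show th ι (if hy : y ∈ ι.range then (exists_th_eq hy).choose else 1) = y
        rw [dif_pos hy]
        exact (exists_th_eq hy).choose_spec.2
    obtain ⟨v, hb⟩ := hb
    have hiso : SysIso E (groupFusionSystem ι.range) (th ι) v := by
      refine ⟨hb, fun P f hf => ?_, fun P' f' hf' => ?_⟩
      · obtain ⟨g, hg⟩ := IsRealizedBy.exists_conj h.2.1 hf
        refine mapTo_gfs_iff.mpr ⟨hb.imgX_le hf.le, g, fun y hy => ?_⟩
        obtain ⟨x, hx, rfl⟩ := (hb.mem_imgX_iff hf.le).mp hy
        rw [hb.left x (hf.le hx), ← hg x hx]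
        exact ⟨rfl, th_mem_range ι _⟩
      · obtain ⟨hP', g, hg⟩ := mapTo_gfs_iff.mp hf'
        refine IsRealizedBy.mapTo_of_conj h.2.1 (hb.symm.imgX_le hP')
          (fun x hx => hb.mem' _ (hf'.mem ((hb.mem_imgX_symm_iff hP'
            (hb.symm.imgX_le hP' hx)).mp hx))) g fun x hx => ?_
        have hxS := hb.symm.imgX_le hP' hx
        have hy := (hb.mem_imgX_symm_iff hP' hxS).mp hx
        rw [hb.right _ (hf'.mem hy), (hg _ hy).1]
    intro x hx
    obtain ⟨hxS, hxK⟩ := mem_preimageAlong.mp hx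
    have h1 := hiso.symm.hyperfocal_le (p := p)
    have hm : th ι x ∈ (groupFusionSystem ι.range).hyperfocalSubgroup p := by
      have h2 := hyperfocal_gfs (p := p) T
      rw [hT] at h2
      rw [h2]
      exact ⟨th_mem_range ι x, hxK⟩
    have h3 := h1 (mem_imgX_of_mem (u := v) hm)
    rwa [hb.left x hxS] at h3
  have hUeq : (E.hyperfocalSubgroup p) = preimageAlong ι K :=
    le_antisymm (fun x hx => mem_preimageAlong.mpr ⟨hUS hx, hmapK hx⟩) hKU
  refine ⟨hUeq, MonoidHom.mk' (fun x => ⟨th ι x, hmapK x.2⟩)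
    fun a b => Subtype.ext (th_mul ι (hUS a.2) (hUS b.2)), inferInstance, ⟨?_, ?_⟩, ?_, ?_⟩
  · exact fun a b hab => Subtype.ext (th_inj h.2.1.1 (hUS a.2) (hUS b.2) (congrArg Subtype.val hab))
  · -- the maps
    intro P hP φ hφU
    have hsub := (IsRealizedBy.isNormalIn_sub h.2.1 T hT K).1
    have hidx : (realizedSubSystem h.2.1.1 K).HasPPowerIndexIn E p := by
      refine ⟨hsub.2.2.1, hUeq.le, fun Q hQ α hα => ?_⟩
      obtain ⟨g, hg, hgx⟩ := hoP Q (hQ.trans hT'le) α hα
      exact (mem_autGroup_iff hQ).mpr (mapTo_realizedSub_iff.mpr ⟨hQ,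
        fun x hx => hQ (autFun_mem _ hx), fun x hx y hy =>
          (mapTo_of_mem_autGroup (hQ.trans hT'le) (oP_le hα)).map_mul hx hy, g, hg, hgx⟩)
    constructor
    · intro hφ
      obtain ⟨-, -, g, hg, hgx⟩ :=
        pPowerIndex_le hS hUS hD.1 hD.2.1 _ hUeq.le hidx P hφ
      exact ⟨⟨g, hg⟩, fun x => Subtype.ext (hgx x)⟩
    · rintro ⟨⟨g, hg⟩, hgx⟩
      refine pPowerIndex_le hS hT'le hsub.1 hsub.2.2.1 D hKU hD.2 P ?_
      exact ⟨hP.trans hUeq.le, fun x => hUeq.le (hφU x), g, hg,
        fun x => congrArg Subtype.val (hgx x)⟩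
  · obtain ⟨TK, hTK⟩ := exists_sylow_inf T K
    refine ⟨TK, ?_⟩
    rw [hTK, hT]
    ext y
    constructor
    · intro hy
      obtain ⟨⟨s, hs⟩, hyK⟩ := Subgroup.mem_subgroupOf.mp hy
      have hsU : (s : Ω) ∈ (E.hyperfocalSubgroup p) := hKU (mem_preimageAlong.mpr ⟨s.2, by rw [th_coe, hs]; exact hyK⟩)
      exact ⟨⟨s, hsU⟩, Subtype.ext ((th_coe ι s).trans hs)⟩
    · rintro ⟨x, rfl⟩
      exact Subgroup.mem_subgroupOf.mpr ⟨th_mem_range ι _, hmapK x.2⟩
  · exact centralizer_pCore_le_of_normal K h.2.2.2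

end Cfsg.Agent.Fusion
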