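import Cfsg.Agent.Lib.Fusion.ConstrainedComponents
import Cfsg.Agent.Lib.Fusion.IsoSubnormal
import Cfsg.Agent.Lib.Fusion.NormalizerModel
import Cfsg.Agent.Lib.Fusion.ResidualModel
import Cfsg.Agent.Lib.Fusion.ModelExistence
import Cfsg.Agent.Lib.Components.PTimesQ

/-!
A saturated system is of characteristic `p`-type or of component type.
-/

set_option autoImplicit false
set_option linter.style.haveILetI false

namespace Cfsg.Agent.Fusion

open Cfsg.FusionSystem (centralizerIn normalizerIn imageAlong preimageAlong)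

universe u

variable {Ω : Type u} [Group Ω] {S U X : Subgroup Ω} {F : FusionSystem S} {p : ℕ}
variable [Finite S] [Fact p.Prime]

/-- If the normalizer system of `U` is not constrained then the centralizer system of `U` has a
component. -/
theorem exists_component_cSys_of_not_isConstrained (hS : IsPGroup p S) (hF : F.IsSaturated p)
    (hUn : F.IsFullyNormalized U) {N : FusionSystem (normalizerIn S U)}
    (hN : F.IsNormalizerSystem U N) (hc : ¬ N.IsConstrained p) :
    ∃ (T : Subgroup Ω) (C : FusionSystem T),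
      C.IsComponentIn (cSys N (le_normalizerIn hUn.1)) p := by
  have hUS := hUn.1
  haveI := finite_of_le (normalizerIn_le (S := S) (P := U))
  have hNS : IsPGroup p (normalizerIn S U) := hS.to_le normalizerIn_le
  have hsat := isSaturated_normalizerSystem hS hF hUn hN
  have hUN := isNormal_normalizerSystem hUS hN
  have hK := isNormalIn_cSys hNS hsat hUN
  by_contra hno
  haveI := finite_of_le (centralizerIn_le (S := normalizerIn S U) (P := U))
  have hKc := (isConstrained_iff_no_component (hNS.to_le centralizerIn_le) hK.1.1).mpr hno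
  refine hc (core_centric_iff.mpr ⟨hsat, fun x hx => ?_⟩)
  obtain ⟨hxD, hxc⟩ := mem_centralizerIn.mp hx
  exact centralizerIn_core_le_of_normal hNS hK hKc
    (mem_centralizerIn.mpr ⟨mem_centralizerIn.mpr ⟨hxD, fun y hy => hxc y (le_core hUN hy)⟩, hxc⟩)

/-- Maps defined on the normalizer of a fully normalized subgroup give isomorphisms of centralizer
systems. -/
theorem exists_sysIso_centralizer (hS : IsPGroup p S) (hF : F.IsSaturated p)
    (hUn : F.IsFullyNormalized U) {N : FusionSystem (normalizerIn S U)}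
    (hN : F.IsNormalizerSystem U N) {R : Subgroup Ω} {f : Ω → Ω} (hf : MapTo F R f)
    (hR : normalizerIn S U ≤ R) :
    ∃ (hU' : F.IsFullyCentralized (img f U)) (k : Ω → Ω),
      SysIso (cSys N (le_normalizerIn hUn.1)) (cSys F hU'.1) f k := by
  have hUS := hUn.1
  have hUD : U ≤ normalizerIn S U := le_normalizerIn hUS
  have hfD := hf.restrict hR
  have hUc := isFullyCentralized_of_isFullyNormalized hS hF hUn
  have hU'S : img f U ≤ S := (img_mono hUD).trans hfD.img_le
  haveI := finite_of_le (centralizerIn_le (S := S) (P := img f U))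
  have hCD : centralizerIn S U ≤ normalizerIn S U := centralizerIn_le_normalizerIn
  have hconj : F.IsConj U (img f U) := (hfD.restrict hUD).isConj
  have himgC : img f (centralizerIn S U) = centralizerIn S (img f U) := by
    refine Subgroup.eq_of_le_of_card_ge (img_le_of_forall fun z hz =>
      hfD.map_mem_centralizerIn hUD (hCD hz) hz) ?_
    rw [hfD.card_img hCD]
    exact hUc.2 _ hconj
  have hU' : F.IsFullyCentralized (img f U) := by
    refine ⟨hU'S, fun Q hQ => ?_⟩
    rw [← himgC, hfD.card_img hCD]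
    exact hUc.2 Q (isConj_trans hconj hQ)
  obtain ⟨k, hk, hkf, hfk, hkimg⟩ := hfD.exists_iso_inverse
  refine ⟨hU', k, ?_⟩
  have hKeq : centralizerIn (normalizerIn S U) U = centralizerIn S U := le_antisymm
    (fun x hx => mem_centralizerIn.mpr ⟨normalizerIn_le (mem_centralizerIn.mp hx).1, (mem_centralizerIn.mp hx).2⟩)
    (fun x hx => mem_centralizerIn.mpr ⟨hCD hx, (mem_centralizerIn.mp hx).2⟩)
  have hbij : Bij (centralizerIn (normalizerIn S U) U) (centralizerIn S (img f U)) f k := by
    rw [hKeq, ← himgC]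
    exact ⟨fun x hx => mem_img_of_mem hx,
      fun y hy => by
        obtain ⟨x, hx, rfl⟩ := (hfD.mem_img_iff hCD).mp hy
        rwa [hkf x (hCD hx)],
      fun x hx => hkf x (hCD hx), fun y hy => hfk y (img_mono hCD hy),
      fun x hx y hy => hfD.map_mul (hCD hx) (hCD hy)⟩
  have hU'D : img f U ≤ img f (normalizerIn S U) := img_mono hUD
  have hC'D : centralizerIn S (img f U) ≤ img f (normalizerIn S U) :=
    himgC ▸ img_mono hCD
  refine ⟨hbij, fun P g hg => ?_, fun P g hg => ?_⟩
  · obtain ⟨hP, hgm, g₁, hg₁, hg₁g, hg₁U⟩ :=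
      (mapTo_cSys_iff (isCentralizerSystem_cSys N hUD)).mp hg
    obtain ⟨-, -, g₂, hg₂, hg₂g, -⟩ := (mapTo_nSys_iff hN).mp hg₁
    have hgF : MapTo F (P ⊔ U) g₁ :=
      (hg₂.restrict le_sup_left).congr' fun x hx => (hg₂g x hx).symm
    have hPD : P ⊔ U ≤ normalizerIn S U := hg₁.le
    have hPU := hfD.restrict hPD
    have hkm : ∀ y ∈ img f (P ⊔ U), k y ∈ P ⊔ U := fun y hy => by
      obtain ⟨x, hx, rfl⟩ := (hfD.mem_img_iff hPD).mp hy
      rwa [hkf x (hPD hx)]
    have hh : MapTo F (img f (P ⊔ U)) (fun y => f (g₁ (k y))) :=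
      ((hk.restrict (img_mono hPD)).comp hgF hkm).comp hfD fun y hy => hg₁.mem (hkm y hy)
    refine (mapTo_cSys_iff (isCentralizerSystem_cSys F hU'.1)).mpr
      ⟨hbij.imgX_le hP, fun y hy => ?_, fun y => f (g₁ (k y)), hh.restrict ?_, fun y hy => ?_,
        fun y hy => ?_⟩
    · obtain ⟨x, hx, rfl⟩ := (hbij.mem_imgX_iff hP).mp hy
      rw [hbij.left x (hP hx)]
      exact hbij.mem _ (hgm x hx)
    · rw [hPU.img_sup le_sup_left le_sup_right]
      exact le_rfl
    · obtain ⟨x, hx, rfl⟩ := (hbij.mem_imgX_iff hP).mp hy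
      show f (g₁ (k (f x))) = f (g (k (f x)))
      rw [hbij.left x (hP hx), hg₁g x hx]
    · obtain ⟨x, hx, rfl⟩ := (hfD.mem_img_iff hUD).mp hy
      show f (g₁ (k (f x))) = f x
      rw [hkf x (hUD hx), hg₁U x hx]
  · obtain ⟨hP, hgm, h, hh, hhg, hhU⟩ :=
      (mapTo_cSys_iff (isCentralizerSystem_cSys F hU'.1)).mp hg
    have hA : P ⊔ img f U ≤ img f (normalizerIn S U) := sup_le (hP.trans hC'D) hU'D
    have hhm : ∀ y ∈ P ⊔ img f U, h y ∈ img f (normalizerIn S U) := by
      intro y hy
      have h1 : img h (P ⊔ img f U) ≤ img f (normalizerIn S U) := by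
        rw [hh.img_sup le_sup_left le_sup_right]
        exact sup_le (img_le_of_forall fun z hz => hC'D ((hhg z hz).symm ▸ hgm z hz))
          (img_le_of_forall fun z hz => (hhU z hz).symm ▸ hU'D hz)
      exact h1 (mem_img_of_mem hy)
    have hkA := hk.restrict hA
    have hB : img k (P ⊔ img f U) ≤ normalizerIn S U := img_le_of_forall fun y hy => by
      obtain ⟨x, hx, rfl⟩ := (hfD.mem_img_iff le_rfl).mp (hA hy)
      rwa [hkf x hx]
    have hfm : ∀ x ∈ img k (P ⊔ img f U), f x ∈ P ⊔ img f U := fun x hx => by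
      obtain ⟨y, hy, rfl⟩ := (hkA.mem_img_iff le_rfl).mp hx
      rwa [hfk y (hA hy)]
    have hcomp : MapTo F (img k (P ⊔ img f U)) (fun x => k (h (f x))) :=
      ((hfD.restrict hB).comp hh hfm).comp hk fun x hx => hhm _ (hfm x hx)
    have himg : img k (P ⊔ img f U) = imgX k P ⊔ U := by
      rw [hkA.img_sup le_sup_left le_sup_right, hkimg U hUD]
      rfl
    rw [himg] at hcomp hB hfm
    have hval : ∀ x ∈ imgX k P ⊔ U, k (h (f x)) ∈ normalizerIn S U := fun x hx => by
      obtain ⟨w, hw, hwx⟩ := (hfD.mem_img_iff le_rfl).mp (hhm _ (hfm x hx))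
      rw [← hwx, hkf w hw]
      exact hw
    have hfix : ∀ x ∈ U, k (h (f x)) = x := fun x hx => by
      rw [hhU _ (mem_img_of_mem hx), hkf x (hUD hx)]
    have hN' : MapTo N (imgX k P ⊔ U) (fun x => k (h (f x))) :=
      (mapTo_nSys_iff hN).mpr ⟨hB, hval, _, hcomp.restrict (sup_le le_rfl le_sup_right),
        fun _ _ => rfl, by rw [img_congr (P := U) hfix, img_id]⟩
    refine (mapTo_cSys_iff (isCentralizerSystem_cSys N hUD)).mpr
      ⟨hbij.symm.imgX_le hP, fun x hx => ?_, _, hN', fun x hx => ?_, hfix⟩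
    · obtain ⟨y, hy, rfl⟩ := (hbij.symm.mem_imgX_iff hP).mp hx
      rw [hbij.right y (hP hy)]
      exact hbij.mem' _ (hgm y hy)
    · obtain ⟨y, hy, rfl⟩ := (hbij.symm.mem_imgX_iff hP).mp hx
      show k (h (f (k y))) = k (g (f (k y)))
      rw [hbij.right y (hP hy), hhg y hy]

/-- If the centralizer system of `X` is constrained, so is that of every subgroup containing `X`
and centralizing it. -/
theorem isConstrained_cSys_of_le (hS : IsPGroup p S) (hX : X ≤ S) (hUc : F.IsFullyCentralized U)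
    (hXU : X ≤ U) (hUX : U ≤ centralizerIn S X) (hM : (cSys F hX).IsConstrained p) :
    (cSys F hUc.1).IsConstrained p := by
  haveI := finite_of_le (centralizerIn_le (S := S) (P := X))
  haveI := finite_of_le (centralizerIn_le (S := S) (P := U))
  have hCD : centralizerIn S U ≤ centralizerIn S X := centralizerIn_anti hXU
  have hDS : centralizerIn S X ≤ S := centralizerIn_le
  have hMiff := fun {P : Subgroup Ω} {g : Ω → Ω} =>
    mapTo_cSys_iff (P := P) (f := g) (isCentralizerSystem_cSys F hX)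
  obtain ⟨G, _, ι, h⟩ := exists_model (hS.to_le hDS) hM
  haveI := h.1
  set A := imageAlong ι U with hA
  set H := Subgroup.centralizer (A : Set G) with hH
  have hmemH : ∀ {c : G}, c ∈ H ↔ ∀ x ∈ U, c * th ι x = th ι x * c := by
    intro c
    rw [hH, Subgroup.mem_centralizer_iff]
    refine ⟨fun h' x hx => (h' _ (th_mem_imageAlong hUX hx)).symm, fun h' y hy => ?_⟩
    obtain ⟨x, hx, rfl⟩ := (mem_imageAlong hUX).mp hy
    exact (h' x hx).symm
  have hmem : ∀ c : centralizerIn S U, ι (Subgroup.inclusion hCD c) ∈ H := fun c =>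
    hmemH.mpr fun x hx => by
      rw [← th_coe ι (Subgroup.inclusion hCD c), Subgroup.coe_inclusion, ← th_mul ι (hCD c.2) (hUX hx),
        ← th_mul ι (hUX hx) (hCD c.2), (mem_centralizerIn.mp c.2).2 x hx]
  set ι' : centralizerIn S U →* H := (ι.comp (Subgroup.inclusion hCD)).codRestrict H hmem with hι'
  have hι'v : ∀ (x : Ω) (hx : x ∈ centralizerIn S U), ((ι' ⟨x, hx⟩ : H) : G) = th ι x := fun x hx =>
    (th_apply ι (hCD hx)).symm
  have hinj : Function.Injective ι' := fun a b hab =>
    Subgroup.inclusion_injective hCD (h.2.1.1 (congrArg Subtype.val hab))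
  have hrange : ∀ {P : Subgroup Ω}, P ≤ centralizerIn S U → P ⊔ U ≤ centralizerIn S X :=
    fun hP => sup_le (hP.trans hCD) hUX
  have hreal : (cSys F hUc.1).IsRealizedBy ι' := by
    refine ⟨hinj, fun P hP φ hφ => ⟨fun hmemφ => ?_, fun ⟨g, hg⟩ => ?_⟩⟩
    · obtain ⟨-, hm, g₁, hg₁, hg₁φ, hg₁U⟩ :=
        (mapTo_cSys_iff (isCentralizerSystem_cSys F hUc.1)).mp (mapTo_ev hmemφ)
      have hval : ∀ x ∈ P ⊔ U, g₁ x ∈ centralizerIn S X := fun x hx => by
        have h1 : img g₁ (P ⊔ U) ≤ centralizerIn S X := by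
          rw [hg₁.img_sup le_sup_left le_sup_right]
          exact sup_le (img_le_of_forall fun z hz => hCD ((hg₁φ z hz).symm ▸ hm z hz))
            (img_le_of_forall fun z hz => (hg₁U z hz).symm ▸ hUX hz)
        exact h1 (mem_img_of_mem hx)
      have hgM : MapTo (cSys F hX) (P ⊔ U) g₁ :=
        hMiff.mpr ⟨hrange hP, hval, g₁, hg₁.restrict (sup_le le_rfl (hXU.trans le_sup_right)),
          fun _ _ => rfl, fun x hx => hg₁U x (hXU hx)⟩
      obtain ⟨g, hg⟩ := IsRealizedBy.exists_conj h.2.1 hgM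
      have hgH : g ∈ H := hmemH.mpr fun x hx => by
        have := hg x (Subgroup.mem_sup_right hx)
        rw [hg₁U x hx] at this
        exact eq_mul_inv_iff_mul_eq.mp this |>.symm
      refine ⟨⟨g, hgH⟩, fun x => Subtype.ext ?_⟩
      show ((ι' ⟨φ x, hφ x⟩ : H) : G) = g * ((ι' ⟨x, hP x.2⟩ : H) : G) * g⁻¹
      rw [hι'v, hι'v, ← hg x (Subgroup.mem_sup_left x.2), hg₁φ x x.2, ev_coe]
    · have hgv : ∀ x (hx : x ∈ P), th ι (φ ⟨x, hx⟩) = (g : G) * th ι x * (g : G)⁻¹ := fun x hx => by
        rw [← hι'v _ (hφ ⟨x, hx⟩), ← hι'v x (hP hx), hg ⟨x, hx⟩]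
        rfl
      have hgU : ∀ x ∈ U, (g : G) * th ι x * (g : G)⁻¹ = th ι x := fun x hx => by
        rw [(hmemH.mp g.2 x hx), mul_inv_cancel_right]
      have hconj : ∀ x ∈ P ⊔ U, (g : G) * th ι x * (g : G)⁻¹ ∈ ι.range := by
        have hle : P ⊔ U ≤ ((ι.range.comap (MulAut.conj (g : G)).toMonoidHom).comap ι).map
            (centralizerIn S X).subtype := by
          refine sup_le (fun x hx => mem_comap_th.mpr ⟨hCD (hP hx), ?_⟩)
            fun x hx => mem_comap_th.mpr ⟨hUX hx, ?_⟩
          · show (g : G) * th ι x * (g : G)⁻¹ ∈ ι.range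
            rw [← hgv x hx]
            exact th_mem_range ι _
          · show (g : G) * th ι x * (g : G)⁻¹ ∈ ι.range
            rw [hgU x hx]
            exact th_mem_range ι _
        exact fun x hx => (mem_comap_th.mp (hle hx)).2
      obtain ⟨g₁, hg₁, hg₁g⟩ := IsRealizedBy.exists_mapTo h.2.1 (hrange hP) (g : G) hconj
      obtain ⟨-, -, g₂, hg₂, hg₂g, -⟩ := hMiff.mp hg₁
      have hgF : MapTo F (P ⊔ U) g₁ :=
        (hg₂.restrict le_sup_left).congr' fun x hx => (hg₂g x hx).symm
      refine mapTo_ev_iff.mp ((mapTo_cSys_iff (isCentralizerSystem_cSys F hUc.1)).mpr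
        ⟨hP, fun x hx => ?_, g₁, hgF, fun x hx => ?_, fun x hx => ?_⟩)
      · rw [ev_apply φ hx]
        exact hφ _
      · rw [ev_apply φ hx]
        exact th_inj h.2.1.1 (hg₁.mem (Subgroup.mem_sup_left hx)) (hCD (hφ _))
          (by rw [hg₁g x (Subgroup.mem_sup_left hx), hgv x hx])
      · exact th_inj h.2.1.1 (hg₁.mem (Subgroup.mem_sup_right hx)) (hUX hx)
          (by rw [hg₁g x (Subgroup.mem_sup_right hx), hgU x hx])
  have hAp : IsPGroup p A := by
    have h1 := ((hS.to_le (hUX.trans hDS)).of_equiv (Subgroup.subgroupOfEquivOfLe hUX).symm).map ι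
    exact h1
  have hsylow : ∃ T : Sylow p H, (T : Subgroup H) = ι'.range := by
    have hR : IsPGroup p ι'.range :=
      (hS.to_le (centralizerIn_le (P := U))).of_equiv (MonoidHom.ofInjective hinj)
    obtain ⟨T, hT⟩ := hR.exists_le_sylow
    refine ⟨T, (Subgroup.eq_of_le_of_card_ge hT ?_).symm⟩
    set T' := (T : Subgroup H).map H.subtype with hT'
    have hW : IsPGroup p (T' ⊔ A : Subgroup G) := (T.2.map H.subtype).to_sup_of_normal_right' hAp
      ((Subgroup.map_subtype_le _).trans (Subgroup.centralizer_le_normalizer _))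
    obtain ⟨T₁, hT₁⟩ := hW.exists_le_sylow
    obtain ⟨T₀, hT₀⟩ := h.2.2.1
    obtain ⟨g, hg⟩ := MulAction.exists_smul_eq G T₁ T₀
    have hgm : ∀ y ∈ T' ⊔ A, g * y * g⁻¹ ∈ ι.range := fun y hy => by
      rw [← hT₀, ← hg, Sylow.coe_subgroup_smul]
      exact Subgroup.smul_mem_pointwise_smul y (MulAut.conj g) _ (hT₁ hy)
    obtain ⟨f, hf, hfg⟩ := IsRealizedBy.exists_mapTo h.2.1 hUX g fun x hx =>
      hgm _ (Subgroup.mem_sup_right (th_mem_imageAlong hUX hx))
    obtain ⟨-, -, f₂, hf₂, hf₂f, -⟩ := hMiff.mp hf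
    have hfF : MapTo F U f := (hf₂.restrict le_sup_left).congr' fun x hx => (hf₂f x hx).symm
    choose z hz hzy using fun y : (T : Subgroup H) => exists_th_eq
      (hgm _ (Subgroup.mem_sup_left (Subgroup.mem_map_of_mem H.subtype y.2)))
    have hzc : ∀ y, z y ∈ centralizerIn S (img f U) := fun y => by
      refine mem_centralizerIn.mpr ⟨hDS (hz y), fun w hw => ?_⟩
      obtain ⟨x, hx, rfl⟩ := (hfF.mem_img_iff le_rfl).mp hw
      refine th_inj h.2.1.1 ((centralizerIn S X).mul_mem (hf.mem hx) (hz y))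
        ((centralizerIn S X).mul_mem (hz y) (hf.mem hx)) ?_
      rw [th_mul ι (hf.mem hx) (hz y), th_mul ι (hz y) (hf.mem hx), hfg x hx, hzy y]
      have := hmemH.mp (y : H).2 x hx
      show g * th ι x * g⁻¹ * (g * ((y : H) : G) * g⁻¹) = g * ((y : H) : G) * g⁻¹ * (g * th ι x * g⁻¹)
      calc g * th ι x * g⁻¹ * (g * ((y : H) : G) * g⁻¹) = g * (th ι x * ((y : H) : G)) * g⁻¹ := by group
        _ = g * (((y : H) : G) * th ι x) * g⁻¹ := by rw [this]
        _ = _ := by group
    haveI := finite_of_le (centralizerIn_le (S := S) (P := img f U))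
    have hle : Nat.card (T : Subgroup H) ≤ Nat.card (centralizerIn S (img f U)) := by
      refine Nat.card_le_card_of_injective (fun y => ⟨z y, hzc y⟩) fun a b hab => ?_
      have h1 : th ι (z a) = th ι (z b) := congrArg (fun w : centralizerIn S (img f U) => th ι (w : Ω)) hab
      rw [hzy a, hzy b] at h1
      exact Subtype.ext (Subtype.ext (mul_left_cancel (mul_right_cancel h1)))
    rw [← Nat.card_congr (MonoidHom.ofInjective hinj).toEquiv]
    exact hle.trans (hUc.2 _ hfF.isConj)
  have hchar : Subgroup.centralizer ((pCore p H : Subgroup H) : Set H) ≤ pCore p H := by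
    have hN := Components.charP_normalizer_of_charP (M := (⊤ : Subgroup G)) hAp le_top le_top
      (Transfer.cp_congr Subgroup.topEquiv.symm h.2.2.2)
    set K := Subgroup.normalizer (A : Set G) with hK
    haveI : (H.subgroupOf K).Normal := by
      refine ⟨fun y hy g => Subgroup.mem_centralizer_iff.mpr fun a ha => ?_⟩
      have h1 : (g : G)⁻¹ * a * g ∈ A := by
        have := (Subgroup.mem_normalizer_iff.mp (K.inv_mem g.2) a).mp ha
        rwa [inv_inv] at this
      have h2 : (g : G)⁻¹ * a * g * (y : G) = (y : G) * ((g : G)⁻¹ * a * g) :=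
        Subgroup.mem_centralizer_iff.mp hy _ h1
      show a * ((g : G) * (y : G) * (g : G)⁻¹) = (g : G) * (y : G) * (g : G)⁻¹ * a
      calc a * ((g : G) * (y : G) * (g : G)⁻¹)
          = (g : G) * ((g : G)⁻¹ * a * g * (y : G)) * (g : G)⁻¹ := by group
        _ = (g : G) * ((y : G) * ((g : G)⁻¹ * a * g)) * (g : G)⁻¹ := by rw [h2]
        _ = _ := by group
    exact Transfer.cp_congr (Subgroup.subgroupOfEquivOfLe (Subgroup.centralizer_le_normalizer _))
      (centralizer_pCore_le_of_normal (H.subgroupOf K) hN)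
  exact IsModel.isConstrained (F := cSys F hUc.1) (G := H) (ι := ι')
    ⟨inferInstance, hreal, hsylow, hchar⟩

/-- The dichotomy: characteristic `p`-type or component type. -/
theorem characteristicPType_or_componentType (hS : IsPGroup p S) (hF : F.IsSaturated p) :
    F.IsOfCharacteristicPType p ∨ F.IsOfComponentType p := by
  refine Classical.or_iff_not_imp_left.mpr fun hnc => ?_
  simp only [Cfsg.FusionSystem.IsOfCharacteristicPType, not_forall] at hnc
  obtain ⟨U, hUne, hUn, N, hN, hc⟩ := hnc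
  have hUS := hUn.1
  have hUD : U ≤ normalizerIn S U := le_normalizerIn hUS
  haveI := finite_of_le (normalizerIn_le (S := S) (P := U))
  have hNS : IsPGroup p (normalizerIn S U) := hS.to_le normalizerIn_le
  set Z := U ⊓ Subgroup.centralizer (normalizerIn S U : Set Ω) with hZ
  haveI hZfin : Finite Z := finite_of_le (inf_le_left.trans hUS)
  have hZne : Z ≠ ⊥ := inf_centralizer_ne_bot hNS hUD inf_le_right hUne
  have hdvd : p ∣ Nat.card Z := by
    obtain ⟨n, hn⟩ := IsPGroup.iff_card.mp (hS.to_le (inf_le_left.trans hUS) : IsPGroup p Z)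
    rcases n with _ | n
    · rw [pow_zero] at hn
      exact absurd (Subgroup.eq_bot_of_card_eq Z hn) hZne
    · exact hn ▸ dvd_pow_self p (Nat.succ_ne_zero n)
  obtain ⟨⟨x, hxZ⟩, hx⟩ := exists_prime_orderOf_dvd_card' p hdvd
  rw [Subgroup.orderOf_mk] at hx
  obtain ⟨hxU, hxC⟩ := Subgroup.mem_inf.mp hxZ
  set X := Subgroup.zpowers x with hXdef
  have hXU : X ≤ U := Subgroup.zpowers_le.mpr hxU
  have hXS : X ≤ S := hXU.trans hUS
  have hDX : normalizerIn S U ≤ centralizerIn S X := fun d hd =>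
    mem_centralizerIn.mpr ⟨hd.1, fun y hy => by
      obtain ⟨n, rfl⟩ := Subgroup.mem_zpowers_iff.mp hy
      exact (Commute.zpow_left (Subgroup.mem_centralizer_iff.mp hxC d hd).symm n).eq⟩
  obtain ⟨X', hconj, hX'n⟩ := exists_isFullyNormalized (F := F) hXS
  obtain ⟨f, hf, hfX⟩ := exists_map_normalizerIn hS
    (isFullyAutomized_of_isFullyNormalized hS hF hX'n)
    (isReceptive_of_isFullyNormalized hS hF hX'n) hconj
  have hR : normalizerIn S U ≤ normalizerIn S X := hDX.trans centralizerIn_le_normalizerIn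
  obtain ⟨hU', k, hiso⟩ := exists_sysIso_centralizer hS hF hUn hN hf hR
  have hU'X : img f U ≤ centralizerIn S X' := hfX ▸ img_le_of_forall fun u hu =>
    hf.map_mem_centralizerIn (le_normalizerIn hXS) (hR (hUD hu)) (hDX (hUD hu))
  obtain ⟨T, C, hC⟩ := exists_component_cSys_of_not_isConstrained hS hF hUn hN hc
  haveI := finite_of_le (centralizerIn_le (S := normalizerIn S U) (P := U))
  haveI := finite_of_le (centralizerIn_le (S := S) (P := img f U))
  have hTK := IsSubnormalIn.le hC.1
  haveI := finite_of_le hTK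
  have hKp : IsPGroup p (centralizerIn (normalizerIn S U) U) := hNS.to_le centralizerIn_le
  have hb := hiso.bij.restrict hTK
  have hcomp : (imgSys C hb).IsComponentIn (cSys F hU'.1) p :=
    ⟨IsSubnormalIn.transport hC.1 hKp hiso (sysIso_imgSys C hb),
      (sysIso_imgSys C hb).quasisimple (hKp.to_le hTK) hC.2⟩
  have hnotC : ¬ (cSys F hU'.1).IsConstrained p := fun h =>
    no_component_of_isConstrained (hS.to_le centralizerIn_le) h ⟨_, _, hcomp⟩
  haveI := finite_of_le (centralizerIn_le (S := S) (P := X'))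
  have hMsat := isSaturated_centralizerSystem hS hF
    (isFullyCentralized_of_isFullyNormalized hS hF hX'n) (isCentralizerSystem_cSys F hX'n.1)
  refine ⟨X', ?_, hX'n, cSys F hX'n.1, isCentralizerSystem_cSys F hX'n.1, ?_⟩
  · rw [isConj_card hconj, hXdef, Nat.card_zpowers, hx]
  by_contra hno
  exact hnotC (isConstrained_cSys_of_le hS hX'n.1 hU' (hfX ▸ img_mono hXU) hU'X
    ((isConstrained_iff_no_component (hS.to_le centralizerIn_le) hMsat).mpr hno))

end Cfsg.Agent.Fusion
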