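import Cfsg.Agent.Lib.Fusion.Alperin

/-!
An abelian 2-group whose invariants are pairwise distinct has a 2-group of automorphisms.
-/

set_option autoImplicit false

namespace Cfsg.Agent.Fusion.DistinctExponents

variable {n : ℕ} {a : Fin n → ℕ}

/-- The involutions with vanishing coordinates below `i`. -/
def Layer (a : Fin n → ℕ) (i : ℕ) (x : (j : Fin n) → ZMod (2 ^ a j)) : Prop :=
  x + x = 0 ∧ ∀ j : Fin n, (j : ℕ) < i → x j = 0

theorem two_pow_nsmul (m : ℕ) (c : ZMod (2 ^ m)) : (2 ^ m) • c = 0 := by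
  rw [nsmul_eq_mul, ZMod.natCast_self, zero_mul]

theorem eq_zero_or_eq_of_add_self {m : ℕ} (hm : 1 ≤ m) (c : ZMod (2 ^ m)) (h : c + c = 0) :
    c = 0 ∨ c = ((2 ^ (m - 1) : ℕ) : ZMod (2 ^ m)) := by
  haveI : NeZero (2 ^ m) := ⟨by positivity⟩
  have hd : 2 ^ m ∣ c.val + c.val := by
    rw [← ZMod.natCast_eq_zero_iff, Nat.cast_add, ZMod.natCast_zmod_val, h]
  have hlt := ZMod.val_lt c
  have he : 2 ^ m = 2 * 2 ^ (m - 1) := by rw [← pow_succ']; congr 1; omega
  obtain ⟨k, hk⟩ := hd
  have hk2 : k < 2 := by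
    by_contra hk'
    have : 2 ^ m * 2 ≤ 2 ^ m * k := Nat.mul_le_mul_left _ (by omega)
    omega
  interval_cases k
  · exact Or.inl ((ZMod.val_eq_zero c).mp (by omega))
  · exact Or.inr (by rw [← ZMod.natCast_zmod_val c]; congr 1; omega)

variable (ha : StrictMono a) (ha1 : ∀ i, 1 ≤ a i)

include ha ha1 in
theorem layer_iff (i : Fin n) (x : (j : Fin n) → ZMod (2 ^ a j)) :
    Layer a i x ↔ x + x = 0 ∧ ∃ y, x = (2 ^ (a i - 1)) • y := by
  refine and_congr_right fun hx => ⟨fun h => ?_, ?_⟩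
  · have hc : ∀ j : Fin n, ∃ c : ZMod (2 ^ a j), x j = (2 ^ (a i - 1)) • c := by
      intro j
      rcases Nat.lt_or_ge (j : ℕ) i with hji | hij
      · exact ⟨0, by rw [h j hji, smul_zero]⟩
      rcases eq_zero_or_eq_of_add_self (ha1 j) (x j) (congrFun hx j) with h0 | h0
      · exact ⟨0, by rw [h0, smul_zero]⟩
      have hle : a i ≤ a j := ha.monotone hij
      exact ⟨((2 ^ (a j - a i) : ℕ) : ZMod (2 ^ a j)), by
        rw [h0, nsmul_eq_mul, ← Nat.cast_mul, ← pow_add]
        congr 2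
        have := ha1 i
        omega⟩
    choose y hy using hc
    exact ⟨y, funext hy⟩
  · rintro ⟨y, rfl⟩ j hji
    obtain ⟨d, hd⟩ : ∃ d, a i - 1 = a j + d :=
      Nat.exists_eq_add_of_le (Nat.le_sub_one_of_lt (ha hji))
    rw [Pi.smul_apply, hd, pow_add, mul_nsmul, two_pow_nsmul, smul_zero]

include ha ha1 in
theorem map_layer (f : ((j : Fin n) → ZMod (2 ^ a j)) ≃+ ((j : Fin n) → ZMod (2 ^ a j)))
    {i : Fin n} {x : (j : Fin n) → ZMod (2 ^ a j)} (hx : Layer a i x) : Layer a i (f x) := by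
  obtain ⟨h2, y, rfl⟩ := (layer_iff ha ha1 i x).mp hx
  exact (layer_iff ha ha1 i _).mpr ⟨by rw [← map_add, h2, map_zero], f y, map_nsmul f _ y⟩

include ha ha1 in
theorem fix_layer (f : ((j : Fin n) → ZMod (2 ^ a j)) ≃+ ((j : Fin n) → ZMod (2 ^ a j)))
    {k : ℕ} (hk : Odd k) (hf : ∀ x, f^[k] x = x) :
    ∀ i ≤ n, ∀ x, Layer a i x → f x = x := by
  intro i hi
  induction hd : n - i using Nat.strong_induction_on generalizing i with
  | h d ih =>
  intro x hx
  rcases eq_or_lt_of_le hi with rfl | hlt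
  · rw [show x = 0 from funext fun j => hx.2 j j.2, map_zero]
  have hnext : ∀ y, Layer a i y → y ⟨i, hlt⟩ = 0 → f y = y := fun y hy h0 =>
    ih (n - (i + 1)) (by omega) (i + 1) hlt rfl y ⟨hy.1, fun j hj => by
      rcases Nat.lt_succ_iff_lt_or_eq.mp hj with h | h
      · exact hy.2 j h
      · subst h; exact h0⟩
  have hfx : Layer a i (f x) := map_layer ha ha1 f (i := ⟨i, hlt⟩) hx
  by_cases h0 : x ⟨i, hlt⟩ = 0
  · exact hnext x hx h0
  by_cases h1 : f x ⟨i, hlt⟩ = 0
  · exact f.injective (hnext _ hfx h1)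
  set d := f x - x with hd'
  have hdL : Layer a i d := ⟨by
      rw [hd', sub_add_sub_comm, hfx.1, hx.1, sub_zero], fun j hj => by
      rw [hd', Pi.sub_apply, hfx.2 j hj, hx.2 j hj, sub_zero]⟩
  have hd0 : f d = d := hnext d hdL (by
    rw [hd', Pi.sub_apply,
      (eq_zero_or_eq_of_add_self (ha1 _) _ (congrFun hx.1 _)).resolve_left h0,
      (eq_zero_or_eq_of_add_self (ha1 _) _ (congrFun hfx.1 _)).resolve_left h1, sub_self])
  have hiter : ∀ m : ℕ, f^[m] x = x + m • d := by
    intro m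
    induction m with
    | zero => simp
    | succ m ihm =>
      rw [Function.iterate_succ_apply', ihm, map_add, map_nsmul, hd0, succ_nsmul, hd']
      abel
  obtain ⟨r, hr⟩ := hk
  have h3 := hiter k
  rw [hf, hr, add_nsmul, mul_nsmul, two_nsmul, hdL.1, smul_zero, one_nsmul,
    zero_add, left_eq_add] at h3
  rw [← sub_eq_zero, ← hd', h3]

include ha ha1 in
/-- An automorphism of odd order is trivial. -/
theorem eq_refl_of_odd (f : ((j : Fin n) → ZMod (2 ^ a j)) ≃+ ((j : Fin n) → ZMod (2 ^ a j)))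
    {k : ℕ} (hk : Odd k) (hf : ∀ x, f^[k] x = x) (x : (j : Fin n) → ZMod (2 ^ a j)) :
    f x = x := by
  have htors : ∀ e : ℕ, ∀ x : (j : Fin n) → ZMod (2 ^ a j), (2 ^ e) • x = 0 → f x = x := by
    intro e
    induction e with
    | zero => intro x hx; rw [pow_zero, one_nsmul] at hx; rw [hx, map_zero]
    | succ e ih =>
      intro x hx
      rw [pow_succ', mul_nsmul] at hx
      have h2 := ih _ hx
      rw [map_nsmul] at h2
      set d := f x - x with hd'
      have hd2 : d + d = 0 := by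
        rw [← two_nsmul, hd', smul_sub, h2, sub_self]
      have hd0 : f d = d :=
        fix_layer ha ha1 f hk hf 0 (Nat.zero_le _) d ⟨hd2, fun j hj => absurd hj (Nat.not_lt_zero _)⟩
      have hiter : ∀ m : ℕ, f^[m] x = x + m • d := by
        intro m
        induction m with
        | zero => simp
        | succ m ihm =>
          rw [Function.iterate_succ_apply', ihm, map_add, map_nsmul, hd0, succ_nsmul, hd']
          abel
      obtain ⟨r, hr⟩ := hk
      have h3 := hiter k
      rw [hf, hr, add_nsmul, mul_nsmul, two_nsmul, hd2, smul_zero, one_nsmul,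
        zero_add, left_eq_add] at h3
      rw [← sub_eq_zero, ← hd', h3]
  refine htors (∑ j, a j) x (funext fun j => ?_)
  obtain ⟨d, hd⟩ : ∃ d, ∑ j, a j = a j + d :=
    Nat.exists_eq_add_of_le (Finset.single_le_sum (fun j _ => Nat.zero_le (a j)) (Finset.mem_univ j))
  rw [Pi.smul_apply, hd, pow_add, mul_nsmul, two_pow_nsmul, smul_zero]
  rfl

include ha ha1 in
theorem isPGroup_mulAut {S : Type*} [Group S] [Finite S]
    (e : S ≃* Multiplicative ((i : Fin n) → ZMod (2 ^ a i))) : IsPGroup 2 (MulAut S) := by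
  haveI : Finite (MulAut S) := finite_mulAut S
  intro α
  obtain ⟨t, m, hm, htm⟩ := Nat.exists_eq_pow_mul_and_not_dvd
    (orderOf_pos α).ne' 2 (by norm_num)
  refine ⟨t, ?_⟩
  set β := α ^ 2 ^ t with hβ
  let f : ((i : Fin n) → ZMod (2 ^ a i)) ≃+ ((i : Fin n) → ZMod (2 ^ a i)) :=
    AddEquiv.toMultiplicative.symm ((e.symm.trans β).trans e)
  have hfx : ∀ x, f x = (e (β (e.symm (Multiplicative.ofAdd x)))).toAdd := fun x => rfl
  have hiter : ∀ (j : ℕ) (x : (i : Fin n) → ZMod (2 ^ a i)),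
      f^[j] x = (e ((β ^ j) (e.symm (Multiplicative.ofAdd x)))).toAdd := by
    intro j
    induction j with
    | zero => intro x; simp
    | succ j ih =>
      intro x
      rw [Function.iterate_succ_apply', ih, hfx, pow_succ', MulAut.mul_apply]
      simp
  have hβm : β ^ m = 1 := by rw [hβ, ← pow_mul, ← htm, pow_orderOf_eq_one]
  have key := eq_refl_of_odd ha ha1 f (k := m) (Nat.odd_iff.mpr (by omega)) fun x => by
    rw [hiter, hβm]; simp
  ext s
  have h1 := key (e s).toAdd
  rw [hfx] at h1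
  simpa using h1

end Cfsg.Agent.Fusion.DistinctExponents
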