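import Cfsg.Agent.Lib.Fusion.EssentialSmall
import Cfsg.Agent.Lib.Fusion.NormalCriteria
import Cfsg.Agent.Lib.FGB.MillerCyclic
import Cfsg.Agent.Lib.Invol.Quaternion
import Cfsg.Agent.Lib.Recog.Spectrum

/-!
Essential subgroups of order `p ^ 4`.
-/

set_option autoImplicit false
set_option linter.style.haveILetI false
set_option linter.deprecated false

namespace Cfsg.Agent.Fusion.EssentialFourth

open Subgroup
open scoped commutatorElement

universe u

variable {p : ℕ} [hp : Fact p.Prime]

section Group

variable {G : Type*} [Group G]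

/-- Invariance under all automorphisms. -/
def Inv (A : Subgroup G) : Prop := ∀ α : MulAut G, ∀ x ∈ A, α x ∈ A

theorem Inv.normal {A : Subgroup G} (hA : Inv A) : A.Normal := ⟨fun n hn g => hA (MulAut.conj g) n hn⟩

theorem inv_of_char (A : Subgroup G) [A.Characteristic] : Inv A := fun α _ hx => mem_of_char A α hx

theorem fix_of_card_prime_sub {V : Type*} [Group V] {W : Subgroup V} (hW : Nat.card W = p)
    (ψ : MulAut V) (hinv : ∀ w ∈ W, ψ w ∈ W) {k : ℕ} (hψ : ψ ^ p ^ k = 1) {w : V} (hw : w ∈ W) :
    ψ w = w := by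
  haveI : Finite W := Nat.finite_of_card_ne_zero (hW ▸ hp.out.ne_zero)
  let f : W →* W :=
    { toFun := fun x => ⟨ψ (x : V), hinv x x.2⟩, map_one' := Subtype.ext (map_one ψ)
      map_mul' := fun x y => Subtype.ext (map_mul ψ _ _) }
  have hf : Function.Injective f := fun x y h => Subtype.ext (ψ.injective (congrArg Subtype.val h))
  let r : MulAut W := MulEquiv.ofBijective f (Finite.injective_iff_bijective.mp hf)
  have hr : ∀ (n : ℕ) (x : W), ((r ^ n) x : V) = (ψ ^ n) x := by
    intro n
    induction n with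
    | zero => intro x; rfl
    | succ n ih =>
      intro x
      rw [pow_succ', pow_succ', MulAut.mul_apply, MulAut.mul_apply, ← ih]
      rfl
  exact congrArg Subtype.val (eq_self_of_pow_of_card hW (k := k) (ψ := r)
    (MulEquiv.ext fun x => Subtype.ext (by rw [hr, hψ]; rfl)) ⟨w, hw⟩)

variable [Finite G] (hcard : Nat.card G = p ^ 4)

include hcard in
omit [Finite G] in
theorem card_eq_pow (T : Subgroup G) : ∃ m ≤ 4, Nat.card T = p ^ m :=
  (Nat.dvd_prime_pow hp.out).mp (hcard ▸ card_subgroup_dvd_card T)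

include hcard in
theorem mul_card_le {A B : Subgroup G} (h : A < B) : p * Nat.card A ≤ Nat.card B := by
  obtain ⟨i, -, hi⟩ := card_eq_pow hcard A
  obtain ⟨j, -, hj⟩ := card_eq_pow hcard B
  have hlt : Nat.card A < Nat.card B :=
    lt_of_le_of_ne (card_le_of_le h.le) fun e => h.ne (eq_of_le_of_card_ge h.le e.ge)
  rw [hi, hj] at hlt ⊢
  rw [← pow_succ']
  exact Nat.pow_le_pow_right hp.out.pos ((Nat.pow_lt_pow_iff_right hp.out.one_lt).mp hlt)

include hcard in
theorem card_eq_cube {A B : Subgroup G} (hA : Nat.card A = p ^ 2) (h : A < B) (hB : B ≠ ⊤) :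
    Nat.card B = p ^ 3 := by
  have h1 := mul_card_le hcard h
  have h2 := mul_card_le hcard (lt_top_iff_ne_top.mpr hB)
  rw [hA, ← pow_succ'] at h1
  rw [card_top, hcard, pow_succ' p 3] at h2
  exact le_antisymm (Nat.le_of_mul_le_mul_left h2 hp.out.pos) h1

include hcard in
omit [Finite G] in
theorem card_of_index_prime {C : Subgroup G} (h : C.index = p) : Nat.card C = p ^ 3 := by
  have := C.card_mul_index
  rw [h, hcard, pow_succ p 3] at this
  exact Nat.eq_of_mul_eq_mul_right hp.out.pos this

include hcard in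
/-- Commuting with a noncentral element confines to the centre and that element. -/
theorem centralizer_eq (hZ : Nat.card (center G) = p ^ 2) {x : G} (hx : x ∉ center G) :
    Nat.card (centralizer ({x} : Set G)) = p ^ 3 ∧
      centralizer ({x} : Set G) = center G ⊔ zpowers x := by
  have hlt : center G < center G ⊔ zpowers x :=
    lt_of_le_of_ne le_sup_left fun h => hx (h ▸ mem_sup_right (mem_zpowers x))
  have hle : center G ⊔ zpowers x ≤ centralizer ({x} : Set G) :=
    sup_le (center_le_centralizer _) (zpowers_le.mpr (mem_centralizer_singleton_iff.mpr rfl))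
  have hne : centralizer ({x} : Set G) ≠ ⊤ := fun h => hx (mem_center_iff.mpr fun g =>
    mem_centralizer_singleton_iff.mp (h.ge (mem_top g)))
  have h1 := card_eq_cube hcard hZ (hlt.trans_le hle) hne
  have h2 := card_eq_cube hcard hZ hlt (fun h => hne (top_le_iff.mp (h ▸ hle)))
  exact ⟨h1, (eq_of_le_of_card_ge hle (h1.trans h2.symm).le).symm⟩

include hcard in
theorem eq_top_of_noncommuting (hZ : Nat.card (center G) = p ^ 2) {a b : G} (hab : a * b ≠ b * a)
    {T : Subgroup G} (hT : center G ≤ T) (ha : a ∈ T) (hb : b ∈ T) : T = ⊤ := by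
  have hac : a ∉ center G := fun h => hab (mem_center_iff.mp h b).symm
  obtain ⟨hc, he⟩ := centralizer_eq hcard hZ hac
  have hle : centralizer ({a} : Set G) ≤ T := he.le.trans (sup_le hT (zpowers_le.mpr ha))
  have hlt : centralizer ({a} : Set G) < T := lt_of_le_of_ne hle fun h =>
    hab ((mem_centralizer_singleton_iff.mp (h.ge hb)).symm)
  have h1 := mul_card_le hcard hlt
  rw [hc, ← pow_succ', ← hcard] at h1
  exact eq_top_of_le_card _ h1

omit [Finite G] in
/-- The conjugate of `b` by `a` differs by a central commutator. -/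
theorem commutator_pow_eq_one {a b : G} {n : ℕ} (hc : ⁅a, b⁆ ∈ center G) (hb : b ^ n ∈ center G) :
    ⁅a, b⁆ ^ n = 1 := by
  have h1 : (a * b * a⁻¹) ^ n = ⁅a, b⁆ ^ n * b ^ n := by
    rw [← (show Commute ⁅a, b⁆ b from (mem_center_iff.mp hc b).symm).mul_pow, commutatorElement_def,
      inv_mul_cancel_right]
  rwa [conj_pow, mem_center_iff.mp hb a, mul_inv_cancel_right, right_eq_mul] at h1

end Group

variable {Ω : Type u} [Group Ω] {S : Subgroup Ω} [Finite S] {F : FusionSystem S} {P : Subgroup Ω}

/-- An essential subgroup of order `p ^ 4` has no invariant chain with all indices `p`. -/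
theorem false_of_chain (hS : IsPGroup p S) (hP : F.IsEssential p P) (hcard : Nat.card P = p ^ 4)
    {A B C : Subgroup P} (hA : Inv A) (hB : Inv B) (hC : Inv C) (hAB : A ≤ B) (hBC : B ≤ C)
    (cA : Nat.card A = p) (cB : Nat.card B = p ^ 2) (cC : Nat.card C = p ^ 3) : False := by
  haveI := finite_of_le hP.1.1
  let N : Fin 5 → Subgroup P := ![⊥, A, B, C, ⊤]
  have hN : ∀ i, Inv (N i) := by
    intro i
    fin_cases i
    · exact inv_of_char (⊥ : Subgroup P)
    · exact hA
    · exact hB
    · exact hC
    · exact inv_of_char (⊤ : Subgroup P)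
  have hmono : ∀ i : Fin 4, N i.castSucc ≤ N i.succ := by
    intro i
    fin_cases i
    exacts [bot_le, hAB, hBC, le_top]
  have hNc : ∀ i : Fin 5, Nat.card (N i) = p ^ (i : ℕ) := by
    intro i
    fin_cases i
    · exact card_bot.trans (pow_zero p).symm
    · exact cA.trans (pow_one p).symm
    · exact cB
    · exact cC
    · exact card_top.trans hcard
  let K : Subgroup (F.autGroup P) :=
    { carrier := {a | ∀ i : Fin 4, ∀ x ∈ N i.succ, x⁻¹ * (a : MulAut P) x ∈ N i.castSucc}
      one_mem' := fun i x _ => by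
        rw [OneMemClass.coe_one, MulAut.one_apply, inv_mul_cancel]; exact one_mem _
      mul_mem' := fun {a b} ha hb i x hx => by
        rw [Subgroup.coe_mul, MulAut.mul_apply, show x⁻¹ * (a : MulAut P) ((b : MulAut P) x) =
          (x⁻¹ * (b : MulAut P) x) * (((b : MulAut P) x)⁻¹ * (a : MulAut P) ((b : MulAut P) x)) by
          group]
        exact mul_mem (hb i x hx) (ha i _ (hN _ _ x hx))
      inv_mem' := fun {a} ha i x hx => by
        have h := inv_mem (ha i _ (hN _ (a : MulAut P)⁻¹ x hx))
        rw [MulAut.apply_inv_self, mul_inv_rev, inv_inv] at h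
        exact h }
  have hKn : K.Normal := ⟨fun a ha g i x hx => by
    have h := hN _ (g : MulAut P) _ (ha i _ (hN _ (g : MulAut P)⁻¹ x hx))
    rw [map_mul (g : MulAut P), map_inv (g : MulAut P), MulAut.apply_inv_self] at h
    exact h⟩
  have hKp : IsPGroup p K := by
    refine IsPGroup.of_equiv ?_
      (Subgroup.equivMapOfInjective K _ (F.autGroup P).subtype_injective).symm
    refine isPGroup_stabilizer_series (hS.to_le hP.1.1) (n := 4)
      (fun i => (N i).map P.subtype) ?_ ?_ (fun i => map_subtype_le _) _ ?_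
    · exact Subgroup.map_bot _
    · exact (MonoidHom.range_eq_map _).symm.trans P.range_subtype
    · rintro _ ⟨a, ha, rfl⟩ i _ ⟨y, hy, rfl⟩
      refine ⟨_, ha i y hy, ?_⟩
      rw [Subgroup.coe_subtype, Subgroup.coe_subtype, Subgroup.coe_mul, InvMemClass.coe_inv,
        autFun_apply _ y.2]
  obtain ⟨c, ⟨k, hk⟩, hcI⟩ := exists_pElt_not_inn hS hP
  refine hcI (mem_inn_of_normal_pGroup hS hP hKn hKp fun i x hx => ?_)
  haveI := (hN i.castSucc).normal
  have hinv : ∀ α ∈ F.autGroup P, ∀ y ∈ N i.castSucc, α y ∈ N i.castSucc := fun α _ => hN _ α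
  set f : N i.succ →* P ⧸ N i.castSucc := (QuotientGroup.mk' _).comp (N i.succ).subtype with hf
  have hk' : Nat.card f.range = p := by
    have hker : f.ker = (N i.castSucc).subgroupOf (N i.succ) := by
      ext y
      rw [MonoidHom.mem_ker, mem_subgroupOf]
      exact QuotientGroup.eq_one_iff _
    have h1 := f.ker.card_mul_index
    rw [index_ker, hker, Nat.card_congr (subgroupOfEquivOfLe (hmono i)).toEquiv, hNc, hNc,
      Fin.val_castSucc, Fin.val_succ, pow_succ] at h1
    exact Nat.eq_of_mul_eq_mul_left (pow_pos hp.out.pos _) h1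
  have hfix := fix_of_card_prime_sub hk' (quotRep (N i.castSucc) hinv c) (by
    rintro _ ⟨y, rfl⟩
    exact ⟨⟨(c : MulAut P) y, hN _ _ _ y.2⟩, rfl⟩) (k := k) (by rw [← map_pow, hk, map_one])
    ⟨⟨x, hx⟩, rfl⟩
  exact QuotientGroup.eq.mp hfix.symm

section

variable (hS : IsPGroup p S) (hP : F.IsEssential p P) (hcard : Nat.card P = p ^ 4)

include hS hP hcard

/-- The centre of a nonabelian essential subgroup of order `p ^ 4` has order `p ^ 2`. -/
theorem card_center (hne : ¬ ∀ a b : P, a * b = b * a) : Nat.card (center P) = p ^ 2 := by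
  haveI := finite_of_le hP.1.1
  have hPp := hS.to_le hP.1.1
  haveI : Nontrivial P := Finite.one_lt_card_iff_nontrivial.mp
    (hcard ▸ Nat.one_lt_pow (by norm_num) hp.out.one_lt)
  haveI := hPp.center_nontrivial
  set Z := center P with hZdef
  have hq : ¬ IsCyclic (P ⧸ Z) := fun h =>
    hne (commutative_of_cyclic_center_quotient (QuotientGroup.mk' Z) (QuotientGroup.ker_mk' Z).le)
  obtain ⟨m, hm, hmZ⟩ := card_eq_pow hcard Z
  have hidx : Nat.card (P ⧸ Z) * p ^ m = p ^ 4 := by
    rw [← hmZ, ← hcard, ← card_eq_card_quotient_mul_card_subgroup]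
  interval_cases m
  · exact absurd (hmZ.trans (pow_zero p)) Finite.one_lt_card.ne'
  · exfalso
    rw [pow_one] at hmZ hidx
    have hQ : Nat.card (P ⧸ Z) = p ^ 3 :=
      Nat.eq_of_mul_eq_mul_right hp.out.pos (hidx.trans (pow_succ p 3))
    set Zq := center (P ⧸ Z) with hZq
    obtain ⟨j, hj, hjZ⟩ := (Nat.dvd_prime_pow hp.out).mp (hQ ▸ card_subgroup_dvd_card Zq)
    haveI hQp : IsPGroup p (P ⧸ Z) := hPp.to_quotient Z
    have hqidx : Nat.card ((P ⧸ Z) ⧸ Zq) * p ^ j = p ^ 3 := by
      rw [← hjZ, ← hQ, ← card_eq_card_quotient_mul_card_subgroup]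
    have hqc : IsCyclic ((P ⧸ Z) ⧸ Zq) → Zq = ⊤ := fun h => eq_top_iff.mpr fun g _ =>
      mem_center_iff.mpr fun h' => commutative_of_cyclic_center_quotient (QuotientGroup.mk' Zq)
        (QuotientGroup.ker_mk' Zq).le h' g
    have hcomm : ∀ {g h : P}, (g : P ⧸ Z) * h = (h : P ⧸ Z) * g → ⁅g, h⁆ ∈ Z := by
      intro g h e
      rw [← QuotientGroup.eq_one_iff]
      show QuotientGroup.mk' Z ⁅g, h⁆ = 1
      rw [map_commutatorElement]
      exact commutatorElement_eq_one_iff_mul_comm.mpr e
    interval_cases j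
    · haveI : Nontrivial (P ⧸ Z) := Finite.one_lt_card_iff_nontrivial.mp
        (hQ ▸ Nat.one_lt_pow (by norm_num) hp.out.one_lt)
      haveI := hQp.center_nontrivial
      exact absurd (hjZ.trans (pow_zero p)) Finite.one_lt_card.ne'
    · -- second centre and its centralizer
      set M := Zq.comap (QuotientGroup.mk' Z) with hMdef
      rw [pow_one] at hjZ
      have hZM : Z ≤ M := fun z hz => by
        show QuotientGroup.mk' Z z ∈ Zq
        rw [QuotientGroup.mk'_apply, (QuotientGroup.eq_one_iff z).mpr hz]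
        exact one_mem _
      have hMc : Nat.card M = p ^ 2 := by
        have h1 := card_eq_card_quotient_mul_card_subgroup M
        have h2 : M.index = Zq.index :=
          index_comap_of_surjective Zq (QuotientGroup.mk'_surjective Z)
        have h3 := Zq.card_mul_index
        have h4 := M.card_mul_index
        rw [hjZ, hQ] at h3
        rw [h2, hcard] at h4
        rw [show Zq.index = p ^ 2 from Nat.eq_of_mul_eq_mul_left hp.out.pos
          (h3.trans (pow_succ' p 2)), show p ^ 4 = p ^ 2 * p ^ 2 by ring] at h4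
        exact Nat.eq_of_mul_eq_mul_right (pow_pos hp.out.pos 2) h4
      have hMinv : Inv M := by
        intro α x hx
        refine mem_center_iff.mpr fun g => ?_
        obtain ⟨g, rfl⟩ := QuotientGroup.mk_surjective g
        obtain ⟨g, rfl⟩ := α.surjective g
        have h1 : (g : P ⧸ Z) * x = (x : P ⧸ Z) * g := mem_center_iff.mp hx _
        rw [← QuotientGroup.mk_mul, ← QuotientGroup.mk_mul, QuotientGroup.eq] at h1
        show (α g : P ⧸ Z) * (α x : P ⧸ Z) = (α x : P ⧸ Z) * (α g : P ⧸ Z)
        rw [← QuotientGroup.mk_mul, ← QuotientGroup.mk_mul, QuotientGroup.eq, ← map_mul, ← map_mul,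
          ← map_inv, ← map_mul]
        exact inv_of_char (center P) α _ h1
      have hlt : Z < M := lt_of_le_of_ne hZM fun e => by
        rw [← e, hmZ] at hMc
        exact absurd (hMc.trans (pow_two p)) (lt_mul_self hp.out.one_lt).ne
      obtain ⟨w, hwM, hwZ⟩ := SetLike.exists_of_lt hlt
      have hCinv : Inv (centralizer (M : Set P)) := by
        intro α x hx y hy
        obtain ⟨y, rfl⟩ := α.surjective y
        have h1 : y ∈ M := by simpa using hMinv α⁻¹ _ hy
        rw [← map_mul, hx y h1, map_mul]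
      have hMw : M = Z ⊔ zpowers w := by
        refine (eq_of_le_of_card_ge (sup_le hZM (zpowers_le.mpr hwM)) ?_).symm
        have h1 := mul_card_le hcard (show Z < Z ⊔ zpowers w from
          lt_of_le_of_ne le_sup_left fun e => hwZ (e ▸ mem_sup_right (mem_zpowers w)))
        rwa [hmZ, ← pow_two, ← hMc] at h1
      have hCw : centralizer (M : Set P) = centralizer ({w} : Set P) := by
        refine le_antisymm (centralizer_le (Set.singleton_subset_iff.mpr hwM)) fun g hg y hy => ?_
        refine (mem_centralizer_singleton_iff.mp ?_)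
        exact (hMw ▸ sup_le (center_le_centralizer _) (zpowers_le.mpr
          (mem_centralizer_singleton_iff.mpr (mem_centralizer_singleton_iff.mp hg).symm)) :
          M ≤ centralizer ({g} : Set P)) hy
      let φ : P →* P := MonoidHom.mk' (fun g => ⁅g, w⁆) fun g h => by
        have hz : ⁅h, w⁆ ∈ Z := hcomm (mem_center_iff.mp hwM _)
        rw [show ⁅g * h, w⁆ = g * ⁅h, w⁆ * g⁻¹ * ⁅g, w⁆ by simp only [commutatorElement_def]; group,
          mem_center_iff.mp hz g, mul_inv_cancel_right]
        exact (mem_center_iff.mp hz _).symm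
      have hker : φ.ker = centralizer ({w} : Set P) := by
        ext g
        rw [MonoidHom.mem_ker, mem_centralizer_singleton_iff]
        exact commutatorElement_eq_one_iff_mul_comm
      have hle : φ.range ≤ Z := by
        rintro _ ⟨g, rfl⟩
        exact hcomm (mem_center_iff.mp hwM _)
      have hCi : (centralizer (M : Set P)).index = p := by
        rw [hCw, ← hker, index_ker]
        rcases (Nat.dvd_prime hp.out).mp (hmZ ▸ card_dvd_of_le hle) with h | h
        · refine absurd (mem_center_iff.mpr fun g => ?_) hwZ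
          exact commutatorElement_eq_one_iff_mul_comm.mp
            (mem_bot.mp ((card_eq_one.mp h).le ⟨g, rfl⟩))
        · exact h
      have hMC : M ≤ centralizer (M : Set P) := fun x hx y hy => by
        haveI := IsPGroup.isMulCommutative_of_card_eq_prime_sq (p := p) hMc
        exact congrArg Subtype.val ((inferInstance : IsMulCommutative M).is_comm.comm ⟨y, hy⟩ ⟨x, hx⟩)
      exact false_of_chain hS hP hcard (inv_of_char (center P)) hMinv hCinv hZM hMC hmZ hMc
        (card_of_index_prime hcard hCi)
    · have := hqc (isCyclic_of_prime_card (p := p) (Nat.eq_of_mul_eq_mul_right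
        (pow_pos hp.out.pos 2) (hqidx.trans (by ring))))
      rw [this, card_top, hQ] at hjZ
      exact absurd (Nat.pow_right_injective hp.out.two_le hjZ) (by norm_num)
    · -- class two: extraspecial of order an even power
      have hall : ∀ g h : P ⧸ Z, g * h = h * g := fun g h =>
        mem_center_iff.mp ((eq_top_of_card_eq Zq (hjZ.trans hQ.symm)).ge (mem_top h)) g
      obtain ⟨z, hz⟩ := (Subgroup.isCyclic_iff_exists_zpowers_eq_top Z).mp
        (isCyclic_of_prime_card (p := p) (α := Z) hmZ)
      have hpre : Invol.ExtraPairs.Pre p P z :=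
        { ordz := by rw [← Nat.card_zpowers, hz, hmZ]
          center_eq := hz.symm
          comm_mem := fun a b => by rw [hz]; exact hcomm (hall _ _)
          pow_mem := fun a => by
            rw [hz]
            refine mem_center_iff.mpr fun g => commutatorElement_eq_one_iff_mul_comm.mp ?_
            have hc : ⁅g, a⁆ ∈ Z := hcomm (hall _ _)
            have h1 : ⁅g, a ^ p⁆ = ⁅g, a⁆ ^ p := by
              rw [commutatorElement_def g (a ^ p), ← conj_pow, show g * a * g⁻¹ = ⁅g, a⁆ * a by
                rw [commutatorElement_def, inv_mul_cancel_right],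
                (show Commute ⁅g, a⁆ a from (mem_center_iff.mp hc a).symm).mul_pow,
                mul_inv_cancel_right]
            rw [h1, ← hmZ]
            exact congrArg Subtype.val (pow_card_eq_one' (x := (⟨_, hc⟩ : Z))) }
      obtain ⟨n, hn⟩ := hpre.card_odd_power
      have := Nat.pow_right_injective hp.out.two_le (hcard.symm.trans hn)
      omega
  · exact hmZ
  · exact absurd (isCyclic_of_prime_card (α := P ⧸ Z) (p := p) (Nat.eq_of_mul_eq_mul_right
      (pow_pos hp.out.pos 3) (hidx.trans (by ring)))) hq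
  · have h1 : Nat.card (P ⧸ Z) = 1 := Nat.eq_of_mul_eq_mul_right (pow_pos hp.out.pos 4)
      (hidx.trans (one_mul _).symm)
    haveI := (Nat.card_eq_one_iff_unique.mp h1).1
    exact (hq inferInstance).elim

/-- The nonabelian case. -/
theorem nonabelian (hne : ¬ ∀ a b : P, a * b = b * a) :
    (Odd p ∧ ∃ (E : Type) (_ : Group E) (_ : Finite E), Cfsg.IsExtraspecial p E ∧
        Nat.card E = p ^ 3 ∧ (∀ x : E, x ^ p = 1) ∧ Nonempty (P ≃* E × Multiplicative (ZMod p))) ∨
      (p = 2 ∧ Nonempty (P ≃* QuaternionGroup 2 × Multiplicative (ZMod 2))) ∨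
      (¬ IsMulCommutative P ∧ (∀ x : Ω, x ∈ P → x ^ (p ^ 2) = 1) ∧ IsCyclic (center P) ∧
        Nat.card (center P) = p ^ 2) := by
  haveI := finite_of_le hP.1.1
  have hPp := hS.to_le hP.1.1
  haveI := hPp.isNilpotent
  have hZc := card_center hS hP hcard hne
  set Z := center P with hZdef
  set D := commutator P with hDdef
  have hZi : Z.index = p ^ 2 := by
    have h := Z.card_mul_index
    rw [hZc, hcard, show p ^ 4 = p ^ 2 * p ^ 2 by ring] at h
    exact Nat.eq_of_mul_eq_mul_left (pow_pos hp.out.pos 2) h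
  have hVn : Nat.card (P ⧸ Z) = p ^ 2 := (index_eq_card Z).symm.trans hZi
  have hDZ : D ≤ Z := by
    rw [hDdef, ← Normal.quotient_commutative_iff_commutator_le]
    exact IsPGroup.isMulCommutative_of_card_eq_prime_sq hVn
  have hcz : ∀ a b : P, ⁅a, b⁆ ∈ D := fun a b => commutator_mem_commutator (mem_top a) (mem_top b)
  have hpow : ∀ x : P, x ^ p ∈ Z := by
    intro x
    rw [← QuotientGroup.eq_one_iff, QuotientGroup.mk_pow]
    by_contra hne'
    apply hne
    obtain ⟨m, hm, he⟩ := (Nat.dvd_prime_pow hp.out).mp (hVn ▸ orderOf_dvd_natCard (x : P ⧸ Z))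
    have hm2 : m = 2 := by
      by_contra hm2
      exact hne' (orderOf_dvd_iff_pow_eq_one.mp
        (he ▸ (pow_dvd_pow p (by omega : m ≤ 1)).trans (pow_one p).dvd))
    haveI : IsCyclic (P ⧸ Z) := isCyclic_of_orderOf_eq_card _ (by rw [he, hVn, hm2])
    exact commutative_of_cyclic_center_quotient (QuotientGroup.mk' Z) (QuotientGroup.ker_mk' Z).le
  -- the commutator subgroup has order `p`
  obtain ⟨a, b, hab⟩ : ∃ a b : P, a * b ≠ b * a := by simpa using hne
  have hDc : Nat.card D = p := by
    have hc : ⁅a, b⁆ ∈ Z := hDZ (hcz a b)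
    set N := zpowers ⁅a, b⁆
    haveI : N.Normal := ⟨fun n hn g => by
      rw [mem_center_iff.mp (zpowers_le.mpr hc hn) g, mul_inv_cancel_right]; exact hn⟩
    have hDN : D = N := by
      refine le_antisymm ?_ (zpowers_le.mpr (hcz a b))
      have hqab : (a : P ⧸ N) * b = (b : P ⧸ N) * a := by
        rw [← commutatorElement_eq_one_iff_mul_comm]
        show ⁅QuotientGroup.mk' N a, QuotientGroup.mk' N b⁆ = 1
        rw [← map_commutatorElement]
        exact (QuotientGroup.eq_one_iff _).mpr (mem_zpowers _)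
      have hgen : ∀ {c : P}, (a : P ⧸ N) * c = (c : P ⧸ N) * a → (b : P ⧸ N) * c = (c : P ⧸ N) * b →
          ∀ g : P, (g : P ⧸ N) * c = (c : P ⧸ N) * g := by
        intro c h1 h2 g
        have := eq_top_of_noncommuting hcard hZc hab
          (T := (centralizer ({(c : P ⧸ N)} : Set (P ⧸ N))).comap (QuotientGroup.mk' N))
          (fun z hz => mem_centralizer_singleton_iff.mpr (by
            show (z : P ⧸ N) * c = c * z
            rw [← QuotientGroup.mk_mul, ← QuotientGroup.mk_mul, mem_center_iff.mp hz c]))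
          (mem_centralizer_singleton_iff.mpr h1) (mem_centralizer_singleton_iff.mpr h2)
        exact mem_centralizer_singleton_iff.mp (this.ge (mem_top g))
      have hga := hgen (c := a) rfl hqab.symm
      have hgb := hgen (c := b) hqab rfl
      rw [hDdef, ← Normal.quotient_commutative_iff_commutator_le]
      refine ⟨⟨fun g h => ?_⟩⟩
      obtain ⟨g, rfl⟩ := QuotientGroup.mk_surjective g
      obtain ⟨h, rfl⟩ := QuotientGroup.mk_surjective h
      exact hgen (c := h) (hga h).symm (hgb h).symm g
    rw [hDN, Nat.card_zpowers]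
    exact orderOf_eq_prime (commutator_pow_eq_one hc (hpow b)) fun h =>
      hab (commutatorElement_eq_one_iff_mul_comm.mp h)
  have hDp : ∀ c ∈ D, c ^ p = 1 := fun c hc => by
    rw [← hDc]
    exact congrArg Subtype.val (pow_card_eq_one' (x := (⟨c, hc⟩ : D)))
  have hZD : ∀ z ∈ Z, z ^ p ∈ D := by
    intro z hz
    have h : (D.subgroupOf Z).index = p := by
      have h1 := (D.subgroupOf Z).card_mul_index
      rw [Nat.card_congr (subgroupOfEquivOfLe hDZ).toEquiv, hDc, hZc, pow_two] at h1
      exact Nat.eq_of_mul_eq_mul_left hp.out.pos h1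
    haveI : (D.subgroupOf Z).Normal := inferInstance
    have h2 : (⟨z, hz⟩ : Z) ^ p ∈ D.subgroupOf Z := h ▸ pow_index_mem _ _
    simpa [mem_subgroupOf] using h2
  have hmul : ∀ x y : P, ∀ n : ℕ, ∃ d ∈ D, d ^ p = 1 ∧ (x * y) ^ n = x ^ n * y ^ n * d ^ n.choose 2 := by
    intro x y n
    have hd : ⁅y⁻¹, x⁻¹⁆ ∈ D := hcz _ _
    exact ⟨_, hd, hDp _ hd, FGB.mul_pow_of_central_commutator
      (by rw [commutatorElement_def]; group) (mem_center_iff.mp (hDZ hd) x).symm
      (mem_center_iff.mp (hDZ hd) y).symm n⟩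
  have hDi : Inv D := inv_of_char (commutator P)
  have hZinv : Inv Z := inv_of_char (center P)
  have hexcl : ∀ C : Subgroup P, Inv C → Z ≤ C → C.index = p → False := fun C hC hZC hCi =>
    false_of_chain hS hP hcard hDi hZinv hC hDZ hZC hDc hZc (card_of_index_prime hcard hCi)
  -- exponent at most `p ^ 2`
  have hexp2 : ∀ x : P, x ^ p ^ 2 = 1 := by
    let f : P →* P := MonoidHom.mk' (fun x => x ^ p ^ 2) fun x y => by
      obtain ⟨d, -, hdp, he⟩ := hmul x y (p ^ 2)
      obtain ⟨t, ht⟩ := hp.out.dvd_choose_pow (n := 2) (k := 2) two_ne_zero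
        (Nat.lt_of_lt_of_le (lt_of_lt_of_le (by norm_num) le_rfl)
          (Nat.pow_le_pow_left hp.out.two_le 2)).ne
      rw [he, ht, pow_mul, hdp, one_pow, mul_one]
    have hr : f.range ≤ D := by
      rintro _ ⟨x, rfl⟩
      show x ^ p ^ 2 ∈ D
      rw [pow_two, pow_mul]
      exact hZD _ (hpow x)
    rcases (Nat.dvd_prime hp.out).mp (hDc ▸ card_dvd_of_le hr) with h | h
    · exact fun x => mem_bot.mp ((card_eq_one.mp h).le ⟨x, rfl⟩)
    · refine (hexcl f.ker (fun α x hx => ?_) (fun z hz => ?_) ((index_ker f).trans h)).elim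
      · show (α x) ^ p ^ 2 = 1
        rw [← map_pow, show x ^ p ^ 2 = 1 from hx, map_one]
      · show z ^ p ^ 2 = 1
        rw [pow_two, pow_mul]
        exact hDp _ (hZD z hz)
  by_cases hcy : IsCyclic Z
  · exact Or.inr (Or.inr ⟨fun h => hne h.is_comm.comm,
      fun x hx => congrArg Subtype.val (hexp2 ⟨x, hx⟩), hcy, hZc⟩)
  have hZp : ∀ z ∈ Z, z ^ p = 1 := by
    intro z hz
    by_contra hne'
    apply hcy
    obtain ⟨m, hm, he⟩ := (Nat.dvd_prime_pow hp.out).mp
      (hZc ▸ orderOf_dvd_natCard (⟨z, hz⟩ : Z))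
    have hm2 : m = 2 := by
      by_contra hm2
      have h1 : (⟨z, hz⟩ : Z) ^ p = 1 := orderOf_dvd_iff_pow_eq_one.mp
        (he ▸ (pow_dvd_pow p (by omega : m ≤ 1)).trans (pow_one p).dvd)
      exact hne' (congrArg Subtype.val h1)
    exact isCyclic_of_orderOf_eq_card (⟨z, hz⟩ : Z) (by rw [he, hZc, hm2])
  obtain ⟨z, hzZ, hzD⟩ := SetLike.exists_of_lt (show D < Z from lt_of_le_of_ne hDZ fun e => by
    rw [e, hZc] at hDc
    exact absurd ((pow_two p).symm.trans hDc) (lt_mul_self hp.out.one_lt).ne')
  by_cases hp2 : p = 2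
  · subst hp2
    refine Or.inr (Or.inl ⟨rfl, ?_⟩)
    obtain ⟨h, hh, hh1⟩ : ∃ h ∈ D, h ≠ 1 := D.bot_or_exists_ne_one.resolve_left fun e => by
      rw [e, card_bot] at hDc
      exact absurd hDc (by norm_num)
    have hD2 : ∀ c ∈ D, c ≠ 1 → c = h := fun c hc hc1 => by
      obtain ⟨x, y, -, hxy⟩ := Nat.card_eq_two_iff.mp hDc
      have hs : ∀ w : D, w = x ∨ w = y := fun w => by
        have hw : w ∈ ({x, y} : Set D) := hxy ▸ Set.mem_univ w
        exact hw
      have h1 : (⟨c, hc⟩ : D) ≠ 1 := fun e => hc1 (congrArg Subtype.val e)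
      have h2 : (⟨h, hh⟩ : D) ≠ 1 := fun e => hh1 (congrArg Subtype.val e)
      rcases hs ⟨c, hc⟩ with e | e <;> rcases hs ⟨h, hh⟩ with e' | e' <;>
        rcases hs 1 with e'' | e'' <;>
        first
          | exact congrArg Subtype.val (e.trans e'.symm)
          | exact absurd (e.trans e''.symm) h1
          | exact absurd (e'.trans e''.symm) h2
    have hh2 : h ^ 2 = 1 := hDp h hh
    have hzc : ∀ {x y : P}, ∃ d ∈ D, (x * y) ^ 2 = x ^ 2 * y ^ 2 * d := fun {x y} => by
      obtain ⟨d, hd, -, he⟩ := hmul x y 2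
      exact ⟨d, hd, by rw [he, show Nat.choose 2 2 = 1 from rfl, pow_one]⟩
    have hD1 : ∀ c ∈ D, c = 1 ∨ c = h := fun c hc => (em (c = 1)).imp_right (hD2 c hc)
    -- every square lies in the commutator subgroup
    have hsq : ∀ x : P, x ^ 2 ∈ D := by
      let f : P →* P ⧸ D := MonoidHom.mk' (fun x => ((x ^ 2 : P) : P ⧸ D)) fun x y => by
        obtain ⟨d, hd, he⟩ := hzc (x := x) (y := y)
        rw [he, QuotientGroup.mk_mul, QuotientGroup.mk_mul, (QuotientGroup.eq_one_iff d).mpr hd,
          mul_one]
      have hr : f.range ≤ Z.map (QuotientGroup.mk' D) := by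
        rintro _ ⟨x, rfl⟩
        exact ⟨_, hpow x, rfl⟩
      have hc2 : Nat.card (Z.map (QuotientGroup.mk' D)) = 2 := by
        have h1 := ((QuotientGroup.mk' D).comp Z.subtype).ker.card_mul_index
        rw [index_ker, show ((QuotientGroup.mk' D).comp Z.subtype).ker = D.subgroupOf Z by
          rw [← MonoidHom.comap_ker, QuotientGroup.ker_mk']; rfl,
          Nat.card_congr (subgroupOfEquivOfLe hDZ).toEquiv, hDc, MonoidHom.range_comp,
          range_subtype, hZc, pow_two] at h1
        exact Nat.eq_of_mul_eq_mul_left two_pos h1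
      rcases (Nat.dvd_prime hp.out).mp (hc2 ▸ card_dvd_of_le hr) with e | e
      · exact fun x => (QuotientGroup.eq_one_iff _).mp (mem_bot.mp ((card_eq_one.mp e).le ⟨x, rfl⟩))
      · refine (hexcl f.ker (fun α x hx => ?_) (fun w hw => ?_) ((index_ker f).trans e)).elim
        · refine (QuotientGroup.eq_one_iff _).mpr ?_
          rw [← map_pow]
          exact hDi α _ ((QuotientGroup.eq_one_iff _).mp hx)
        · refine (QuotientGroup.eq_one_iff _).mpr ?_
          rw [hZp w hw]
          exact one_mem _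
    by_cases hbad : ∃ x, x ∉ Z ∧ x ^ 2 = 1
    · exfalso
      obtain ⟨x0, hx0, hx02⟩ := hbad
      let C : Subgroup P :=
        { carrier := {x | x ∈ Z ∨ x ^ 2 = h}
          one_mem' := Or.inl (one_mem _)
          inv_mem' := fun {x} hx => hx.imp (fun e => inv_mem e) fun e => by
            rw [inv_pow, e, inv_eq_iff_mul_eq_one, ← pow_two, hh2]
          mul_mem' := fun {x y} hx hy => by
            rcases hx with hx | hx <;> rcases hy with hy | hy
            · exact Or.inl (mul_mem hx hy)
            · refine Or.inr ?_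
              rw [(show Commute x y from (mem_center_iff.mp hx y).symm).mul_pow, hZp x hx, one_mul, hy]
            · refine Or.inr ?_
              rw [(show Commute x y from mem_center_iff.mp hy x).mul_pow, hZp y hy, mul_one, hx]
            · by_cases hxy : x * y = y * x
              · left
                have hxZ : x ∉ Z := fun e => hh1 (hx ▸ hZp x e)
                have hy' : y ∈ Z ⊔ zpowers x := (centralizer_eq hcard hZc hxZ).2 ▸
                  mem_centralizer_singleton_iff.mpr hxy.symm
                obtain ⟨w, hw, v, hv, rfl⟩ := mem_sup_of_normal_left.mp hy'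
                obtain ⟨i, rfl⟩ := mem_zpowers_iff.mp hv
                rcases Int.even_or_odd i with ⟨j, rfl⟩ | ⟨j, rfl⟩
                · refine absurd ?_ hh1
                  rw [← hy]
                  refine hZp _ (mul_mem hw ?_)
                  rw [← two_mul, zpow_mul]
                  exact zpow_mem (by simpa using hpow x) j
                · rw [← mul_assoc, mem_center_iff.mp hw x, mul_assoc,
                    show x * x ^ (2 * j + 1) = (x ^ (2 : ℤ)) ^ (j + 1) by
                      rw [← zpow_one_add, ← zpow_mul]; ring_nf]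
                  exact mul_mem hw (zpow_mem (by simpa using hpow x) _)
              · right
                obtain ⟨d, hd, he⟩ := hzc (x := x) (y := y)
                rw [he, hx, hy, ← pow_two, hh2, one_mul]
                refine hD2 d hd fun hd1 => hxy ?_
                rw [hd1, mul_one, hx, hy, ← pow_two, hh2, pow_two, mul_eq_one_iff_eq_inv] at he
                -- `x * y` is an involution
                have h1 : x * y * (x * y) = 1 := by rw [mul_eq_one_iff_eq_inv]; exact he
                have h2 : y * x = x⁻¹ * (x * y * (x * y)) * y⁻¹ := by group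
                rw [h2, h1, mul_one]
                have hx' : x⁻¹ = x * h := inv_eq_of_mul_eq_one_right (by
                  rw [← mul_assoc, ← pow_two, hx, ← pow_two, hh2])
                have hy' : y⁻¹ = y * h := inv_eq_of_mul_eq_one_right (by
                  rw [← mul_assoc, ← pow_two, hy, ← pow_two, hh2])
                rw [hx', hy', mul_assoc x h, ← mul_assoc h y, ← mem_center_iff.mp (hDZ hh) y,
                  mul_assoc y h h, ← pow_two, hh2, mul_one] }
      have hCinv : Inv C := fun α x hx => hx.imp (fun e => hZinv α x e) fun e => by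
        rw [← map_pow, e]
        exact hD2 _ (hDi α h hh) fun e' => hh1 (α.injective (e'.trans (map_one α).symm))
      have hZC : Z < C := lt_of_le_of_ne (fun w hw => Or.inl hw) fun e => by
        -- otherwise every square is trivial
        apply hne
        have hall : ∀ x : P, x ^ 2 = 1 := fun x => by
          rcases hD1 _ (hsq x) with e1 | e1
          · exact e1
          · exact hZp x (e.ge (Or.inr e1))
        intro x y
        have hi : ∀ u : P, u⁻¹ = u := fun u => inv_eq_of_mul_eq_one_right ((pow_two u).symm.trans (hall u))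
        rw [← hi (x * y), mul_inv_rev, hi, hi]
      have hCtop : C ≠ ⊤ := fun e => (e.ge (mem_top x0)).elim hx0 fun e' => hh1 (e'.symm.trans hx02)
      exact false_of_chain hS hP hcard hDi hZinv hCinv hDZ hZC.le hDc hZc
        (card_eq_cube hcard hZc hZC hCtop)
    · push Not at hbad
      have hq : ∀ x, x ∉ Z → x ^ 2 = h := fun x hx => hD2 _ (hsq x) (hbad x hx)
      have haZ : a ∉ Z := fun e => hab (mem_center_iff.mp e b).symm
      have hbZ : b ∉ Z := fun e => hab (mem_center_iff.mp e a)
      have hrel : a * b * a⁻¹ = b⁻¹ := by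
        have hc : ⁅a, b⁆ = h :=
          hD2 _ (hcz a b) fun e => hab (commutatorElement_eq_one_iff_mul_comm.mp e)
        rw [show a * b * a⁻¹ = ⁅a, b⁆ * b by rw [commutatorElement_def, inv_mul_cancel_right], hc,
          eq_inv_iff_mul_eq_one, mul_assoc, ← pow_two, hq b hbZ, ← pow_two, hh2]
      have hb4 : orderOf b = 2 * 2 := by
        refine orderOf_eq_prime_pow (p := 2) (n := 1) ?_ ?_
        · rw [pow_one, hq b hbZ]; exact hh1
        · exact hexp2 b
      obtain ⟨f, hfa, hfx⟩ := Invol.exists_quaternionHom hrel 2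
        (by rw [← pow_two, hq a haZ, hq b hbZ]) (by rw [← hb4, pow_orderOf_eq_one])
      have hmem : ∀ q : QuaternionGroup 2, f q ∈ Z → q * q = 1 := by
        intro q hq'
        have hcen : ∀ q : QuaternionGroup 2, q * q ≠ 1 →
            q * QuaternionGroup.a 1 ≠ QuaternionGroup.a 1 * q ∨
              q * QuaternionGroup.xa 0 ≠ QuaternionGroup.xa 0 * q := by decide
        by_contra hne'
        have hA : f (QuaternionGroup.a 1) = b := by simpa using hfa 1
        have hX : f (QuaternionGroup.xa 0) = a := by simpa using hfx 0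
        have hinj : ∀ r : QuaternionGroup 2, f r = 1 → r = 1 := by
          rintro (i | i) hr <;> obtain ⟨i, rfl⟩ := ZMod.intCast_surjective i
          · rw [hfa, ← orderOf_dvd_iff_zpow_eq_one, hb4] at hr
            rw [(ZMod.intCast_zmod_eq_zero_iff_dvd i _).2 hr, QuaternionGroup.a_zero]
          · rw [hfx] at hr
            refine absurd ?_ hab
            rw [eq_inv_of_mul_eq_one_left hr]
            exact (Commute.refl b).zpow_left i |>.inv_left
        have hinj' : Function.Injective f := (injective_iff_map_eq_one f).mpr hinj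
        rcases hcen q hne' with h' | h' <;> refine h' (hinj' ?_) <;> rw [map_mul, map_mul]
        · rw [hA]; exact (mem_center_iff.mp hq' b).symm
        · rw [hX]; exact (mem_center_iff.mp hq' a).symm
      have hz1 : z ^ 2 = 1 := hZp z hzZ
      let g : Multiplicative (ZMod 2) →* P :=
        { toFun := fun i => z ^ i.toAdd.val
          map_one' := by simp
          map_mul' := fun i j => by
            simp only [toAdd_mul, ZMod.val_add]
            rw [← pow_eq_pow_mod _ hz1, pow_add] }
      let φ := f.noncommCoprod g fun q i =>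
        (show Commute (f q) (z ^ i.toAdd.val) from Commute.pow_right (mem_center_iff.mp hzZ (f q)) _)
      have hinj : Function.Injective φ := (injective_iff_map_eq_one φ).mpr fun ⟨q, i⟩ hqi => by
        have hqi' : f q * z ^ i.toAdd.val = 1 := hqi
        have hqZ : f q ∈ Z := eq_inv_of_mul_eq_one_left hqi' ▸ inv_mem (pow_mem hzZ _)
        have hsq' : ∀ q : QuaternionGroup 2, q * q = 1 → q = 1 ∨ q = QuaternionGroup.a 2 := by decide
        have hfD : f q ∈ D := by
          rcases hsq' q (hmem q hqZ) with rfl | rfl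
          · rw [map_one]; exact one_mem _
          · rw [show (QuaternionGroup.a 2 : QuaternionGroup 2) = QuaternionGroup.a ((2 : ℤ) : ZMod (2 * 2))
              from rfl, hfa, show ((2 : ℤ)) = ((2 : ℕ) : ℤ) from rfl, zpow_natCast]
            exact hsq b
        have hi0 : i.toAdd.val = 0 := by
          by_contra hne'
          have h1 : i.toAdd.val = 1 := by have := ZMod.val_lt i.toAdd; omega
          rw [h1, pow_one] at hqi'
          exact hzD (eq_inv_of_mul_eq_one_right hqi' ▸ inv_mem hfD)
        rw [hi0, pow_zero, mul_one] at hqi'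
        refine Prod.ext ?_ (Multiplicative.toAdd.injective ((ZMod.val_eq_zero _).mp hi0))
        show q = 1
        rcases hsq' q (hmem q hqZ) with rfl | rfl
        · rfl
        · exfalso
          rw [show (QuaternionGroup.a 2 : QuaternionGroup 2) = QuaternionGroup.a ((2 : ℤ) : ZMod (2 * 2))
            from rfl, hfa, show ((2 : ℤ)) = ((2 : ℕ) : ℤ) from rfl, zpow_natCast, hq b hbZ] at hqi'
          exact hh1 hqi'
      refine ⟨(MulEquiv.ofBijective φ ?_).symm⟩
      refine hinj.bijective_of_nat_card_le (le_of_eq ?_)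
      rw [hcard, Nat.card_prod, Nat.card_congr Multiplicative.toAdd, Nat.card_zmod,
        Nat.card_eq_fintype_card, QuaternionGroup.card]
      norm_num
  -- odd characteristic: the power map
  have hodd := hp.out.odd_of_ne_two hp2
  refine Or.inl ⟨hodd, ?_⟩
  have hexp : ∀ x : P, x ^ p = 1 := by
    let f : P →* P := MonoidHom.mk' (fun x => x ^ p) fun x y => by
      obtain ⟨d, -, hdp, he⟩ := hmul x y p
      obtain ⟨t, ht⟩ := hp.out.dvd_choose_self (k := 2) two_ne_zero
        (lt_of_le_of_ne hp.out.two_le (Ne.symm hp2))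
      rw [he, ht, pow_mul, hdp, one_pow, mul_one]
    have hr : f.range ≤ Z := by
      rintro _ ⟨x, rfl⟩
      exact hpow x
    obtain ⟨m, hm, hmr⟩ := (Nat.dvd_prime_pow hp.out).mp (hZc ▸ card_dvd_of_le hr)
    have hK : Inv f.ker := fun α x hx => by
      show (α x) ^ p = 1
      rw [← map_pow, show x ^ p = 1 from hx, map_one]
    interval_cases m
    · exact fun x => mem_bot.mp ((card_eq_one.mp (hmr.trans (pow_zero p))).le ⟨x, rfl⟩)
    · exact (hexcl f.ker hK (fun w hw => hZp w hw) (by rw [index_ker, hmr, pow_one])).elim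
    · refine (hexcl (D.comap f) (fun α x hx => ?_) (fun w hw => ?_) ?_).elim
      · show (α x) ^ p ∈ D
        rw [← map_pow]
        exact hDi α _ hx
      · show w ^ p ∈ D
        rw [hZp w hw]
        exact one_mem _
      · rw [index_comap, eq_of_le_of_card_ge hr (by rw [hZc, hmr])]
        have h1 := (D.subgroupOf Z).card_mul_index
        rw [Nat.card_congr (subgroupOfEquivOfLe hDZ).toEquiv, hDc, hZc, pow_two] at h1
        exact Nat.eq_of_mul_eq_mul_left hp.out.pos h1
  -- a complement of `z`
  have hfr : frattini P ≤ D := by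
    refine (LocalEvenA.frattini_le_commutator_sup_pow (p := p) (Q := P)).trans (sup_le le_rfl ?_)
    rw [closure_le]
    rintro _ ⟨x, rfl⟩
    show x ^ p ∈ D
    rw [hexp x]
    exact one_mem _
  obtain ⟨M, hM, hzM⟩ : ∃ M : Subgroup P, IsCoatom M ∧ z ∉ M := by
    by_contra hno
    push Not at hno
    exact hzD (hfr (show z ∈ frattini P by
      simp only [frattini, Order.radical, Subgroup.mem_iInf, Set.mem_setOf_eq]
      exact hno))
  haveI : M.Normal :=
    NormalizerCondition.normal_of_coatom M (normalizerCondition_of_isNilpotent) hM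
  let g : Multiplicative (ZMod p) →* P :=
    { toFun := fun i => z ^ i.toAdd.val
      map_one' := by simp
      map_mul' := fun i j => by
        simp only [toAdd_mul, ZMod.val_add]
        rw [← pow_eq_pow_mod _ (hZp z hzZ), pow_add] }
  let φ := M.subtype.noncommCoprod g fun m i =>
    (show Commute (m : P) (z ^ i.toAdd.val) from Commute.pow_right (mem_center_iff.mp hzZ (m : P)) _)
  have hinj : Function.Injective φ := (injective_iff_map_eq_one φ).mpr fun ⟨m, i⟩ hmi => by
    have hmi' : (m : P) * z ^ i.toAdd.val = 1 := hmi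
    have hi0 : i.toAdd.val = 0 := by
      by_contra hne'
      apply hzM
      have hzo : orderOf z = p := orderOf_eq_prime (hZp z hzZ) fun e => hzD (e ▸ one_mem _)
      obtain ⟨j, hj⟩ := exists_pow_eq_self_of_coprime (x := z) (n := i.toAdd.val) (by
        rw [hzo]
        exact ((hp.out.coprime_iff_not_dvd).mpr fun hd =>
          hne' (Nat.eq_zero_of_dvd_of_lt hd (ZMod.val_lt _))).symm)
      rw [← hj, eq_inv_of_mul_eq_one_right hmi']
      exact pow_mem (inv_mem m.2) j
    rw [hi0, pow_zero, mul_one] at hmi'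
    exact Prod.ext (Subtype.ext hmi') (Multiplicative.toAdd.injective ((ZMod.val_eq_zero _).mp hi0))
  have hMc : Nat.card M = p ^ 3 := by
    have h1 := Nat.card_le_card_of_injective φ hinj
    rw [Nat.card_prod, Nat.card_congr Multiplicative.toAdd, Nat.card_zmod, hcard, pow_succ p 3] at h1
    have h2 : D ≤ M := (Basics.commutator_le_frattini).trans (frattini_le_coatom hM)
    have h3 : D < M := lt_of_le_of_ne h2 fun e => by
      -- `P` would be cyclic modulo `D`
      have h4 := hM.2 (D ⊔ zpowers z) (e ▸ lt_of_le_of_ne le_sup_left fun e' =>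
        hzM (e ▸ e'.ge (mem_sup_right (mem_zpowers z))))
      exact hne fun x y => mem_center_iff.mp
        (sup_le hDZ (zpowers_le.mpr hzZ) (h4.ge (mem_top y))) x
    obtain ⟨m, hm, hmM⟩ := card_eq_pow hcard M
    have h4 := mul_card_le hcard h3
    rw [hDc, ← pow_two, hmM, Nat.pow_le_pow_iff_right hp.out.one_lt] at h4
    have h5 := Nat.le_of_mul_le_mul_right h1 hp.out.pos
    rw [hmM, Nat.pow_le_pow_iff_right hp.out.one_lt] at h5
    have h6 : m ≠ 2 := by
      rintro rfl
      have hMcomm := IsPGroup.isMulCommutative_of_card_eq_prime_sq (p := p) hmM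
      have hsup : M ⊔ zpowers z = ⊤ := hM.2 _ (lt_of_le_of_ne le_sup_left fun e =>
        hzM (e ▸ mem_sup_right (mem_zpowers z)))
      apply hne
      have hMz : ∀ x ∈ M, x ∈ Z := fun x hx => mem_center_iff.mpr fun y => by
        have : M ⊔ zpowers z ≤ centralizer ({x} : Set P) := sup_le
          (fun w hw => mem_centralizer_singleton_iff.mpr
            (congrArg Subtype.val (hMcomm.is_comm.comm ⟨w, hw⟩ ⟨x, hx⟩)))
          (zpowers_le.mpr (mem_centralizer_singleton_iff.mpr (mem_center_iff.mp hzZ x).symm))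
        exact mem_centralizer_singleton_iff.mp (this (hsup.ge (mem_top y)))
      exact fun x y => mem_center_iff.mp (sup_le hMz (zpowers_le.mpr hzZ) (hsup.ge (mem_top y))) x
    rw [hmM, show m = 3 by omega]
  have hbij : Function.Bijective φ := hinj.bijective_of_nat_card_le (le_of_eq (by
    rw [Nat.card_prod, Nat.card_congr Multiplicative.toAdd, Nat.card_zmod, hMc, hcard]; ring))
  -- the factor is extraspecial
  have hcenM : ∀ m : M, m ∈ center M → (m : P) ∈ Z := by
    intro m hm
    refine mem_center_iff.mpr fun y => ?_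
    obtain ⟨⟨w, i⟩, rfl⟩ := hbij.2 y
    show (w : P) * z ^ i.toAdd.val * m = m * (w * z ^ i.toAdd.val)
    have e1 : (w : P) * m = m * w := congrArg Subtype.val (mem_center_iff.mp hm w)
    rw [mul_assoc, (show Commute (z ^ i.toAdd.val) (m : P) from
      (mem_center_iff.mp (pow_mem hzZ _) (m : P)).symm).eq, ← mul_assoc, e1, mul_assoc]
  obtain ⟨h, hh⟩ := (Subgroup.isCyclic_iff_exists_zpowers_eq_top D).mp
    (isCyclic_of_prime_card (p := p) (α := D) hDc)
  have hhM : h ∈ M := frattini_le_coatom hM (Basics.commutator_le_frattini (hh.le (mem_zpowers h)))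
  have hZM : Z ⊓ M = D := by
    refine (eq_of_le_of_card_ge (le_inf hDZ (Basics.commutator_le_frattini.trans (frattini_le_coatom hM))) ?_).symm
    by_contra hlt
    rw [hDc] at hlt
    obtain ⟨m, hm, hmc⟩ := (Nat.dvd_prime_pow hp.out).mp
      (hZc ▸ card_dvd_of_le (inf_le_left : Z ⊓ M ≤ Z))
    rcases Nat.lt_or_ge m 2 with hlt' | hge
    · exact hlt (hmc ▸ (Nat.pow_le_pow_right hp.out.pos (by omega : m ≤ 1)).trans (pow_one p).le)
    · exact hzM (((eq_of_le_of_card_ge (inf_le_left : Z ⊓ M ≤ Z)
        (by rw [hZc, hmc]; exact Nat.pow_le_pow_right hp.out.pos hge)).ge hzZ).2)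
  have hzp : ∀ m : M, (m : P) ∈ D → m ∈ zpowers (⟨h, hhM⟩ : M) := fun m hm => by
    obtain ⟨i, hi⟩ := mem_zpowers_iff.mp (hh.ge hm)
    exact mem_zpowers_iff.mpr ⟨i, Subtype.ext (by rw [Subgroup.coe_zpow, hi])⟩
  have hpre : Invol.ExtraPairs.Pre p M ⟨h, hhM⟩ :=
    { ordz := by rw [← Subgroup.orderOf_coe, ← Nat.card_zpowers, hh, hDc]
      center_eq := le_antisymm (fun m hm => hzp m (hZM.le ⟨hcenM m hm, m.2⟩)) (zpowers_le.mpr
        (mem_center_iff.mpr fun m => Subtype.ext
          (mem_center_iff.mp (hDZ (hh.le (mem_zpowers h))) (m : P))))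
      comm_mem := fun x y => hzp _ (by
        have := hcz (x : P) (y : P)
        simpa [commutatorElement_def] using this)
      pow_mem := fun x => by
        rw [show x ^ p = 1 from Subtype.ext (hexp x)]
        exact one_mem _ }
  obtain ⟨E, hG, hfin, ⟨e⟩⟩ := Recog.exists_type_zero (G := M)
  have he : ∀ x : E, e x ∈ zpowers (⟨h, hhM⟩ : M) ↔ x ∈ zpowers (e.symm ⟨h, hhM⟩) := fun x => by
    simp only [mem_zpowers_iff]
    refine exists_congr fun i => ?_
    rw [← map_zpow, e.symm_apply_eq]
  have hEp : Invol.ExtraPairs.Pre p E (e.symm ⟨h, hhM⟩) :=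
    { ordz := (e.symm.orderOf_eq _).trans hpre.ordz
      center_eq := by
        ext x
        rw [← he, ← hpre.center_eq, mem_center_iff, mem_center_iff]
        exact ⟨fun hx m => by
          obtain ⟨y, rfl⟩ := e.surjective m
          rw [← map_mul, hx y, map_mul], fun hx y => e.injective (by rw [map_mul, hx, map_mul])⟩
      comm_mem := fun x y => (he _).mp (map_commutatorElement e x y ▸ hpre.comm_mem _ _)
      pow_mem := fun x => (he _).mp (map_pow e x p ▸ hpre.pow_mem _) }
  have hEc : Nat.card E = p ^ 3 := (Nat.card_congr e.toEquiv).trans hMc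
  haveI : Finite E := Finite.of_fintype E
  refine ⟨E, hG, inferInstance, hEp.extraspecial ?_, hEc,
    fun x => e.injective (by rw [map_pow, map_one]; exact Subtype.ext (hexp _)),
    ⟨((MulEquiv.ofBijective φ hbij).symm).trans (e.symm.prodCongr (MulEquiv.refl _))⟩⟩
  rw [hEc]
  exact fun e => absurd (Nat.pow_right_injective hp.out.two_le (e.trans (pow_one p).symm)) (by norm_num)

/-- The abelian case. -/
theorem abelian (hab : IsMulCommutative P) :
    Cfsg.IsElementaryAbelian p P ∨
      Nonempty (P ≃* Multiplicative (ZMod (p ^ 2) × ZMod p × ZMod p)) ∨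
      ((p = 2 ∨ p = 3) ∧ Nonempty (P ≃* Multiplicative (ZMod (p ^ 2) × ZMod (p ^ 2)))) := by
  haveI := finite_of_le hP.1.1
  haveI := hab
  have hPp := hS.to_le hP.1.1
  haveI := hPp.isNilpotent
  have hc : ∀ a b : P, a * b = b * a := hab.is_comm.comm
  obtain ⟨r, hr4, hr⟩ := (Nat.dvd_prime_pow hp.out).mp (hcard ▸ (frattini P).index_dvd_card)
  have hΦ := (frattini P).card_mul_index
  rw [hr, hcard] at hΦ
  rcases Nat.lt_or_ge r 3 with h | h
  · right; right
    obtain ⟨k, -, ⟨e⟩, hk5⟩ := abelian_essential_structure hS hP hab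
      (hr ▸ Nat.pow_le_pow_right hp.out.pos (by omega))
    haveI : NeZero (p ^ k) := ⟨pow_ne_zero _ hp.out.ne_zero⟩
    have := Nat.card_congr e.toEquiv
    rw [hcard, Nat.card_congr Multiplicative.toAdd, Nat.card_prod, Nat.card_zmod, ← pow_add] at this
    obtain rfl : k = 2 := by have := Nat.pow_right_injective hp.out.two_le this; omega
    refine ⟨?_, ⟨e⟩⟩
    have hp5 : ¬ 5 ≤ p := fun h5 => absurd (hk5 h5) (by norm_num)
    have := hp.out.two_le
    have : p ≠ 4 := fun e4 => absurd (e4 ▸ hp.out) (by norm_num)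
    omega
  interval_cases r
  · right; left
    have hΦc : Nat.card (frattini P) = p :=
      Nat.eq_of_mul_eq_mul_right (pow_pos hp.out.pos 3) (hΦ.trans (pow_succ' p 3))
    have hpm : ∀ x : P, x ^ p ∈ frattini P := Basics.pow_mem_frattini hPp
    have hp2 : ∀ x : P, x ^ p ^ 2 = 1 := fun x => by
      rw [pow_two, pow_mul]
      have h1 := congrArg Subtype.val
        (pow_card_eq_one' (x := (⟨x ^ p, hpm x⟩ : frattini P)))
      rwa [hΦc] at h1
    obtain ⟨a, ha⟩ : ∃ a : P, a ^ p ≠ 1 := by
      by_contra hno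
      push Not at hno
      have h0 : frattini P = ⊥ := by
        rw [eq_bot_iff]
        refine (LocalEvenA.frattini_le_commutator_sup_pow (p := p) (Q := P)).trans (sup_le ?_ ?_)
        · rw [_root_.commutator_def, commutator_le]
          exact fun x _ y _ => mem_bot.mpr (commutatorElement_eq_one_iff_mul_comm.mpr (hc x y))
        · rw [closure_le]
          rintro _ ⟨x, rfl⟩
          exact mem_bot.mpr (hno x)
      rw [h0, card_bot] at hΦc
      exact hp.out.one_lt.ne hΦc
    have hao : orderOf a = p ^ 2 := orderOf_eq_prime_pow (n := 1) (by rwa [pow_one]) (hp2 a)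
    have hap : frattini P = zpowers (a ^ p) := (eq_of_le_of_card_ge (zpowers_le.mpr (hpm a)) (by
      rw [hΦc, Nat.card_zpowers, orderOf_pow' a hp.out.ne_zero, hao, pow_two,
        Nat.gcd_mul_left_left, Nat.mul_div_cancel _ hp.out.pos])).symm
    -- elements of order `p` outside a given subgroup containing `a`
    have hpick : ∀ T : Subgroup P, a ∈ T → T ≠ ⊤ → ∃ x, x ∉ T ∧ x ^ p = 1 := by
      intro T haT hT
      obtain ⟨x, -, hx⟩ := SetLike.exists_of_lt (lt_top_iff_ne_top.mpr hT)
      obtain ⟨i, hi⟩ := mem_zpowers_iff.mp (hap.le (hpm x))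
      refine ⟨x * a ^ (-i), fun h' => hx ?_, ?_⟩
      · simpa using mul_mem h' (zpow_mem haT i)
      · rw [(show Commute x (a ^ (-i)) from hc _ _).mul_pow, ← hi, ← zpow_natCast (a ^ (-i)),
          ← zpow_natCast a, ← zpow_mul, ← zpow_mul, ← zpow_add,
          show (p : ℤ) * i + -i * p = 0 by ring, zpow_zero]
    have hlt : ∀ {T : Subgroup P} {n : ℕ}, Nat.card T ≤ p ^ n → n < 4 → T ≠ ⊤ := by
      rintro T n hT hn rfl
      rw [card_top, hcard, Nat.pow_le_pow_iff_right hp.out.one_lt] at hT
      omega
    haveI : NeZero (p ^ 2) := ⟨pow_ne_zero _ hp.out.ne_zero⟩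
    obtain ⟨b, hb, hbp⟩ := hpick (zpowers a) (mem_zpowers a)
      (hlt (by rw [Nat.card_zpowers, hao]) (by norm_num : 2 < 4))
    let φ₂ : Multiplicative (ZMod (p ^ 2) × ZMod p) →* P :=
      { toFun := fun v => a ^ v.toAdd.1.val * b ^ v.toAdd.2.val
        map_one' := by simp
        map_mul' := fun v w => by
          simp only [toAdd_mul, Prod.fst_add, Prod.snd_add, ZMod.val_add]
          rw [← pow_eq_pow_mod _ (hp2 a), ← pow_eq_pow_mod _ hbp, pow_add, pow_add]
          exact (show Commute (a ^ w.toAdd.1.val) (b ^ v.toAdd.2.val) from hc _ _).mul_mul_mul_comm _ _ }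
    obtain ⟨c, hc', hcp⟩ := hpick φ₂.range
      ⟨Multiplicative.ofAdd (((1 : ℕ) : ZMod (p ^ 2)), 0), by
        show a ^ ((1 : ℕ) : ZMod (p ^ 2)).val * b ^ (0 : ZMod p).val = a
        rw [ZMod.val_natCast, Nat.mod_eq_of_lt (Nat.one_lt_pow two_ne_zero hp.out.one_lt), pow_one,
          ZMod.val_zero, pow_zero, mul_one]⟩
      (hlt (n := 3) (by
        refine (Nat.card_le_card_of_surjective _ φ₂.rangeRestrict_surjective).trans (le_of_eq ?_)
        rw [Nat.card_congr Multiplicative.toAdd, Nat.card_prod, Nat.card_zmod, Nat.card_zmod,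
          pow_succ p 2]) (by norm_num : 3 < 4))
    let φ : Multiplicative (ZMod (p ^ 2) × ZMod p × ZMod p) →* P :=
      { toFun := fun v => a ^ v.toAdd.1.val * b ^ v.toAdd.2.1.val * c ^ v.toAdd.2.2.val
        map_one' := by simp
        map_mul' := fun v w => by
          simp only [toAdd_mul, Prod.fst_add, Prod.snd_add, ZMod.val_add]
          rw [← pow_eq_pow_mod _ (hp2 a), ← pow_eq_pow_mod _ hbp, ← pow_eq_pow_mod _ hcp, pow_add,
            pow_add, pow_add, (show Commute (a ^ w.toAdd.1.val) (b ^ v.toAdd.2.1.val) from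
              hc _ _).mul_mul_mul_comm]
          exact (show Commute (a ^ w.toAdd.1.val * b ^ w.toAdd.2.1.val) (c ^ v.toAdd.2.2.val) from
            hc _ _).mul_mul_mul_comm _ _ }
    have hcop : ∀ {x : P} {i : ℕ}, x ^ p = 1 → x ≠ 1 → i < p → i ≠ 0 → ∀ T : Subgroup P,
        x ^ i ∈ T → x ∈ T := by
      intro x i hxp hx1 hi hi0 T hT
      obtain ⟨j, hj⟩ := exists_pow_eq_self_of_coprime (x := x) (n := i) (by
        rw [orderOf_eq_prime hxp hx1]
        exact ((hp.out.coprime_iff_not_dvd).mpr fun hd => hi0 (Nat.eq_zero_of_dvd_of_lt hd hi)).symm)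
      exact hj ▸ pow_mem hT j
    have hinj : Function.Injective φ := (injective_iff_map_eq_one φ).mpr fun v hv => by
      have hv' : a ^ v.toAdd.1.val * b ^ v.toAdd.2.1.val * c ^ v.toAdd.2.2.val = 1 := hv
      have h3 : v.toAdd.2.2.val = 0 := by
        by_contra hne'
        refine hc' (hcop hcp (fun e => hc' (e ▸ one_mem _)) (ZMod.val_lt _) hne' _ ?_)
        rw [eq_inv_of_mul_eq_one_right hv']
        exact inv_mem ⟨Multiplicative.ofAdd (v.toAdd.1, v.toAdd.2.1), rfl⟩
      rw [h3, pow_zero, mul_one] at hv'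
      have h2 : v.toAdd.2.1.val = 0 := by
        by_contra hne'
        refine hb (hcop hbp (fun e => hb (e ▸ one_mem _)) (ZMod.val_lt _) hne' _ ?_)
        rw [eq_inv_of_mul_eq_one_right hv']
        exact inv_mem (pow_mem (mem_zpowers a) _)
      rw [h2, pow_zero, mul_one] at hv'
      have h1 : v.toAdd.1.val = 0 := Nat.eq_zero_of_dvd_of_lt
        (hao.symm.dvd.trans (orderOf_dvd_of_pow_eq_one hv')) (ZMod.val_lt _)
      exact Multiplicative.toAdd.injective (Prod.ext ((ZMod.val_eq_zero _).mp h1)
        (Prod.ext ((ZMod.val_eq_zero _).mp h2) ((ZMod.val_eq_zero _).mp h3)))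
    refine ⟨(MulEquiv.ofBijective φ (hinj.bijective_of_nat_card_le (le_of_eq ?_))).symm⟩
    rw [hcard, Nat.card_congr Multiplicative.toAdd, Nat.card_prod, Nat.card_prod, Nat.card_zmod,
      Nat.card_zmod]
    ring
  · left
    have hbot : frattini P = ⊥ := eq_bot_of_card_eq _
      (Nat.eq_of_mul_eq_mul_right (pow_pos hp.out.pos 4) (hΦ.trans (one_mul _).symm))
    exact ⟨hab, fun x hx => congrArg Subtype.val
      (mem_bot.mp (hbot ▸ Basics.pow_mem_frattini hPp ⟨x, hx⟩) : (⟨x, hx⟩ : P) ^ p = 1)⟩

end

end Cfsg.Agent.Fusion.EssentialFourth
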