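import Cfsg.Agent.Lib.Fusion.AbelianIndexPCore

/-!
A system on a `p`-group with an extraspecial subgroup of index `p` and a larger centre has a
nontrivial normal subgroup.
-/

set_option autoImplicit false
set_option linter.unusedSectionVars false
set_option linter.style.haveILetI false

namespace Cfsg.Agent.Fusion

open Cfsg.FusionSystem (centralizerIn normalizerIn)
open scoped commutatorElement

universe u

variable {Ω : Type u} [Group Ω] {S : Subgroup Ω} {F : FusionSystem S} [Finite S] {p : ℕ}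
  [hp : Fact p.Prime]

/-- An abelian essential subgroup of index at least `p ^ 2` keeps a line that contains the
commutators. -/
theorem autFun_mem_of_transvections (hS : IsPGroup p S) (hF : F.IsSaturated p) {E Zq R : Subgroup Ω}
    (hRS : R ≤ S) (hER : E ≤ R)
    (hE : F.IsEssential p E) (hab : ∀ a ∈ E, ∀ b ∈ E, Commute a b) (hZqE : Zq ≤ E)
    (hcomm : ∀ a ∈ R, ∀ b ∈ R, ⁅a, b⁆ ∈ Zq) (hZqc : ∀ z ∈ Zq, ∀ s ∈ R, Commute z s)
    (hZqcard : Nat.card Zq = p)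
    (hidx : p < (E.subgroupOf R).index) :
    ∀ α ∈ F.autGroup E, ∀ z ∈ Zq, autFun α z ∈ Zq := by
  classical
  have hES : E ≤ S := hE.1.1
  have hcE : centralizerIn S E ≤ E := centralizerIn_le_of_isCentric hE.1
  obtain ⟨-, hfn, hn, Y, hY⟩ := hE
  haveI := finite_of_le hES
  haveI := finite_mulAut E
  haveI := finite_of_le hRS
  haveI := finite_of_le (hZqE.trans hES)
  have hInn : Inn E = ⊥ := (Subgroup.eq_bot_iff_forall _).mpr fun γ hγ => by
    rw [inn_eq_autInducedBy] at hγ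
    obtain ⟨e, he, hγe⟩ := mem_autInducedBy_iff_cj.mp hγ
    exact autFun_ext fun x hx => by
      rw [hγe x hx, autFun_one hx, cj_apply, (hab e he x hx).eq, mul_inv_cancel_right]
  set M := (Inn E).subgroupOf (F.autGroup E) with hM
  set π := QuotientGroup.mk' M with hπ
  have hπi : Function.Injective π := by
    rw [← MonoidHom.ker_eq_bot_iff, hπ, QuotientGroup.ker_mk', hM, hInn, Subgroup.bot_subgroupOf]
  -- `S` normalises `E`
  have hnorm : ∀ s ∈ R, ∀ e ∈ E, ⁅s, e⁆ ∈ Zq ∧ s * e * s⁻¹ = ⁅s, e⁆ * e := fun s hs e he =>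
    ⟨hcomm s hs e (hER he), by rw [commutatorElement_def]; group⟩
  have hconj : ∀ s ∈ R, ∃ γ ∈ F.autGroup E, ∀ e ∈ E, autFun γ e = ⁅s, e⁆ * e := by
    intro s hs
    have hsN : s ∈ Subgroup.normalizer (E : Set Ω) := mem_normalizer_of_forall fun e he => by
      rw [(hnorm s hs e he).2]; exact E.mul_mem (hZqE (hnorm s hs e he).1) he
    obtain ⟨γ, hγ⟩ := exists_conjAut hsN
    refine ⟨γ, autInducedBy_le_autGroup hES (mem_autInducedBy_iff_cj.mpr ⟨s, hRS hs, hγ⟩),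
      fun e he => ?_⟩
    rw [hγ e he, cj_apply, (hnorm s hs e he).2]
  -- the Sylow subgroup
  set T := ((autInducedBy S E).subgroupOf (F.autGroup E)).map π with hT
  have hTp : IsPGroup p T := IsPGroup.map ((isPGroup_autInducedBy hS E).comap_of_injective _
    (Subgroup.subtype_injective _)) π
  have hTi : ¬ p ∣ T.index := by
    have h1 := ((isFullyAutomized_iff hS).mp (isFullyAutomized_of_isFullyNormalized hS hF hfn)).2
    rw [hT, Subgroup.index_map_of_bijective ⟨hπi, QuotientGroup.mk'_surjective M⟩]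
    exact h1
  obtain ⟨Y', hY', hcore⟩ := exists_core_le_of_isStronglyPEmbedded hY (hTp.toSylow hTi)
  have hcore' : ∀ R ≤ T, R ≠ ⊥ → Subgroup.normalizer (R : Set _) ≤ Y' := hcore
  set Y₀ : Subgroup (F.autGroup E) := Y'.comap π with hY₀
  obtain ⟨β₀, hβ₀⟩ : ∃ β, β ∉ Y₀ := by
    by_contra hno
    push Not at hno
    refine hY' (eq_top_iff.mpr fun x _ => ?_)
    obtain ⟨b, rfl⟩ := QuotientGroup.mk'_surjective M x
    exact hno b
  suffices key : ∀ α : F.autGroup E, α ∉ Y₀ → ∀ z ∈ Zq, autFun (α : MulAut E) z ∈ Zq by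
    intro α hα z hz
    by_cases hin : (⟨α, hα⟩ : F.autGroup E) ∈ Y₀
    · have e : α = ((⟨α, hα⟩ * β₀ : F.autGroup E) : MulAut E) * ((β₀⁻¹ : F.autGroup E) : MulAut E) := by
        simp
      rw [e, autFun_mul _ _ (hZqE hz)]
      refine key _ (fun h => hβ₀ ?_) _ (key _ (fun h => hβ₀ (by simpa using Y₀.inv_mem h)) z hz)
      have := Y₀.mul_mem (Y₀.inv_mem hin) h
      rwa [inv_mul_cancel_left] at this
    · exact key ⟨α, hα⟩ hin z hz
  intro α hαY z hz
  by_contra hzα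
  have hαm := mapTo_of_mem_autGroup hES α.2
  have hαim := mapTo_of_mem_autGroup hES (α⁻¹).2
  have hz1 : z ≠ 1 := fun h => hzα (by rw [h, hαm.map_one]; exact Zq.one_mem)
  have hpick : ∀ y ∈ R, ∃ s ∈ R, s ∉ E ∧ Commute s y := by
    intro y hy
    by_contra hno
    push Not at hno
    -- the centraliser of `y` has index at most `p`
    let f : R →* Zq := MonoidHom.mk' (fun s => ⟨⁅(s : Ω), y⁆, hcomm s s.2 y hy⟩) fun a b => Subtype.ext (by
      show ⁅(a : Ω) * b, y⁆ = ⁅(a : Ω), y⁆ * ⁅(b : Ω), y⁆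
      have hc := hZqc _ (hcomm b b.2 y hy) a a.2
      rw [show ⁅(a : Ω) * b, y⁆ = (a * ⁅(b : Ω), y⁆ * (a : Ω)⁻¹) * ⁅(a : Ω), y⁆ by
        simp only [commutatorElement_def]; group, ← hc.eq, mul_inv_cancel_right]
      exact (hZqc _ (hcomm b b.2 y hy) _ (hER (hZqE (hcomm a a.2 y hy)))).eq)
    have hle : f.ker ≤ E.subgroupOf R := fun s hs => by
      by_contra hsE
      exact hno s s.2 hsE (commutatorElement_eq_one_iff_mul_comm.mp (congrArg Subtype.val hs))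
    have h1 : (E.subgroupOf R).index ≤ f.ker.index :=
      Nat.le_of_dvd (Nat.pos_of_ne_zero Subgroup.index_ne_zero_of_finite) (Subgroup.index_dvd_of_le hle)
    rw [Subgroup.index_ker] at h1
    have h2 := Subgroup.card_le_card_group f.range
    rw [hZqcard] at h2
    omega
  obtain ⟨s, hs, hsE, hsz⟩ := hpick _ (hER (autFun_mem (α : MulAut E) (hZqE hz)))
  obtain ⟨s', hs', hs'E, hs'z⟩ := hpick _ (hER (autFun_mem ((α⁻¹ : F.autGroup E) : MulAut E) (hZqE hz)))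
  obtain ⟨t, ht, htf⟩ := hconj s hs
  obtain ⟨c, hc, hcf⟩ := hconj s' hs'
  set tA : F.autGroup E := ⟨t, ht⟩
  set cA : F.autGroup E := ⟨c, hc⟩
  have hinT : ∀ (w : Ω) (g : F.autGroup E), w ∈ R → (∀ e ∈ E, autFun (g : MulAut E) e = ⁅w, e⁆ * e) → π g ∈ T := by
    intro w g hw hg
    refine ⟨g, mem_autInducedBy_iff_cj.mpr ⟨w, hRS hw, fun e he => ?_⟩, rfl⟩
    rw [Subgroup.coe_subtype, hg e he, cj_apply, (hnorm w hw e he).2]
  have hne1 : ∀ (w : Ω) (g : F.autGroup E), w ∈ R → w ∉ E → (∀ e ∈ E, autFun (g : MulAut E) e = ⁅w, e⁆ * e) → g ≠ 1 := by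
    intro w g hw hwE hg h1
    refine hwE (hcE (mem_centralizerIn.mpr ⟨hRS hw, fun e he => ?_⟩))
    have := hg e he
    rw [h1, Subgroup.coe_one, autFun_one he, right_eq_mul, commutatorElement_eq_one_iff_mul_comm] at this
    exact this.symm
  obtain ⟨u, hu⟩ : ∃ u : F.autGroup E, u = α * cA * α⁻¹ := ⟨_, rfl⟩
  have hz2 : ∀ w ∈ Zq, w ∈ Subgroup.zpowers z := fun w hw => by
    have h : Subgroup.zpowers z = Zq := Subgroup.eq_of_le_of_card_ge (Subgroup.zpowers_le.mpr hz) (by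
      rw [hZqcard, Nat.card_zpowers]
      refine le_of_eq (((Nat.dvd_prime hp.out).mp ?_).resolve_left fun h => hz1 (orderOf_eq_one_iff.mp h)).symm
      rw [← hZqcard, show z = ((⟨z, hz⟩ : Zq) : Ω) from rfl, Subgroup.orderOf_coe]
      exact orderOf_dvd_natCard _)
    rw [h]; exact hw
  -- `t` and `u` commute
  have htz : ∀ w ∈ Zq, autFun t w = w := fun w hw => by
    rw [htf w (hZqE hw), commutatorElement_eq_one_iff_mul_comm.mpr (hZqc w hw s hs).symm.eq, one_mul]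
  have hcz : ∀ w ∈ Zq, autFun c w = w := fun w hw => by
    rw [hcf w (hZqE hw), commutatorElement_eq_one_iff_mul_comm.mpr (hZqc w hw s' hs').symm.eq, one_mul]
  have hua : ∀ e ∈ E, ∃ g ∈ Zq, autFun (u : MulAut E) e = autFun (α : MulAut E) g * e := by
    intro e he
    have he' := autFun_mem ((α⁻¹ : F.autGroup E) : MulAut E) he
    refine ⟨⁅s', autFun ((α⁻¹ : F.autGroup E) : MulAut E) e⁆, (hnorm s' hs' _ he').1, ?_⟩
    rw [hu, Subgroup.coe_mul, Subgroup.coe_mul, autFun_mul _ _ he, autFun_mul _ _ he', hcf _ he',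
      hαm.map_mul (hZqE (hnorm s' hs' _ he').1) he']
    congr 1
    exact autFun_autFun_inv _ he
  have huz : autFun (u : MulAut E) z = z := by
    have he' := autFun_mem ((α⁻¹ : F.autGroup E) : MulAut E) (hZqE hz)
    rw [hu, Subgroup.coe_mul, Subgroup.coe_mul, autFun_mul _ _ (hZqE hz), autFun_mul _ _ he', hcf _ he',
      commutatorElement_eq_one_iff_mul_comm.mpr hs'z.eq, one_mul]
    exact autFun_autFun_inv _ (hZqE hz)
  have htαz : autFun t (autFun (α : MulAut E) z) = autFun (α : MulAut E) z := by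
    rw [htf _ (autFun_mem _ (hZqE hz)), commutatorElement_eq_one_iff_mul_comm.mpr hsz.eq, one_mul]
  have htm := mapTo_of_mem_autGroup hES ht
  have hum := mapTo_of_mem_autGroup hES u.2
  have hzpow : ∀ (i : ℤ) (γ : MulAut E) (w : Ω), w ∈ E → autFun γ (w ^ i) = autFun γ w ^ i := fun i γ w hw => by
    rw [autFun_apply _ (E.zpow_mem hw i), autFun_apply _ hw,
      show (⟨w ^ i, E.zpow_mem hw i⟩ : E) = ⟨w, hw⟩ ^ i from rfl, map_zpow, Subgroup.coe_zpow]
  have hcom : tA * u = u * tA := Subtype.ext (autFun_ext fun e he => by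
    obtain ⟨g, hg, hge⟩ := hua e he
    obtain ⟨i, rfl⟩ := Subgroup.mem_zpowers_iff.mp (hz2 g hg)
    rw [hzpow i _ _ (hZqE hz)] at hge
    obtain ⟨k, hk⟩ := Subgroup.mem_zpowers_iff.mp (hz2 _ (hnorm s hs e he).1)
    rw [Subgroup.coe_mul, Subgroup.coe_mul, autFun_mul _ _ he, autFun_mul _ _ he, hge,
      htm.map_mul (E.zpow_mem (autFun_mem _ (hZqE hz)) i) he, hzpow i t _ (autFun_mem _ (hZqE hz)),
      htαz, htf e he, ← hk, hum.map_mul (E.zpow_mem (hZqE hz) k) he, hzpow k _ _ (hZqE hz), huz, hge,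
      ← mul_assoc, ← mul_assoc,
      (hab _ (E.zpow_mem (hZqE hz) k) _ (E.zpow_mem (autFun_mem (α : MulAut E) (hZqE hz)) i)).eq])
  -- `t` and `u` generate too much
  have hZY : ∀ (w : Ω) (g : F.autGroup E), w ∈ R → w ∉ E → (∀ e ∈ E, autFun (g : MulAut E) e = ⁅w, e⁆ * e) →
      ∀ x, g * x = x * g → x ∈ Y₀ := by
    intro w g hw hwE hg x hx
    refine hcore' (Subgroup.zpowers (π g)) (Subgroup.zpowers_le.mpr (hinT w g hw hg))
      (fun h => hne1 w g hw hwE hg (hπi ((Subgroup.zpowers_eq_bot.mp h).trans (map_one π).symm))) ?_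
    refine Subgroup.centralizer_le_normalizer _ (Subgroup.mem_centralizer_iff.mpr ?_)
    rintro _ ⟨j, rfl⟩
    exact ((show Commute (π g) (π x) from by
      rw [Commute, SemiconjBy, ← map_mul, hx, map_mul]).zpow_left j).eq
  have huY : u ∈ Y₀ := hZY s tA hs hsE htf u hcom
  -- `α⁻¹ t α` commutes with `cA`
  have hconjY : α⁻¹ * tA * α ∈ Y₀ := by
    refine hZY s' cA hs' hs'E hcf _ ?_
    have h2 : α⁻¹ * (tA * u) * α = α⁻¹ * (u * tA) * α := by rw [hcom]
    rw [hu] at h2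
    simp only [mul_assoc, inv_mul_cancel_left, inv_mul_cancel, mul_one] at h2 ⊢
    exact h2.symm
  set x := π (α⁻¹ * tA * α) with hxdef
  obtain ⟨R, hR⟩ := exists_core_conj (hTp.toSylow hTi) hcore' (Y := Y') x hconjY
    (by
      have htp : IsPGroup p (Subgroup.zpowers (π tA)) :=
        hTp.to_le (Subgroup.zpowers_le.mpr (hinT s tA hs htf))
      obtain ⟨k, hk⟩ := htp ⟨π tA, Subgroup.mem_zpowers _⟩
      refine ⟨k, ?_⟩
      have hk' : π tA ^ p ^ k = 1 := congrArg Subtype.val hk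
      rw [hxdef, map_mul, map_mul, map_inv]
      conv_lhs => arg 1; arg 2; rw [← inv_inv (π α)]
      rw [conj_pow, hk']
      group)
  have hyα : R * (π α)⁻¹ ∈ Y' := by
    refine mem_of_conj_le (hTp.toSylow hTi) hcore (R := Subgroup.zpowers (π tA))
      (Subgroup.zpowers_le.mpr (hinT s tA hs htf))
      (fun h => hne1 s tA hs hsE htf (hπi ((Subgroup.zpowers_eq_bot.mp h).trans (map_one π).symm))) ?_
    rintro _ ⟨j, rfl⟩
    have h3 : R * x * R⁻¹ ∈ T := hR.2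
    rw [← conj_zpow]
    refine T.zpow_mem ?_ j
    rw [hxdef, map_mul, map_mul, map_inv] at h3
    simpa [mul_assoc] using h3
  have h4 := Y'.inv_mem (Y'.mul_mem (Y'.inv_mem hR.1) hyα)
  rw [inv_mul_cancel_left, inv_inv] at h4
  exact hαY h4
where
  exists_core_conj {X : Type u} [Group X] [Finite X] (T : Sylow p X) {Y : Subgroup X}
      (hY : ∀ Q ≤ (T : Subgroup X), Q ≠ ⊥ → Subgroup.normalizer (Q : Set X) ≤ Y) (x : X) (hx : x ∈ Y)
      (hxp : ∃ k, x ^ p ^ k = 1) : ∃ e, e ∈ Y ∧ e * x * e⁻¹ ∈ T := by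
    by_cases hne : (T : Subgroup X) = ⊥
    · obtain ⟨k, hk⟩ := hxp
      refine ⟨1, Y.one_mem, ?_⟩
      have hxT : IsPGroup p (Subgroup.zpowers x) := by
        refine fun g => ⟨k, Subtype.ext ?_⟩
        obtain ⟨j, hj⟩ := g.2
        rw [Subgroup.coe_pow, ← hj]
        show (x ^ j) ^ p ^ k = 1
        rw [← zpow_natCast, ← zpow_mul, mul_comm, zpow_mul, zpow_natCast, hk, one_zpow]
      obtain ⟨Q, hQ⟩ := hxT.exists_le_sylow
      have : (Q : Subgroup X) = ⊥ := Subgroup.card_eq_one.mp (by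
        rw [Sylow.card_eq_multiplicity, ← Sylow.card_eq_multiplicity T, hne, Subgroup.card_bot])
      have hx1 : x = 1 := Subgroup.mem_bot.mp (this ▸ hQ (Subgroup.mem_zpowers x))
      simp [hx1]
    · have hTY : (T : Subgroup X) ≤ Y := Subgroup.le_normalizer.trans (hY _ le_rfl hne)
      obtain ⟨D, hTD, hD⟩ := exists_isSylowIn hTY T.2
      rw [T.is_maximal' hD.2.1 hTD] at hD
      obtain ⟨k, hk⟩ := hxp
      obtain ⟨e, he, heT⟩ := hD.2.2 (Subgroup.zpowers x) (Subgroup.zpowers_le.mpr hx) (fun g => ⟨k, Subtype.ext (by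
        obtain ⟨j, hj⟩ := g.2
        rw [Subgroup.coe_pow, ← hj]
        show (x ^ j) ^ p ^ k = 1
        rw [← zpow_natCast, ← zpow_mul, mul_comm, zpow_mul, zpow_natCast, hk, one_zpow])⟩)
      exact ⟨e, he, heT x (Subgroup.mem_zpowers x)⟩

/-- The centre of `S` lies in the extraspecial subgroup of index `p`. -/
theorem center_eq_of_extraspecial_index (hS : IsPGroup p S) (hF : F.IsSaturated p) (hodd : Odd p)
    {Q : Subgroup Ω} (hQS : Q ≤ S) (hQ : Cfsg.IsExtraspecial p ↥Q)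
    (hQi : (Q.subgroupOf S).index = p) (hO : F.core = ⊥) :
    S ⊓ Subgroup.centralizer (S : Set Ω) = Q ⊓ Subgroup.centralizer (Q : Set Ω) := by
  classical
  haveI := finite_of_le hQS
  obtain ⟨⟨-, -, hQd⟩, hQc⟩ := hQ
  set Zq := Q ⊓ Subgroup.centralizer (Q : Set Ω) with hZq
  set Zs := centralizerIn S S with hZs
  show Zs = Zq
  have hZmap : (Subgroup.center Q).map Q.subtype = Zq := by
    ext x
    constructor
    · rintro ⟨y, hy, rfl⟩
      exact ⟨y.2, Subgroup.mem_centralizer_iff.mpr fun q hq =>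
        congrArg Subtype.val (Subgroup.mem_center_iff.mp hy ⟨q, hq⟩)⟩
    · rintro ⟨hx, hx'⟩
      exact ⟨⟨x, hx⟩, Subgroup.mem_center_iff.mpr fun q => Subtype.ext
        (Subgroup.mem_centralizer_iff.mp hx' q q.2), rfl⟩
  have hZqcard : Nat.card Zq = p := by
    rw [← hZmap, Nat.card_congr ((Subgroup.center Q).equivMapOfInjective _ Q.subtype_injective).toEquiv.symm, hQc]
  have hZqQ : Zq ≤ Q := inf_le_left
  haveI := finite_of_le (hZqQ.trans hQS)
  have hQcomm : ∀ a ∈ Q, ∀ b ∈ Q, ⁅a, b⁆ ∈ Zq := fun a ha b hb => by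
    rw [← hZmap, ← hQd]
    exact ⟨⁅(⟨a, ha⟩ : Q), ⟨b, hb⟩⁆,
      Subgroup.commutator_mem_commutator (Subgroup.mem_top _) (Subgroup.mem_top _), rfl⟩
  have hQn : (Q.subgroupOf S).Normal := by
    obtain ⟨k, hk⟩ := IsPGroup.iff_card.mp hS
    refine Subgroup.normal_of_index_eq_minFac_card ?_
    rw [hQi, hk]
    have hk0 : k ≠ 0 := by
      intro h0
      have := Subgroup.index_dvd_card (Q.subgroupOf S)
      rw [hQi, hk, h0, pow_zero, Nat.dvd_one] at this
      exact hp.out.ne_one this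
    rw [Nat.pow_minFac hk0, hp.out.minFac_eq]
  have hQconj : ∀ s ∈ S, ∀ q ∈ Q, s * q * s⁻¹ ∈ Q := fun s hs q hq =>
    hQn.conj_mem ⟨q, hQS hq⟩ hq ⟨s, hs⟩
  have hZqconj : ∀ s ∈ S, ∀ z ∈ Zq, s * z * s⁻¹ ∈ Zq := fun s hs z hz => by
    refine ⟨hQconj s hs z hz.1, Subgroup.mem_centralizer_iff.mpr fun q hq => ?_⟩
    have hq' := hQconj s⁻¹ (S.inv_mem hs) q hq
    rw [inv_inv] at hq'
    have h1 := Subgroup.mem_centralizer_iff.mp hz.2 _ hq'
    calc q * (s * z * s⁻¹) = s * ((s⁻¹ * q * s) * z) * s⁻¹ := by group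
      _ = s * (z * (s⁻¹ * q * s)) * s⁻¹ := by rw [h1]
      _ = _ := by group
  have hZqn : (Zq.subgroupOf S).Normal := ⟨fun z hz s => hZqconj s s.2 z hz⟩
  have hne : Zq.subgroupOf S ≠ ⊥ := fun h => by
    rw [Subgroup.subgroupOf_eq_bot, disjoint_iff, inf_eq_left.mpr (hZqQ.trans hQS)] at h
    rw [h, Subgroup.card_bot] at hZqcard
    exact hp.out.one_lt.ne hZqcard
  obtain ⟨c, hcZ, hcc, hc1⟩ := InvChar.exists_mem_center_of_normal hS _ hne
  have hgen : ∀ z ∈ Zq, z ≠ 1 → Subgroup.zpowers z = Zq := fun z hz hz1 => by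
    refine Subgroup.eq_of_le_of_card_ge (Subgroup.zpowers_le.mpr hz) ?_
    have h1 : orderOf z ∣ p := by
      rw [← hZqcard, show z = ((⟨z, hz⟩ : Zq) : Ω) from rfl, Subgroup.orderOf_coe]
      exact orderOf_dvd_natCard _
    rw [hZqcard, Nat.card_zpowers, ((Nat.dvd_prime hp.out).mp h1).resolve_left
      fun h => hz1 (orderOf_eq_one_iff.mp h)]
  have hc1' : (c : Ω) ≠ 1 := fun h => hc1 (Subtype.ext h)
  have hZqS : Zq ≤ Zs := fun z hz => mem_centralizerIn.mpr ⟨hQS hz.1, fun s hs => by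
    obtain ⟨i, rfl⟩ := Subgroup.mem_zpowers_iff.mp ((hgen _ hcZ hc1').ge hz)
    exact ((show Commute s (c : Ω) from
      congrArg Subtype.val (Subgroup.mem_center_iff.mp hcc ⟨s, hs⟩)).zpow_right i).eq⟩
  have hZqc : ∀ z ∈ Zq, ∀ s ∈ S, Commute z s := fun z hz s hs =>
    ((mem_centralizerIn.mp (hZqS hz)).2 s hs).symm
  refine le_antisymm ?_ hZqS
  by_contra hZsle
  obtain ⟨ζ, hζ, hζq⟩ := SetLike.not_le_iff_exists.mp hZsle
  have hζS : ζ ∈ S := (mem_centralizerIn.mp hζ).1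
  have hζQ : ζ ∉ Q := fun h => hζq ⟨h, Subgroup.mem_centralizer_iff.mpr fun q hq =>
    (mem_centralizerIn.mp hζ).2 q (hQS hq)⟩
  have hdec : ∀ s ∈ S, ∃ i : ℕ, (ζ ^ i)⁻¹ * s ∈ Q := by
    intro s hs
    haveI : IsCyclic (S ⧸ Q.subgroupOf S) := isCyclic_of_prime_card hQi
    have hy1 : QuotientGroup.mk' (Q.subgroupOf S) ⟨ζ, hζS⟩ ≠ 1 := fun he =>
      hζQ ((QuotientGroup.eq_one_iff (N := Q.subgroupOf S) _).mp he)
    obtain ⟨i, hi⟩ := (mem_powers_iff_mem_zpowers.mpr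
      ((zpowers_eq_top_of_prime_card hQi hy1) ▸ Subgroup.mem_top (QuotientGroup.mk' (Q.subgroupOf S) ⟨s, hs⟩)) :
        QuotientGroup.mk' (Q.subgroupOf S) ⟨s, hs⟩ ∈ Submonoid.powers (QuotientGroup.mk' (Q.subgroupOf S) ⟨ζ, hζS⟩))
    refine ⟨i, ?_⟩
    have hi' : QuotientGroup.mk' (Q.subgroupOf S) ((⟨ζ, hζS⟩ : S) ^ i) =
        QuotientGroup.mk' (Q.subgroupOf S) ⟨s, hs⟩ := by rw [map_pow]; exact hi
    exact (QuotientGroup.eq (s := Q.subgroupOf S)).mp hi'
  have hcomm : ∀ a ∈ S, ∀ b ∈ S, ⁅a, b⁆ ∈ Zq := by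
    intro a ha b hb
    obtain ⟨i, hi⟩ := hdec a ha
    obtain ⟨j, hj⟩ := hdec b hb
    obtain ⟨q, hq⟩ : ∃ q, q = (ζ ^ i)⁻¹ * a := ⟨_, rfl⟩
    obtain ⟨r, hr⟩ : ∃ r, r = (ζ ^ j)⁻¹ * b := ⟨_, rfl⟩
    have hqS : q ∈ S := hq ▸ hQS hi
    have hrS : r ∈ S := hr ▸ hQS hj
    rw [show a = ζ ^ i * q by rw [hq, mul_inv_cancel_left], show b = ζ ^ j * r by rw [hr, mul_inv_cancel_left]]
    have h1 : ∀ w ∈ S, ∀ k : ℕ, Commute (ζ ^ k) w := fun w hw k =>
      (show Commute ζ w from ((mem_centralizerIn.mp hζ).2 w hw).symm).pow_left k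
    have e : ⁅ζ ^ i * q, ζ ^ j * r⁆ = ⁅q, r⁆ := by
      rw [commutatorElement_def, commutatorElement_def, mul_inv_rev, mul_inv_rev]
      have hij : Commute (ζ ^ i) (ζ ^ j) := (Commute.refl ζ).pow_pow i j
      calc ζ ^ i * q * (ζ ^ j * r) * (q⁻¹ * (ζ ^ i)⁻¹) * (r⁻¹ * (ζ ^ j)⁻¹)
          = ζ ^ i * (q * ζ ^ j) * r * q⁻¹ * ((ζ ^ i)⁻¹ * r⁻¹) * (ζ ^ j)⁻¹ := by group
        _ = ζ ^ i * (ζ ^ j * q) * r * q⁻¹ * (r⁻¹ * (ζ ^ i)⁻¹) * (ζ ^ j)⁻¹ := by
          rw [(h1 q hqS j).eq, ((h1 r hrS i).inv_left.inv_right).eq]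
        _ = (ζ ^ i * ζ ^ j) * ((q * r * q⁻¹ * r⁻¹) * (ζ ^ i * ζ ^ j)⁻¹) := by
          rw [hij.eq]; group
        _ = _ := by
          rw [← mul_assoc, ((h1 _ (S.mul_mem (S.mul_mem (S.mul_mem hqS hrS) (S.inv_mem hqS)) (S.inv_mem hrS)) i).mul_left
            (h1 _ (S.mul_mem (S.mul_mem (S.mul_mem hqS hrS) (S.inv_mem hqS)) (S.inv_mem hrS)) j)).eq,
            mul_inv_cancel_right]
    rw [e]
    exact hQcomm q (hq ▸ hi) r (hr ▸ hj)
  obtain ⟨q₁, hq₁, q₂, hq₂, hq12⟩ : ∃ a ∈ Q, ∃ b ∈ Q, ¬ Commute a b := by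
    by_contra hno
    push Not at hno
    have : Subgroup.center Q = ⊤ := eq_top_iff.mpr fun x _ => Subgroup.mem_center_iff.mpr fun y =>
      Subtype.ext (hno y y.2 x x.2).eq
    have hbot : commutator Q = ⊥ := by
      rw [commutator_def, eq_bot_iff, Subgroup.commutator_le]
      intro a _ b _
      exact Subgroup.mem_bot.mpr (commutatorElement_eq_one_iff_mul_comm.mpr (Subtype.ext (hno a a.2 b b.2).eq))
    rw [← hQd, hbot] at hQc
    rw [Subgroup.card_bot] at hQc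
    exact hp.out.one_lt.ne hQc
  have hnab : ¬ ∀ a ∈ S, ∀ b ∈ S, Commute a b := fun h => hq12 (h q₁ (hQS hq₁) q₂ (hQS hq₂))
  have hZsS : Zs ≤ S := centralizerIn_le
  haveI := finite_of_le hZsS
  have hZsP : ∀ P : Subgroup Ω, P = S ∨ F.IsEssential p P → Zs ≤ P := by
    rintro P (rfl | hP)
    · exact hZsS
    · exact le_trans (fun z hz => mem_centralizerIn.mpr ⟨(mem_centralizerIn.mp hz).1,
        fun y hy => (mem_centralizerIn.mp hz).2 y (hP.1.1 hy)⟩) (centralizerIn_le_of_isCentric hP.1)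
  have hinvZq : ∀ P : Subgroup Ω, P = S ∨ F.IsEssential p P → ¬ (∀ a ∈ P, ∀ b ∈ P, Commute a b) →
      ∀ α ∈ F.autGroup P, ∀ z ∈ Zq, autFun α z ∈ Zq := by
    intro P hP hPn α hα z hz
    have hPS : P ≤ S := by
      rcases hP with rfl | hP
      · exact le_rfl
      · exact hP.1.1
    push Not at hPn
    obtain ⟨a, ha, b, hb, hne⟩ := hPn
    have h1 : ⁅a, b⁆ ≠ 1 := fun h => hne (commutatorElement_eq_one_iff_mul_comm.mp h)
    obtain ⟨i, rfl⟩ := Subgroup.mem_zpowers_iff.mp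
      ((hgen _ (hcomm a (hPS ha) b (hPS hb)) h1).ge hz)
    have hm := mapTo_of_mem_autGroup hPS hα
    have hab' : ⁅a, b⁆ ∈ P := by
      rw [commutatorElement_def]
      exact P.mul_mem (P.mul_mem (P.mul_mem ha hb) (P.inv_mem ha)) (P.inv_mem hb)
    have e : autFun α (⁅a, b⁆ ^ i) = autFun α ⁅a, b⁆ ^ i := by
      rw [autFun_apply _ (P.zpow_mem hab' i), autFun_apply _ hab',
        show (⟨⁅a, b⁆ ^ i, P.zpow_mem hab' i⟩ : P) = ⟨⁅a, b⁆, hab'⟩ ^ i from rfl, map_zpow, Subgroup.coe_zpow]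
    rw [e, commutatorElement_def, hm.map_mul (P.mul_mem (P.mul_mem ha hb) (P.inv_mem ha)) (P.inv_mem hb),
      hm.map_mul (P.mul_mem ha hb) (P.inv_mem ha), hm.map_mul ha hb, hm.map_inv ha, hm.map_inv hb,
      ← commutatorElement_def]
    exact Subgroup.zpow_mem _ (hcomm _ (hPS (autFun_mem _ ha)) _ (hPS (autFun_mem _ hb))) i
  have hnot : ∀ W : Subgroup Ω, F.IsNormal W → W = ⊥ := fun W hW => by
    refine le_bot_iff.mp ?_
    rw [← hO]; exact le_core hW
  have hZqne : Zq ≠ ⊥ := fun h => by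
    rw [h, Subgroup.card_bot] at hZqcard
    exact hp.out.one_lt.ne hZqcard
  by_cases hcase : ∀ P, F.IsEssential p P → (∀ a ∈ P, ∀ b ∈ P, Commute a b) → p < (P.subgroupOf S).index
  · refine hZqne (hnot Zq (isNormal_of_forall_essential hS hF fun P hP => ⟨hZqS.trans (hZsP P hP), ?_⟩))
    by_cases hPa : ∀ a ∈ P, ∀ b ∈ P, Commute a b
    · rcases hP with rfl | hP
      · exact absurd hPa hnab
      · exact autFun_mem_of_transvections hS hF (R := P ⊔ S) (sup_le hP.1.1 le_rfl) le_sup_left hP hPa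
          (hZqS.trans (hZsP P (Or.inr hP))) (by rwa [sup_eq_right.mpr hP.1.1]) (by rwa [sup_eq_right.mpr hP.1.1])
          hZqcard (by rw [sup_eq_right.mpr hP.1.1]; exact hcase P hP hPa)
    · exact hinvZq P hP hPa
  -- an abelian subgroup of index `p`
  push Not at hcase
  obtain ⟨E₀, hE₀, hE₀a, hE₀i⟩ := hcase
  have hE₀ne : ¬ S ≤ E₀ := fun h => hnab fun a ha b hb => hE₀a a (h ha) b (h hb)
  have hidx : (E₀.subgroupOf S).index = p := by
    obtain ⟨n, hn⟩ := IsPGroup.iff_card.mp hS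
    obtain ⟨j, -, hj⟩ := (Nat.dvd_prime_pow hp.out).mp (hn ▸ Subgroup.index_dvd_card (E₀.subgroupOf S))
    have hj0 : j ≠ 0 := by
      rintro rfl
      rw [pow_zero, Subgroup.index_eq_one, Subgroup.subgroupOf_eq_top] at hj
      exact hE₀ne hj
    rw [hj] at hE₀i ⊢
    have : j = 1 := le_antisymm
      ((Nat.pow_le_pow_iff_right hp.out.one_lt).mp (hE₀i.trans_eq (pow_one p).symm)) (Nat.one_le_iff_ne_zero.mpr hj0)
    rw [this, pow_one]
  have hA₀ : AbIndexP p S E₀ := ⟨hE₀.1.1, hE₀a, hidx, hS, hnab⟩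
  obtain ⟨x₀, hx₀, hx₀E⟩ := hA₀.exists_not_mem
  -- the centre has index `p` in it
  haveI := finite_of_le hE₀.1.1
  have hE₀card : Nat.card E₀ ≤ p * Nat.card Zs := by
    let f : E₀ →* Zq := MonoidHom.mk' (fun e => ⟨⁅(e : Ω), x₀⁆, hcomm e (hE₀.1.1 e.2) x₀ hx₀⟩) fun a b =>
      Subtype.ext (by
        show ⁅(a : Ω) * b, x₀⁆ = ⁅(a : Ω), x₀⁆ * ⁅(b : Ω), x₀⁆
        have hb := hcomm b (hE₀.1.1 b.2) x₀ hx₀
        rw [show ⁅(a : Ω) * b, x₀⁆ = (a * ⁅(b : Ω), x₀⁆ * (a : Ω)⁻¹) * ⁅(a : Ω), x₀⁆ by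
          simp only [commutatorElement_def]; group, ← (hZqc _ hb a (hE₀.1.1 a.2)).eq, mul_inv_cancel_right]
        exact (hZqc _ hb _ (hQS (hZqQ (hcomm a (hE₀.1.1 a.2) x₀ hx₀)))).eq)
    have h1 := Subgroup.card_mul_index f.ker
    rw [Subgroup.index_ker] at h1
    rw [← h1, mul_comm p]
    refine Nat.mul_le_mul ?_ (hZqcard ▸ Subgroup.card_le_card_group f.range)
    refine Nat.card_le_card_of_injective
      (fun e : f.ker => (⟨e.1.1, hA₀.mem_zs hx₀ hx₀E e.1.2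
        (commutatorElement_eq_one_iff_mul_comm.mp (congrArg Subtype.val e.2))⟩ : Zs)) ?_
    exact fun a b h => Subtype.ext (Subtype.ext (congrArg (Subtype.val : Zs → Ω) h :))
  have hScard : Nat.card S ≤ p * (p * Nat.card Zs) := by
    have h1 := Subgroup.card_mul_index (E₀.subgroupOf S)
    rw [hidx, Nat.card_congr (Subgroup.subgroupOfEquivOfLe hE₀.1.1).toEquiv] at h1
    rw [← h1, mul_comm _ p]
    exact Nat.mul_le_mul_left _ hE₀card
  have hlarge : ∀ B : Subgroup Ω, B ≤ S → Zs < B → (∀ a ∈ B, ∀ b ∈ B, Commute a b) → AbIndexP p S B := by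
    intro B hBS hZB hBa
    haveI := finite_of_le hBS
    have h1 : p * Nat.card Zs ≤ Nat.card B := card_mul_le_of_lt (hS.to_le hBS) hZB
    have h2 := Subgroup.card_mul_index (B.subgroupOf S)
    rw [Nat.card_congr (Subgroup.subgroupOfEquivOfLe hBS).toEquiv] at h2
    have h3 : (B.subgroupOf S).index ≤ p := by
      by_contra h3
      have h4 : Nat.card B * p < Nat.card B * (B.subgroupOf S).index :=
        Nat.mul_lt_mul_of_pos_left (not_le.mp h3) Nat.card_pos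
      nlinarith
    refine ⟨hBS, hBa, ?_, hS, hnab⟩
    obtain ⟨n, hn⟩ := IsPGroup.iff_card.mp hS
    obtain ⟨j, -, hj⟩ := (Nat.dvd_prime_pow hp.out).mp (hn ▸ Subgroup.index_dvd_card (B.subgroupOf S))
    have hj0 : j ≠ 0 := by
      rintro rfl
      rw [pow_zero, Subgroup.index_eq_one, Subgroup.subgroupOf_eq_top] at hj
      exact hnab fun a ha b hb => hBa a (hj ha) b (hj hb)
    rw [hj] at h3 ⊢
    have : j = 1 := le_antisymm
      ((Nat.pow_le_pow_iff_right hp.out.one_lt).mp (h3.trans_eq (pow_one p).symm)) (Nat.one_le_iff_ne_zero.mpr hj0)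
    rw [this, pow_one]
  have hab : ∀ P, F.IsEssential p P → ∀ a ∈ P, ∀ b ∈ P, Commute a b := by
    intro P hP a ha b hb
    have hPS : P ≤ S := hP.1.1
    by_contra hne
    haveI := finite_of_le hPS
    have haZ : a ∉ Zs := fun h => hne ((mem_centralizerIn.mp h).2 b (hPS hb)).symm
    have hB := hlarge (Zs ⊔ Subgroup.zpowers a) (sup_le hZsS (Subgroup.zpowers_le.mpr (hPS ha)))
      (lt_of_le_not_ge le_sup_left fun h => haZ (h (Subgroup.mem_sup_right (Subgroup.mem_zpowers a))))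
      (commute_sup_zpowers hS (hPS ha))
    have hBP : Zs ⊔ Subgroup.zpowers a < P := lt_of_le_not_ge
      (sup_le (hZsP P (Or.inr hP)) (Subgroup.zpowers_le.mpr ha))
      fun h => hne (hB.comm a (h ha) b (h hb))
    have h2 := card_mul_relIndex hB.le
    rw [show (Zs ⊔ Subgroup.zpowers a).relIndex S = p from hB.index] at h2
    have h3 := card_mul_le_of_lt (p := p) (hS.to_le hPS) hBP
    have hPS' : P = S := Subgroup.eq_of_le_of_card_ge hPS (by rw [← h2, mul_comm]; exact h3)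
    exact (ne_top_of_isEssential hS hF hP).ne hPS'
  have hZqS' : ∀ z ∈ Zq, z ∈ Zs := fun z hz => hZqS hz
  -- the complement attached to an essential subgroup
  obtain ⟨z₀, hz₀, hz₀1⟩ := Subgroup.ne_bot_iff_exists_ne_one.mp hZqne |> fun ⟨a, ha⟩ =>
    (⟨a.1, a.2, fun h => ha (Subtype.ext h)⟩ : ∃ z ∈ Zq, z ≠ 1)
  have hz₀p : z₀ ^ p = 1 := by
    have := congrArg Subtype.val (pow_card_eq_one' (x := (⟨z₀, hz₀⟩ : Zq)))
    rwa [hZqcard, Subgroup.coe_pow, Subgroup.coe_one] at this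
  have hdata : ∀ P, F.IsEssential p P → ∃ W : Subgroup Ω, W ≤ Zs ∧ Zs = W ⊔ Subgroup.zpowers z₀ ∧ z₀ ∉ W ∧
      (∀ β ∈ F.autGroup P, ∀ w ∈ W, autFun β w ∈ W) ∧
      ∃ δ ∈ F.autGroup Zs, (∀ w ∈ W, autFun δ w = w) ∧ autFun δ z₀ = z₀⁻¹ := by
    intro P hP
    have hPS : P ≤ S := hP.1.1
    have hPlt : Zs < P := lt_of_le_not_ge (hZsP P (Or.inr hP)) fun hle => hnab fun a ha b hb => by
      have hca : a ∈ Zs := hle (centralizerIn_le_of_isCentric hP.1 (mem_centralizerIn.mpr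
        ⟨ha, fun y hy => ((mem_centralizerIn.mp (hle hy)).2 a ha).symm⟩))
      exact ((mem_centralizerIn.mp hca).2 b hb).symm
    have hPA := hlarge P hPS hPlt (hab P hP)
    obtain ⟨k, hkS, hkP⟩ := hPA.exists_not_mem
    have hkZ : k ∉ Zs := fun h => hkP (hZsP P (Or.inr hP) h)
    have hA := hlarge (Zs ⊔ Subgroup.zpowers k) (sup_le hZsS (Subgroup.zpowers_le.mpr hkS))
      (lt_of_le_not_ge le_sup_left fun h => hkZ (h (Subgroup.mem_sup_right (Subgroup.mem_zpowers k))))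
      (commute_sup_zpowers hS hkS)
    obtain ⟨x, hxP, hxA⟩ : ∃ x ∈ P, x ∉ Zs ⊔ Subgroup.zpowers k := by
      by_contra hno
      push Not at hno
      have h1 := card_mul_relIndex hPA.le
      have h2 := card_mul_relIndex hA.le
      rw [show P.relIndex S = p from hPA.index] at h1
      rw [show (Zs ⊔ Subgroup.zpowers k).relIndex S = p from hA.index] at h2
      haveI := finite_of_le hA.le
      have := Subgroup.eq_of_le_of_card_ge (H := P) hno
        (Nat.le_of_eq (Nat.eq_of_mul_eq_mul_right hp.out.pos (h2.trans h1.symm)))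
      exact hkP (this ▸ Subgroup.mem_sup_right (Subgroup.mem_zpowers k))
    have hkx : ⁅k, x⁆ ≠ 1 := fun h => hxA (hA.zs_le
      (hPA.mem_zs hkS hkP hxP (show Commute k x from commutatorElement_eq_one_iff_mul_comm.mp h).symm))
    have hk₀ : k ∈ hA.sec x (hPS hxP) := ⟨Subgroup.mem_sup_right (Subgroup.mem_zpowers k),
      hZqS (hcomm k hkS x (hPS hxP))⟩
    have hkxp : ⁅k, x⁆ ^ p = 1 := by
      have := congrArg Subtype.val (pow_card_eq_one' (x := (⟨⁅k, x⁆, hcomm k hkS x (hPS hxP)⟩ : Zq)))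
      rwa [hZqcard, Subgroup.coe_pow, Subgroup.coe_one] at this
    obtain ⟨W, hWle, hsp, hzW, hWinv, δ, hδ, hδW, hδz⟩ :=
      abelian_essential_split hF hA hP (hPS hxP) hxP hxA (hab P hP) hk₀ hkx hkxp
    have hzz : Subgroup.zpowers ⁅k, x⁆ = Subgroup.zpowers z₀ :=
      (hgen _ (hcomm k hkS x (hPS hxP)) hkx).trans (hgen z₀ hz₀ hz₀1).symm
    obtain ⟨i, hi⟩ := Subgroup.mem_zpowers_iff.mp (hzz.ge (Subgroup.mem_zpowers z₀))
    refine ⟨W, hWle, hzz ▸ hsp, fun h => hzW ?_, hWinv, δ, hδ, hδW, ?_⟩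
    · exact (Subgroup.zpowers_le.mpr h) (hzz.le (Subgroup.mem_zpowers _))
    · have hmem := hZqS (hcomm k hkS x (hPS hxP))
      rw [autFun_apply _ hmem] at hδz
      rw [← hi, autFun_apply _ (Zs.zpow_mem hmem i),
        show (⟨⁅k, x⁆ ^ i, Zs.zpow_mem hmem i⟩ : Zs) = ⟨⁅k, x⁆, hmem⟩ ^ i from rfl, map_zpow,
        Subgroup.coe_zpow, hδz, inv_zpow]
  have hfix : ∀ (W : Subgroup Ω) (δ : MulAut Zs), W ≤ Zs → Zs = W ⊔ Subgroup.zpowers z₀ →
      (∀ w ∈ W, autFun δ w = w) → autFun δ z₀ = z₀⁻¹ → ∀ y ∈ Zs, autFun δ y = y → y ∈ W := by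
    intro W δ hWle hsp hδW hδz y hy hfy
    have hn : Subgroup.zpowers z₀ ≤ Subgroup.normalizer (W : Set Ω) :=
      Subgroup.zpowers_le.mpr (Subgroup.centralizer_le_normalizer _
        (Subgroup.mem_centralizer_iff.mpr fun w hw =>
          (mem_centralizerIn.mp (hZqS hz₀)).2 w (hZsS (hWle hw))))
    have hy' : y ∈ ((W ⊔ Subgroup.zpowers z₀ : Subgroup Ω) : Set Ω) := hsp.le hy
    rw [Subgroup.coe_mul_of_right_le_normalizer_left W _ hn] at hy'
    obtain ⟨w, hw, v, hv, rfl⟩ := hy'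
    obtain ⟨i, rfl⟩ := Subgroup.mem_zpowers_iff.mp hv
    change autFun δ (w * z₀ ^ i) = w * z₀ ^ i at hfy
    have hzi := Zs.zpow_mem (hZqS hz₀) i
    rw [autFun_apply _ (Zs.mul_mem (hWle hw) hzi),
      show (⟨w * z₀ ^ i, Zs.mul_mem (hWle hw) hzi⟩ : Zs) = ⟨w, hWle hw⟩ * ⟨z₀, hZqS hz₀⟩ ^ i from rfl,
      map_mul, map_zpow, Subgroup.coe_mul, Subgroup.coe_zpow, ← autFun_apply, ← autFun_apply,
      hδW w hw, hδz, mul_right_inj, inv_zpow] at hfy
    have h2 : z₀ ^ i * z₀ ^ i = 1 := mul_eq_one_iff_eq_inv.mpr hfy.symm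
    have h1 : z₀ ^ i = 1 := by
      have hd : orderOf (z₀ ^ i) ∣ Nat.gcd 2 p := Nat.dvd_gcd
        (orderOf_dvd_of_pow_eq_one (by rw [sq]; exact h2))
        (orderOf_dvd_of_pow_eq_one (by rw [← zpow_natCast, ← zpow_mul, mul_comm, zpow_mul, zpow_natCast, hz₀p, one_zpow]))
      rw [Nat.coprime_two_left.mpr hodd, Nat.dvd_one] at hd
      exact orderOf_eq_one_iff.mp hd
    rw [h1]; simpa using hw
  obtain ⟨W, hWle, hsp, hz₀W, hWinv, δ, hδ, hδW, hδz⟩ := hdata E₀ hE₀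
  refine hζq ?_
  suffices hW : W = ⊥ by
    rw [hW, bot_sup_eq, hgen z₀ hz₀ hz₀1] at hsp
    exact hsp.le hζ
  refine hnot W (isNormal_of_forall_essential hS hF fun P hP => ⟨hWle.trans (hZsP P hP), ?_⟩)
  intro β hβ w hw
  rcases hP with rfl | hP
  · -- the automorphisms of `S`
    have hβm := mapTo_of_mem_autGroup le_rfl hβ
    have hcentral : ∀ z ∈ Zs, autFun β z ∈ Zs := fun z hz =>
      mem_centralizerIn.mpr ⟨autFun_mem _ (hZsS hz), fun y hy => by
        obtain ⟨y', hy', rfl⟩ : ∃ y' ∈ P, autFun β y' = y :=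
          ⟨_, autFun_mem _ hy, autFun_autFun_inv _ hy⟩
        rw [← hβm.map_mul hy' (hZsS hz), ← hβm.map_mul (hZsS hz) hy', (mem_centralizerIn.mp hz).2 y' hy']⟩
    have hb := hβm.restrict hZsS
    have himg := img_eq_self_of_forall hb hcentral
    set b := autOf hb himg with hbdef
    have hbmem : b ∈ F.autGroup Zs := autOf_mem hb himg
    have hbz : ∀ z ∈ Zq, autFun b⁻¹ z ∈ Zq := by
      intro z hz
      have h1 : ∀ y ∈ Zq, autFun b y ∈ Zq := fun y hy => by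
        rw [hbdef, autFun_autOf hb himg (hZqS hy)]
        exact hinvZq _ (Or.inl rfl) hnab β hβ y hy
      let g : Zq → Zq := fun y => ⟨autFun b y, h1 y y.2⟩
      have hg : Function.Injective g := fun y y' h => Subtype.ext (by
        have := congrArg (autFun b⁻¹) (congrArg Subtype.val h : autFun b y = autFun b y')
        rwa [autFun_inv_autFun _ (hZqS y.2), autFun_inv_autFun _ (hZqS y'.2)] at this)
      obtain ⟨y, hy⟩ := Finite.injective_iff_surjective.mp hg ⟨z, hz⟩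
      have : autFun b y = z := congrArg Subtype.val hy
      rw [← this, autFun_inv_autFun _ (hZqS y.2)]
      exact y.2
    rw [← autFun_autOf hb himg (hWle hw), ← hbdef]
    refine hfix W δ hWle hsp hδW hδz _ (autFun_mem _ (hWle hw)) ?_
    let W₂ : Subgroup Ω :=
      { carrier := {y | ∃ hy : y ∈ Zs, autFun b⁻¹ y ∈ W}
        one_mem' := ⟨Zs.one_mem, by
          rw [autFun_apply _ Zs.one_mem, show (⟨1, Zs.one_mem⟩ : Zs) = 1 from rfl, map_one]; exact W.one_mem⟩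
        mul_mem' := fun {y y'} ⟨hy, hy'⟩ ⟨hy₂, hy₂'⟩ => ⟨Zs.mul_mem hy hy₂, by
          rw [autFun_apply _ (Zs.mul_mem hy hy₂), show (⟨y * y', Zs.mul_mem hy hy₂⟩ : Zs) = ⟨y, hy⟩ * ⟨y', hy₂⟩ from rfl,
            map_mul, Subgroup.coe_mul, ← autFun_apply, ← autFun_apply]
          exact W.mul_mem hy' hy₂'⟩
        inv_mem' := fun {y} ⟨hy, hy'⟩ => ⟨Zs.inv_mem hy, by
          rw [autFun_apply _ (Zs.inv_mem hy), show (⟨y⁻¹, Zs.inv_mem hy⟩ : Zs) = ⟨y, hy⟩⁻¹ from rfl,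
            map_inv, Subgroup.coe_inv, ← autFun_apply]
          exact W.inv_mem hy'⟩ }
    refine le_of_reflections hS hF (hZqS hz₀) hz₀p hWle hsp (W₂ := W₂) (fun y hy => hy.1) hδ
      (δ₂ := b * δ * b⁻¹) (Subgroup.mul_mem _ (Subgroup.mul_mem _ hbmem hδ) (Subgroup.inv_mem _ hbmem))
      hδW hδz (fun y hy => ?_) ?_ _ ⟨autFun_mem _ (hWle hw), by rwa [autFun_inv_autFun _ (hWle hw)]⟩
    · obtain ⟨hy, hy'⟩ := hy
      rw [autFun_mul _ _ hy, autFun_mul _ _ (autFun_mem _ hy), hδW _ hy', autFun_autFun_inv _ hy]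
    · rw [autFun_mul _ _ (hZqS hz₀), autFun_mul _ _ (autFun_mem _ (hZqS hz₀))]
      obtain ⟨i, hi⟩ := Subgroup.mem_zpowers_iff.mp ((hgen z₀ hz₀ hz₀1).ge (hbz z₀ hz₀))
      have hi' : autFun δ (autFun b⁻¹ z₀) = (autFun b⁻¹ z₀)⁻¹ := by
        rw [← hi, autFun_apply _ (Zs.zpow_mem (hZqS hz₀) i),
          show (⟨z₀ ^ i, Zs.zpow_mem (hZqS hz₀) i⟩ : Zs) = ⟨z₀, hZqS hz₀⟩ ^ i from rfl, map_zpow,
          Subgroup.coe_zpow, ← autFun_apply, hδz, inv_zpow]
      have hm := autFun_mem b⁻¹ (hZqS hz₀)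
      rw [hi', autFun_apply _ (Zs.inv_mem hm),
        show (⟨(autFun b⁻¹ z₀)⁻¹, Zs.inv_mem hm⟩ : Zs) = ⟨autFun b⁻¹ z₀, hm⟩⁻¹ from rfl, map_inv,
        Subgroup.coe_inv, ← autFun_apply, autFun_autFun_inv _ (hZqS hz₀)]
  · obtain ⟨W', hW'le, hsp', -, hW'inv, δ', hδ', hδ'W, hδ'z⟩ := hdata P hP
    have hle1 : W' ≤ W := fun v hv => hfix W δ hWle hsp hδW hδz v (hW'le hv)
      (le_of_reflections hS hF (hZqS hz₀) hz₀p hWle hsp hW'le hδ hδ' hδW hδz hδ'W hδ'z v hv)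
    have hle2 : W ≤ W' := fun v hv => hfix W' δ' hW'le hsp' hδ'W hδ'z v (hWle hv)
      (le_of_reflections hS hF (hZqS hz₀) hz₀p hW'le hsp' hWle hδ' hδ hδ'W hδ'z hδW hδz v hv)
    exact hle1 (hW'inv β hβ w (hle2 hw))
where
  commute_sup_zpowers {a : Ω} (hS : IsPGroup p S) (ha : a ∈ S) :
      ∀ u ∈ centralizerIn S S ⊔ Subgroup.zpowers a, ∀ v ∈ centralizerIn S S ⊔ Subgroup.zpowers a,
        Commute u v := by
    haveI : IsMulCommutative ↥(centralizerIn S S ⊔ Subgroup.zpowers a) := by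
      rw [Subgroup.zpowers_eq_closure, ← Subgroup.closure_eq (centralizerIn S S), ← Subgroup.closure_union]
      refine Subgroup.isMulCommutative_closure ?_
      rintro x (hx | rfl) y (hy | rfl)
      · exact ((mem_centralizerIn.mp hy).2 x (mem_centralizerIn.mp hx).1)
      · exact ((mem_centralizerIn.mp hx).2 _ ha).symm
      · exact (mem_centralizerIn.mp hy).2 _ ha
      · rfl
    exact fun u hu v hv => congrArg Subtype.val (IsMulCommutative.is_comm.comm (⟨u, hu⟩ : ↥(centralizerIn S S ⊔ Subgroup.zpowers a)) ⟨v, hv⟩)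

/-- No proper subgroup of an extraspecial subgroup of index `p` is essential. -/
theorem eq_of_essential_le_extraspecial (hS : IsPGroup p S) (hF : F.IsSaturated p)
    {Q : Subgroup Ω} (hQS : Q ≤ S) (hQ : Cfsg.IsExtraspecial p ↥Q)
    (hQi : (Q.subgroupOf S).index = p) (h6 : p ^ 6 ≤ Nat.card S)
    {E : Subgroup Ω} (hEQ : E ≤ Q) (hE : F.IsEssential p E) : E = Q := by
  classical
  by_contra hne
  have hr := isRadical_of_isEssential hS hE
  haveI := finite_of_le hQS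
  have hES : E ≤ S := hEQ.trans hQS
  haveI := finite_of_le hES
  obtain ⟨⟨-, -, hQd⟩, hQc⟩ := hQ
  set Zq := (Subgroup.center Q).map Q.subtype with hZq
  have hZqQ : Zq ≤ Q := Subgroup.map_subtype_le _
  have hZqcard : Nat.card Zq = p := by
    rw [hZq, Nat.card_congr ((Subgroup.center Q).equivMapOfInjective _ Q.subtype_injective).toEquiv.symm, hQc]
  haveI := finite_of_le (hZqQ.trans hQS)
  have hcomm : ∀ a ∈ Q, ∀ b ∈ Q, ⁅a, b⁆ ∈ Zq := fun a ha b hb => by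
    rw [hZq, ← hQd]
    exact ⟨⁅(⟨a, ha⟩ : Q), ⟨b, hb⟩⁆,
      Subgroup.commutator_mem_commutator (Subgroup.mem_top _) (Subgroup.mem_top _), rfl⟩
  have hZqc : ∀ z ∈ Zq, ∀ q ∈ Q, Commute z q := by
    rintro _ ⟨z, hz, rfl⟩ q hq
    exact congrArg Subtype.val (Subgroup.mem_center_iff.mp hz ⟨q, hq⟩).symm
  have hcE := centralizerIn_le_of_isCentric hE.1
  have hZqE : Zq ≤ E := fun z hz => hcE (mem_centralizerIn.mpr
    ⟨hQS (hZqQ hz), fun e he => (hZqc z hz e (hEQ he)).eq.symm⟩)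
  obtain ⟨k, hkQ, hkE⟩ := SetLike.exists_of_lt (lt_of_le_of_ne hEQ hne)
  have hkN : k ∈ normalizerIn S E := mem_normalizerIn_of_forall hES (hQS hkQ) fun e he => by
    rw [show k * e * k⁻¹ = ⁅k, e⁆ * e by rw [commutatorElement_def]; group]
    exact E.mul_mem (hZqE (hcomm k hkQ e (hEQ he))) he
  refine hkE ?_
  suffices hinv : ∀ α ∈ F.autGroup E, ∀ z ∈ Zq, autFun α z ∈ Zq by
    refine mem_of_stabilizes_series hS hE.1 hr hkN (n := 2) ![⊥, Zq, E] rfl rfl ?_ ?_ ?_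
    · intro i; fin_cases i <;> [exact bot_le; exact hZqE; exact le_rfl]
    · intro i α hα x hx
      fin_cases i
      · show autFun α x ∈ (⊥ : Subgroup Ω)
        rw [Subgroup.mem_bot.mp hx, (mapTo_of_mem_autGroup hES hα).map_one]; exact Subgroup.one_mem _
      · exact hinv α hα x hx
      · exact autFun_mem α hx
    · intro i x hx
      fin_cases i
      · show x⁻¹ * (k * x * k⁻¹) ∈ (⊥ : Subgroup Ω)
        rw [(hZqc x hx k hkQ).eq.symm, mul_inv_cancel_right, inv_mul_cancel]; exact Subgroup.one_mem _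
      · show x⁻¹ * (k * x * k⁻¹) ∈ Zq
        rw [show x⁻¹ * (k * x * k⁻¹) = ⁅x⁻¹, k⁆ by rw [commutatorElement_def]; group]
        exact hcomm _ (Q.inv_mem (hEQ hx)) k hkQ
  by_cases hab : ∀ a ∈ E, ∀ b ∈ E, Commute a b
  · refine autFun_mem_of_transvections hS hF hQS hEQ hE hab hZqE hcomm hZqc hZqcard ?_
    by_contra hidx
    push Not at hidx
    haveI := finite_of_le hQS
    obtain ⟨x, hxQ, hxE⟩ := SetLike.exists_of_lt (lt_of_le_of_ne hEQ hne)
    let f : E →* Zq := MonoidHom.mk' (fun e => ⟨⁅(e : Ω), x⁆, hcomm e (hEQ e.2) x hxQ⟩) fun a b =>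
      Subtype.ext (by
        show ⁅(a : Ω) * b, x⁆ = ⁅(a : Ω), x⁆ * ⁅(b : Ω), x⁆
        have hb := hcomm b (hEQ b.2) x hxQ
        rw [show ⁅(a : Ω) * b, x⁆ = (a * ⁅(b : Ω), x⁆ * (a : Ω)⁻¹) * ⁅(a : Ω), x⁆ by
          simp only [commutatorElement_def]; group, ← (hZqc _ hb a (hEQ a.2)).eq, mul_inv_cancel_right]
        exact (hZqc _ hb _ (hZqQ (hcomm a (hEQ a.2) x hxQ))).eq)
    have h1 := Subgroup.card_mul_index f.ker
    rw [Subgroup.index_ker] at h1
    -- `E` and `x` generate `Q`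
    have hQpg : IsPGroup p Q := hS.to_le hQS
    have h2 := Subgroup.card_mul_index (E.subgroupOf Q)
    rw [Nat.card_congr (Subgroup.subgroupOfEquivOfLe hEQ).toEquiv] at h2
    have hgen : Q ≤ E ⊔ Subgroup.zpowers x := by
      have hlt : E < E ⊔ Subgroup.zpowers x :=
        lt_of_le_not_ge le_sup_left fun h => hxE (h (Subgroup.mem_sup_right (Subgroup.mem_zpowers x)))
      have hle : E ⊔ Subgroup.zpowers x ≤ Q := sup_le hEQ (Subgroup.zpowers_le.mpr hxQ)
      haveI := finite_of_le (hle.trans hQS)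
      have h3 := card_mul_le_of_lt (p := p) (hS.to_le (hle.trans hQS)) hlt
      refine (Subgroup.eq_of_le_of_card_ge hle ?_).ge
      rw [← h2]
      exact le_trans (Nat.mul_le_mul_left _ hidx) (by rw [mul_comm]; exact h3)
    have hker : ∀ e : f.ker, ((e : E) : Ω) ∈ Zq := by
      intro e
      have he : Commute ((e : E) : Ω) x :=
        commutatorElement_eq_one_iff_mul_comm.mp (congrArg Subtype.val e.2)
      have hc : Q ≤ Subgroup.centralizer ({((e : E) : Ω)} : Set Ω) := hgen.trans (sup_le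
        (fun b hb => Subgroup.mem_centralizer_singleton_iff.mpr (hab b hb _ (e : E).2))
        (Subgroup.zpowers_le.mpr (Subgroup.mem_centralizer_singleton_iff.mpr he.symm)))
      exact ⟨⟨((e : E) : Ω), hEQ (e : E).2⟩, Subgroup.mem_center_iff.mpr fun q => Subtype.ext
        (Subgroup.mem_centralizer_singleton_iff.mp (hc q.2)), rfl⟩
    have h4 : Nat.card f.ker ≤ p := hZqcard ▸ Nat.card_le_card_of_injective
      (fun e : f.ker => (⟨_, hker e⟩ : Zq))
      (fun a b h => Subtype.ext (Subtype.ext (congrArg (Subtype.val : Zq → Ω) h :)))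
    have h5 : Nat.card E ≤ p * p := by
      rw [← h1]; exact Nat.mul_le_mul h4 (hZqcard ▸ Subgroup.card_le_card_group f.range)
    have h6' := Subgroup.card_mul_index (Q.subgroupOf S)
    rw [hQi, Nat.card_congr (Subgroup.subgroupOfEquivOfLe hQS).toEquiv, ← h2] at h6'
    have h7 : Nat.card S ≤ p * p * p * p := by
      rw [← h6']; exact Nat.mul_le_mul_right _ (Nat.mul_le_mul h5 hidx)
    have h8 : p ^ 4 < p ^ 6 := Nat.pow_lt_pow_right hp.out.one_lt (by norm_num)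
    have h9 : p * p * p * p = p ^ 4 := by ring
    omega
  · intro α hα z hz
    push Not at hab
    obtain ⟨a, ha, b, hb, hnc⟩ := hab
    have h1 : ⁅a, b⁆ ≠ 1 := fun h => hnc (commutatorElement_eq_one_iff_mul_comm.mp h)
    have hz' : Subgroup.zpowers ⁅a, b⁆ = Zq := by
      have hmem := hcomm a (hEQ ha) b (hEQ hb)
      refine Subgroup.eq_of_le_of_card_ge (Subgroup.zpowers_le.mpr hmem) ?_
      have h2 : orderOf ⁅a, b⁆ ∣ p := by
        rw [← hZqcard, show ⁅a, b⁆ = ((⟨⁅a, b⁆, hmem⟩ : Zq) : Ω) from rfl, Subgroup.orderOf_coe]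
        exact orderOf_dvd_natCard _
      rw [hZqcard, Nat.card_zpowers, ((Nat.dvd_prime hp.out).mp h2).resolve_left
        fun h => h1 (orderOf_eq_one_iff.mp h)]
    obtain ⟨i, rfl⟩ := Subgroup.mem_zpowers_iff.mp (hz'.ge hz)
    have hm := mapTo_of_mem_autGroup hES hα
    have hab' : ⁅a, b⁆ ∈ E := hZqE (hcomm a (hEQ ha) b (hEQ hb))
    have e : autFun α (⁅a, b⁆ ^ i) = autFun α ⁅a, b⁆ ^ i := by
      rw [autFun_apply _ (E.zpow_mem hab' i), autFun_apply _ hab',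
        show (⟨⁅a, b⁆ ^ i, E.zpow_mem hab' i⟩ : E) = ⟨⁅a, b⁆, hab'⟩ ^ i from rfl, map_zpow, Subgroup.coe_zpow]
    rw [e, commutatorElement_def, hm.map_mul (E.mul_mem (E.mul_mem ha hb) (E.inv_mem ha)) (E.inv_mem hb),
      hm.map_mul (E.mul_mem ha hb) (E.inv_mem ha), hm.map_mul ha hb, hm.map_inv ha, hm.map_inv hb,
      ← commutatorElement_def]
    exact Subgroup.zpow_mem _ (hcomm _ (hEQ (autFun_mem _ ha)) _ (hEQ (autFun_mem _ hb))) i

end Cfsg.Agent.Fusion
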