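import Cfsg.Agent.Lib.Fusion.ComponentCore
import Cfsg.Agent.Lib.Fusion.ConstrainedFitting
import Cfsg.Agent.Lib.Components.CentralizerSubsystem
import Cfsg.Agent.S5148

/-!
The generalized Fitting subsystem: its maps, and its centre as the centralizer in `S`.
-/

set_option autoImplicit false

namespace Cfsg.Agent.Fusion

open Cfsg.FusionSystem (centralizerIn normalizerIn imageAlong preimageAlong)

universe u

variable {Ω : Type u} [Group Ω] {S T U P Q X Y Z : Subgroup Ω} {F : FusionSystem S}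
variable {E : FusionSystem T} {D : FusionSystem U} {f : Ω → Ω} {p : ℕ}

/-- A subgroup of the centre of the base fixed by every map defined on it is central. -/
theorem isCentral_of_fixed [Finite T] [Fact p.Prime] (hT : IsPGroup p T) (hE : E.IsSaturated p)
    (hZ : Z ≤ centralizerIn T T)
    (hfix : ∀ (P : Subgroup Ω) (f : Ω → Ω), MapTo E P f → Z ≤ P → ∀ z ∈ Z, f z = z) :
    E.IsCentral Z := by
  have hZT : Z ≤ T := hZ.trans centralizerIn_le
  refine isCentral_iff.mpr ⟨hZT, fun P f hf => alperin_prop hT hE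
    (fun P f => ∃ g, MapTo E (P ⊔ Z) g ∧ (∀ x ∈ P, g x = f x) ∧ ∀ x ∈ Z, g x = x)
    ?_ ?_ ?_ ?_ ?_ hf⟩
  · rintro P f g - ⟨k, hk, hkf, hkZ⟩ h
    exact ⟨k, hk, fun x hx => (hkf x hx).trans (h x hx).symm, hkZ⟩
  · intro P g hP hg
    refine ⟨cj g, mapTo_cj (sup_le hP hZT) hg, fun _ _ => rfl, fun x hx => ?_⟩
    show g * x * g⁻¹ = x
    rw [(mem_centralizerIn.mp (hZ hx)).2 g hg, mul_inv_cancel_right]
  · rintro P Q f g - - hm ⟨k, hk, hkf, hkZ⟩ ⟨k', hk', hkg, hkZ'⟩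
    refine ⟨fun x => k' (k x), hk.comp hk' fun x hx => ?_, fun x hx => ?_, fun x hx => ?_⟩
    · have h1 : img k (P ⊔ Z) ≤ Q ⊔ Z := by
        rw [hk.img_sup le_sup_left le_sup_right]
        exact sup_le_sup (img_le_of_forall fun y hy => (hkf y hy).symm ▸ hm y hy)
          (img_le_of_forall fun y hy => (hkZ y hy).symm ▸ hy)
      exact h1 (mem_img_of_mem hx)
    · show k' (k x) = g (f x)
      rw [hkf x hx, hkg _ (hm x hx)]
    · show k' (k x) = x
      rw [hkZ x hx, hkZ' x hx]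
  · rintro P f g hf - hgf ⟨k, hk, hkf, hkZ⟩
    obtain ⟨d, hd, hdk, -, -⟩ := hk.exists_iso_inverse
    have hi : img k (P ⊔ Z) = img f P ⊔ Z := by
      have := finite_of_le hZT
      rw [hk.img_sup le_sup_left le_sup_right, img_congr hkf,
        img_eq_self_of_forall (hk.restrict le_sup_right) fun y hy => (hkZ y hy).symm ▸ hy]
    rw [hi] at hd
    refine ⟨d, hd, fun y hy => ?_, fun z hz => ?_⟩
    · obtain ⟨x, hx, rfl⟩ := (hf.mem_img_iff le_rfl).mp hy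
      rw [hgf x hx, ← hkf x hx, hdk x (Subgroup.mem_sup_left hx)]
    · have h := hdk z (Subgroup.mem_sup_right hz)
      rwa [hkZ z hz] at h
  · intro P hP α hα
    have hZP : Z ≤ P := by
      rcases hP with rfl | hP
      · exact hZT
      · exact fun z hz => centralizerIn_le_of_isCentric hP.1 (mem_centralizerIn.mpr
          ⟨hZT hz, fun y hy => (mem_centralizerIn.mp (hZ hz)).2 y (hP.1.1 hy)⟩)
    have hPT : P ≤ T := by
      rcases hP with rfl | hP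
      · exact le_rfl
      · exact hP.1.1
    have hm := mapTo_of_mem_autGroup hPT hα
    exact ⟨autFun α, by rw [sup_eq_left.mpr hZP]; exact hm, fun _ _ => rfl,
      fun z hz => hfix P _ hm hZP z hz⟩

/-- The data of a generalized Fitting subsystem: a layer, and the multiplication map. -/
structure FittingData (F : FusionSystem S) (D : FusionSystem U) (E : FusionSystem T) (p : ℕ) where
  /-- the direct product -/
  D₀ : FusionSystem (F.core.prod T)
  /-- the multiplication map -/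
  θ : ↥(F.core.prod T) →* Ω
  /-- the kernel -/
  K : Subgroup (Ω × Ω)
  layer : E.IsLayerOf F p
  prod : FusionSystem.IsProductSystem (innerFusionSystem F.core) E D₀
  fst : ∀ (x : Ω) (hx : ((x, 1) : Ω × Ω) ∈ F.core.prod T), θ ⟨(x, 1), hx⟩ = x
  snd : ∀ (y : Ω) (hy : ((1, y) : Ω × Ω) ∈ F.core.prod T), θ ⟨(1, y), hy⟩ = y
  factor : D₀.IsFactorSystem K θ D

theorem exists_fittingData (hD : D.IsGeneralizedFittingOf F p) :
    ∃ (T : Subgroup Ω) (E : FusionSystem T), Nonempty (FittingData F D E p) := by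
  obtain ⟨T, E, hE, D₀, hP, K, θ, -, -, -, h₁, h₂, hfac⟩ := hD
  exact ⟨T, E, ⟨⟨D₀, θ, K, hE, hP, h₁, h₂, hfac⟩⟩⟩

namespace FittingData

variable (d : FittingData F D E p)
include d

theorem th_mk {a x : Ω} (ha : a ∈ F.core) (hx : x ∈ T) : th d.θ (a, x) = a * x := by
  have h1 : ((a, 1) : Ω × Ω) ∈ F.core.prod T := Subgroup.mem_prod.mpr ⟨ha, T.one_mem⟩
  have h2 : ((1, x) : Ω × Ω) ∈ F.core.prod T := Subgroup.mem_prod.mpr ⟨F.core.one_mem, hx⟩
  rw [th_apply d.θ (Subgroup.mem_prod.mpr ⟨ha, hx⟩ : ((a, x) : Ω × Ω) ∈ F.core.prod T)]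
  calc d.θ ⟨(a, x), _⟩ = d.θ (⟨(a, 1), h1⟩ * ⟨(1, x), h2⟩) :=
        congrArg d.θ (Subtype.ext (by simp))
    _ = a * x := by rw [map_mul, d.fst, d.snd]

theorem comm {a x : Ω} (ha : a ∈ F.core) (hx : x ∈ T) : a * x = x * a := by
  have h1 : ((a, 1) : Ω × Ω) ∈ F.core.prod T := Subgroup.mem_prod.mpr ⟨ha, T.one_mem⟩
  have h2 : ((1, x) : Ω × Ω) ∈ F.core.prod T := Subgroup.mem_prod.mpr ⟨F.core.one_mem, hx⟩
  calc a * x = d.θ (⟨(a, 1), h1⟩ * ⟨(1, x), h2⟩) := by rw [map_mul, d.fst, d.snd]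
    _ = d.θ (⟨(1, x), h2⟩ * ⟨(a, 1), h1⟩) := congrArg d.θ (Subtype.ext (by simp))
    _ = x * a := by rw [map_mul, d.fst, d.snd]

theorem mul_mem {a x : Ω} (ha : a ∈ F.core) (hx : x ∈ T) : a * x ∈ U := by
  rw [← d.th_mk ha hx, th_apply d.θ (Subgroup.mem_prod.mpr ⟨ha, hx⟩ :
    ((a, x) : Ω × Ω) ∈ F.core.prod T)]
  exact d.factor.2.2.1.le ⟨_, rfl⟩

theorem core_le : F.core ≤ U := fun a ha => by simpa using d.mul_mem ha T.one_mem

theorem base_le : T ≤ U := fun x hx => by simpa using d.mul_mem F.core.one_mem hx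

theorem exists_mul {y : Ω} (hy : y ∈ U) : ∃ a ∈ F.core, ∃ x ∈ T, y = a * x := by
  rw [← d.factor.2.2.1] at hy
  obtain ⟨⟨⟨a, x⟩, h⟩, rfl⟩ := hy
  obtain ⟨ha, hx⟩ := Subgroup.mem_prod.mp h
  exact ⟨a, ha, x, hx, by rw [← d.th_mk ha hx, th_apply d.θ h]⟩

theorem mem_sup {y : Ω} (hX : X ≤ T) (hy : y ∈ F.core ⊔ X) :
    ∃ a ∈ F.core, ∃ x ∈ X, y = a * x := by
  have h : F.core ⊔ X ≤ ({
      carrier := {y | ∃ a ∈ F.core, ∃ x ∈ X, y = a * x}
      one_mem' := ⟨1, F.core.one_mem, 1, X.one_mem, by simp⟩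
      mul_mem' := by
        rintro _ _ ⟨a, ha, x, hx, rfl⟩ ⟨a', ha', x', hx', rfl⟩
        refine ⟨a * a', F.core.mul_mem ha ha', x * x', X.mul_mem hx hx', ?_⟩
        calc a * x * (a' * x') = a * (x * a') * x' := by group
          _ = a * (a' * x) * x' := by rw [← d.comm ha' (hX hx)]
          _ = a * a' * (x * x') := by group
      inv_mem' := by
        rintro _ ⟨a, ha, x, hx, rfl⟩
        refine ⟨a⁻¹, F.core.inv_mem ha, x⁻¹, X.inv_mem hx, ?_⟩
        rw [mul_inv_rev, ← d.comm (F.core.inv_mem ha) (T.inv_mem (hX hx))] } : Subgroup Ω) :=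
    sup_le (fun a ha => ⟨a, ha, 1, X.one_mem, by simp⟩)
      fun x hx => ⟨1, F.core.one_mem, x, hx, by simp⟩
  exact h hy

variable [Finite S] [Fact p.Prime]

omit [Fact p.Prime] in
theorem le_S : U ≤ S := fun y hy => by
  obtain ⟨a, ha, x, hx, rfl⟩ := d.exists_mul hy
  exact S.mul_mem ((isNormal_core F).1 ha) (d.layer.1.1.2.2.2.1.1 hx)

/-- Maps of the layer fix the elements of the core in their domain. -/
theorem layer_fixed (hS : IsPGroup p S) (hF : F.IsSaturated p) (hf : MapTo E P f) {z : Ω}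
    (hzQ : z ∈ F.core) (hzP : z ∈ P) : f z = z := by
  obtain ⟨φ, hφ, hφf⟩ := hf
  obtain ⟨-, -, -, ψ, -, hψ, hψQ⟩ := layer_centralizes_core hS hF d.layer P hφ
  have h1 := hψ ⟨z, hzP⟩
  have h2 := hψQ ⟨z, hzQ⟩
  have he : (Subgroup.inclusion (le_sup_left : P ≤ P ⊔ F.core) ⟨z, hzP⟩) =
      Subgroup.inclusion (le_sup_right : F.core ≤ P ⊔ F.core) ⟨z, hzQ⟩ := Subtype.ext rfl
  rw [he, h2] at h1
  exact ((hφf ⟨z, hzP⟩).symm.trans h1.symm)

theorem isCentral_inf (hS : IsPGroup p S) (hF : F.IsSaturated p) :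
    E.IsCentral (F.core ⊓ T) := by
  have hTS : T ≤ S := d.layer.1.1.2.2.2.1.1
  have := finite_of_le hTS
  exact isCentral_of_fixed (hS.to_le hTS) d.layer.1.1.1
    (fun z hz => mem_centralizerIn.mpr ⟨hz.2, fun x hx => (d.comm hz.1 hx).symm⟩)
    fun P f hf hP z hz => d.layer_fixed hS hF hf hz.1 (hP hz)

/-- A map of the layer and an element of the core give a map of `D`. -/
theorem mapTo_mul (hS : IsPGroup p S) (hF : F.IsSaturated p) (hf : MapTo E X f)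
    (hX : F.core ⊓ T ≤ X) {g : Ω} (hg : g ∈ F.core) :
    ∃ h, MapTo D (F.core ⊔ X) h ∧
      ∀ a ∈ F.core, ∀ x ∈ X, h (a * x) = g * a * g⁻¹ * f x := by
  set P₀ := preimageAlong d.θ (F.core ⊔ X) with hP₀
  have hpre : ∀ z ∈ P₀, z.1 ∈ F.core ∧ z.2 ∈ X := by
    rintro ⟨a, x⟩ hz
    obtain ⟨hzp, hz'⟩ := mem_preimageAlong.mp hz
    obtain ⟨ha, hx⟩ := Subgroup.mem_prod.mp hzp
    rw [d.th_mk ha hx] at hz'
    obtain ⟨a', ha', x', hx', he⟩ := d.mem_sup hf.le hz'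
    refine ⟨ha, ?_⟩
    have h1 : x * x'⁻¹ = a⁻¹ * a' := by
      rw [mul_inv_eq_iff_eq_mul, mul_assoc, ← he, inv_mul_cancel_left]
    have h2 : x * x'⁻¹ ∈ X :=
      hX ⟨h1 ▸ F.core.mul_mem (F.core.inv_mem ha) ha', T.mul_mem hx (T.inv_mem (hf.le hx'))⟩
    simpa using X.mul_mem h2 hx'
  have h₁ : pr₁ P₀ ≤ F.core := by
    rintro _ ⟨z, hz, rfl⟩; exact (hpre z hz).1
  have h₂ : pr₂ P₀ ≤ X := by
    rintro _ ⟨z, hz, rfl⟩; exact (hpre z hz).2
  have hf₀ : MapTo d.D₀ P₀ fun z => (cj g z.1, f z.2) :=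
    mapTo_pair d.prod (mapTo_cj h₁ hg) (hf.restrict h₂)
  have hker : ∀ z ∈ kerIn d.θ, (cj g z.1, f z.2) ∈ kerIn d.θ := by
    rintro ⟨a, x⟩ hz
    obtain ⟨hzp, hz'⟩ := mem_kerIn.mp hz
    obtain ⟨ha, hx⟩ := Subgroup.mem_prod.mp hzp
    rw [d.th_mk ha hx] at hz'
    have hxa : x = a⁻¹ := eq_inv_of_mul_eq_one_right hz'
    have hxQ : x ∈ F.core := hxa ▸ F.core.inv_mem ha
    have hfx : f x = x := d.layer_fixed hS hF hf hxQ (hX ⟨hxQ, hx⟩)
    have haT : a ∈ T := by rw [← inv_inv a, ← hxa]; exact T.inv_mem hx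
    have hga : g * a * g⁻¹ = a := by rw [d.comm hg haT, mul_inv_cancel_right]
    show (g * a * g⁻¹, f x) ∈ kerIn d.θ
    rw [hga, hfx]
    exact hz
  have hr : F.core ⊔ X ≤ d.θ.range := by
    rw [d.factor.2.2.1]
    exact sup_le d.core_le (hf.le.trans d.base_le)
  obtain ⟨φ', hφ'⟩ := exists_induced_hom hr hf₀ hker
  obtain ⟨φ, hφ, hφf⟩ := id hf₀
  have hmem : φ' ∈ D.Hom (F.core ⊔ X) := by
    refine (d.factor.2.2.2 _ _).mpr ⟨sup_le d.core_le (hf.le.trans d.base_le), φ, hφ,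
      (inducedAlong_iff (f' := ev φ') preimageAlong_le (fun z hz => hf₀.mem hz) hφf
        (fun y => (ev_coe φ' y).symm)).mpr fun z hz => ⟨(mem_preimageAlong.mp hz).2, ?_⟩⟩
    rw [ev_apply φ' (mem_preimageAlong.mp hz).2, hφ' z hz]
  refine ⟨ev φ', mapTo_ev hmem, fun a ha x hx => ?_⟩
  have hz : (a, x) ∈ P₀ := mem_preimageAlong.mpr ⟨Subgroup.mem_prod.mpr ⟨ha, hf.le hx⟩,
    (d.th_mk ha (hf.le hx)).symm ▸
      Subgroup.mul_mem _ (Subgroup.mem_sup_left ha) (Subgroup.mem_sup_right hx)⟩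
  have h3 := hφ' _ hz
  rw [← ev_apply φ'] at h3
  rw [← d.th_mk ha (hf.le hx), h3]
  exact d.th_mk (F.core.mul_mem (F.core.mul_mem hg ha) (F.core.inv_mem hg)) (hf.mem hx)

omit [Finite S] [Fact p.Prime] in
/-- Every map of `D` comes from an element of the core and a map of the layer. -/
theorem exists_of_mapTo {h : Ω → Ω} (hh : MapTo D P h) :
    ∃ g ∈ F.core, ∃ (X : Subgroup Ω) (f : Ω → Ω), MapTo E X f ∧
      ∀ y ∈ P, ∃ a ∈ F.core, ∃ x ∈ X, y = a * x ∧ h y = g * a * g⁻¹ * f x := by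
  obtain ⟨φ', hφ', hφ'h⟩ := hh
  obtain ⟨hP, φ, hφ, hind⟩ := (d.factor.2.2.2 _ _).mp hφ'
  have hm := mapTo_ev hφ
  obtain ⟨f₁, f₂, h₁, h₂, hf⟩ := (mapTo_prod_iff d.prod).mp hm
  obtain ⟨-, g, hg, hgx⟩ := mapTo_inner_iff.mp h₁
  refine ⟨g, hg, _, f₂, h₂, fun y hy => ?_⟩
  obtain ⟨⟨a, x⟩, hz, rfl⟩ := exists_preimage (θ := d.θ) (hP.trans d.factor.2.2.1.ge) hy
  obtain ⟨ha, hx⟩ := Subgroup.mem_prod.mp (mem_preimageAlong.mp hz).1
  refine ⟨a, ha, x, snd_mem_pr₂ hz, d.th_mk ha hx, ?_⟩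
  obtain ⟨hy', he⟩ := (inducedAlong_iff (f' := h) preimageAlong_le (fun z hz => hm.mem hz)
    (fun z => (ev_coe φ z).symm) hφ'h).mp hind _ hz
  rw [he, hf _ hz]
  obtain ⟨ha', hx'⟩ := Subgroup.mem_prod.mp (hf _ hz ▸ hm.mem hz)
  rw [d.th_mk ha' hx', hgx a (fst_mem_pr₁ hz)]

/-- The maps of `D` are maps of `F`. -/
theorem isSubsystemOf (hS : IsPGroup p S) (hF : F.IsSaturated p) : D.IsSubsystemOf F := by
  intro P φ hφ
  obtain ⟨g, hg, X, f, hf, hgf⟩ := d.exists_of_mapTo (mapTo_ev hφ)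
  obtain ⟨φ₀, hφ₀, hφ₀f⟩ := id hf
  obtain ⟨-, -, -, ψ, hψ, hψf, hψQ⟩ := layer_centralizes_core hS hF d.layer X hφ₀
  have hm := mapTo_ev hψ
  have hc : MapTo F (X ⊔ F.core) fun y => cj g (ev ψ y) :=
    hm.comp (mapTo_cj le_rfl ((isNormal_core F).1 hg)) fun y hy => hm.mem hy
  have hPX : P ≤ X ⊔ F.core := fun y hy => by
    obtain ⟨a, ha, x, hx, rfl, -⟩ := hgf y hy
    exact Subgroup.mul_mem _ (Subgroup.mem_sup_right ha) (Subgroup.mem_sup_left hx)
  refine mapTo_ev_iff.mp ((hc.restrict hPX).congr' fun y hy => ?_)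
  obtain ⟨a, ha, x, hx, rfl, he⟩ := hgf y hy
  rw [he, hm.map_mul (Subgroup.mem_sup_right ha) (Subgroup.mem_sup_left hx)]
  have e1 : ev ψ a = a := (ev_apply ψ (Subgroup.mem_sup_right ha)).trans (hψQ ⟨a, ha⟩)
  have e2 : ev ψ x = f x :=
    (ev_apply ψ (Subgroup.mem_sup_left hx)).trans ((hψf ⟨x, hx⟩).trans (hφ₀f ⟨x, hx⟩))
  have e3 : g * f x = f x * g := d.comm hg (hf.mem hx)
  show _ = g * (ev ψ a * ev ψ x) * g⁻¹
  rw [e1, e2]
  symm
  calc g * (a * f x) * g⁻¹ = g * a * (f x * g⁻¹) := by group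
    _ = g * a * (g⁻¹ * f x) := by rw [← d.comm (F.core.inv_mem hg) (hf.mem hx)]
    _ = g * a * g⁻¹ * f x := by group

/-- The maps of the layer are maps of `D`. -/
theorem layer_sub (hS : IsPGroup p S) (hF : F.IsSaturated p) : E.IsSubsystemOf D := by
  intro P φ hφ
  obtain ⟨-, hext⟩ := isCentral_iff.mp (d.isCentral_inf hS hF)
  obtain ⟨k, hk, hkf, -⟩ := hext P _ (mapTo_ev hφ)
  obtain ⟨h, hh, hhk⟩ := d.mapTo_mul hS hF hk le_sup_right F.core.one_mem
  refine mapTo_ev_iff.mp ((hh.restrict (le_sup_left.trans le_sup_right)).congr' fun x hx => ?_)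
  have h1 := hhk 1 F.core.one_mem x (Subgroup.mem_sup_left hx)
  simp only [one_mul, inv_one] at h1
  rw [h1, hkf x hx]

/-- A subgroup of the centre of the base fixed by `D` is central in `D`. -/
theorem isCentral_of_centralized (hS : IsPGroup p S) (hF : F.IsSaturated p) (hY : Y ≤ U)
    (hYc : Y ≤ centralizerIn S U) (hYD : ∀ P : Subgroup Ω, D.Hom P ⊆ F.centralizerHom Y P) :
    D.IsCentral Y := by
  have hTS : T ≤ S := d.layer.1.1.2.2.2.1.1
  have := finite_of_le hTS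
  have hYU : ∀ y ∈ Y, ∀ u ∈ U, u * y = y * u := fun y hy u hu =>
    (mem_centralizerIn.mp (hYc hy)).2 u hu
  set B := pr₂ (preimageAlong d.θ Y) with hB
  have hmemB : ∀ b ∈ B, b ∈ T ∧ ∃ a ∈ F.core, a * b ∈ Y := by
    rintro _ ⟨⟨a, b⟩, hz, rfl⟩
    obtain ⟨hp, hz'⟩ := mem_preimageAlong.mp hz
    obtain ⟨ha, hb⟩ := Subgroup.mem_prod.mp hp
    exact ⟨hb, a, ha, d.th_mk ha hb ▸ hz'⟩
  have hBc : E.IsCentral B := by
    refine isCentral_of_fixed (hS.to_le hTS) d.layer.1.1.1 (fun b hb => ?_)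
      (fun P f hf hBP b hb => ?_)
    · obtain ⟨hbT, a, ha, hab⟩ := hmemB b hb
      refine mem_centralizerIn.mpr ⟨hbT, fun x hx => ?_⟩
      have h1 := hYU _ hab x (d.base_le hx)
      rw [← mul_assoc, ← d.comm ha hx, mul_assoc, mul_assoc] at h1
      exact mul_left_cancel h1
    · obtain ⟨hbT, a, ha, hab⟩ := hmemB b hb
      obtain ⟨-, hext⟩ := isCentral_iff.mp (d.isCentral_inf hS hF)
      obtain ⟨k, hk, hkf, -⟩ := hext P f hf
      obtain ⟨h, hh, hhk⟩ := d.mapTo_mul hS hF hk le_sup_right F.core.one_mem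
      have h1 := hhk a ha b (Subgroup.mem_sup_left (hBP hb))
      obtain ⟨φ, hφ, hφh⟩ := id hh
      obtain ⟨-, -, -, ψ, -, hψ, hψY⟩ := hYD _ hφ
      have hV : a * b ∈ F.core ⊔ (P ⊔ F.core ⊓ T) := Subgroup.mul_mem _ (Subgroup.mem_sup_left ha)
        (Subgroup.mem_sup_right (Subgroup.mem_sup_left (hBP hb)))
      have h2 := hψ ⟨a * b, hV⟩
      have he : (Subgroup.inclusion (le_sup_left : _ ≤ (F.core ⊔ (P ⊔ F.core ⊓ T)) ⊔ Y) ⟨a * b, hV⟩)
          = Subgroup.inclusion (le_sup_right : Y ≤ (F.core ⊔ (P ⊔ F.core ⊓ T)) ⊔ Y) ⟨a * b, hab⟩ :=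
        Subtype.ext rfl
      rw [he, hψY ⟨a * b, hab⟩, hφh ⟨a * b, hV⟩, h1] at h2
      rw [one_mul, inv_one, mul_one, hkf b (hBP hb)] at h2
      exact (mul_left_cancel h2).symm
  obtain ⟨-, hext⟩ := isCentral_iff.mp (isCentral_sup hBc (d.isCentral_inf hS hF))
  refine isCentral_iff.mpr ⟨hY, fun P h hh => ?_⟩
  obtain ⟨g, hg, X, f, hf, hgf⟩ := d.exists_of_mapTo hh
  obtain ⟨k, hk, hkf, hkB⟩ := hext X f hf
  obtain ⟨h', hh', hhk⟩ := d.mapTo_mul hS hF hk (le_sup_right.trans le_sup_right) hg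
  have hYpre : ∀ y ∈ Y, ∃ a ∈ F.core, ∃ b ∈ B, y = a * b := fun y hy => by
    obtain ⟨⟨a, b⟩, hz, rfl⟩ :=
      exists_preimage (θ := d.θ) (hY.trans d.factor.2.2.1.ge) hy
    obtain ⟨ha, hb⟩ := Subgroup.mem_prod.mp (mem_preimageAlong.mp hz).1
    exact ⟨a, ha, b, snd_mem_pr₂ hz, d.th_mk ha hb⟩
  have hle : P ⊔ Y ≤ F.core ⊔ (X ⊔ (B ⊔ F.core ⊓ T)) := by
    refine sup_le (fun y hy => ?_) fun y hy => ?_
    · obtain ⟨a, ha, x, hx, rfl, -⟩ := hgf y hy
      exact Subgroup.mul_mem _ (Subgroup.mem_sup_left ha)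
        (Subgroup.mem_sup_right (Subgroup.mem_sup_left hx))
    · obtain ⟨a, ha, b, hb, rfl⟩ := hYpre y hy
      exact Subgroup.mul_mem _ (Subgroup.mem_sup_left ha)
        (Subgroup.mem_sup_right (Subgroup.mem_sup_right (Subgroup.mem_sup_left hb)))
  refine ⟨h', hh'.restrict hle, fun y hy => ?_, fun y hy => ?_⟩
  · obtain ⟨a, ha, x, hx, rfl, he⟩ := hgf y hy
    rw [he, hhk a ha x (Subgroup.mem_sup_left hx), hkf x hx]
  · obtain ⟨a, ha, b, hb, rfl⟩ := hYpre y hy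
    rw [hhk a ha b (Subgroup.mem_sup_right (Subgroup.mem_sup_left hb)),
      hkB b (Subgroup.mem_sup_left hb)]
    have hga : g * a = a * g := by
      have h1 := hYU _ hy g (d.core_le hg)
      rw [mul_assoc, ← d.comm hg (hmemB b hb).1, ← mul_assoc, ← mul_assoc] at h1
      exact mul_right_cancel h1
    rw [hga, mul_inv_cancel_right]

/-- What is centralized by `D` lies in the core. -/
theorem le_core_of_centralized (hS : IsPGroup p S) (hF : F.IsSaturated p)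
    (hYc : Y ≤ centralizerIn S U) (hYD : ∀ P : Subgroup Ω, D.Hom P ⊆ F.centralizerHom Y P) :
    Y ≤ F.core := by
  have hEn := d.layer.1
  have hYT : Y ≤ centralizerIn S T := hYc.trans (centralizerIn_anti d.base_le)
  obtain ⟨W, hW, hEW, hWmax, -⟩ :=
    Components.CentralizerOfNormal.exists_centralizer hS hEn
  have hYW : Y ≤ W := hWmax Y hYT fun P φ hφ => hYD P (d.layer_sub hS hF P hφ)
  obtain ⟨N, hN, -⟩ :=
    Components.CentralizerSubsystem.exists_normal_over_centralizer hS hEn hW hEW hWmax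
  have := finite_of_le (hW.trans centralizerIn_le)
  have hWp := hS.to_le (hW.trans centralizerIn_le : W ≤ S)
  have hNc : N.IsConstrained p := by
    refine (isConstrained_iff_no_component hWp hN.1.1).mpr ?_
    rintro ⟨V, C, hC, hCq⟩
    obtain ⟨φ, hφ, -⟩ := mapTo_id C (le_refl V)
    have hVT : V ≤ T := (E.le_of_mem (d.layer.2.1 V C ⟨hC.step hN, hCq⟩ V hφ)).1
    have hVW : V ≤ W := IsSubnormalIn.le hC
    have := finite_of_le hVW
    refine Cfsg.Agent.S5148.result p (hWp.to_le hVW) C hCq ⟨⟨fun a b => Subtype.ext ?_⟩⟩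
    exact ((mem_centralizerIn.mp (hW (hVW b.2))).2 a (hVT a.2))
  refine fun y hy => centralizerIn_core_le_of_normal hS hN hNc
    (mem_centralizerIn.mpr ⟨hYW hy, fun q hq => ?_⟩)
  exact (mem_centralizerIn.mp (hYc hy)).2 q (d.core_le hq)

end FittingData

/-- The centre of the generalized Fitting subsystem is what it centralizes. -/
theorem fitting_center [Finite S] [Fact p.Prime] (hS : IsPGroup p S) (hF : F.IsSaturated p)
    (hD : D.IsGeneralizedFittingOf F p) :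
    (D.center ≤ centralizerIn S U ∧ ∀ P : Subgroup Ω, D.Hom P ⊆ F.centralizerHom D.center P) ∧
      ∀ Y : Subgroup Ω, Y ≤ centralizerIn S U →
        (∀ P : Subgroup Ω, D.Hom P ⊆ F.centralizerHom Y P) → Y ≤ D.center := by
  obtain ⟨T, E, ⟨d⟩⟩ := exists_fittingData hD
  have hUS := d.le_S
  have := finite_of_le hUS
  have hc := isCentral_center D
  have hZU : D.center ≤ centralizerIn S U := fun z hz => mem_centralizerIn.mpr
    ⟨hUS (hc.1 hz), Subgroup.mem_centralizer_iff.mp (FusionSystem.center_le_centralizer D hz)⟩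
  have hUZ : ∀ u ∈ U, u ∈ centralizerIn S D.center := fun u hu =>
    mem_centralizerIn.mpr ⟨hUS hu, fun z hz => ((mem_centralizerIn.mp (hZU hz)).2 u hu).symm⟩
  have hsub := d.isSubsystemOf hS hF
  refine ⟨⟨hZU, fun P φ hφ => ?_⟩, fun Y hY hYD => ?_⟩
  · obtain ⟨hP, hφU⟩ := D.le_of_mem hφ
    obtain ⟨ψ, hψ, h1, h2⟩ := hc.2 P φ hφ
    exact ⟨hsub P hφ, fun x hx => hUZ x (hP hx), fun x => hUZ _ (hφU x), ψ, hsub _ hψ, h1, h2⟩
  · have hYQ := d.le_core_of_centralized hS hF hY hYD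
    exact le_sSup (d.isCentral_of_centralized hS hF (hYQ.trans d.core_le) hY hYD)

end Cfsg.Agent.Fusion
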