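import Cfsg.Agent.Lib.Fusion.Invariant
import Cfsg.Agent.Lib.Fusion.Hyperfocal
import Cfsg.Agent.Lib.Fusion.NormalizerSaturated
import Cfsg.Agent.Lib.Fusion.AlperinStrong
import Cfsg.Agent.Lib.Fusion.NormalCriteria
import Cfsg.Agent.Lib.Fusion.Generation
import Cfsg.Agent.Lib.Fusion.ModelNormalSubsystem

/-!
For a normal subsystem `E` over `T` of `F`, the focal subgroup of `C_F(T)` centralizes `E`.
-/

set_option autoImplicit false
set_option linter.style.haveILetI false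

namespace Cfsg.Agent.Fusion

open Cfsg.FusionSystem (centralizerIn normalizerIn)

universe u

variable {Ω : Type u} [Group Ω] {S T P : Subgroup Ω} {F : FusionSystem S} {p : ℕ}
  [Finite S] [Fact p.Prime]

/-- An automorphism of `P ⊔ C_S(P)` of order prime to `p` acting trivially on `C_S(P)` modulo `P`
fixes the focal subgroup of `C_F(P)`. -/
theorem focal_fixed (hS : IsPGroup p S) (hF : F.IsSaturated p) (hP : F.IsFullyCentralized P)
    {Q : Subgroup Ω} (hQdef : Q = P ⊔ centralizerIn S P) {θ : MulAut Q} (hθ : θ ∈ F.autGroup Q)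
    (hcop : (orderOf θ).Coprime p) (hθP : ∀ x ∈ P, autFun θ x ∈ P)
    (hθC : ∀ c ∈ centralizerIn S P, c⁻¹ * autFun θ c ∈ P)
    {R : Subgroup Ω} {f : Ω → Ω} (hf : MapTo (cSys F hP.1) R f) {x : Ω} (hx : x ∈ R) :
    autFun θ (x⁻¹ * f x) = x⁻¹ * f x := by
  set C := centralizerIn S P with hCdef
  have hPS : P ≤ S := hP.1
  have hPQ : P ≤ Q := hQdef ▸ le_sup_left
  have hCQ : C ≤ Q := hQdef ▸ le_sup_right
  have hQS : Q ≤ S := hQdef ▸ sup_le hPS centralizerIn_le
  haveI := finite_of_le hPS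
  haveI := finite_of_le hQS
  haveI : Finite C := finite_of_le centralizerIn_le
  have hm : MapTo F Q (autFun θ) := mapTo_of_mem_autGroup hQS hθ
  have himgP : img (autFun θ) P = P := img_eq_self_of_forall (hm.restrict hPQ) hθP
  have hCmem : ∀ c ∈ C, autFun θ c ∈ C := fun c hc => mem_centralizerIn.mpr
    ⟨hm.mem (hCQ hc), fun y hy => by
      obtain ⟨x₀, hx₀, rfl⟩ := (hm.mem_img_iff hPQ).mp (himgP.ge hy)
      rw [← hm.map_mul (hPQ hx₀) (hCQ hc), ← hm.map_mul (hCQ hc) (hPQ hx₀),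
        (mem_centralizerIn.mp hc).2 x₀ hx₀]⟩
  set z : Ω → Ω := fun c => c⁻¹ * autFun θ c with hzdef
  have hzP : ∀ {c}, c ∈ C → z c ∈ P := fun hc => hθC _ hc
  have hzC : ∀ {c}, c ∈ C → z c ∈ C := fun hc => C.mul_mem (C.inv_mem hc) (hCmem _ hc)
  have hcomm : ∀ {v c : Ω}, v ∈ P → c ∈ C → v * c = c * v :=
    fun hv hc => (mem_centralizerIn.mp hc).2 _ hv
  have hzmul : ∀ {a b}, a ∈ C → b ∈ C → z (a * b) = z a * z b := by
    intro a b ha hb
    have h1 := hcomm (hzP ha) hb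
    show (a * b)⁻¹ * autFun θ (a * b) = z a * z b
    rw [hm.map_mul (hCQ ha) (hCQ hb)]
    calc (a * b)⁻¹ * (autFun θ a * autFun θ b) = b⁻¹ * (z a * b) * z b := by
          simp only [hzdef]; group
      _ = z a * z b := by rw [h1]; group
  have hz1 : z 1 = 1 := by simp [hzdef, hm.map_one]
  have hzinv : ∀ {a}, a ∈ C → z a⁻¹ = (z a)⁻¹ := fun {a} ha => by
    apply eq_inv_of_mul_eq_one_left
    rw [← hzmul (C.inv_mem ha) ha, inv_mul_cancel, hz1]
  have hzcomm : ∀ {a b}, a ∈ C → b ∈ C → z a * z b = z b * z a :=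
    fun ha hb => hcomm (hzP ha) (hzC hb)
  -- fixed values are trivial
  have hfix1 : ∀ {c}, c ∈ C → autFun θ (z c) = z c → z c = 1 := by
    intro c hc hfx
    have hzk : ∀ i : ℕ, autFun θ (z c ^ i) = z c ^ i := by
      intro i
      induction i with
      | zero => rw [pow_zero, hm.map_one]
      | succ i ihi =>
        rw [pow_succ, hm.map_mul (Q.pow_mem (hPQ (hzP hc)) i) (hPQ (hzP hc)), hfx, ihi]
    have hpow : ∀ k : ℕ, autFun (θ ^ k) c = c * z c ^ k := by
      intro k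
      induction k with
      | zero => rw [pow_zero, pow_zero, mul_one, autFun_one (hCQ hc)]
      | succ k ih =>
        have hv : autFun θ (z c ^ k) = z c ^ k := hzk k
        rw [pow_succ' θ, autFun_mul _ _ (hCQ hc), ih,
          hm.map_mul (hCQ hc) (Q.pow_mem (hPQ (hzP hc)) k), hv, pow_succ', ← mul_assoc]
        congr 1
        simp [hzdef]
    have h1 := hpow (orderOf θ)
    rw [pow_orderOf_eq_one, autFun_one (hCQ hc), left_eq_mul] at h1
    obtain ⟨e, he⟩ := hS ⟨z c, hPS (hzP hc)⟩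
    have he' : z c ^ p ^ e = 1 := congrArg Subtype.val he
    exact Transfer.eq_one_of_pow_of_coprime (p := p) ⟨e, orderOf_dvd_of_pow_eq_one he'⟩
      (Nat.Coprime.coprime_dvd_left (orderOf_dvd_of_pow_eq_one h1) hcop)
  -- `z` is constant along the maps of `C_F(P)`
  have hD := isCentralizerSystem_cSys F hP.1
  have hDs := isSaturated_centralizerSystem hS hF hP hD
  have hCp : IsPGroup p C := hS.to_le centralizerIn_le
  suffices key : ∀ {R : Subgroup Ω} {f : Ω → Ω}, MapTo (cSys F hP.1) R f →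
      ∀ x ∈ R, z (f x) = z x by
    have hxC : x ∈ C := hf.le hx
    have h1 : z (x⁻¹ * f x) = 1 := by
      rw [hzmul (C.inv_mem hxC) (hf.mem hx), hzinv hxC, key hf x hx, inv_mul_cancel]
    exact (inv_mul_eq_one.mp h1).symm
  intro R f hf
  refine alperin_prop hCp hDs (fun R f => ∀ x ∈ R, z (f x) = z x)
    (fun _ hC hfg x hx => by rw [hfg x hx]; exact hC x hx)
    (fun {R g} hR hg x hx => ?_) (fun {R R' f g} _ _ hfR h₁ h₂ x hx => ?_)
    (fun {R f g} hf' _ hgf h₁ y hy => ?_) (fun R hR α hα => ?_) hf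
  · have hxC := hR hx
    show z (g * x * g⁻¹) = z x
    rw [hzmul (C.mul_mem hg hxC) (C.inv_mem hg), hzmul hg hxC, hzinv hg, hzcomm hg hxC]
    group
  · exact (h₂ _ (hfR x hx)).trans (h₁ x hx)
  · obtain ⟨x, hx, rfl⟩ := (hf'.mem_img_iff le_rfl).mp hy
    rw [hgf x hx]; exact (h₁ x hx).symm
  have hRC : R ≤ C := by
    rcases hR with rfl | h
    · exact le_rfl
    · exact h.1.1
  haveI := finite_of_le hRC
  haveI := finite_mulAut R
  have hfn : (cSys F hP.1).IsFullyNormalized R := by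
    rcases hR with rfl | h
    · exact isFullyNormalized_top
    · exact h.2.1
  have hcen : C ⊓ P ≤ R := by
    rcases hR with rfl | h
    · exact inf_le_left
    · exact fun v hv => centralizerIn_le_of_isCentric h.1 (mem_centralizerIn.mpr
        ⟨hv.1, fun y hy => (hcomm hv.2 (hRC hy)).symm⟩)
  have hzR : ∀ {w}, w ∈ R → z w ∈ R := fun hw => hcen ⟨hzC (hRC hw), hzP (hRC hw)⟩
  have hθR : ∀ w ∈ R, autFun θ w ∈ R := fun w hw => by
    have := R.mul_mem hw (hzR hw)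
    simpa [hzdef] using this
  have hαm := mapTo_of_mem_autGroup hRC hα
  obtain ⟨-, -, g, hg, hgα, hgP⟩ := (mapTo_cSys_iff hD).mp hαm
  have hRP : R ⊔ P ≤ Q := sup_le (hRC.trans hCQ) hPQ
  haveI : Finite ↥(R ⊔ P) := finite_of_le (hRP.trans hQS)
  have hθRP : img (autFun θ) (R ⊔ P) = R ⊔ P := by
    rw [(hm.restrict hRP).img_sup le_sup_left le_sup_right,
      img_eq_self_of_forall ((hm.restrict hRP).restrict le_sup_left) hθR,
      img_eq_self_of_forall ((hm.restrict hRP).restrict le_sup_right) hθP]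
  have hgRP : img g (R ⊔ P) = R ⊔ P := by
    rw [hg.img_sup le_sup_left le_sup_right, img_congr (f := g) (P := P) hgP, img_id,
      img_congr (f := g) (P := R) hgα, img_autFun]
  obtain ⟨k, hk, hkθ, -, -⟩ := (hm.restrict hRP).exists_iso_inverse
  rw [hθRP] at hk
  have hkmem : ∀ y ∈ R ⊔ P, k y ∈ R ⊔ P := fun y hy => by
    obtain ⟨w, hw, rfl⟩ := ((hm.restrict hRP).mem_img_iff le_rfl).mp (hθRP.ge hy)
    rw [hkθ w hw]; exact hw
  have hgmem : ∀ y ∈ R ⊔ P, g y ∈ R ⊔ P := fun y hy => hgRP.le (mem_img_of_mem hy)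
  set h := fun y => autFun θ (g (k y)) with hh
  have hhm : MapTo F (R ⊔ P) h :=
    (hk.comp hg hkmem).comp (hm.restrict hRP) fun y hy => hgmem _ (hkmem y hy)
  have hθhR : ∀ w ∈ R, ∃ u ∈ R, autFun θ u = w := fun w hw => by
    obtain ⟨u, hu, hue⟩ := (((hm.restrict hRP).restrict le_sup_left).mem_img_iff le_rfl).mp
      ((img_eq_self_of_forall ((hm.restrict hRP).restrict le_sup_left) hθR).ge hw)
    exact ⟨u, hu, hue⟩
  have hhR : ∀ w ∈ R, h w ∈ R := fun w hw => by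
    obtain ⟨u, hu, rfl⟩ := hθhR w hw
    show autFun θ (g (k (autFun θ u))) ∈ R
    rw [hkθ u ((le_sup_left : R ≤ R ⊔ P) hu), hgα u hu]
    exact hθR _ (autFun_mem α hu)
  have hhP : ∀ v ∈ P, h v = v := fun v hv => by
    obtain ⟨u, hu, rfl⟩ := (hm.mem_img_iff hPQ).mp (himgP.ge hv)
    show autFun θ (g (k (autFun θ u))) = _
    rw [hkθ u ((le_sup_right : P ≤ R ⊔ P) hu), hgP u hu]
  have hhD : MapTo (cSys F hP.1) R h :=
    (mapTo_cSys_iff hD).mpr ⟨hRC, fun w hw => hRC (hhR w hw), h, hhm, fun _ _ => rfl, hhP⟩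
  set c : Ω → Ω := fun w => (z w)⁻¹ * z (autFun α w) with hcdef
  have hcC : ∀ {w}, w ∈ R → c w ∈ C ⊓ P := fun hw =>
    Subgroup.mul_mem _ (Subgroup.inv_mem _ ⟨hzC (hRC hw), hzP (hRC hw)⟩)
      ⟨hzC (hRC (autFun_mem α hw)), hzP (hRC (autFun_mem α hw))⟩
  have hαfix : ∀ v ∈ C ⊓ P, autFun α v = v := fun v hv => by
    rw [← hgα v (hcen hv), hgP v hv.2]
  have hval : ∀ w ∈ R, h w = autFun α (w * c w) := by
    intro w hw
    obtain ⟨u, hu, rfl⟩ := hθhR w hw
    have hw' : autFun θ u = u * z u := by simp [hzdef]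
    have hzu : z u ∈ C ⊓ P := ⟨hzC (hRC hu), hzP (hRC hu)⟩
    have hc : c (autFun θ u) = c u := by
      show (z (autFun θ u))⁻¹ * z (autFun α (autFun θ u)) = (z u)⁻¹ * z (autFun α u)
      rw [hw', hαm.map_mul hu (hcen hzu), hαfix _ hzu, hzmul (hRC hu) hzu.1,
        hzmul (hRC (autFun_mem α hu)) hzu.1, hzcomm (hRC hu) hzu.1,
        hzcomm (hRC (autFun_mem α hu)) hzu.1]
      group
    show autFun θ (g (k (autFun θ u))) = autFun α (autFun θ u * c (autFun θ u))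
    rw [hkθ u ((le_sup_left : R ≤ R ⊔ P) hu), hgα u hu, hc, hw',
      hαm.map_mul (R.mul_mem hu (hcen hzu)) (hcen (hcC hu)), hαm.map_mul hu (hcen hzu),
      hαfix _ hzu, hαfix _ (hcC hu), hcdef]
    simp [hzdef, mul_assoc]
  have himgh : img h R = R := img_eq_self_of_forall (hhm.restrict le_sup_left) hhR
  set δ : MulAut R := α⁻¹ * autOf hhD himgh with hδdef
  have hδv : ∀ w ∈ R, autFun δ w = w * c w := fun w hw => by
    rw [hδdef, autFun_mul _ _ hw, autFun_autOf hhD himgh hw, hval w hw,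
      autFun_inv_autFun α (R.mul_mem hw (hcen (hcC hw)))]
  have hδA : δ ∈ (cSys F hP.1).autGroup R :=
    Subgroup.mul_mem _ (Subgroup.inv_mem _ hα) (autOf_mem hhD himgh)
  have hcfix : ∀ v ∈ C ⊓ P, c v = 1 := fun v hv => by
    show (z v)⁻¹ * z (autFun α v) = 1
    rw [hαfix v hv, inv_mul_cancel]
  haveI : Finite ↥(C ⊓ P) := finite_of_le (inf_le_right.trans hPS : C ⊓ P ≤ S)
  have hδpow : δ ^ Nat.card ↥(C ⊓ P) = 1 := pow_card_eq_one_of_fix hcen
    (fun v hv => by rw [hδv v (hcen hv), hcfix v hv, mul_one])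
    (fun w hw => by rw [hδv w hw, inv_mul_cancel_left]; exact hcC hw)
  obtain ⟨e, he⟩ := IsPGroup.iff_card.mp (hS.to_le (inf_le_right.trans hPS : C ⊓ P ≤ S))
  rw [he] at hδpow
  have hδp : IsPGroup p (Subgroup.zpowers δ) := by
    obtain ⟨i, -, hi⟩ := (Nat.dvd_prime_pow Fact.out).mp (orderOf_dvd_of_pow_eq_one hδpow)
    exact IsPGroup.of_card (n := i) ((Nat.card_zpowers δ).trans hi)
  obtain ⟨γ, hγ, hγc⟩ := exists_conj_le_autInducedBy
    (isFullyAutomized_of_isFullyNormalized hCp hDs hfn) (Subgroup.zpowers_le.mpr hδA) hδp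
  obtain ⟨s, hs, hsx⟩ := mem_autInducedBy_iff_cj.mp (hγc δ (Subgroup.mem_zpowers δ))
  have hγm := mapTo_of_mem_autGroup hRC hγ
  obtain ⟨-, -, gγ, -, hgγ, hgγP⟩ := (mapTo_cSys_iff hD).mp hγm
  intro w hw
  have h1 := hsx _ (autFun_mem γ hw)
  rw [autFun_mul _ _ (autFun_mem γ hw), autFun_inv_autFun γ hw, autFun_mul _ _ hw, hδv w hw,
    hγm.map_mul hw (hcen (hcC hw)), ← hgγ _ (hcen (hcC hw)), hgγP _ (hcC hw).2, cj_apply] at h1
  have hy : autFun γ w ∈ C := hRC (autFun_mem γ hw)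
  have h2 : c w = (autFun γ w)⁻¹ * (s * autFun γ w * s⁻¹) := by rw [← h1]; group
  have hzc : z (c w) = 1 := by
    rw [h2, hzmul (C.inv_mem hy) (C.mul_mem (C.mul_mem hs hy) (C.inv_mem hs)),
      hzmul (C.mul_mem hs hy) (C.inv_mem hs), hzmul hs hy, hzinv hy, hzinv hs, hzcomm hs hy]
    group
  have hcfx : autFun θ (c w) = c w := (inv_mul_eq_one.mp hzc).symm
  have hcz : c w = z (w⁻¹ * autFun α w) := by
    rw [hzmul (C.inv_mem (hRC hw)) (hRC (autFun_mem α hw)), hzinv (hRC hw)]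
  have h3 := hfix1 (C.mul_mem (C.inv_mem (hRC hw)) (hRC (autFun_mem α hw))) (by rw [← hcz]; exact hcfx)
  rw [← hcz] at h3
  exact (inv_mul_eq_one.mp h3).symm

end Cfsg.Agent.Fusion
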