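import Cfsg.Agent.Lib.Fusion.Transfer

/-!
A descending chain bounding the fusion inside its members forces the inner system.
-/

set_option autoImplicit false

namespace Cfsg.Agent.Fusion

open Cfsg.FusionSystem (centralizerIn normalizerIn)

universe u

variable {Ω : Type u} [Group Ω] {S : Subgroup Ω} {F : FusionSystem S} {p : ℕ}

theorem hyperfocal_le_step [Finite S] [Fact p.Prime] (hS : IsPGroup p S) {D : Subgroup Ω}
    (hD : ∀ (P : Subgroup Ω) (f : Ω → Ω), MapTo F P f →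
      ∀ x ∈ P, x ∈ F.hyperfocalSubgroup p → x⁻¹ * f x ∈ D) :
    F.hyperfocalSubgroup p ≤ D := by
  refine hyperfocal_le_iff.mpr fun P hP => oP_induction
    (C := fun α => ∀ x ∈ P, x⁻¹ * autFun α x ∈ D) ?_ ?_ ?_ ?_
  · intro x hx
    rw [autFun_one hx, inv_mul_cancel]
    exact D.one_mem
  · intro a b _ _ ha hb x hx
    have h1 := D.mul_mem (hb x hx) (ha _ (autFun_mem b hx))
    rw [autFun_mul _ _ hx]
    rwa [mul_assoc, mul_inv_cancel_left] at h1
  · intro a _ ha x hx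
    have h1 := D.inv_mem (ha _ (autFun_mem a⁻¹ hx))
    rwa [autFun_autFun_inv a hx, mul_inv_rev, inv_inv] at h1
  intro α hα hcop x hx
  set T := P ⊓ F.hyperfocalSubgroup p with hT
  have hTP : T ≤ P := inf_le_left
  have hpowm := fun n : ℕ => mapTo_of_mem_autGroup hP (Subgroup.pow_mem _ hα n)
  have hTinv : ∀ (n : ℕ), ∀ y ∈ T, autFun (α ^ n) y ∈ T := fun n y hy => by
    refine ⟨autFun_mem _ hy.1, ?_⟩
    have h1 := Subgroup.mul_mem _ hy.2
      (mem_hyperfocal hP (Subgroup.pow_mem _ (mem_oP_of_coprime hα hcop) n) hy.1)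
    rwa [mul_inv_cancel_left] at h1
  set W := Subgroup.closure {z : Ω | ∃ y ∈ T, ∃ n : ℕ, z = y⁻¹ * autFun (α ^ n) y} with hW
  have hWD : W ≤ D := by
    refine (Subgroup.closure_le _).mpr ?_
    rintro _ ⟨y, hy, n, rfl⟩
    exact hD P _ (hpowm n) y hy.1 hy.2
  have hWP : W ≤ P := by
    refine (Subgroup.closure_le _).mpr ?_
    rintro _ ⟨y, hy, n, rfl⟩
    exact P.mul_mem (P.inv_mem hy.1) (autFun_mem _ hy.1)
  have hnorm : ∀ u ∈ T, ∀ w ∈ W, u * w * u⁻¹ ∈ W := by
    intro u hu w hw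
    have hle : W ≤ W.comap (MulAut.conj u).toMonoidHom := by
      refine (Subgroup.closure_le _).mpr ?_
      rintro _ ⟨y, hy, n, rfl⟩
      show u * (y⁻¹ * autFun (α ^ n) y) * u⁻¹ ∈ W
      have h1 : (y * u⁻¹)⁻¹ * autFun (α ^ n) (y * u⁻¹) ∈ W :=
        Subgroup.subset_closure ⟨_, T.mul_mem hy (T.inv_mem hu), n, rfl⟩
      have h2 : (u⁻¹)⁻¹ * autFun (α ^ n) u⁻¹ ∈ W :=
        Subgroup.subset_closure ⟨_, T.inv_mem hu, n, rfl⟩
      have h3 := W.mul_mem h1 (W.inv_mem h2)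
      rw [(hpowm n).map_mul hy.1 (P.inv_mem hu.1)] at h3
      convert h3 using 1
      group
    exact hle hw
  set d := x⁻¹ * autFun α x with hd
  have hdT : d ∈ T := ⟨P.mul_mem (P.inv_mem hx) (autFun_mem α hx),
    mem_hyperfocal hP (mem_oP_of_coprime hα hcop) hx⟩
  have hstep : ∀ n : ℕ, (d ^ n)⁻¹ * (x⁻¹ * autFun (α ^ n) x) ∈ W := by
    intro n
    induction n with
    | zero => simp [autFun_one hx, W.one_mem]
    | succ n ih =>
      have hsplit : autFun (α ^ (n + 1)) x = autFun (α ^ n) x * autFun (α ^ n) d := by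
        rw [← (hpowm n).map_mul hx hdT.1, hd, mul_inv_cancel_left, pow_succ, autFun_mul _ _ hx]
      have h1 : d⁻¹ * autFun (α ^ n) d ∈ W := Subgroup.subset_closure ⟨d, hdT, n, rfl⟩
      have h2 := hnorm _ (T.inv_mem hdT) _ ih
      rw [inv_inv] at h2
      have h3 := W.mul_mem h2 h1
      convert h3 using 1
      rw [hsplit, pow_succ]
      group
  have h1 := W.inv_mem (hstep (orderOf α))
  rw [pow_orderOf_eq_one, autFun_one hx, inv_mul_cancel, mul_one, inv_inv] at h1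
  refine hWD ?_
  obtain ⟨i, hi⟩ := (hS.to_le hP) ⟨d, hdT.1⟩
  have hcop' : (orderOf α).Coprime (orderOf d) :=
    (hcop.pow_right i).coprime_dvd_right (orderOf_dvd_of_pow_eq_one (congrArg Subtype.val hi))
  obtain ⟨e, he⟩ := exists_pow_eq_self_of_coprime hcop'
  rw [← he]
  exact W.pow_mem h1 e

end Cfsg.Agent.Fusion
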