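import Cfsg.Agent.S5197
import Cfsg.Agent.Lib.ConjFunctor.KConsequences
import Cfsg.Agent.Lib.Fusion.CentralQuotient
import Cfsg.Agent.Lib.Fusion.InnerCriteria
import Cfsg.Agent.Lib.Fusion.Invariant

/-!
For `p ≥ 5` a saturated system whose automizer of `S` is a `p`-group has proper focal subgroup.
-/

set_option autoImplicit false

namespace Cfsg.Agent.Fusion

open Cfsg.FusionSystem (centralizerIn normalizerIn imageAlong preimageAlong)

universe u

theorem focal_lt_of_five (p : ℕ) [Fact p.Prime] (h5 : 5 ≤ p) : ∀ (n : ℕ) (Ω : Type u) [Group Ω]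
    (S : Subgroup Ω) [Finite S], Nat.card S ≤ n → IsPGroup p S → ∀ F : FusionSystem S,
    F.IsSaturated p → S ≠ ⊥ → IsPGroup p (F.autGroup S) → F.focalSubgroup < S := by
  intro n
  induction n with
  | zero => intro Ω _ S _ hn; exact absurd Nat.card_pos (not_lt.mpr hn)
  | succ n ih =>
  intro Ω _ S _ hn hS F hF hS1 haut
  have hW := (ConjFunctor.isCharPFunctor_kInf.{u} p).2
  have hfoc := Cfsg.Agent.S5197.main (p := p) Cfsg.kInfUpper hW.1 hW.2 (fun G _ _ P _ => by
    have h := ConjFunctor.transfer_eq_of_five hW ConjFunctor.hasElement_upper h5 P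
    rw [Subgroup.map_subtype_commutator]
    have hle : Cfsg.pCore p G ≤ (P : Subgroup G) := Cfsg.Agent.ConjFunctor.pCore_le_sylow P
    change Cfsg.pCore p G ⊓ commutator G = Cfsg.pCore p G ⊓
      ⁅Subgroup.normalizer ((Cfsg.inducedFunctor Cfsg.kInfUpper (P : Subgroup G) : Subgroup G) : Set G),
        Subgroup.normalizer ((Cfsg.inducedFunctor Cfsg.kInfUpper (P : Subgroup G) : Subgroup G) : Set G)⁆
    conv_lhs => rw [← inf_eq_left.mpr hle, inf_assoc, h, ← inf_assoc, inf_eq_left.mpr hle]) _ _ F rfl rfl hS hF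
  set W := functorIn Cfsg.kInfUpper S with hWdef
  have hWS : W ≤ S := functorIn_le Cfsg.kInfUpper S
  set N := nSys F (functorIn_le Cfsg.kInfUpper S)
  have hN : F.IsNormalizerSystem W N := isNormalizerSystem_nSys F hWS
  have hle : F.focalSubgroup ≤ N.focalSubgroup := focal_le_iff.mpr hfoc
  have hNS : normalizerIn S W = S := le_antisymm normalizerIn_le
    ((le_normalizerIn le_rfl).trans
      (Cfsg.Agent.S5197.normalizerIn_functorIn_le Cfsg.kInfUpper hW.2 F hS le_rfl))
  have := (Subgroup.nontrivial_iff_ne_bot S).mpr hS1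
  by_cases hWtop : W = S
  · -- `S` is normal in `N`
    have hD : ⁅S, S⁆ < S := by
      have := hS.isNilpotent
      refine lt_of_le_of_ne (Subgroup.commutator_le_self S) fun he => ?_
      have h1 : ∀ i, Subgroup.lowerCentralSeries (⊤ : Subgroup S) i = ⊤ := by
        intro i
        induction i with
        | zero => exact Subgroup.lowerCentralSeries_zero _
        | succ i ihi =>
          rw [Subgroup.lowerCentralSeries_succ, ihi]
          apply Subgroup.map_injective S.subtype_injective
          rw [Subgroup.map_commutator, ← MonoidHom.range_eq_map, Subgroup.range_subtype, he]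
      obtain ⟨m, hm⟩ := (Subgroup.isNilpotent_iff_lowerCentralSeries (⊤ : Subgroup S)).mp
        (inferInstance : Group.IsNilpotent (⊤ : Subgroup S))
      rw [h1 m] at hm
      exact top_ne_bot hm
    refine lt_of_le_of_lt (hle.trans (focal_le_iff.mpr fun P f hf x hx => ?_)) hD
    obtain ⟨hP, -, g, hg, hgf, hgW⟩ := (mapTo_nSys_iff hN).mp hf
    have hgS : MapTo F S g := (hg.restrict le_sup_right).restrict hWtop.ge
    have himg : img g S = S := img_eq_self_of_forall hgS fun z hz => hgS.mem hz
    obtain ⟨k, hk, hkx⟩ := mem_autInducedBy_iff_cj.mp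
      (autGroup_le_autInducedBy hS hF isFullyNormalized_top haut (autOf_mem hgS himg))
    have hxS : x ∈ S := normalizerIn_le (hP hx)
    have h1 := hkx x hxS
    rw [autFun_autOf hgS himg hxS, hgf x hx, cj_apply] at h1
    rw [h1]
    have h2 := Subgroup.commutator_mem_commutator (S.inv_mem hxS) hk
    convert h2 using 1
    simp [commutatorElement_def, mul_assoc]
  -- the quotient by `W`
  have hW0 : W ≠ ⊥ := fun h => hW.1 ↥S hS inferInstance
    ((Subgroup.map_eq_bot_iff_of_injective _ S.subtype_injective).mp h)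
  have : Finite (normalizerIn S W) := finite_of_le normalizerIn_le
  have hTp : IsPGroup p (normalizerIn S W) := hS.to_le normalizerIn_le
  have hNsat : N.IsSaturated p := isSaturated_normalizerSystem hS hF
    (isFullyNormalized_of_normal hWS (fun s hs => (hNS.ge hs).2)) hN
  have hWn := isNormal_normalizerSystem hWS hN
  obtain ⟨Ω', _, S', θ, E, hmor, hker, hEsat, _, hS'p, hlt⟩ :=
    exists_quotient hTp hNsat (IsNormal.stronglyClosed hWn)
  have hNaut : IsPGroup p (N.autGroup (normalizerIn S W)) := by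
    have key : ∀ (T : Subgroup Ω) (E : FusionSystem T), T = S → E.IsSubsystemOf F →
        IsPGroup p (E.autGroup T) := by
      rintro T E rfl hsub
      exact haut.to_le fun α hα => (mem_autGroup_iff le_rfl).mpr
        (IsSubsystemOf.mapTo hsub (mapTo_of_mem_autGroup le_rfl hα))
    exact key _ _ hNS fun P φ hφ => hφ.1
  have hkle : kerIn θ ≤ normalizerIn S W := kerIn_le
  have hEaut : IsPGroup p (E.autGroup S') := by
    obtain ⟨Φ, hΦ⟩ := IsMorphism.exists_autHom hmor.1 (le_refl (normalizerIn S W))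
    have himg : imageAlong θ (normalizerIn S W) = S' := by
      rw [← hmor.2.1]
      refine le_antisymm imageAlong_le_range ?_
      rintro _ ⟨s, rfl⟩
      exact (mem_imageAlong le_rfl).mpr ⟨s, s.2, th_coe θ s⟩
    have h1 := hNaut.of_surjective Φ (autHom_surjective hmor le_rfl hkle hΦ)
    rwa [himg] at h1
  have hS'1 : S' ≠ ⊥ := by
    intro hb
    refine hWtop (le_antisymm hWS fun s hs => ?_)
    have h1 : th θ s ∈ S' := hmor.2.1 ▸ th_mem_range θ s
    rw [hb, Subgroup.mem_bot] at h1
    exact hker ▸ mem_kerIn.mpr ⟨hNS.ge hs, h1⟩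
  have hlt' := ih Ω' S' (by
    have h2 := hlt hW0
    rw [hNS] at h2
    omega) hS'p E hEsat hS'1 hEaut
  obtain ⟨y, hy, hyn⟩ := SetLike.exists_of_lt hlt'
  obtain ⟨x, hx, rfl⟩ := exists_th_eq (hmor.2.1.symm ▸ hy : y ∈ θ.range)
  have hfle : F.focalSubgroup ≤ preimageAlong θ E.focalSubgroup := by
    refine hle.trans (focal_le_iff.mpr fun P f hf z hz => ?_)
    obtain ⟨f', hf', hff⟩ := IsMorphism.exists_map hmor.1 hf
    refine mem_preimageAlong.mpr ⟨mul_mem (inv_mem (hf.le hz)) (hf.mem hz), ?_⟩
    rw [th_mul θ (inv_mem (hf.le hz)) (hf.mem hz), th_inv θ (hf.le hz), ← hff z hz]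
    exact mem_focal hf' (th_mem_imageAlong hf.le hz)
  refine lt_of_le_of_ne (hfle.trans (preimageAlong_le.trans normalizerIn_le)) fun he => hyn ?_
  exact (mem_preimageAlong.mp (hfle (he.ge (normalizerIn_le hx)))).2

end Cfsg.Agent.Fusion
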