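import Cfsg.Agent.Lib.Fusion.KModel
import Cfsg.Agent.Lib.Fusion.CoreDecomp

/-!
# Section-freeness of the subsystem acting on a normal subgroup as elements of `S`
-/

set_option autoImplicit false

namespace Cfsg.Agent.Fusion

open Cfsg.FusionSystem (centralizerIn normalizerIn)

universe u v

variable {Ω : Type u} [Group Ω] {S : Subgroup Ω} {F : FusionSystem S} {Q : Subgroup Ω} {p : ℕ}

/-- The system of maps acting on a normal subgroup as elements of `S` inherits section-freeness. -/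
theorem isSectionFree_innerOnSys [Finite S] [Fact p.Prime] (hS : IsPGroup p S)
    (hF : F.IsSaturated p) (hQ : F.IsNormal Q) {E : FusionSystem S}
    (hE : ∀ P f, MapTo E P f ↔ P ≤ S ∧ (∀ x ∈ P, f x ∈ S) ∧
      ∃ g, MapTo F (P ⊔ Q) g ∧ (∀ x ∈ P, g x = f x) ∧ InK (autInducedBy S Q) g)
    {H : Type v} [Group H] (hH : F.IsSectionFree p H) : E.IsSectionFree p H := by
  set K := autInducedBy S Q
  have hn := IsNormal.le_normalizer hQ
  have := finite_of_le hQ.1
  have hkey : ∀ n ∈ S, InK K (cj n) := fun n hn' => by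
    obtain ⟨γ, hγ⟩ := exists_conjAut (P := Q) (hn hn')
    exact ⟨γ, mem_autInducedBy_iff_cj.mpr ⟨n, hn', hγ⟩, fun x hx => (hγ x hx).symm⟩
  refine isSectionFree_kSys hS hF hQ.1 (K := K) (fun f hf => ?_) (le_antisymm
    (fun x hx => mem_kNorm_id.mpr ⟨hx, hkey x hx⟩) fun x hx => hx.1) (Or.inl hQ.1) hE hH
  have himg : img f Q = Q := StronglyClosed.img_eq (IsNormal.stronglyClosed hQ) hf le_rfl
  obtain ⟨δ, hδ, hδf, -, -⟩ := hf.exists_iso_inverse
  have hδQ : img δ (img f Q) = Q := by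
    rw [hf.img_img le_rfl, img_congr (g := fun x : Ω => x) fun x hx => hδf x hx, img_id]
  obtain ⟨ψ, hψ, hψδ⟩ := (isReceptive_iff.mp (isReceptive_of_isFullyNormalized hS hF
    (isFullyNormalized_of_normal hQ.1 hn))).2 _ δ hδ hδQ
  refine ⟨ψ, hψ.restrict (sup_le (fun y hy => ?_) (le_extSub hδ)), 1, K.one_mem, fun q hq => ?_⟩
  · obtain ⟨hyS, k, hk, hky⟩ := hy
    obtain ⟨n, hn', hnk⟩ := mem_autInducedBy_iff_cj.mp hk
    refine ⟨⟨hyS, himg.symm ▸ hn hyS⟩, n, hn', fun z hz => ?_⟩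
    obtain ⟨q, hq, rfl⟩ := (hf.mem_img_iff le_rfl).mp hz
    rw [hky q hq, hδf q hq, hδf _ (autFun_mem k hq)]
    exact hnk q hq
  · show ψ (f q) = _
    rw [hψδ _ (mem_img_of_mem hq), hδf q hq, autFun_one hq]

end Cfsg.Agent.Fusion
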