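import Mathlib
import Cfsg.Prelude.Def_Transfer
import Cfsg.Agent.Lib.Invol.ExtraPairs
import Cfsg.Agent.Lib.Invol.Dihedral
import Cfsg.Agent.Lib.Coprime23.Omega

/-!
Groups with commutators and powers in a central subgroup of order `p` and an elementary abelian
centralizer of a noncentral element of order `p`.
-/

set_option autoImplicit false

namespace Cfsg.Agent.Fusion

open Subgroup
open scoped commutatorElement

universe u

variable {G : Type u} [Group G] {p : ℕ} [hp : Fact p.Prime]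

theorem exists_pow_mul_commute {c : G} (hc : c ∈ Subgroup.center G) (hco : orderOf c = p)
    (hcomm : ∀ a b : G, ⁅a, b⁆ ∈ zpowers c) {u t : G} (hut : ¬ Commute u t) (g : G) :
    ∃ n : ℕ, Commute ((u ^ n)⁻¹ * g) t := by
  have hfin : IsOfFinOrder c := orderOf_pos_iff.mp (hco ▸ hp.out.pos)
  have hpow : ∀ a : G, ∃ i : ℕ, c ^ i = ⁅a, t⁆ := fun a =>
    (hfin.mem_powers_iff_mem_zpowers.mpr (hcomm a t) :)
  obtain ⟨l, hl⟩ := hpow u
  obtain ⟨k, hk⟩ := hpow g
  have hlp : ¬ p ∣ l := fun h => hut (commutatorElement_eq_one_iff_mul_comm.mp (by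
    rw [← hl, ← orderOf_dvd_iff_pow_eq_one, hco]; exact h))
  have hcu : ∀ x : G, Commute c x := fun x => (Subgroup.mem_center_iff.mp hc x).symm
  have hun : ∀ n : ℕ, u ^ n * t * (u ^ n)⁻¹ = c ^ (l * n) * t := by
    intro n
    induction n with
    | zero => simp
    | succ n ih =>
      rw [show u ^ (n + 1) * t * (u ^ (n + 1))⁻¹ = u * (u ^ n * t * (u ^ n)⁻¹) * u⁻¹ by
        rw [pow_succ']; group, ih, mul_add, mul_one, pow_add]
      have h1 : u * t * u⁻¹ = c ^ l * t := by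
        rw [hl, commutatorElement_def, inv_mul_cancel_right]
      calc u * (c ^ (l * n) * t) * u⁻¹ = u * c ^ (l * n) * (t * u⁻¹) := by group
        _ = c ^ (l * n) * (u * t * u⁻¹) := by rw [((hcu u).pow_left _).eq.symm]; group
        _ = c ^ (l * n) * c ^ l * t := by rw [h1, mul_assoc]
  obtain ⟨m, hm⟩ : ∃ m : ℕ, l * m ≡ k [MOD p] := by
    refine ⟨((k : ZMod p) * (l : ZMod p)⁻¹).val, ?_⟩
    rw [← ZMod.natCast_eq_natCast_iff, Nat.cast_mul, ZMod.natCast_zmod_val, mul_comm (k : ZMod p),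
      ← mul_assoc, mul_inv_cancel₀, one_mul]
    rwa [Ne, ZMod.natCast_eq_zero_iff]
  refine ⟨m, ?_⟩
  have hg : g * t * g⁻¹ = c ^ k * t := by rw [hk, commutatorElement_def, inv_mul_cancel_right]
  have heq : g * t * g⁻¹ = u ^ m * t * (u ^ m)⁻¹ := by
    rw [hg, hun, pow_eq_pow_iff_modEq.mpr (hco.symm ▸ hm : l * m ≡ k [MOD orderOf c])]
  show (u ^ m)⁻¹ * g * t = t * ((u ^ m)⁻¹ * g)
  calc (u ^ m)⁻¹ * g * t = (u ^ m)⁻¹ * (g * t * g⁻¹) * g := by group
    _ = t * ((u ^ m)⁻¹ * g) := by rw [heq]; group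

variable [Finite G]

/-- Splitting off a nonabelian group of order `p ^ 3`. -/
theorem exists_split (c w v : G) (hc : c ∈ Subgroup.center G) (hco : orderOf c = p)
    (hcomm : ∀ a b : G, ⁅a, b⁆ ∈ zpowers c) (hwp : w ^ p = 1) (hvp : v ^ p = 1)
    (hvw : ¬ Commute v w) (hMc : ∀ a b : G, Commute a w → Commute b w → Commute a b)
    (hMe : ∀ a : G, Commute a w → a ^ p = 1) :
    ∃ E A : Subgroup G, Nonempty (G ≃* E × A) ∧ (∀ a ∈ A, a ^ p = 1) ∧ IsMulCommutative A ∧
      E = closure {c, w, v} ∧ Nat.card E = p ^ 3 ∧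
      ∀ e ∈ E, e ∈ Subgroup.center G → e ∈ zpowers c := by
  have hcu : ∀ x : G, Commute c x := fun x => (Subgroup.mem_center_iff.mp hc x).symm
  have hcp : c ^ p = 1 := hco ▸ pow_orderOf_eq_one c
  have hpow : ∀ a b : G, ∃ i : ℕ, c ^ i = ⁅a, b⁆ := fun a b =>
    ((isOfFinOrder_of_finite c).mem_powers_iff_mem_zpowers.mpr (hcomm a b) :)
  set K := centralizer ({w} : Set G) ⊓ centralizer ({v} : Set G)
  have hKw : ∀ k ∈ K, Commute k w := fun k hk => mem_centralizer_singleton_iff.mp hk.1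
  have hKv : ∀ k ∈ K, Commute k v := fun k hk => mem_centralizer_singleton_iff.mp hk.2
  have hKcen : ∀ k ∈ K, ∀ g : G, Commute k g := by
    intro k hk g
    obtain ⟨n, hn⟩ := exists_pow_mul_commute hc hco hcomm hvw g
    have h1 := ((hKv k hk).pow_right n).mul_right (hMc k _ (hKw k hk) hn)
    rwa [mul_inv_cancel_left] at h1
  have hcK : c ∈ K :=
    ⟨mem_centralizer_singleton_iff.mpr (hcu w), mem_centralizer_singleton_iff.mpr (hcu v)⟩
  have hzK : zpowers c ≤ K := zpowers_le.mpr hcK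
  obtain ⟨A, ⟨hAK, hAc⟩, hAmax⟩ := Set.Finite.exists_maximal (s := {A : Subgroup G | A ≤ K ∧ A ⊓ zpowers c = ⊥})
    (Set.toFinite _) ⟨⊥, bot_le, bot_inf_eq _⟩
  have hzn : (zpowers c).Normal := ⟨fun z hz g => by
    rw [← (hKcen z (hzK hz) g).eq, mul_inv_cancel_right]; exact hz⟩
  have hAn : A.Normal := ⟨fun a ha g => by
    rw [← (hKcen a (hAK ha) g).eq, mul_inv_cancel_right]; exact ha⟩
  have hKsup : ∀ k ∈ K, k ∈ A ⊔ zpowers c := by
    intro x hx
    by_contra hxs
    have hxp : x ^ p = 1 := hMe x (hKw x hx)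
    have hxn : (zpowers x).Normal := ⟨fun z hz g => by
      rw [← (hKcen z (zpowers_le.mpr hx hz) g).eq, mul_inv_cancel_right]; exact hz⟩
    have hA' : (A ⊔ zpowers x) ⊓ zpowers c = ⊥ := by
      rw [eq_bot_iff]
      rintro y ⟨hy, hyc⟩
      obtain ⟨a, ha, b, hb, rfl⟩ := mem_sup_of_normal_right.mp hy
      by_cases hb1 : b = 1
      · subst hb1
        rw [mul_one] at hyc ⊢
        exact hAc.le ⟨ha, hyc⟩
      · exfalso
        apply hxs
        have hbs : b ∈ A ⊔ zpowers c := by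
          rw [show b = a⁻¹ * (a * b) by group]
          exact mul_mem (mem_sup_left (inv_mem ha)) (mem_sup_right hyc)
        obtain ⟨i, rfl⟩ := mem_zpowers_iff.mp hb
        have hx1 : x ≠ 1 := fun h => hb1 (by rw [h, one_zpow])
        have hxo : orderOf x = p := orderOf_eq_prime hxp hx1
        have hgen : zpowers (x ^ i) = zpowers x := Subgroup.eq_of_le_of_card_ge
          (zpowers_le.mpr ⟨i, rfl⟩) (by
            rw [Nat.card_zpowers, Nat.card_zpowers, hxo, orderOf_eq_prime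
              (by rw [← zpow_natCast, ← zpow_mul, mul_comm, zpow_mul, zpow_natCast, hxp, one_zpow]) hb1])
        exact zpowers_le.mpr hbs (hgen.ge (mem_zpowers x))
    have hle : A ⊔ zpowers x ≤ A := hAmax ⟨sup_le hAK (zpowers_le.mpr hx), hA'⟩ le_sup_left
    exact hxs (mem_sup_left (hle (mem_sup_right (mem_zpowers x))))
  set E := closure ({c, w, v} : Set G) with hE
  have hcE : c ∈ E := subset_closure (by simp)
  have hwE : w ∈ E := subset_closure (by simp)
  have hvE : v ∈ E := subset_closure (by simp)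
  let X : Set G := {g | ∃ a i j : ℕ, g = c ^ a * w ^ i * v ^ j}
  have hXmul : ∀ g ∈ X, ∀ h ∈ X, g * h ∈ X := by
    rintro _ ⟨a, i, j, rfl⟩ _ ⟨a', i', j', rfl⟩
    obtain ⟨t, ht⟩ := hpow (v ^ j) (w ^ i')
    refine ⟨a + (a' + t), i + i', j + j', ?_⟩
    have h1 : v ^ j * w ^ i' = c ^ t * w ^ i' * v ^ j := by
      rw [ht, commutatorElement_def]; group
    have hC := fun (n : ℕ) (x : G) => ((hcu x).pow_left n).eq
    calc c ^ a * w ^ i * v ^ j * (c ^ a' * w ^ i' * v ^ j')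
        = c ^ a * w ^ i * (v ^ j * c ^ a') * w ^ i' * v ^ j' := by group
      _ = c ^ a * (w ^ i * c ^ a') * (v ^ j * w ^ i') * v ^ j' := by rw [← hC]; group
      _ = c ^ a * c ^ a' * (w ^ i * c ^ t) * w ^ i' * (v ^ j * v ^ j') := by rw [← hC, h1]; group
      _ = _ := by rw [← hC t (w ^ i), pow_add, pow_add, pow_add, pow_add]; group
  have hEX : ∀ e ∈ E, e ∈ X := by
    intro e he
    rw [hE, ← mem_toSubmonoid, closure_toSubmonoid_of_finite] at he
    induction he using Submonoid.closure_induction with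
    | mem x hx =>
      rcases hx with rfl | rfl | rfl
      · exact ⟨1, 0, 0, by simp⟩
      · exact ⟨0, 1, 0, by simp⟩
      · exact ⟨0, 0, 1, by simp⟩
    | one => exact ⟨0, 0, 0, by simp⟩
    | mul x y _ _ hx hy => exact hXmul x hx y hy
  have hdv : ∀ (u t : G), u ^ p = 1 → ¬ Commute u t → ∀ n : ℕ, Commute (u ^ n) t → p ∣ n := by
    intro u t hu hut n hn
    by_contra hnp
    have hu1 : u ≠ 1 := fun h => hut (h ▸ Commute.one_left t)
    obtain ⟨m, hm⟩ := exists_pow_eq_self_of_coprime (x := u) (n := n)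
      (by rw [orderOf_eq_prime hu hu1]; exact (hp.out.coprime_iff_not_dvd.mpr hnp).symm)
    exact hut (hm ▸ hn.pow_left m)
  have hwv : ¬ Commute w v := fun h => hvw h.symm
  have hw1 : ∀ j, p ∣ j → w ^ j = 1 := fun j hj => by
    obtain ⟨q, rfl⟩ := hj; rw [pow_mul, hwp, one_pow]
  have hv1 : ∀ j, p ∣ j → v ^ j = 1 := fun j hj => by
    obtain ⟨q, rfl⟩ := hj; rw [pow_mul, hvp, one_pow]
  have hEcen : ∀ e ∈ E, e ∈ Subgroup.center G → e ∈ zpowers c := by
    intro e he hec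
    obtain ⟨a, i, j, rfl⟩ := hEX e he
    have hcg : ∀ g, Commute (c ^ a * w ^ i * v ^ j) g := fun g =>
      (Subgroup.mem_center_iff.mp hec g).symm
    have hj : v ^ j = 1 := hv1 j (hdv v w hvp hvw j (by
      have h1 : Commute (c ^ a * w ^ i) w := ((hcu w).pow_left a).mul_left ((Commute.refl w).pow_left i)
      have h2 := h1.inv_left.mul_left (hcg w)
      rwa [inv_mul_cancel_left] at h2))
    rw [hj, mul_one] at hcg ⊢
    have hi : w ^ i = 1 := hw1 i (hdv w v hwp hwv i (by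
      have h2 := ((hcu v).pow_left a).inv_left.mul_left (hcg v)
      rwa [inv_mul_cancel_left] at h2))
    rw [hi, mul_one]
    exact pow_mem (mem_zpowers c) a
  have hEA : ∀ g : G, ∃ e ∈ E, ∃ a ∈ A, g = e * a := by
    intro g
    obtain ⟨j, hj⟩ := exists_pow_mul_commute hc hco hcomm hvw g
    set m := (v ^ j)⁻¹ * g
    obtain ⟨i, hi⟩ := exists_pow_mul_commute hc hco hcomm hwv m
    have hk : (w ^ i)⁻¹ * m ∈ K := ⟨mem_centralizer_singleton_iff.mpr
      (((Commute.refl w).pow_left i).inv_left.mul_left hj), mem_centralizer_singleton_iff.mpr hi⟩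
    obtain ⟨a, ha, z, hz, hk'⟩ := mem_sup_of_normal_right.mp (hKsup _ hk)
    refine ⟨v ^ j * w ^ i * z, mul_mem (mul_mem (pow_mem hvE j) (pow_mem hwE i))
      (zpowers_le.mpr hcE hz), a, ha, ?_⟩
    calc g = v ^ j * (w ^ i * ((w ^ i)⁻¹ * m)) := by
          rw [mul_inv_cancel_left, mul_inv_cancel_left]
      _ = v ^ j * (w ^ i * (z * a)) := by rw [← hk', (hKcen a (hAK ha) z).eq]
      _ = v ^ j * w ^ i * z * a := by group
  have hAab : IsMulCommutative A := ⟨⟨fun a b => Subtype.ext (hKcen a (hAK a.2) b).eq⟩⟩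
  let Φ : E × A →* G := MonoidHom.noncommCoprod E.subtype A.subtype
    fun e a => (hKcen (a : G) (hAK a.2) (e : G)).symm
  have hΦ : Function.Bijective Φ := by
    refine ⟨(injective_iff_map_eq_one Φ).mpr ?_, fun g => ?_⟩
    · rintro ⟨⟨e, he⟩, ⟨a, ha⟩⟩ h
      have h' : e * a = 1 := h
      have hecen : e ∈ Subgroup.center G := by
        rw [eq_inv_of_mul_eq_one_left h']
        exact inv_mem (Subgroup.mem_center_iff.mpr fun g => (hKcen a (hAK ha) g).eq.symm)
      have hac : a ∈ zpowers c := by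
        rw [eq_inv_of_mul_eq_one_right h']; exact inv_mem (hEcen e he hecen)
      have ha1 : a = 1 := mem_bot.mp (hAc.le ⟨ha, hac⟩)
      subst ha1
      rw [mul_one] at h'
      subst h'
      rfl
    · obtain ⟨e, he, a, ha, rfl⟩ := hEA g
      exact ⟨(⟨e, he⟩, ⟨a, ha⟩), rfl⟩
  refine ⟨E, A, ⟨(MulEquiv.ofBijective Φ hΦ).symm⟩, fun a ha => hMe a (hKw a (hAK ha)), hAab, rfl,
    ?_, hEcen⟩
  let ξ : Fin p × Fin p × Fin p → E := fun x =>
    ⟨c ^ (x.1 : ℕ) * w ^ (x.2.1 : ℕ) * v ^ (x.2.2 : ℕ),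
      mul_mem (mul_mem (pow_mem hcE _) (pow_mem hwE _)) (pow_mem hvE _)⟩
  have hξ : Function.Bijective ξ := by
    constructor
    · rintro ⟨a, i, j⟩ ⟨a', i', j'⟩ h
      have h' : c ^ (a : ℕ) * w ^ (i : ℕ) * v ^ (j : ℕ) = c ^ (a' : ℕ) * w ^ (i' : ℕ) * v ^ (j' : ℕ) :=
        congrArg Subtype.val h
      have key : ∀ (u t : G), u ^ p = 1 → ¬ Commute u t → ∀ n m : Fin p,
          Commute (u ^ (n : ℕ) * (u ^ (m : ℕ))⁻¹) t → n = m := by
        intro u t hu hut n m hnm
        rcases le_total (m : ℕ) n with hle | hle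
        · rw [← pow_sub _ hle] at hnm
          have := Nat.eq_zero_of_dvd_of_lt (hdv u t hu hut _ hnm) (by omega)
          exact Fin.ext (by omega)
        · have h2 := hnm.inv_left
          rw [mul_inv_rev, inv_inv, ← pow_sub _ hle] at h2
          have := Nat.eq_zero_of_dvd_of_lt (hdv u t hu hut _ h2) (by omega)
          exact Fin.ext (by omega)
      have hj : j = j' := key v w hvp hvw j j' (by
        rw [show v ^ (j : ℕ) * (v ^ (j' : ℕ))⁻¹ =
          (c ^ (a : ℕ) * w ^ (i : ℕ))⁻¹ * (c ^ (a' : ℕ) * w ^ (i' : ℕ)) by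
            rw [eq_inv_mul_iff_mul_eq, ← mul_assoc, h', mul_inv_cancel_right]]
        exact (((hcu w).pow_left _).mul_left ((Commute.refl w).pow_left _)).inv_left.mul_left
          (((hcu w).pow_left _).mul_left ((Commute.refl w).pow_left _)))
      subst hj
      have h2 := mul_right_cancel h'
      have hi : i = i' := key w v hwp hwv i i' (by
        rw [show w ^ (i : ℕ) * (w ^ (i' : ℕ))⁻¹ = (c ^ (a : ℕ))⁻¹ * c ^ (a' : ℕ) by
          rw [eq_inv_mul_iff_mul_eq, ← mul_assoc, h2, mul_inv_cancel_right]]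
        exact ((hcu v).pow_left _).inv_left.mul_left ((hcu v).pow_left _))
      subst hi
      have h3 := pow_eq_pow_iff_modEq.mp (mul_right_cancel h2)
      rw [hco] at h3
      have : a = a' := Fin.ext (Nat.ModEq.eq_of_lt_of_lt h3 a.2 a'.2)
      subst this
      rfl
    · rintro ⟨e, he⟩
      obtain ⟨a, i, j, rfl⟩ := hEX e he
      refine ⟨(⟨a % p, Nat.mod_lt _ hp.out.pos⟩, ⟨i % p, Nat.mod_lt _ hp.out.pos⟩,
        ⟨j % p, Nat.mod_lt _ hp.out.pos⟩), Subtype.ext ?_⟩
      show c ^ (a % p) * w ^ (i % p) * v ^ (j % p) = _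
      rw [← pow_eq_pow_mod _ hcp, ← pow_eq_pow_mod _ hwp, ← pow_eq_pow_mod _ hvp]
  rw [← Nat.card_congr (Equiv.ofBijective ξ hξ), Nat.card_prod, Nat.card_prod, Nat.card_eq_fintype_card,
    Fintype.card_fin]
  ring

end Cfsg.Agent.Fusion
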