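import Cfsg.Agent.Lib.Fusion.MetacyclicClosed
import Cfsg.Agent.Lib.Fusion.GenExtraStructure

/-!
Strongly closed generalized extraspecial subgroups.
-/

set_option autoImplicit false

namespace Cfsg.Agent.Fusion

open Cfsg.FusionSystem (centralizerIn normalizerIn)
open scoped commutatorElement

universe u

variable {Ω : Type u} [Group Ω] {S : Subgroup Ω} {F : FusionSystem S} [Finite S] {p : ℕ}
  [hp : Fact p.Prime]

theorem MapTo.map_pow {P : Subgroup Ω} {f : Ω → Ω} (h : MapTo F P f) {x : Ω} (hx : x ∈ P)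
    (n : ℕ) : f (x ^ n) = f x ^ n := by
  induction n with
  | zero => rw [pow_zero, pow_zero, h.map_one]
  | succ n ih => rw [pow_succ, h.map_mul (P.pow_mem hx n) hx, ih, pow_succ]

/-- A strongly closed subgroup with commutators and `p`-th powers in its derived subgroup of order
`p` is normal, unless it is the product of a nonabelian group of order `p ^ 3` of exponent `p`
(dihedral for `p = 2`) and an elementary abelian group. -/
theorem isNormal_of_genExtra (hS : IsPGroup p S) (hF : F.IsSaturated p) {P : Subgroup Ω}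
    (hP : F.StronglyClosed P) (Z : Subgroup Ω) (hZ : Z = ⁅P, P⁆) (hZcard : Nat.card Z = p)
    (hpow : ∀ x ∈ P, x ^ p ∈ Z)
    (hexc : ∀ w v : P, w ^ p = 1 → v ^ p = 1 → ¬ Commute v w →
      (∀ a b : P, Commute a w → Commute b w → Commute a b) →
      (∀ a : P, Commute a w → a ^ p = 1) → False) : F.IsNormal P := by
  have hPS := hP.1
  have := finite_of_le hPS
  have hcomm : ∀ x ∈ P, ∀ y ∈ P, ⁅x, y⁆ ∈ Z := fun x hx y hy =>
    hZ ▸ Subgroup.commutator_mem_commutator hx hy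
  have hZP : Z ≤ P := hZ ▸ Subgroup.commutator_le.mpr fun x hx y hy => by
    rw [commutatorElement_def]
    exact P.mul_mem (P.mul_mem (P.mul_mem hx hy) (P.inv_mem hx)) (P.inv_mem hy)
  have hZS : Z ≤ S := hZP.trans hPS
  have := finite_of_le hZS
  have hgenZ : ∀ z ∈ Z, z ≠ 1 → Subgroup.zpowers z = Z := fun z hz hz1 => by
    refine Subgroup.eq_of_le_of_card_ge (Subgroup.zpowers_le.mpr hz) ?_
    have h1 : orderOf z ∣ p := by
      rw [← hZcard, show z = ((⟨z, hz⟩ : Z) : Ω) from rfl, Subgroup.orderOf_coe]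
      exact orderOf_dvd_natCard _
    rw [hZcard, Nat.card_zpowers, ((Nat.dvd_prime hp.out).mp h1).resolve_left
      fun h => hz1 (orderOf_eq_one_iff.mp h)]
  have hZp : ∀ z ∈ Z, z ^ p = 1 := fun z hz => by
    have := congrArg Subtype.val (pow_card_eq_one' (x := (⟨z, hz⟩ : Z)))
    rwa [hZcard, Subgroup.coe_pow, Subgroup.coe_one] at this
  have hZn : (Z.subgroupOf S).Normal := by
    refine ⟨fun z hz s => ?_⟩
    show (s : Ω) * z * (s : Ω)⁻¹ ∈ Z
    have hmap : Z.map (MulAut.conj (s : Ω)).toMonoidHom ≤ Z := by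
      rw [hZ, Subgroup.map_commutator]
      refine Subgroup.commutator_mono ?_ ?_ <;> rintro _ ⟨x, hx, rfl⟩ <;>
        exact StronglyClosed.conj_mem hP s.2 hx
    exact hmap ⟨z, hz, rfl⟩
  have hZne : Z.subgroupOf S ≠ ⊥ := fun h => by
    rw [Subgroup.subgroupOf_eq_bot, disjoint_iff, inf_eq_left.mpr hZS] at h
    rw [h, Subgroup.card_bot] at hZcard
    exact hp.out.one_lt.ne hZcard
  obtain ⟨c, hcZ, hcc, hc1⟩ := InvChar.exists_mem_center_of_normal hS (Z.subgroupOf S) hZne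
  have hc1' : (c : Ω) ≠ 1 := fun h => hc1 (Subtype.ext h)
  have hZc : ∀ z ∈ Z, ∀ s ∈ S, s * z = z * s := fun z hz s hs => by
    obtain ⟨i, rfl⟩ := Subgroup.mem_zpowers_iff.mp ((hgenZ _ hcZ hc1').ge hz)
    exact ((show Commute s (c : Ω) from
      congrArg Subtype.val (Subgroup.mem_center_iff.mp hcc ⟨s, hs⟩)).zpow_right i).eq
  suffices hZsc : F.StronglyClosed Z by
    refine isNormal_of_stronglyClosed_series hS hF (n := 2) ![⊥, Z, P] rfl rfl ?_ ?_ ?_
    · exact Fin.monotone_iff_le_succ.mpr fun i => by fin_cases i <;> [exact bot_le; exact hZP]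
    · intro i
      fin_cases i
      · exact hZsc
      · exact hP
    · intro i x hx k hk
      fin_cases i
      · change x ∈ Z at hx
        show x⁻¹ * (k * x * k⁻¹) ∈ (⊥ : Subgroup Ω)
        rw [hZc x hx k (hPS hk), mul_inv_cancel_right, inv_mul_cancel]
        exact Subgroup.one_mem _
      · change x ∈ P at hx
        show x⁻¹ * (k * x * k⁻¹) ∈ Z
        rw [show x⁻¹ * (k * x * k⁻¹) = ⁅x⁻¹, k⁆ by rw [commutatorElement_def]; group]
        exact hcomm _ (P.inv_mem hx) k hk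
  refine stronglyClosed_iff.mpr ⟨hZS, fun R f hR hf x hx => ?_⟩
  by_contra hfx
  have hxZ := hR hx
  set w := f x with hwdef
  have hwP : w ∈ P := StronglyClosed.map_mem hP hf hx (hZP hxZ)
  have hwp : w ^ p = 1 := by rw [hwdef, ← hf.map_pow hx, hZp x hxZ, hf.map_one]
  have hx1 : x ≠ 1 := fun h => hfx (by
    show f x ∈ Z
    rw [h, hf.map_one]; exact Z.one_mem)
  obtain ⟨f', hf', hf'f, -, -⟩ := hf.exists_iso_inverse
  have hwR : Subgroup.zpowers w ≤ img f R := Subgroup.zpowers_le.mpr (mem_img_of_mem hx)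
  have hW := hf'.restrict hwR
  have himg : img f' (Subgroup.zpowers w) = Subgroup.zpowers x := by
    obtain ⟨φ, -, hφ⟩ := id hW
    rw [← range_eq_img hφ]
    have hφw : φ ⟨w, Subgroup.mem_zpowers w⟩ = x := (hφ _).trans (hf'f x hx)
    refine le_antisymm ?_ (Subgroup.zpowers_le.mpr ⟨_, hφw⟩)
    rintro _ ⟨⟨v, hv⟩, rfl⟩
    obtain ⟨i, rfl⟩ := Subgroup.mem_zpowers_iff.mp hv
    rw [show (⟨w ^ i, hv⟩ : Subgroup.zpowers w) = ⟨w, Subgroup.mem_zpowers w⟩ ^ i from Subtype.ext rfl,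
      map_zpow, hφw]
    exact ⟨i, rfl⟩
  have hxS : Subgroup.zpowers x ≤ S := Subgroup.zpowers_le.mpr (hZS hxZ)
  have := finite_of_le (centralizerIn_le (S := S) (P := Subgroup.zpowers x))
  have hxfc : F.IsFullyCentralized (Subgroup.zpowers x) := ⟨hxS, fun Q _ =>
    Subgroup.card_le_of_le (centralizerIn_le.trans fun s hs => mem_centralizerIn.mpr ⟨hs, by
      intro v hv
      obtain ⟨i, rfl⟩ := Subgroup.mem_zpowers_iff.mp hv
      exact ((show Commute s x from hZc x hxZ s hs).zpow_right i).symm⟩)⟩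
  obtain ⟨e, he, hef⟩ := (isReceptive_iff.mp (isReceptive_of_isFullyCentralized hS hF hxfc)).2
    _ f' hW himg
  have hew : e w = x := (hef w (Subgroup.mem_zpowers w)).trans (hf'f x hx)
  set M := P ⊓ Subgroup.centralizer ({w} : Set Ω) with hMdef
  have hMP : M ≤ P := inf_le_left
  have hMS : M ≤ S := hMP.trans hPS
  have := finite_of_le hMS
  have := finite_mulAut M
  have hMw : ∀ m ∈ M, Commute m w := fun m hm => Subgroup.mem_centralizer_singleton_iff.mp hm.2
  have hMmem : ∀ m, m ∈ P → Commute m w → m ∈ M := fun m h1 h2 =>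
    ⟨h1, Subgroup.mem_centralizer_singleton_iff.mpr h2⟩
  have heM := he.restrict (R := M) fun m hm => centralizerIn_le_extSub hW
    (mem_centralizerIn.mpr ⟨hMS hm, fun v hv => by
      obtain ⟨i, rfl⟩ := Subgroup.mem_zpowers_iff.mp hv
      exact ((hMw m hm).zpow_right i).symm⟩)
  have hwM : w ∈ M := hMmem w hwP (Commute.refl w)
  have hZM : Z ≤ M := fun z hz => hMmem z (hZP hz) (hZc z hz w (hPS hwP)).symm
  have hesc : ∀ z ∈ Z, z ≠ 1 → e z ∉ Z := by
    intro z hz hz1 hez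
    have hez1 : e z ≠ 1 := fun h => hz1 (heM.inj (hZM hz) M.one_mem (h.trans heM.map_one.symm))
    obtain ⟨i, hi⟩ : ∃ i : ℕ, e z ^ i = x :=
      ((isOfFinOrder_iff_pow_eq_one.mpr ⟨p, hp.out.pos, hZp _ hez⟩).mem_powers_iff_mem_zpowers.mpr
        ((hgenZ _ hez hez1).ge hxZ) :)
    rw [← heM.map_pow (hZM hz), ← hew] at hi
    exact hfx (show w ∈ Z from heM.inj (M.pow_mem (hZM hz) i) hwM hi ▸ Z.pow_mem hz i)
  have heP : ∀ m ∈ M, e m ∈ P := fun m hm => StronglyClosed.map_mem hP heM hm (hMP hm)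
  have hMab : ∀ a ∈ M, ∀ b ∈ M, Commute a b := by
    intro a ha b hb
    by_contra hab
    refine hesc ⁅a, b⁆ (hcomm a (hMP ha) b (hMP hb))
      (fun h => hab (commutatorElement_eq_one_iff_mul_comm.mp h)) ?_
    rw [commutatorElement_def, heM.map_mul (M.mul_mem (M.mul_mem ha hb) (M.inv_mem ha)) (M.inv_mem hb),
      heM.map_mul (M.mul_mem ha hb) (M.inv_mem ha), heM.map_mul ha hb, heM.map_inv ha,
      heM.map_inv hb, ← commutatorElement_def]
    exact hcomm _ (heP a ha) _ (heP b hb)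
  have hMexp : ∀ a ∈ M, a ^ p = 1 := by
    intro a ha
    by_contra hne
    refine hesc (a ^ p) (hpow a (hMP ha)) hne ?_
    rw [heM.map_pow ha]
    exact hpow _ (heP a ha)
  obtain ⟨v, hvP, hvw⟩ : ∃ v ∈ P, ¬ Commute v w := by
    by_contra h
    push Not at h
    have hbot : Z ≤ ⊥ := by
      rw [hZ, Subgroup.commutator_le]
      exact fun a ha b hb => Subgroup.mem_bot.mpr (commutatorElement_eq_one_iff_mul_comm.mpr
        (hMab a (hMmem a ha (h a ha)) b (hMmem b hb (h b hb))).eq)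
    exact hx1 (Subgroup.mem_bot.mp (hbot hxZ))
  have hnov : ∀ u ∈ P, ¬ Commute u w → u ^ p ≠ 1 := fun u hu huw hup =>
    hexc ⟨w, hwP⟩ ⟨u, hu⟩ (Subtype.ext hwp) (Subtype.ext hup)
      (fun h => huw (congrArg Subtype.val h.eq))
      (fun a b ha hb => Subtype.ext (hMab a (hMmem a a.2 (congrArg Subtype.val ha.eq)) b
        (hMmem b b.2 (congrArg Subtype.val hb.eq))))
      fun a ha => Subtype.ext (hMexp a (hMmem a a.2 (congrArg Subtype.val ha.eq)))
  have hp2 : p ≠ 2 := by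
    rintro rfl
    have h1 : v ^ 2 ≠ 1 := hnov v hvP hvw
    refine hnov (v * w) (P.mul_mem hvP hwP) (fun h => hvw ?_) ?_
    · have := h.mul_left (Commute.refl w).inv_left
      rwa [mul_inv_cancel_right] at this
    have h2 : ⁅w, v⁆ ≠ 1 := fun h => hvw (commutatorElement_eq_one_iff_mul_comm.mp h).symm
    have h3 : (v * w) ^ 2 = ⁅w, v⁆ * v ^ 2 := by
      have hc : v * ⁅w, v⁆ = ⁅w, v⁆ * v := hZc _ (hcomm w hwP v hvP) v (hPS hvP)
      calc (v * w) ^ 2 = v * (⁅w, v⁆ * v) * w ^ 2 := by rw [commutatorElement_def, pow_two, pow_two]; group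
        _ = ⁅w, v⁆ * v ^ 2 := by rw [hwp, mul_one, ← mul_assoc, hc, mul_assoc, pow_two]
    rw [h3]
    obtain ⟨i, hi⟩ := Subgroup.mem_zpowers_iff.mp
      ((hgenZ _ (hcomm w hwP v hvP) h2).ge (hpow v hvP))
    rw [← hi] at h1 ⊢
    have hsq := hZp _ (hcomm w hwP v hvP)
    rcases Int.even_or_odd' i with ⟨j, rfl | rfl⟩
    · exact absurd (by rw [zpow_mul, zpow_two, ← pow_two, hsq, one_zpow]) h1
    · rw [zpow_add, zpow_mul, zpow_two, ← pow_two, hsq, one_zpow, one_mul, zpow_one, ← pow_two, hsq]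
  have hMiff : ∀ a, a ∈ P → (a ^ p = 1 ↔ a ∈ M) := fun a ha =>
    ⟨fun h => hMmem a ha (not_not.mp fun hn => hnov a ha hn h), hMexp a⟩
  have heMM : img e M = M := img_eq_self_of_forall heM fun m hm =>
    (hMiff _ (heP m hm)).mp (by rw [← heM.map_pow hm, hMexp m hm, heM.map_one])
  have hMn : ∀ s ∈ S, ∀ m ∈ M, s * m * s⁻¹ ∈ M := fun s hs m hm =>
    (hMiff _ (StronglyClosed.conj_mem hP hs (hMP hm))).mp (by
      rw [conj_pow, hMexp m hm, mul_one, mul_inv_cancel])
  have hNM : normalizerIn S M = S := le_antisymm normalizerIn_le fun s hs =>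
    mem_normalizerIn_of_forall hMS hs (hMn s hs)
  have hMfn : F.IsFullyNormalized M := ⟨hMS, fun Q _ => by
    rw [hNM]; exact Subgroup.card_le_of_le normalizerIn_le⟩
  set α := autOf heM heMM with hαdef
  have hα : α ∈ F.autGroup M := autOf_mem heM heMM
  have hαw : autFun α w = x := (autFun_autOf heM heMM hwM).trans hew
  obtain ⟨γ, hγ⟩ := exists_conjAut (hNM.ge (hPS hvP)).2
  have hγA : γ ∈ autInducedBy S M := mem_autInducedBy_iff_cj.mpr ⟨v, hPS hvP, hγ⟩
  have hγF : γ ∈ F.autGroup M := autInducedBy_le_autGroup hMS hγA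
  have hγp : γ ^ p = 1 := autFun_ext fun m hm => by
    rw [autFun_one hm]
    have hit : ∀ n : ℕ, autFun (γ ^ n) m = v ^ n * m * (v ^ n)⁻¹ := by
      intro n
      induction n with
      | zero => rw [pow_zero, autFun_one hm]; group
      | succ n ih =>
        rw [pow_succ', autFun_mul _ _ hm, hγ _ (autFun_mem _ hm), ih, cj_apply, pow_succ']
        group
    rw [hit, ← hZc _ (hpow v hvP) m (hMS hm), mul_inv_cancel_right]
  -- conjugates of `γ` induced by `S` are induced by `P`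
  have hclosed : ∀ δ ∈ F.autGroup M, δ * γ * δ⁻¹ ∈ autInducedBy S M →
      δ * γ * δ⁻¹ ∈ Subgroup.zpowers γ := by
    intro δ hδ hin
    obtain ⟨g, hg, hgf⟩ := (isReceptive_iff.mp (isReceptive_of_isFullyNormalized hS hF hMfn)).2 M _
      (mapTo_of_mem_autGroup hMS hδ) (img_autFun δ)
    obtain ⟨h, hh, hx'⟩ := mem_autInducedBy_iff_cj.mp hin
    have hvN : v ∈ extSub S (mapTo_of_mem_autGroup (F := F) hMS hδ) := ⟨hNM.ge (hPS hvP), h, hh,
      fun m hm => by
        have h2 := hx' _ (autFun_mem δ hm)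
        rw [autFun_mul _ _ (autFun_mem _ hm), autFun_inv_autFun _ hm, autFun_mul _ _ hm, hγ m hm] at h2
        exact h2⟩
    have hu : g v ∈ P := StronglyClosed.map_mem hP hg hvN hvP
    obtain ⟨c₀, hc₀⟩ : ∃ c₀ : P, (c₀ : Ω) = c := ⟨⟨c, hZP hcZ⟩, rfl⟩
    obtain ⟨n, hn⟩ := exists_pow_mul_commute (p := p) (c := c₀) (u := (⟨v, hvP⟩ : P))
      (t := (⟨w, hwP⟩ : P))
      (Subgroup.mem_center_iff.mpr fun y => Subtype.ext (by
        rw [Subgroup.coe_mul, Subgroup.coe_mul, hc₀]; exact hZc _ hcZ y (hPS y.2)))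
      (by
        rw [← Subgroup.orderOf_coe, hc₀, ← Nat.card_zpowers]
        exact (congrArg (fun H : Subgroup Ω => Nat.card H) (hgenZ _ hcZ hc1')).trans hZcard)
      (fun a b => by
        obtain ⟨i, hi⟩ := Subgroup.mem_zpowers_iff.mp
          ((hgenZ _ hcZ hc1').ge (hcomm a a.2 b b.2))
        exact Subgroup.mem_zpowers_iff.mpr ⟨i, Subtype.ext (by
          rw [Subgroup.coe_zpow, hc₀]; exact hi)⟩)
      (fun h => hvw (congrArg Subtype.val h.eq)) ⟨g v, hu⟩
    have hm₀ : (v ^ n)⁻¹ * g v ∈ M := hMmem _ (P.mul_mem (P.inv_mem (P.pow_mem hvP n)) hu)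
      (congrArg Subtype.val hn.eq)
    refine Subgroup.mem_zpowers_iff.mpr ⟨n, autFun_ext fun y hy => ?_⟩
    obtain ⟨m, hm, rfl⟩ : ∃ m ∈ M, autFun δ m = y :=
      ⟨_, autFun_mem _ hy, autFun_autFun_inv _ hy⟩
    have hit : ∀ k : ℕ, ∀ y ∈ M, autFun (γ ^ k) y = v ^ k * y * (v ^ k)⁻¹ := by
      intro k
      induction k with
      | zero => intro y hy; rw [pow_zero, autFun_one hy]; group
      | succ k ih =>
        intro y hy
        rw [pow_succ', autFun_mul _ _ hy, hγ _ (autFun_mem _ hy), ih y hy, cj_apply, pow_succ']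
        group
    rw [zpow_natCast, hit n _ (autFun_mem δ hm), autFun_mul _ _ (autFun_mem _ hm),
      autFun_inv_autFun _ hm, autFun_mul _ _ hm, hγ m hm,
      ← hgf (cj v m) (conj_mem_of_mem_normalizerIn (hNM.ge (hPS hvP)) hm), cj_apply,
      hg.map_conj hvN (le_extSub _ hm), hgf m hm]
    have hcm := hMab _ hm₀ _ (autFun_mem δ hm)
    calc v ^ n * autFun δ m * (v ^ n)⁻¹
        = v ^ n * (autFun δ m * ((v ^ n)⁻¹ * g v)) * (g v)⁻¹ := by group
      _ = g v * autFun δ m * (g v)⁻¹ := by rw [← hcm.eq]; group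
  set β := α⁻¹ * γ * α with hβdef
  have hβF : β ∈ F.autGroup M :=
    Subgroup.mul_mem _ (Subgroup.mul_mem _ (Subgroup.inv_mem _ hα) hγF) hα
  have hβp : β ^ p = 1 := by
    rw [hβdef, show α⁻¹ * γ * α = α⁻¹ * γ * α⁻¹⁻¹ by rw [inv_inv], conj_pow, hγp, mul_one,
      mul_inv_cancel]
  have hγZ : ∀ z ∈ Z, autFun γ z = z := fun z hz => by
    rw [hγ z (hZM hz), cj_apply, hZc z hz v (hPS hvP), mul_inv_cancel_right]
  have hγw : autFun γ w ≠ w := by
    rw [hγ w hwM]; exact fun h => hvw (mul_inv_eq_iff_eq_mul.mp h)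
  have hγM : ∀ m ∈ M, m⁻¹ * autFun γ m ∈ Z := fun m hm => by
    rw [hγ m hm, cj_apply, show m⁻¹ * (v * m * v⁻¹) = ⁅m⁻¹, v⁆ by rw [commutatorElement_def]; group]
    exact hcomm _ (P.inv_mem (hMP hm)) v hvP
  have hβw : autFun β w = w := by
    rw [hβdef, autFun_mul _ _ hwM, hαw, autFun_mul _ _ (hZM hxZ), hγZ x hxZ, ← hαw,
      autFun_inv_autFun _ hwM]
  have hαm := mapTo_of_mem_autGroup hMS hα
  have hαi := mapTo_of_mem_autGroup hMS (Subgroup.inv_mem _ hα)
  have hβM : ∀ m ∈ M, m⁻¹ * autFun β m ∈ Subgroup.zpowers w := fun m hm => by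
    have h1 := hγM _ (autFun_mem α hm)
    obtain ⟨i, hi⟩ : ∃ i : ℕ, x ^ i = (autFun α m)⁻¹ * autFun γ (autFun α m) :=
      ((isOfFinOrder_iff_pow_eq_one.mpr ⟨p, hp.out.pos, hZp _ hxZ⟩).mem_powers_iff_mem_zpowers.mpr
        ((hgenZ _ hxZ hx1).ge h1) :)
    rw [hβdef, autFun_mul _ _ hm, autFun_mul _ _ (autFun_mem _ hm)]
    have h2 : autFun γ (autFun α m) = autFun α m * x ^ i := by rw [hi, mul_inv_cancel_left]
    rw [h2, hαi.map_mul (autFun_mem α hm) (M.pow_mem (hZM hxZ) i), autFun_inv_autFun _ hm,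
      hαi.map_pow (hZM hxZ), show autFun α⁻¹ x = w by rw [← hαw, autFun_inv_autFun _ hwM],
      inv_mul_cancel_left]
    exact Subgroup.pow_mem _ (Subgroup.mem_zpowers w) i
  -- elements of `γ, β` generate a group which is not a `p`-group
  set V := Z ⊔ Subgroup.zpowers w with hV
  have hVM : V ≤ M := sup_le hZM (Subgroup.zpowers_le.mpr hwM)
  set B := Subgroup.closure ({γ, β} : Set (MulAut M)) with hB
  have hBF : B ≤ F.autGroup M := (Subgroup.closure_le _).mpr (by
    rintro _ (rfl | rfl)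
    · exact hγF
    · exact hβF)
  have hBprop : ∀ φ ∈ B, ∀ m ∈ M, m⁻¹ * autFun φ m ∈ V := by
    intro φ hφ
    induction hφ using Subgroup.closure_induction with
    | mem φ hφ =>
      rcases hφ with rfl | rfl
      · exact fun m hm => (le_sup_left : Z ≤ V) (hγM m hm)
      · exact fun m hm => (le_sup_right : Subgroup.zpowers w ≤ V) (hβM m hm)
    | one => intro m hm; rw [autFun_one hm, inv_mul_cancel]; exact V.one_mem
    | mul a b _ _ ha hb =>
      intro m hm
      rw [autFun_mul _ _ hm, show m⁻¹ * autFun a (autFun b m) =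
        (m⁻¹ * autFun b m) * ((autFun b m)⁻¹ * autFun a (autFun b m)) by group]
      exact V.mul_mem (hb m hm) (ha _ (autFun_mem _ hm))
    | inv a _ ha =>
      intro m hm
      have := V.inv_mem (ha _ (autFun_mem a⁻¹ hm))
      rwa [autFun_autFun_inv a hm, mul_inv_rev, inv_inv] at this
  have hBV : ∀ φ ∈ B, ∀ m ∈ V, autFun φ m ∈ V := fun φ hφ m hm => by
    have := V.mul_mem hm (hBprop φ hφ m (hVM hm))
    rwa [mul_inv_cancel_left] at this
  have hswitch : ∀ δ ∈ F.autGroup M, δ * γ * δ⁻¹ ∈ autInducedBy S M →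
      ∀ φ ∈ F.autGroup M, δ * (φ * γ * φ⁻¹) * δ⁻¹ ∈ autInducedBy S M →
        φ * γ * φ⁻¹ ∈ Subgroup.zpowers γ := by
    intro δ hδ h1 φ hφ h2
    have h1' := hclosed δ hδ h1
    have h2' : (δ * φ) * γ * (δ * φ)⁻¹ ∈ Subgroup.zpowers γ := by
      refine hclosed _ (Subgroup.mul_mem _ hδ hφ) ?_
      convert h2 using 1
      group
    obtain ⟨i, hi⟩ := Subgroup.mem_zpowers_iff.mp h2'
    have hgen : Subgroup.zpowers (δ * γ * δ⁻¹) = Subgroup.zpowers γ := by
      refine Subgroup.eq_of_le_of_card_ge (Subgroup.zpowers_le.mpr h1') ?_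
      rw [Nat.card_zpowers, Nat.card_zpowers, show δ * γ * δ⁻¹ = MulAut.conj δ γ from rfl,
        MulEquiv.orderOf_eq]
    obtain ⟨j, hj⟩ := Subgroup.mem_zpowers_iff.mp (hgen.ge (h2'))
    refine Subgroup.mem_zpowers_iff.mpr ⟨j, ?_⟩
    rw [conj_zpow] at hj
    calc γ ^ j = δ⁻¹ * (δ * γ ^ j * δ⁻¹) * δ := by group
      _ = _ := by rw [hj]; group
  have hcommγβ : ¬ Commute γ β → ¬ IsPGroup p B := by
    intro hnc hBp
    obtain ⟨δ, hδ, hδB⟩ := exists_conj_le_autInducedBy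
      (isFullyAutomized_of_isFullyNormalized hS hF hMfn) hBF hBp
    have h1 := hδB γ (Subgroup.subset_closure (by simp))
    have h2 := hδB β (Subgroup.subset_closure (by simp))
    have h3 : β ∈ Subgroup.zpowers γ := by
      have := hswitch δ hδ h1 α⁻¹ (Subgroup.inv_mem _ hα) (by rwa [inv_inv])
      rwa [inv_inv] at this
    obtain ⟨i, hi⟩ := Subgroup.mem_zpowers_iff.mp h3
    exact hnc (hi ▸ (Commute.refl γ).zpow_right i)
  have hβx : autFun β x ≠ x := by
    intro hfix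
    have hβZ : ∀ z ∈ Z, autFun β z = z := fun z hz => by
      obtain ⟨i, rfl⟩ : ∃ i : ℕ, x ^ i = z :=
        ((isOfFinOrder_iff_pow_eq_one.mpr ⟨p, hp.out.pos, hZp _ hxZ⟩).mem_powers_iff_mem_zpowers.mpr
          ((hgenZ _ hxZ hx1).ge hz) :)
      rw [(mapTo_of_mem_autGroup hMS hβF).map_pow (hZM hxZ), hfix]
    refine hcommγβ (fun hcm => ?_) ?_
    · obtain ⟨m, hm, hmβ⟩ : ∃ m ∈ M, autFun β m ≠ m := by
        by_contra h
        push Not at h
        have hb1 : β = 1 := autFun_ext fun m hm => by rw [h m hm, autFun_one hm]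
        apply hγw
        rw [hβdef] at hb1
        have : γ = 1 := by
          calc γ = α * (α⁻¹ * γ * α) * α⁻¹ := by group
            _ = 1 := by rw [hb1]; group
        rw [this, autFun_one hwM]
      obtain ⟨i, hi⟩ := Subgroup.mem_zpowers_iff.mp (hβM m hm)
      set t := m⁻¹ * autFun β m with htdef
      have htM : t ∈ M := M.mul_mem (M.inv_mem hm) (autFun_mem _ hm)
      have ht1 : t ≠ 1 := fun h => hmβ (inv_mul_eq_one.mp h).symm
      have h1 := congrArg (fun a => autFun a m) hcm.eq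
      simp only [autFun_mul _ _ hm] at h1
      set z := m⁻¹ * autFun γ m with hzdef
      have hγm : autFun γ m = m * z := by rw [hzdef, mul_inv_cancel_left]
      have hβm : autFun β m = m * t := by rw [htdef, mul_inv_cancel_left]
      rw [hβm, hγm, (mapTo_of_mem_autGroup hMS hγF).map_mul hm htM,
        (mapTo_of_mem_autGroup hMS hβF).map_mul hm (hZM (hγM m hm)), hβZ _ (hγM m hm), hβm, hγm] at h1
      have ht : autFun γ t = t := by
        rw [inv_mul_cancel_left] at h1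
        rw [mul_assoc m t z, mul_assoc, (hMab _ htM _ (hZM (hγM m hm))).eq] at h1
        exact mul_left_cancel (mul_left_cancel h1)
      apply hγw
      have hwo : orderOf w = p := orderOf_eq_prime hwp fun h => hfx (h ▸ Z.one_mem)
      have hto : orderOf t = p := orderOf_eq_prime (hMexp t htM) ht1
      have hgen : Subgroup.zpowers t = Subgroup.zpowers w := by
        have := finite_of_le (Subgroup.zpowers_le.mpr (hPS hwP))
        exact Subgroup.eq_of_le_of_card_ge (Subgroup.zpowers_le.mpr (hi ▸ ⟨i, rfl⟩))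
          (by rw [Nat.card_zpowers, Nat.card_zpowers, hto, hwo])
      obtain ⟨j, hj⟩ : ∃ j : ℕ, t ^ j = w :=
        ((isOfFinOrder_iff_pow_eq_one.mpr ⟨p, hp.out.pos, hMexp t htM⟩).mem_powers_iff_mem_zpowers.mpr
          (hgen.ge (Subgroup.mem_zpowers w)) :)
      rw [← hj, (mapTo_of_mem_autGroup hMS hγF).map_pow htM, ht]
    · refine isPGroup_stabilizer_series (hS.to_le hMS) (n := 3) ![⊥, Z, V, M] rfl rfl ?_ B ?_
      · intro i
        fin_cases i
        · exact bot_le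
        · exact hZM
        · exact hVM
        · exact le_rfl
      · intro φ hφ
        suffices h : (∀ z ∈ Z, autFun φ z = z) ∧ ∀ y ∈ V, y⁻¹ * autFun φ y ∈ Z by
          intro i y hy
          fin_cases i
          · change y ∈ Z at hy
            show y⁻¹ * autFun φ y ∈ (⊥ : Subgroup Ω)
            rw [h.1 y hy, inv_mul_cancel]; exact Subgroup.one_mem _
          · exact h.2 y hy
          · exact hBprop φ hφ y hy
        induction hφ using Subgroup.closure_induction with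
        | mem φ hφ =>
          rcases hφ with rfl | rfl
          · exact ⟨hγZ, fun y hy => hγM y (hVM hy)⟩
          · refine ⟨hβZ, fun y hy => ?_⟩
            have hle : Z ⊔ Subgroup.zpowers w ≤
                ((MonoidHom.eqLocus β.toMonoidHom (MonoidHom.id M))).map M.subtype := by
              refine sup_le (fun z hz => ⟨⟨z, hZM hz⟩, Subtype.ext ?_, rfl⟩)
                (Subgroup.zpowers_le.mpr ⟨⟨w, hwM⟩, Subtype.ext ?_, rfl⟩)
              · exact (autFun_coe β ⟨z, hZM hz⟩).symm.trans (hβZ z hz)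
              · exact (autFun_coe β ⟨w, hwM⟩).symm.trans hβw
            obtain ⟨y', hy', rfl⟩ := hle hy
            rw [Subgroup.coe_subtype, autFun_coe, show β y' = y' from hy', inv_mul_cancel]
            exact Z.one_mem
        | one =>
          exact ⟨fun z hz => autFun_one (hZM hz), fun y hy => by
            rw [autFun_one (hVM hy), inv_mul_cancel]; exact Z.one_mem⟩
        | mul a b ha' hb' ha hb =>
          refine ⟨fun z hz => by rw [autFun_mul _ _ (hZM hz), hb.1 z hz, ha.1 z hz], fun y hy => ?_⟩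
          rw [autFun_mul _ _ (hVM hy), show y⁻¹ * autFun a (autFun b y) =
            (y⁻¹ * autFun b y) * ((autFun b y)⁻¹ * autFun a (autFun b y)) by group]
          exact Z.mul_mem (hb.2 y hy) (ha.2 _ (hBV b hb' y hy))
        | inv a ha' ha =>
          refine ⟨fun z hz => ?_, fun y hy => ?_⟩
          · conv_lhs => rw [← ha.1 z hz, autFun_inv_autFun _ (hZM hz)]
          · have := Z.inv_mem (ha.2 _ (hBV _ (Subgroup.inv_mem _ ha') y hy))
            rwa [autFun_autFun_inv a (hVM hy), mul_inv_rev, inv_inv] at this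
  -- `SL(2,p)` on `V`
  set V' := V.subgroupOf M with hV'
  let ρ : B →* MulAut V' := MonoidHom.mk' (fun φ => Coprime23.restrictAut (φ : MulAut M) V' fun u hu => by
      have h1 := hBV φ φ.2 (u : Ω) hu
      rw [autFun_coe] at h1
      exact h1)
    fun φ φ' => MulEquiv.ext fun u => Subtype.ext rfl
  have hρ : ∀ (φ : B) (u : V'), (((ρ φ u : V') : M) : Ω) = autFun (φ : MulAut M) ((u : M) : Ω) :=
    fun φ u => (autFun_coe (φ : MulAut M) (u : M)).symm
  have hV'c : IsMulCommutative V' :=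
    ⟨⟨fun a b => Subtype.ext (Subtype.ext (hMab _ (a : M).2 _ (b : M).2).eq)⟩⟩
  have hV'e : ∀ u : V', u ^ p = 1 := fun u => Subtype.ext (Subtype.ext (hMexp _ (u : M).2))
  have hwo : orderOf w = p := orderOf_eq_prime hwp fun h => hfx (show w ∈ Z from h ▸ Z.one_mem)
  have hV'card : Nat.card V' = p ^ 2 := by
    rw [hV', Nat.card_congr (Subgroup.subgroupOfEquivOfLe hVM).toEquiv]
    let Φ := MonoidHom.noncommCoprod Z.subtype (Subgroup.zpowers w).subtype fun z y =>
      hMab _ (hZM z.2) _ ((Subgroup.zpowers_le.mpr hwM) y.2)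
    have hr : Φ.range = V := by
      exact (MonoidHom.noncommCoprod_range _ _ _).trans (by rw [Subgroup.range_subtype, Subgroup.range_subtype])
    have hinj : Function.Injective Φ := by
      refine (injective_iff_map_eq_one Φ).mpr ?_
      rintro ⟨⟨z, hz⟩, ⟨y, hy⟩⟩ h
      have h' : z * y = 1 := h
      have hy1 : y = 1 := by
        by_contra hne
        apply hfx
        have hyZ : y ∈ Z := eq_inv_of_mul_eq_one_right h' ▸ Z.inv_mem hz
        have hg1 := hgenZ y hyZ hne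
        have := finite_of_le (Subgroup.zpowers_le.mpr (hPS hwP))
        have hg2 : Subgroup.zpowers y = Subgroup.zpowers w :=
          Subgroup.eq_of_le_of_card_ge (Subgroup.zpowers_le.mpr hy) (by
            rw [hg1, hZcard, Nat.card_zpowers, hwo])
        exact (hg2.symm.trans hg1).le (Subgroup.mem_zpowers w)
      subst hy1
      rw [mul_one] at h'
      subst h'
      rfl
    rw [← hr, ← Nat.card_congr (MonoidHom.ofInjective hinj).toEquiv, Nat.card_prod, hZcard,
      Nat.card_zpowers, hwo, pow_two]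
  have hγB : γ ∈ B := Subgroup.subset_closure (by simp)
  have hβB : β ∈ B := Subgroup.subset_closure (by simp)
  set x' : V' := ⟨⟨x, hZM hxZ⟩, (le_sup_left : Z ≤ V) hxZ⟩
  set w' : V' := ⟨⟨w, hwM⟩, (le_sup_right : Subgroup.zpowers w ≤ V) (Subgroup.mem_zpowers w)⟩
  have hnc : ¬ Commute (ρ ⟨γ, hγB⟩) (ρ ⟨β, hβB⟩) := by
    intro h
    have h1 := congrArg (fun u : V' => ((u : M) : Ω)) (DFunLike.congr_fun h.eq w')
    simp only [MulAut.mul_apply, hρ] at h1
    rw [show autFun β ((w' : M) : Ω) = w from hβw, show ((w' : M) : Ω) = w from rfl] at h1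
    -- `β` fixes `autFun γ w`, hence `x`
    apply hβx
    set z := w⁻¹ * autFun γ w with hz
    have hzZ : z ∈ Z := hγM w hwM
    have hz1 : z ≠ 1 := fun h' => hγw (inv_mul_eq_one.mp h').symm
    have hm := mapTo_of_mem_autGroup hMS hβF
    have hbz : autFun β z = z := by
      rw [hz, hm.map_mul (M.inv_mem hwM) (autFun_mem _ hwM), hm.map_inv hwM, hβw, ← h1]
    obtain ⟨i, hi⟩ : ∃ i : ℕ, z ^ i = x :=
      ((isOfFinOrder_iff_pow_eq_one.mpr ⟨p, hp.out.pos, hZp _ hzZ⟩).mem_powers_iff_mem_zpowers.mpr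
        ((hgenZ _ hzZ hz1).ge hxZ) :)
    rw [← hi, hm.map_pow (hZM hzZ), hbz]
  obtain ⟨K, hK, -, c', hcK, hc'⟩ := exists_sl2_le' hV'c hV'e hV'card ρ.range ⟨⟨γ, hγB⟩, rfl⟩
    ⟨⟨β, hβB⟩, rfl⟩ (by rw [← map_pow, show (⟨γ, hγB⟩ : B) ^ p = 1 from Subtype.ext hγp, map_one])
    (by rw [← map_pow, show (⟨β, hβB⟩ : B) ^ p = 1 from Subtype.ext hβp, map_one]) hnc
  obtain ⟨φ, hφc⟩ := hK hcK
  obtain ⟨T, hT⟩ := (IsPGroup.of_card (n := 1) (by
    rw [pow_one, Nat.card_zpowers, ← Subgroup.orderOf_coe]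
    exact orderOf_eq_prime hγp fun h => hγw (by rw [show γ = 1 from h, autFun_one hwM])) :
      IsPGroup p (Subgroup.zpowers (⟨γ, hγB⟩ : B))).exists_le_sylow
  obtain ⟨ψ, hψρ, hψT⟩ := exists_normalizes_of_map_mem_center ρ T (φ := φ)
    (Subgroup.mem_center_iff.mpr fun b => MulEquiv.ext fun u => by
      show b (ρ φ u) = ρ φ (b u)
      rw [hφc, hc', hc', map_inv])
  obtain ⟨δ, hδ, hδT⟩ := exists_conj_le_autInducedBy
    (isFullyAutomized_of_isFullyNormalized hS hF hMfn)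
    (A := (T : Subgroup B).map B.subtype)
    (fun a ha => by obtain ⟨b, -, rfl⟩ := ha; exact hBF b.2) (T.isPGroup'.map _)
  have hγT : (⟨γ, hγB⟩ : B) ∈ (T : Subgroup B) := hT (Subgroup.mem_zpowers _)
  have hψγ : (ψ : MulAut M) * γ * (ψ : MulAut M)⁻¹ ∈ Subgroup.zpowers γ :=
    hswitch δ hδ (hδT γ ⟨_, hγT, rfl⟩) ψ (hBF ψ.2) (hδT _ ⟨_, hψT _ hγT, rfl⟩)
  have hψA : (ψ : MulAut M) * γ * (ψ : MulAut M)⁻¹ ∈ autInducedBy S M :=
    Subgroup.zpowers_le.mpr hγA hψγ
  obtain ⟨g, hg, hgf⟩ := (isReceptive_iff.mp (isReceptive_of_isFullyNormalized hS hF hMfn)).2 M _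
    (mapTo_of_mem_autGroup hMS (hBF ψ.2)) (img_autFun _)
  obtain ⟨h, hh, hx'⟩ := mem_autInducedBy_iff_cj.mp hψA
  have hvN : v ∈ extSub S (mapTo_of_mem_autGroup (F := F) hMS (hBF ψ.2)) := ⟨hNM.ge (hPS hvP), h, hh,
    fun m hm => by
      have h2 := hx' _ (autFun_mem (ψ : MulAut M) hm)
      rw [autFun_mul _ _ (autFun_mem _ hm), autFun_inv_autFun _ hm, autFun_mul _ _ hm, hγ m hm] at h2
      exact h2⟩
  have hginv : ∀ u : V', g ((u : M) : Ω) = ((u : M) : Ω)⁻¹ := fun u => by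
    rw [hgf _ (u : M).2, ← hρ, hψρ, hφc, hc']
    rfl
  set u := g v with hu
  have huP : u ∈ P := StronglyClosed.map_mem hP hg hvN hvP
  have hcu : u * w * u⁻¹ = v * w * v⁻¹ := by
    have hwV : v * w * v⁻¹ ∈ V := by
      have := hBV γ hγB w ((le_sup_right : Subgroup.zpowers w ≤ V) (Subgroup.mem_zpowers w))
      rwa [hγ w hwM] at this
    have h1 := hg.map_conj hvN (le_extSub _ hwM)
    rw [hginv ⟨⟨_, hVM hwV⟩, hwV⟩, hginv w'] at h1
    have h2 := congrArg (·⁻¹) h1
    simp only [inv_inv, mul_inv_rev] at h2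
    rw [h2]
    show u * w * u⁻¹ = g v * (w * (g v)⁻¹)
    rw [hu, mul_assoc]
  have hmM : v⁻¹ * u ∈ M := hMmem _ (P.mul_mem (P.inv_mem hvP) huP) (by
    show v⁻¹ * u * w = w * (v⁻¹ * u)
    calc v⁻¹ * u * w = v⁻¹ * (u * w * u⁻¹) * u := by group
      _ = w * (v⁻¹ * u) := by rw [hcu]; group)
  have hvu : u ^ p = v ^ p := by
    set m := v⁻¹ * u with hm
    have hz : ⁅m⁻¹, v⁻¹⁆ ∈ Z := hcomm _ (P.inv_mem (hMP hmM)) _ (P.inv_mem hvP)
    have hrel : m * v = v * m * ⁅m⁻¹, v⁻¹⁆ := by rw [commutatorElement_def]; group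
    obtain ⟨r, hr⟩ : 2 ∣ p - 1 := (hp.out.even_sub_one hp2).two_dvd
    calc u ^ p = (v * m) ^ p := by rw [hm, mul_inv_cancel_left]
      _ = v ^ p := by
        rw [Coprime23.mul_pow_of_central hrel (hZc _ hz m (hMS hmM)).symm (hZc _ hz v (hPS hvP)).symm,
          hMexp m hmM, mul_one, hr, mul_left_comm, Nat.mul_div_cancel_left _ (by norm_num), pow_mul,
          hZp _ hz, one_pow, mul_one]
  have hvpZ : v ^ p ∈ Z := hpow v hvP
  have hinvp : g (v ^ p) = (v ^ p)⁻¹ := hginv ⟨⟨_, hZM hvpZ⟩, (le_sup_left : Z ≤ V) hvpZ⟩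
  rw [hg.map_pow hvN, ← hu, hvu] at hinvp
  have h2 : (v ^ p) ^ 2 = 1 := by rw [pow_two]; exact mul_eq_one_iff_eq_inv.mpr hinvp
  have hord : orderOf (v ^ p) = p := orderOf_eq_prime (hZp _ hvpZ) (hnov v hvP hvw)
  have := orderOf_dvd_of_pow_eq_one h2
  rw [hord] at this
  exact hp2 ((Nat.prime_dvd_prime_iff_eq hp.out Nat.prime_two).mp this)

end Cfsg.Agent.Fusion
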