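import Mathlib
import Cfsg.Prelude.Def_PLocal
import Cfsg.Agent.Lib.Fusion.CenterJ
import Cfsg.Agent.Lib.Fusion.CoreDecomp
import Cfsg.Agent.Lib.Transfer.ZJRel
import Cfsg.Agent.Lib.Transfer.Glauberman

/-!
# The Glauberman-Thompson criterion for fusion systems

For odd `p` a saturated system is inner when every map normalizing `Z(J(D))` is inner, `D` a
strongly closed subgroup.
-/

set_option autoImplicit false
set_option linter.style.haveILetI false

namespace Cfsg.Agent.Fusion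

open Cfsg.FusionSystem (centralizerIn normalizerIn imageAlong preimageAlong)
open Cfsg.Agent.Transfer (JAb ZJAb)

universe u

variable {Ω : Type u} [Group Ω] {S : Subgroup Ω} {F : FusionSystem S}
variable {D T P : Subgroup Ω} {f : Ω → Ω} {x : Ω} {p : ℕ}

theorem img_ZJAb (hf : MapTo F T f) : img f (ZJAb 0 T) = ZJAb 0 (img f T) := by
  obtain ⟨φ, hφ, hφf⟩ := id hf
  have hinj := F.injective_of_mem hφ
  have h1 : (ZJAb 0 T).subgroupOf T = ZJAb 0 (⊤ : Subgroup T) := by
    apply Subgroup.map_injective T.subtype_injective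
    rw [Subgroup.subgroupOf_map_subtype, inf_eq_left.mpr (Transfer.ZJAb_le T),
      Transfer.map_ZJAb _ _ T.subtype_injective.injOn, ← MonoidHom.range_eq_map,
      Subgroup.range_subtype]
  rw [← map_subgroupOf_eq_img hφf (Transfer.ZJAb_le T), h1,
    Transfer.map_ZJAb _ _ hinj.injOn, ← MonoidHom.range_eq_map, range_eq_img hφf]

theorem imageAlong_ZJAb {G : Type*} [Group G] {ι : ↥T →* G} (hι : Function.Injective ι)
    {V : Subgroup Ω} (hV : V ≤ T) :
    imageAlong ι (ZJAb 0 V) = ZJAb 0 (imageAlong ι V) := by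
  have h1 : (ZJAb 0 V).subgroupOf T = ZJAb 0 (V.subgroupOf T) := by
    apply Subgroup.map_injective T.subtype_injective
    rw [Transfer.map_ZJAb _ _ T.subtype_injective.injOn, Subgroup.subgroupOf_map_subtype,
      Subgroup.subgroupOf_map_subtype, inf_eq_left.mpr ((Transfer.ZJAb_le V).trans hV),
      inf_eq_left.mpr hV]
  rw [Cfsg.FusionSystem.imageAlong, h1, Transfer.map_ZJAb _ _ hι.injOn]
  rfl

theorem mem_ZJAb_of_central (hTS : T ≤ S) (hxT : x ∈ T)
    (hxc : x ∈ Subgroup.centralizer (S : Set Ω)) [Finite T] : x ∈ ZJAb 0 T := by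
  refine ⟨?_, Subgroup.mem_centralizer_iff.mpr fun y hy =>
    Subgroup.mem_centralizer_iff.mp hxc y (hTS (Transfer.JAb_le T hy))⟩
  have h1 : (⟨x, hxT⟩ : T) ∈ JAb 0 (⊤ : Subgroup T) :=
    Transfer.center_le_JAb_zero _ ⟨trivial, Subgroup.mem_centralizer_iff.mpr fun y _ =>
      Subtype.ext (Subgroup.mem_centralizer_iff.mp hxc y (hTS y.2))⟩
  have h2 := Subgroup.mem_map_of_mem T.subtype h1
  rwa [Transfer.map_JAb _ _ T.subtype_injective.injOn, ← MonoidHom.range_eq_map,
    Subgroup.range_subtype] at h2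

theorem ZJAb_ne_bot_of_finite [Fact p.Prime] [Finite T] (hT : IsPGroup p T) (h : T ≠ ⊥) :
    ZJAb 0 T ≠ ⊥ := by
  intro h0
  have hm := Transfer.map_ZJAb (e := 0) (⊤ : Subgroup T) T.subtype T.subtype_injective.injOn
  rw [← MonoidHom.range_eq_map, Subgroup.range_subtype, h0] at hm
  haveI : Nontrivial T := (Subgroup.nontrivial_iff_ne_bot T).mpr h
  exact Transfer.ZJAb_ne_bot (Or.inl rfl) (hT.to_subgroup ⊤) top_ne_bot
    ((Subgroup.map_eq_bot_iff_of_injective _ T.subtype_injective).mp hm)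

/-- The hypothesis: maps normalizing `Z(J(D))` are inner. -/
def NormZJInner (F : FusionSystem S) (D : Subgroup Ω) : Prop :=
  ∀ (P : Subgroup Ω) (f g : Ω → Ω), MapTo F P f → MapTo F (P ⊔ ZJAb 0 D) g →
    (∀ x ∈ P, g x = f x) → img g (ZJAb 0 D) = ZJAb 0 D → MapTo (innerFusionSystem S) P f

variable [Finite S] [Fact p.Prime]

/-- Central elements of `S` in `D` are central in the system. -/
theorem mem_center_of_normZJInner (hodd : p ≠ 2) (hS : IsPGroup p S) (hF : F.IsSaturated p)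
    (hD : F.StronglyClosed D) (hyp : NormZJInner F D) (hxD : x ∈ D)
    (hxc : x ∈ Subgroup.centralizer (S : Set Ω)) : x ∈ F.center := by
  have hxS := hD.1 hxD
  have htop : ∀ V, V = D → ∀ α ∈ F.autGroup (ZJAb 0 V), autFun α x = x := by
    intro V hV α hα
    subst V
    have hU : ZJAb 0 D ≤ S := (Transfer.ZJAb_le D).trans hD.1
    have := finite_of_le hD.1
    have hm := mapTo_of_mem_autGroup hU hα
    obtain ⟨-, g, hg, hgx⟩ := mapTo_inner_iff.mp
      (hyp _ _ (autFun α) hm (by rwa [sup_idem]) (fun _ _ => rfl) (img_autFun α))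
    rw [hgx x (mem_ZJAb_of_central hD.1 hxD hxc),
      Subgroup.mem_centralizer_iff.mp hxc g hg, mul_inv_cancel_right]
  refine mem_center_of_local hS hF hxS hxc (fun T => ZJAb 0 (D ⊓ T))
    (fun T _ => (Transfer.ZJAb_le _).trans inf_le_right) (fun T hT hxT => ?_) (fun T f hf => ?_)
    (fun α hα => ?_) fun R hRn hRc E hE G _ ι hmod ha => ?_
  · have := finite_of_le (inf_le_right.trans hT : D ⊓ T ≤ S)
    exact mem_ZJAb_of_central (inf_le_right.trans hT) ⟨hxD, hxT⟩ hxc
  · show img f (ZJAb 0 (D ⊓ T)) = ZJAb 0 (D ⊓ img f T)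
    rw [img_ZJAb (hf.restrict inf_le_right)]
    congr 1
    refine le_antisymm (le_inf (img_le_of_forall fun y hy =>
      StronglyClosed.map_mem hD hf hy.2 hy.1) (img_mono inf_le_right)) ?_
    rintro y ⟨hyD, hy⟩
    obtain ⟨z, hz, rfl⟩ := (hf.mem_img_iff le_rfl).mp hy
    exact mem_img_of_mem ⟨StronglyClosed.mem_of_map_mem hD hf hz hyD, hz⟩
  · exact htop _ (inf_eq_left.mpr hD.1) α hα
  · obtain ⟨hfin, hreal, ⟨P, hP⟩, hC⟩ := hmod
    have hTS : normalizerIn S R ≤ S := normalizerIn_le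
    have hxR : x ∈ R := centralizerIn_le_of_isCentric hRc (mem_centralizerIn.mpr
      ⟨hxS, fun y hy => Subgroup.mem_centralizer_iff.mp hxc y (hRn.1 hy)⟩)
    have hxT : x ∈ normalizerIn S R := le_normalizerIn hRn.1 hxR
    have hDT : D ⊓ normalizerIn S R ≤ normalizerIn S R := inf_le_right
    refine Transfer.commute_of_normalizer_ZJ_rel hodd P (imageAlong ι (D ⊓ normalizerIn S R))
      (hP ▸ imageAlong_le_range) (fun d hd a hda => ?_) (th ι x)
      (th_mem_imageAlong hDT ⟨hxD, hxT⟩) (Subgroup.mem_centralizer_iff.mpr fun y hy => ?_) hC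
      (fun a hmem => ?_)
    · obtain ⟨d₀, hd₀, rfl⟩ := (mem_imageAlong hDT).mp hd
      have hzp : Subgroup.zpowers d₀ ≤ normalizerIn S R := Subgroup.zpowers_le.mpr hd₀.2
      obtain ⟨k, hk, hka⟩ := IsRealizedBy.exists_mapTo hreal hzp a fun y hy => by
        obtain ⟨i, rfl⟩ := Subgroup.mem_zpowers_iff.mp hy
        have e : th ι (d₀ ^ i) = th ι d₀ ^ i := by
          rw [th_apply ι (hzp hy), th_apply ι hd₀.2, ← map_zpow]
          rfl
        rw [e, ← conj_zpow]
        exact Subgroup.zpow_mem _ (hP ▸ hda) i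
      rw [← hka d₀ (Subgroup.mem_zpowers d₀)]
      obtain ⟨-, -, e, he, hek, -⟩ := (mapTo_nSys_iff hE).mp hk
      refine th_mem_imageAlong hDT ⟨?_, hk.mem (Subgroup.mem_zpowers d₀)⟩
      rw [← hek d₀ (Subgroup.mem_zpowers d₀)]
      exact StronglyClosed.map_mem hD he (Subgroup.mem_sup_left (Subgroup.mem_zpowers d₀)) hd₀.1
    · rw [SetLike.mem_coe, hP] at hy
      obtain ⟨w, hw, rfl⟩ := exists_th_eq hy
      rw [← th_mul ι hw hxT, ← th_mul ι hxT hw,
        Subgroup.mem_centralizer_iff.mp hxc w (hTS hw)]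
    · refine Subgroup.mem_centralizer_iff.mpr fun b hb => ?_
      rw [Set.mem_singleton_iff.mp hb]
      refine (ha a ?_).symm
      rwa [imageAlong_ZJAb hreal.1 hDT]

omit [Finite S] in
theorem eq_of_hom_eq_inner (h : ∀ (P : Subgroup Ω) (f : Ω → Ω), MapTo F P f →
    MapTo (innerFusionSystem S) P f) : F = innerFusionSystem S :=
  fusionSystem_ext fun P f => ⟨h P f, fun hf => le_iff_mapTo.mp (inner_le F) P f hf⟩

/-- The constrained case, for any subgroup `U` becoming normal in stable models. -/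
theorem range_eq_top_of_normInner (hodd : p ≠ 2) (hS : IsPGroup p S) {U : Subgroup Ω} (hUS : U ≤ S)
    (hyp : ∀ (P : Subgroup Ω) (f g : Ω → Ω), MapTo F P f → MapTo F (P ⊔ U) g →
      (∀ x ∈ P, g x = f x) → img g U = U → MapTo (innerFusionSystem S) P f)
    {G : Type u} [Group G] {ι : S →* G} (hmod : F.IsModel p G ι)
    (hnorm : Transfer.PStableElts p G → (imageAlong ι U).Normal)
    (hsub : ∀ E : FusionSystem S, E.IsSaturated p →
      (∀ (P : Subgroup Ω) (f : Ω → Ω), MapTo E P f → MapTo F P f) →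
      (∃ (P : Subgroup Ω) (f : Ω → Ω), MapTo F P f ∧ ¬ MapTo E P f) → E = innerFusionSystem S)
    {Ω' : Type u} [Group Ω'] {S' : Subgroup Ω'} [Finite S'] (hS' : IsPGroup p S')
    {θ : S →* Ω'} {E : FusionSystem S'} (hmor : F.IsSurjectiveMorphism E θ)
    (hk : kerIn θ ≤ F.core)
    (hE : ∀ (R : Subgroup Ω') (g : Ω' → Ω'), MapTo E R g → MapTo (innerFusionSystem S') R g) :
    ι.range = ⊤ := by
  obtain ⟨hfin, hreal, ⟨T, hT⟩, hC⟩ := id hmod
  set X := Cfsg.pCore p G with hX
  set Q₀ := preimageAlong ι X with hQ₀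
  have hQ₀S : Q₀ ≤ S := preimageAlong_le
  have hXr : X ≤ ι.range := IsModel.pCore_le_range hmod
  have hXn : X.Normal := normal_pCore p G
  -- an element acting on the core as an element of `S` lies in the image of `S`
  have hgen : ∀ (a : G) (f : Ω → Ω),
      (∀ z ∈ Q₀, th ι (f z) = a * th ι z * a⁻¹) → MapTo (innerFusionSystem S) Q₀ f →
      a ∈ ι.range := by
    intro a f hfa hf
    obtain ⟨-, s, hs, hsf⟩ := mapTo_inner_iff.mp hf
    have hc : (th ι s)⁻¹ * a ∈ X := by
      refine hC (Subgroup.mem_centralizer_iff.mpr fun y hy => ?_)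
      obtain ⟨z, hz, rfl⟩ := exists_th_eq (hXr hy)
      have e := hfa z (mem_preimageAlong.mpr ⟨hz, hy⟩)
      rw [hsf z (mem_preimageAlong.mpr ⟨hz, hy⟩), th_conj ι hs hz] at e
      calc th ι z * ((th ι s)⁻¹ * a) = (th ι s)⁻¹ * (th ι s * th ι z * (th ι s)⁻¹) * a := by group
        _ = (th ι s)⁻¹ * a * th ι z := by rw [e]; group
    have := Subgroup.mul_mem _ (th_mem_range ι s) (hXr hc)
    rwa [mul_inv_cancel_left] at this
  have hQ₀n : F.IsNormal Q₀ := IsModel.isNormal_core_preimage hmod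
  have hmapQ : ∀ a : G, ∃ f, MapTo F Q₀ f ∧ ∀ z ∈ Q₀, th ι (f z) = a * th ι z * a⁻¹ := fun a =>
    IsRealizedBy.exists_mapTo hreal hQ₀S a fun z hz =>
      hXr (hXn.conj_mem _ (mem_preimageAlong.mp hz).2 a)
  set U' := imageAlong ι U with hU'
  -- the normalizer of `Z(J(D))`
  have hNU : Subgroup.normalizer (U' : Set G) ≤ ι.range := by
    intro a ha
    obtain ⟨f, hf, hfa⟩ := hmapQ a
    obtain ⟨g, hg, hga⟩ := IsRealizedBy.exists_mapTo hreal (sup_le hQ₀S hUS) a fun y hy => by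
      have hle : Q₀ ⊔ U ≤ preimageAlong ι (ι.range.comap (MulAut.conj a).toMonoidHom) :=
        sup_le (fun z hz => mem_preimageAlong.mpr ⟨hQ₀S hz,
          hXr (hXn.conj_mem _ (mem_preimageAlong.mp hz).2 a)⟩) fun z hz =>
          mem_preimageAlong.mpr ⟨hUS hz, imageAlong_le_range
            ((Subgroup.mem_normalizer_iff.mp ha _).mp (th_mem_imageAlong hUS hz))⟩
      exact (mem_preimageAlong.mp (hle hy)).2
    have := finite_of_le hUS
    refine hgen a f hfa (hyp Q₀ f g hf hg (fun z hz => th_inj hreal.1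
      (hg.mem (Subgroup.mem_sup_left hz)) (hf.mem hz)
      (by rw [hga z (Subgroup.mem_sup_left hz), hfa z hz])) ?_)
    refine img_eq_self_of_forall (hg.restrict le_sup_right) fun z hz => ?_
    obtain ⟨w, hw, hwe⟩ := (mem_imageAlong hUS).mp
      ((Subgroup.mem_normalizer_iff.mp ha _).mp (th_mem_imageAlong (θ := ι) hUS hz))
    rw [th_inj hreal.1 (hg.mem (Subgroup.mem_sup_right hz)) (hUS hw)
      ((hga z (Subgroup.mem_sup_right hz)).trans hwe.symm)]
    exact hw
  -- subgroups containing the Sylow subgroup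
  have hover : ∀ H : Subgroup G, H ≠ ⊤ → (T : Subgroup G) ≤ H → H = T := by
    intro H hH hTH
    refine le_antisymm (fun a ha => ?_) hTH
    rw [hT]
    have hιH : ∀ s, ι s ∈ H := fun s => hTH (hT ▸ ⟨s, rfl⟩)
    let ι' : S →* H := ι.codRestrict H hιH
    let C : Subgroup Ω → (Ω → Ω) → Prop := fun P f =>
      ∃ b ∈ H, ∀ z ∈ P, th ι (f z) = b * th ι z * b⁻¹
    let E' := restrictSys F C
      (fun {P f g} _ ⟨b, hb, hbf⟩ hgf => ⟨b, hb, fun z hz => by rw [hgf z hz]; exact hbf z hz⟩)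
      (fun {P g} hP hg => ⟨th ι g, hTH (hT ▸ th_mem_range ι g),
        fun z hz => th_conj ι hg (hP hz)⟩)
      (fun {P R f g} _ _ hfR ⟨b, hb, hbf⟩ ⟨c, hc, hcg⟩ => ⟨c * b, H.mul_mem hc hb, fun z hz => by
        show th ι (g (f z)) = _
        rw [hcg _ (hfR z hz), hbf z hz]
        group⟩)
      (fun {P f g} hf _ hgf ⟨b, hb, hbf⟩ => ⟨b⁻¹, H.inv_mem hb, fun y hy => by
        obtain ⟨z, hz, rfl⟩ := (hf.mem_img_iff le_rfl).mp hy
        rw [hgf z hz, hbf z hz]
        group⟩)
    have hE'F : ∀ (P : Subgroup Ω) (f : Ω → Ω), MapTo E' P f → MapTo F P f :=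
      fun P f ⟨φ, hφ, hφf⟩ => ⟨φ, hφ.1, hφf⟩
    have hreal' : E'.IsRealizedBy ι' := by
      refine ⟨fun s t hst => hreal.1 (congrArg Subtype.val hst), fun P hP φ hφ => ?_⟩
      constructor
      · rintro ⟨-, b, hb, hbφ⟩
        refine ⟨⟨b, hb⟩, fun z => Subtype.ext ?_⟩
        have e := hbφ z z.2
        rw [ev_coe, th_apply ι (hφ z), th_apply ι (hP z.2)] at e
        exact e
      · rintro ⟨⟨b, hb⟩, hbφ⟩
        refine ⟨(hreal.2 P hP φ hφ).mpr ⟨b, fun z => congrArg Subtype.val (hbφ z)⟩, b, hb,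
          fun z hz => ?_⟩
        rw [ev_apply φ hz, th_apply ι (hφ ⟨z, hz⟩), th_apply ι (hP hz)]
        exact congrArg Subtype.val (hbφ ⟨z, hz⟩)
    have hrange : ((T.subtype hTH : Sylow p H) : Subgroup H) = ι'.range := by
      ext y
      rw [Sylow.coe_subtype, Subgroup.mem_subgroupOf, hT]
      exact ⟨fun ⟨s, hs⟩ => ⟨s, Subtype.ext hs⟩, fun ⟨s, hs⟩ => ⟨s, congrArg Subtype.val hs⟩⟩
    have hE's : E'.IsSaturated p := IsRealizedBy.isSaturated hreal' _ hrange
    obtain ⟨b, hbH⟩ : ∃ b, b ∉ H := by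
      by_contra hcon
      push Not at hcon
      exact hH (eq_top_iff.mpr fun b _ => hcon b)
    obtain ⟨fb, hfb, hfba⟩ := hmapQ b
    have hE'i := hsub E' hE's hE'F ⟨Q₀, fb, hfb, fun hcon => by
      obtain ⟨φ, ⟨-, c, hc, hcφ⟩, hφf⟩ := hcon
      refine hbH ?_
      have hcX : c⁻¹ * b ∈ X := hC (Subgroup.mem_centralizer_iff.mpr fun y hy => by
        obtain ⟨z, hz, rfl⟩ := exists_th_eq (hXr hy)
        have e := hcφ z (mem_preimageAlong.mpr ⟨hz, hy⟩)
        rw [ev_apply φ (mem_preimageAlong.mpr ⟨hz, hy⟩), hφf, hfba z (mem_preimageAlong.mpr ⟨hz, hy⟩)]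
          at e
        calc th ι z * (c⁻¹ * b) = c⁻¹ * (c * th ι z * c⁻¹) * b := by group
          _ = c⁻¹ * b * th ι z := by rw [← e]; group)
      have := H.mul_mem hc (hTH (hT ▸ hXr hcX))
      rwa [mul_inv_cancel_left] at this⟩
    obtain ⟨fa, hfa, hfaa⟩ := hmapQ a
    obtain ⟨φ, hφ, hφf⟩ := id hfa
    refine hgen a fa hfaa ⟨φ, ?_, hφf⟩
    rw [← hE'i]
    refine ⟨hφ, a, ha, fun z hz => ?_⟩
    rw [ev_apply φ hz, hφf]
    exact hfaa z hz
  -- the quotient by the core has a normal complement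
  have hquot : Cfsg.HasNormalPComplement p (G ⧸ X) := by
    refine Transfer.hasNormalPComplement_of_frobenius fun V hV a ha hao => ?_
    obtain ⟨a₀, rfl⟩ := QuotientGroup.mk'_surjective X a
    obtain ⟨k, r, hr, hkr⟩ := Nat.exists_eq_pow_mul_and_not_dvd (orderOf_pos a₀).ne' p
      (Fact.out : p.Prime).ne_one
    obtain ⟨m, hm⟩ := exists_pow_eq_self_of_coprime (x := QuotientGroup.mk' X a₀) (n := p ^ k)
      (hao.pow_right k).symm
    set a₁ := (a₀ ^ p ^ k) ^ m with ha₁def
    have ha₁r : a₁ ^ r = 1 := by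
      rw [ha₁def, ← pow_mul, mul_comm m r, pow_mul, ← pow_mul a₀, ← hkr, pow_orderOf_eq_one,
        one_pow]
    have ha₁ : QuotientGroup.mk' X a₁ = QuotientGroup.mk' X a₀ := by
      rw [ha₁def, map_pow, map_pow]
      exact hm
    have hUp : IsPGroup p (V.comap (QuotientGroup.mk' X)) := hV.comap_of_ker_isPGroup _
      (by rw [QuotientGroup.ker_mk']; exact isPGroup_pCore p G)
    obtain ⟨T₁, hT₁⟩ := hUp.exists_le_sylow
    obtain ⟨c, hc⟩ := MulAction.exists_smul_eq G T₁ T
    have hUT : ∀ y ∈ V.comap (QuotientGroup.mk' X), c * y * c⁻¹ ∈ ι.range := fun y hy => by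
      rw [← hT, ← hc, Sylow.coe_subgroup_smul]
      exact ⟨y, hT₁ hy, rfl⟩
    set R := preimageAlong ι ((V.comap (QuotientGroup.mk' X)).map (MulAut.conj c).toMonoidHom)
    have hRS : R ≤ S := preimageAlong_le
    set b := c * a₁ * c⁻¹ with hb
    have hbN : ∀ z ∈ R, b * th ι z * b⁻¹ ∈
        (V.comap (QuotientGroup.mk' X)).map (MulAut.conj c).toMonoidHom := by
      intro z hz
      obtain ⟨y, hy, hye⟩ := (mem_preimageAlong.mp hz).2
      refine ⟨a₁ * y * a₁⁻¹, ?_, ?_⟩
      · show QuotientGroup.mk' X (a₁ * y * a₁⁻¹) ∈ V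
        rw [map_mul, map_mul, map_inv, ha₁]
        exact (Subgroup.mem_normalizer_iff.mp ha _).mp hy
      · rw [← hye, hb]
        simp [mul_assoc]
    have hrR : ∀ w ∈ (V.comap (QuotientGroup.mk' X)).map (MulAut.conj c).toMonoidHom,
        w ∈ ι.range := by
      rintro _ ⟨y, hy, rfl⟩
      exact hUT y hy
    obtain ⟨f, hf, hfb⟩ := IsRealizedBy.exists_mapTo hreal hRS b fun z hz => hrR _ (hbN z hz)
    have := finite_of_le hRS
    have himg : img f R = R := img_eq_self_of_forall hf fun z hz =>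
      mem_preimageAlong.mpr ⟨hf.mem hz, by rw [hfb z hz]; exact hbN z hz⟩
    obtain ⟨Φ, hΦ⟩ := IsMorphism.exists_autHom hmor.1 hRS
    set α : F.autGroup R := ⟨autOf hf himg, autOf_mem hf himg⟩ with hα
    have hpow : ∀ j : ℕ, ∀ z ∈ R,
        th ι (autFun ((α : MulAut R) ^ j) z) = b ^ j * th ι z * (b ^ j)⁻¹ := by
      intro j
      induction j with
      | zero => intro z hz; rw [pow_zero, pow_zero, autFun_one hz, one_mul, inv_one, mul_one]
      | succ j ih =>
        intro z hz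
        rw [autFun_pow_succ _ _ hz, ih _ (autFun_mem _ hz), autFun_autOf hf himg hz, hfb z hz,
          pow_succ]
        group
    have hαr : α ^ r = 1 := Subtype.ext (autFun_ext fun z hz => by
      rw [SubmonoidClass.coe_pow, OneMemClass.coe_one, autFun_one hz]
      refine th_inj hreal.1 (hRS (autFun_mem _ hz)) (hRS hz) ?_
      rw [hpow r z hz, hb, conj_pow, ha₁r]
      group)
    have hΦ1 : Φ α = 1 := by
      obtain ⟨i, hi⟩ := isPGroup_autGroup_of_inner (p := p) hS' hE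
        (hmor.2.1 ▸ imageAlong_le_range : imageAlong θ R ≤ S') (Φ α)
      refine orderOf_eq_one_iff.mp (Nat.eq_one_of_dvd_coprimes
        (((Fact.out : p.Prime).coprime_iff_not_dvd.mpr hr).symm.pow_right i)
        (orderOf_dvd_of_pow_eq_one (by rw [← map_pow, hαr, map_one]))
        (orderOf_dvd_of_pow_eq_one hi))
    refine Subgroup.mem_centralizer_iff.mpr fun v hv => ?_
    obtain ⟨y, rfl⟩ := QuotientGroup.mk'_surjective X v
    obtain ⟨z, hzS, hz⟩ := exists_th_eq (hUT y hv)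
    have hzR : z ∈ R := mem_preimageAlong.mpr ⟨hzS, hz ▸ ⟨y, hv, rfl⟩⟩
    have hker : z⁻¹ * f z ∈ Q₀ := by
      refine (hk.trans (IsModel.le_core_preimage hmod (isNormal_core F))) ?_
      refine (th_eq_iff (hRS hzR) (hf.mem hzR)).mp ?_
      rw [← autFun_autOf hf himg hzR, ← hΦ α z hzR, hΦ1, OneMemClass.coe_one,
        autFun_one (th_mem_imageAlong hRS hzR)]
    have h1 := (mem_preimageAlong.mp hker).2
    rw [th_mul ι (S.inv_mem hzS) (hf.mem hzR), th_inv ι hzS, hfb z hzR, hz, hb] at h1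
    have h2 := hXn.conj_mem _ h1 c⁻¹
    have h3 : QuotientGroup.mk' X (y⁻¹ * (a₁ * y * a₁⁻¹)) = 1 := by
      refine (QuotientGroup.eq_one_iff _).mpr ?_
      convert h2 using 1
      group
    rw [map_mul, map_inv, inv_mul_eq_one, map_mul, map_mul, map_inv, ha₁,
      eq_mul_inv_iff_mul_eq] at h3
    exact h3
  by_contra hne
  have hcore0 : Cfsg.pPrimeCore p G = ⊥ := by
    have h1 := Cfsg.Agent.Basics.not_dvd_card_pPrimeCore (G := G) p
    have hd : Disjoint X (Cfsg.pPrimeCore p G) := by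
      rw [disjoint_iff, eq_bot_iff]
      rintro y ⟨hy, hy'⟩
      obtain ⟨i, hi⟩ := isPGroup_pCore p G ⟨y, hy⟩
      refine Subgroup.mem_bot.mpr (orderOf_eq_one_iff.mp (Nat.eq_one_of_dvd_coprimes
        (((Fact.out : p.Prime).coprime_iff_not_dvd.mpr h1).symm.pow_right i) ?_
        (orderOf_dvd_of_pow_eq_one (congrArg Subtype.val hi))))
      rw [← Subgroup.orderOf_mk y hy']
      exact orderOf_dvd_natCard _
    have hc : Cfsg.pPrimeCore p G ≤ X := fun y hy => hC (Subgroup.mem_centralizer_iff.mpr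
      fun z hz => (Subgroup.commute_of_normal_of_disjoint _ _ hXn inferInstance hd z y hz hy).eq)
    exact le_bot_iff.mp (hd le_rfl |> fun _ => (disjoint_iff.mp hd) ▸ le_inf hc le_rfl)
  have hsubH : ∀ H : Subgroup G, H ≠ ⊤ → (T : Subgroup G) ≤ H →
      Cfsg.HasNormalPComplement p H := by
    intro H hH hTH
    rw [hover H hH hTH]
    refine Transfer.hasNormalPComplement_of_frobenius fun V _ g _ hg => ?_
    obtain ⟨i, hi⟩ := T.isPGroup' g
    have : g = 1 := orderOf_eq_one_iff.mp (Nat.eq_one_of_dvd_coprimes (hg.pow_right i) dvd_rfl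
      (orderOf_dvd_of_pow_eq_one hi))
    rw [this]
    exact Subgroup.one_mem _
  obtain ⟨hCX, hmax, hKab, hfix⟩ := Transfer.core_structure T hcore0 hsubH hquot
  have hn := hnorm (Transfer.pStableElts_of_core T hodd hquot hmax hKab hfix)
  exact hne (top_le_iff.mp (Subgroup.normalizer_eq_top_iff.mpr hn ▸ hNU))

/-- The constrained case. -/
theorem range_eq_top_of_normZJInner (hodd : p ≠ 2) (hS : IsPGroup p S) (hD : F.StronglyClosed D)
    (hyp : NormZJInner F D) {G : Type u} [Group G] {ι : S →* G} (hmod : F.IsModel p G ι)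
    (hsub : ∀ E : FusionSystem S, E.IsSaturated p →
      (∀ (P : Subgroup Ω) (f : Ω → Ω), MapTo E P f → MapTo F P f) →
      (∃ (P : Subgroup Ω) (f : Ω → Ω), MapTo F P f ∧ ¬ MapTo E P f) → E = innerFusionSystem S)
    {Ω' : Type u} [Group Ω'] {S' : Subgroup Ω'} [Finite S'] (hS' : IsPGroup p S')
    {θ : S →* Ω'} {E : FusionSystem S'} (hmor : F.IsSurjectiveMorphism E θ)
    (hk : kerIn θ ≤ F.core)
    (hE : ∀ (R : Subgroup Ω') (g : Ω' → Ω'), MapTo E R g → MapTo (innerFusionSystem S') R g) :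
    ι.range = ⊤ := by
  refine range_eq_top_of_normInner hodd hS ((Transfer.ZJAb_le D).trans hD.1) hyp hmod
    (fun hst => ?_) hsub hS' hmor hk hE
  obtain ⟨hfin, hreal, ⟨T, hT⟩, hCX⟩ := id hmod
  have hDcl : ∀ d ∈ imageAlong ι D, ∀ g : G, g * d * g⁻¹ ∈ (T : Subgroup G) →
      g * d * g⁻¹ ∈ imageAlong ι D := by
    intro d hd g hg
    obtain ⟨d₀, hd₀, rfl⟩ := (mem_imageAlong hD.1).mp hd
    obtain ⟨k, hk', hkg⟩ := IsRealizedBy.exists_mapTo hreal
      (Subgroup.zpowers_le.mpr (hD.1 hd₀)) g fun y hy => by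
        obtain ⟨i, rfl⟩ := Subgroup.mem_zpowers_iff.mp hy
        have e : th ι (d₀ ^ i) = th ι d₀ ^ i := by
          rw [th_apply ι (S.zpow_mem (hD.1 hd₀) i), th_apply ι (hD.1 hd₀), ← map_zpow]
          rfl
        rw [e, ← conj_zpow]
        exact Subgroup.zpow_mem _ (hT ▸ hg) i
    rw [← hkg d₀ (Subgroup.mem_zpowers d₀)]
    exact th_mem_imageAlong hD.1
      (StronglyClosed.map_mem hD hk' (Subgroup.mem_zpowers d₀) hd₀)
  have hn := Transfer.ZJAb_normal_rel hodd (e := 0) (Or.inl rfl) hCX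
    hst T (imageAlong ι D)
    (hT ▸ imageAlong_le_range) hDcl
  rwa [← imageAlong_ZJAb hreal.1 hD.1] at hn

/-- **Glauberman–Thompson.** -/
theorem eq_inner_of_normZJInner (p : ℕ) [Fact p.Prime] (hodd : p ≠ 2) :
    ∀ (n m : ℕ) {Ω : Type u} [Group Ω] {S : Subgroup Ω} [Finite S] (F : FusionSystem S),
      Nat.card S = n → mapsCard F = m → IsPGroup p S → F.IsSaturated p →
      ∀ D : Subgroup Ω, F.StronglyClosed D → NormZJInner F D → F = innerFusionSystem S := by
  intro n
  induction n using Nat.strong_induction_on with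
  | _ n ihn =>
  intro m
  induction m using Nat.strong_induction_on with
  | _ m ihm =>
  intro Ω _ S _ F hn hm hS hF D hD hyp
  set U := ZJAb 0 D with hU
  have hUS : U ≤ S := (Transfer.ZJAb_le D).trans hD.1
  by_cases hUn : F.IsNormal U
  · refine eq_of_hom_eq_inner fun P f hf => ?_
    obtain ⟨g, hg, hgf, hgU⟩ := (isNormal_iff.mp hUn).2 P f hf
    exact hyp P f g hf hg hgf hgU
  have hsub : ∀ E : FusionSystem S, E.IsSaturated p →
      (∀ (P : Subgroup Ω) (f : Ω → Ω), MapTo E P f → MapTo F P f) →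
      (∃ (P : Subgroup Ω) (f : Ω → Ω), MapTo F P f ∧ ¬ MapTo E P f) →
      E = innerFusionSystem S := by
    intro E hE hle ⟨P, f, hf, hnf⟩
    refine ihm _ (hm ▸ mapsCard_lt hle hf hnf) E hn rfl hS hE D
      (stronglyClosed_iff.mpr ⟨hD.1, fun R g hR hg x hx =>
        (stronglyClosed_iff.mp hD).2 R g hR (hle R g hg) x hx⟩)
      fun R e e' he he' hee heU => hyp R e e' (hle R e he) (hle _ e' he') hee heU
  -- subgroups normal in `S` but not in `F`
  have hnormal : ∀ V : Subgroup Ω, V ≤ S → S ≤ Subgroup.normalizer (V : Set Ω) → ¬ F.IsNormal V →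
      ∀ (P : Subgroup Ω) (g : Ω → Ω), MapTo F (P ⊔ V) g → img g V = V →
        MapTo (innerFusionSystem S) P g := by
    intro V hVS hVn hVF P g hg hgV
    have hNV : normalizerIn S V = S := inf_eq_left.mpr hVn
    have hVf : F.IsFullyNormalized V := isFullyNormalized_of_normal hVS hVn
    have hE := isNormalizerSystem_nSys F hVS
    have key : ∀ (T : Subgroup Ω) (E : FusionSystem T), T = S → E.IsSaturated p →
        (∀ R e, MapTo E R e ↔ R ≤ S ∧ (∀ x ∈ R, e x ∈ S) ∧
          ∃ e', MapTo F (R ⊔ V) e' ∧ (∀ x ∈ R, e' x = e x) ∧ img e' V = V) →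
        MapTo (innerFusionSystem S) P g := by
      rintro T E rfl hEs hEmap
      have hEi := hsub E hEs (fun R e he => by
        obtain ⟨-, -, e', he', hee, -⟩ := (hEmap R e).mp he
        exact (he'.restrict le_sup_left).congr' fun z hz => (hee z hz).symm) (by
          by_contra hcon
          push Not at hcon
          exact hVF (isNormal_iff.mpr ⟨hVS, fun R e he => ((hEmap R e).mp (hcon R e he)).2.2⟩))
      rw [← hEi]
      exact (hEmap P g).mpr ⟨(le_sup_left.trans hg.le), fun z hz => hg.mem (Subgroup.mem_sup_left hz),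
        g, hg, fun _ _ => rfl, hgV⟩
    exact key _ (nSys F hVS) hNV (isSaturated_normalizerSystem hS hF hVf hE) fun R e => by
      rw [mapTo_nSys_iff hE, hNV]
  have hD0 : D ≠ ⊥ := fun h => hUn (by
    rw [show U = ⊥ from le_bot_iff.mp (h ▸ Transfer.ZJAb_le D)]
    exact isNormal_bot F)
  set Q := F.core ⊓ D with hQdef
  have hQsc : F.StronglyClosed Q := StronglyClosed.inf (IsNormal.stronglyClosed (isNormal_core F)) hD
  have hQn : F.IsNormal Q := isNormal_of_stronglyClosed hS hF hQsc fun P hP =>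
    inf_le_left.trans (le_and_invariant_of_isNormal hS (isNormal_core F) P (Or.inr hP)).1
  have hQ0 : Q ≠ ⊥ := by
    intro h
    refine inf_centralizer_ne_bot hS hD.1 (StronglyClosed.le_normalizer hD) hD0
      (le_bot_iff.mp fun x hx => h.le ⟨?_, hx.1⟩)
    exact le_core (IsCentral.isNormal (isCentral_center F))
      (mem_center_of_normZJInner hodd hS hF hD hyp hx.1 hx.2)
  obtain ⟨Ω', _, S', θ, E, hmor, hk, hEsat, hS'fin, hS'p, hlt⟩ := exists_quotient hS hF hQsc
  have hkD : kerIn θ ≤ D := hk.le.trans inf_le_right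
  set D' := imageAlong θ D with hD'
  have hD'sc : E.StronglyClosed D' := by
    refine stronglyClosed_iff.mpr ⟨hmor.2.1 ▸ imageAlong_le_range, fun R' f' hR' hf' y hy => ?_⟩
    obtain ⟨hle, g, hg, hgg⟩ := IsSurjectiveMorphism.exists_lift hmor hf'
    obtain ⟨z, hz, rfl⟩ := exists_preimage hle hy
    rw [hgg z hz]
    have hzD : z ∈ D := by
      have := hR' hy
      have h1 := preimageAlong_imageAlong hD.1 hkD
      exact h1 ▸ mem_preimageAlong.mpr ⟨(mem_preimageAlong.mp hz).1, this⟩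
    exact th_mem_imageAlong hD.1 (StronglyClosed.map_mem hD hg hz hzD)
  set U₁ := ZJAb 0 D' with hU₁
  have hU₁r : U₁ ≤ θ.range := (Transfer.ZJAb_le D').trans imageAlong_le_range
  set V := preimageAlong θ U₁ with hV
  have hVS : V ≤ S := preimageAlong_le
  have hVD : V ≤ D := fun z hz => by
    have h1 := preimageAlong_imageAlong hD.1 hkD
    exact h1 ▸ mem_preimageAlong.mpr
      ⟨(mem_preimageAlong.mp hz).1, Transfer.ZJAb_le D' (mem_preimageAlong.mp hz).2⟩
  have hVn : S ≤ Subgroup.normalizer (V : Set Ω) := by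
    intro y hy
    have hU₁n : th θ y ∈ Subgroup.normalizer (U₁ : Set Ω') :=
      Transfer.normalizer_le_normalizer_ZJAb D'
        (StronglyClosed.le_normalizer hD'sc (hmor.2.1 ▸ th_mem_range θ y))
    have : y ∈ preimageAlong θ (normalizerIn S' U₁) := mem_preimageAlong.mpr
      ⟨hy, hmor.2.1 ▸ th_mem_range θ y, hU₁n⟩
    exact ((preimageAlong_normalizerIn hmor (hmor.2.1 ▸ hU₁r)).le this).2
  have hVF : ¬ F.IsNormal V := by
    intro h
    have hVQ : V ≤ kerIn θ := hk.symm ▸ le_inf (le_core h) hVD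
    have hU₁0 : U₁ = ⊥ := le_bot_iff.mp fun y hy => by
      obtain ⟨v, hv, rfl⟩ := exists_preimage hU₁r hy
      exact Subgroup.mem_bot.mpr (mem_kerIn.mp (hVQ hv)).2
    have hD'0 : D' = ⊥ := by
      by_contra hne
      haveI := finite_of_le hD'sc.1
      exact ZJAb_ne_bot_of_finite (hS'p.to_le hD'sc.1) hne hU₁0
    have hDQ : D = Q := by
      refine le_antisymm (fun y hy => hk.le (mem_kerIn.mpr ⟨hD.1 hy, ?_⟩)) inf_le_right
      exact Subgroup.mem_bot.mp (hD'0.le (th_mem_imageAlong hD.1 hy))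
    refine hUn (isNormal_iff.mpr ⟨hUS, fun P f hf => ?_⟩)
    obtain ⟨g, hg, hgf, hgD⟩ := (isNormal_iff.mp (hDQ.symm ▸ hQn : F.IsNormal D)).2 P f hf
    refine ⟨g, hg.restrict (sup_le_sup_left (Transfer.ZJAb_le D) P), hgf, ?_⟩
    rw [hU, img_ZJAb (hg.restrict le_sup_right), hgD]
  -- the quotient is inner
  have hyp' : NormZJInner E D' := by
    intro R' f' g' hf' hg' hge hgU
    obtain ⟨hle, g, hg, hgg⟩ := IsSurjectiveMorphism.exists_lift hmor hg'
    have hR'r : R' ≤ θ.range := le_sup_left.trans hle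
    have hVle : V ≤ preimageAlong θ (R' ⊔ U₁) := fun z hz => mem_preimageAlong.mpr
      ⟨(mem_preimageAlong.mp hz).1, Subgroup.mem_sup_right (mem_preimageAlong.mp hz).2⟩
    haveI := finite_of_le hVS
    have hgV : img g V = V := img_eq_self_of_forall (hg.restrict hVle) fun z hz => by
      refine mem_preimageAlong.mpr ⟨hg.mem (hVle hz), ?_⟩
      rw [← hgg z (hVle hz)]
      exact hgU.le (mem_img_of_mem (mem_preimageAlong.mp hz).2)
    obtain ⟨-, s, hs, hsg⟩ := mapTo_inner_iff.mp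
      (hnormal V hVS hVn hVF (preimageAlong θ (R' ⊔ U₁)) g (by rwa [sup_eq_left.mpr hVle]) hgV)
    refine mapTo_inner_iff.mpr ⟨hf'.le, th θ s, hmor.2.1 ▸ th_mem_range θ s, fun y hy => ?_⟩
    obtain ⟨z, hz, rfl⟩ := exists_preimage hR'r hy
    have hzR : z ∈ preimageAlong θ (R' ⊔ U₁) := mem_preimageAlong.mpr
      ⟨(mem_preimageAlong.mp hz).1, Subgroup.mem_sup_left hy⟩
    rw [← hge _ hy, hgg z hzR, hsg z hzR, th_conj θ hs (hg.le hzR)]
  have hEi := ihn _ (hn ▸ hlt hQ0) _ E rfl rfl hS'p hEsat D' hD'sc hyp'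
  have hEle : ∀ (R : Subgroup Ω') (g : Ω' → Ω'), MapTo E R g →
      MapTo (innerFusionSystem S') R g := fun R g hg => hEi ▸ hg
  by_cases hQp : IsPGroup p (F.autGroup Q)
  · exact eq_inner_of_quotient hS hF hmor (hk.symm ▸ hQn) (hk.symm ▸ hQp) hS'p hEle
  -- `Q C_S(Q)` is normal, so the system is constrained
  set C := centralizerIn S Q with hCdef
  have hQCS : Q ⊔ C ≤ S := sup_le hQn.1 centralizerIn_le
  have hQS := hQn.1
  haveI := finite_of_le hQS
  have hQCn : F.IsNormal (Q ⊔ C) := by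
    by_contra hcon
    refine hQp ((isPGroup_autInducedBy hS Q).to_le fun α hα => ?_)
    have hm := mapTo_of_mem_autGroup hQS hα
    obtain ⟨e, he, heα⟩ := (isReceptive_iff.mp (isReceptive_of_isFullyNormalized hS hF
      (isFullyNormalized_of_normal hQS (IsNormal.le_normalizer hQn)))).2 _ _ hm (img_autFun α)
    have hCe : C ≤ extSub S hm := fun c hc => by
      refine ⟨centralizerIn_le_normalizerIn hc, 1, S.one_mem, fun q hq => ?_⟩
      rw [← (mem_centralizerIn.mp hc).2 q hq, mul_inv_cancel_right, one_mul, inv_one, mul_one]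
    have he' : MapTo F (Q ⊔ C) e := he.restrict (sup_le (le_extSub hm) hCe)
    have heQ : img e Q = Q := by rw [img_congr (g := autFun α) heα, img_autFun]
    haveI := finite_of_le hQCS
    have heQC : img e (Q ⊔ C) = Q ⊔ C := by
      refine img_eq_self_of_forall he' fun x hx => ?_
      have : img e (Q ⊔ C) ≤ Q ⊔ C := by
        rw [he'.img_sup le_sup_left le_sup_right, heQ]
        refine sup_le le_sup_left (le_trans (img_le_of_forall fun c hc => ?_) le_sup_right)
        have := he'.map_mem_centralizerIn le_sup_left (Subgroup.mem_sup_right hc) hc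
        rwa [heQ] at this
      exact this (mem_img_of_mem hx)
    have hQCN : S ≤ Subgroup.normalizer ((Q ⊔ C : Subgroup Ω) : Set Ω) := by
      intro y hy
      have hy' := mapTo_cj (F := F) hQCS hy
      refine (mem_normalizerIn_of_forall (S := S) hQCS hy fun z hz => ?_).2
      have h1 : img (cj y) (Q ⊔ C) ≤ Q ⊔ C := by
        rw [hy'.img_sup le_sup_left le_sup_right,
          StronglyClosed.img_eq hQsc hy' le_sup_left]
        refine sup_le le_sup_left (le_trans (img_le_of_forall fun c hc => ?_) le_sup_right)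
        have := hy'.map_mem_centralizerIn le_sup_left (Subgroup.mem_sup_right hc) hc
        rwa [StronglyClosed.img_eq hQsc hy' le_sup_left] at this
      exact h1 (mem_img_of_mem (f := cj y) hz)
    obtain ⟨-, s, hs, hse⟩ := mapTo_inner_iff.mp
      (hnormal _ hQCS hQCN hcon Q e (by rwa [sup_eq_right.mpr le_sup_left]) heQC)
    exact mem_autInducedBy_iff_cj.mpr ⟨s, hs, fun q hq => (heα q hq).symm.trans (hse q hq)⟩
  have hcen : F.IsCentric (Q ⊔ C) := by
    refine ⟨hQCS, fun T hT' => ?_⟩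
    obtain ⟨e, he, rfl⟩ := isConj_iff.mp hT'
    rw [StronglyClosed.img_eq (IsNormal.stronglyClosed hQCn) he le_rfl]
    exact (centralizerIn_anti le_sup_left).trans le_sup_right
  obtain ⟨G, _, ι, hmod⟩ := exists_model hS ⟨hF, _, hQCn, hcen⟩
  have htop := range_eq_top_of_normZJInner hodd hS hD hyp hmod hsub hS'p hmor
    (hk.le.trans inf_le_left) hEle
  refine eq_of_hom_eq_inner fun P f hf => ?_
  obtain ⟨a, ha⟩ := IsRealizedBy.exists_conj hmod.2.1 hf
  obtain ⟨s, hs, rfl⟩ := exists_th_eq (htop.symm ▸ Subgroup.mem_top a : a ∈ ι.range)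
  refine mapTo_inner_iff.mpr ⟨hf.le, s, hs, fun x hx => th_inj hmod.2.1.1 (hf.mem hx)
    (S.mul_mem (S.mul_mem hs (hf.le hx)) (S.inv_mem hs)) ?_⟩
  rw [ha x hx, th_conj ι hs (hf.le hx)]

end Cfsg.Agent.Fusion
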