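import Mathlib
import Cfsg.Agent.Lib.Fusion.GlaubermanThompson

/-!
# The Glauberman-Thompson criterion, in the form of normalizer systems
-/

set_option autoImplicit false

namespace Cfsg.Agent.Fusion

open Cfsg.FusionSystem (centralizerIn normalizerIn)

universe u

theorem glaubermanThompson_iff {Ω : Type u} [Group Ω] {S : Subgroup Ω} [Finite S] (p : ℕ)
    [Fact p.Prime] (hS : IsPGroup p S) (F : FusionSystem S) (hF : F.IsSaturated p) (hp : p ≠ 2)
    (D : Subgroup Ω) (hD : F.StronglyClosed D) (U : Subgroup Ω) (hU : U = Transfer.ZJAb 0 D) :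
    (∀ P : Subgroup Ω, F.Hom P = (innerFusionSystem S).Hom P) ↔
      ∀ N : FusionSystem (normalizerIn S U), F.IsNormalizerSystem U N →
        ∀ P : Subgroup Ω, N.Hom P = (innerFusionSystem (normalizerIn S U)).Hom P := by
  subst hU
  have hUS : Transfer.ZJAb 0 D ≤ S := (Transfer.ZJAb_le D).trans hD.1
  have hNS : normalizerIn S (Transfer.ZJAb 0 D) = S := inf_eq_left.mpr
    ((StronglyClosed.le_normalizer hD).trans (Transfer.normalizer_le_normalizer_ZJAb D))
  have := finite_of_le hUS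
  constructor
  · intro h N hN P
    have hFi : F = innerFusionSystem S := fusionSystem_ext fun R f =>
      ⟨fun ⟨φ, hφ, hf⟩ => ⟨φ, h R ▸ hφ, hf⟩, fun ⟨φ, hφ, hf⟩ => ⟨φ, (h R).symm ▸ hφ, hf⟩⟩
    ext φ
    rw [← mapTo_ev_iff (F := N), ← mapTo_ev_iff (F := innerFusionSystem _), mapTo_nSys_iff hN,
      mapTo_inner_iff]
    constructor
    · rintro ⟨hP, -, g, hg, hgf, -⟩
      rw [hFi] at hg
      obtain ⟨-, s, hs, hsg⟩ := mapTo_inner_iff.mp hg
      exact ⟨hP, s, hNS.ge hs, fun x hx => by rw [← hgf x hx, hsg x (Subgroup.mem_sup_left hx)]⟩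
    · rintro ⟨hP, s, hs, hsf⟩
      refine ⟨hP, fun x hx => ?_, cj s,
        mapTo_cj (sup_le (hP.trans normalizerIn_le) hUS) hs.1, fun x hx => (hsf x hx).symm, ?_⟩
      · rw [hsf x hx]
        exact Subgroup.mul_mem _ (Subgroup.mul_mem _ hs (hP hx)) (Subgroup.inv_mem _ hs)
      · exact img_eq_self_of_forall (mapTo_cj (F := F) hUS hs.1)
          fun x hx => conj_mem_of_mem_normalizerIn hs hx
  · intro h P
    have hi := h (nSys F hUS) (isNormalizerSystem_nSys F hUS)
    rw [eq_inner_of_normZJInner p hp _ _ F rfl rfl hS hF D hD fun R f g hf hg hgf hgU => by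
      obtain ⟨φ, hφ, hφf⟩ := (mapTo_nSys_iff (isNormalizerSystem_nSys F hUS)).mpr
        (⟨hf.le.trans hNS.ge, fun x hx => hNS.ge (hf.mem hx), g, hg, hgf, hgU⟩)
      obtain ⟨-, s, hs, hsx⟩ := mapTo_inner_iff.mp (⟨φ, hi R ▸ hφ, hφf⟩ :
        MapTo (innerFusionSystem (normalizerIn S (Transfer.ZJAb 0 D))) R f)
      exact mapTo_inner_iff.mpr ⟨hf.le, s, normalizerIn_le hs, hsx⟩]

end Cfsg.Agent.Fusion
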