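import Mathlib.GroupTheory.FreeGroup.Reduce
import Mathlib.GroupTheory.FreeGroup.NielsenSchreier
import Mathlib.GroupTheory.SemidirectProduct
import Mathlib.GroupTheory.OrderOfElement
import Mathlib.Tactic

set_option linter.style.haveILetI false

/-! A group acting on a graph, lifted to the group of reduced walks: finite subgroups fix a vertex
and the kernel of the projection is free. -/

namespace Cfsg.Agent.Fusion.GraphWords

open FreeGroup List

universe u

variable {H E V : Type u} [Group H] [MulAction H E] [MulAction H V]

/-- The action on oriented edges. -/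
def letterMap (h : H) (l : E × Bool) : E × Bool := (h • l.1, l.2)

/-- The reversal of an oriented edge. -/
def flipLetter (l : E × Bool) : E × Bool := (l.1, !l.2)

theorem letterMap_letterMap (h k : H) (l : E × Bool) :
    letterMap h (letterMap k l) = letterMap (h * k) l := by simp [letterMap, mul_smul]

theorem letterMap_one (l : E × Bool) : letterMap (1 : H) l = l := by simp [letterMap]

theorem flipLetter_letterMap (h : H) (l : E × Bool) :
    flipLetter (letterMap h l) = letterMap h (flipLetter l) := rfl

theorem flipLetter_inj {l m : E × Bool} (h : flipLetter l = flipLetter m) : l = m := by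
  obtain ⟨a, b⟩ := l; obtain ⟨c, d⟩ := m
  simpa [flipLetter, Prod.ext_iff] using h

theorem flipLetter_ne (l : E × Bool) : flipLetter l ≠ l := by
  obtain ⟨a, b⟩ := l; simp [flipLetter]

/-- The action on the free group on the edges. -/
def actHom (H E : Type u) [Group H] [MulAction H E] : H →* MulAut (FreeGroup E) :=
  MonoidHom.mk' (fun h => freeGroupCongr (MulAction.toPerm h)) fun a b => by
    apply MulEquiv.toMonoidHom_injective
    ext e
    simp [mul_smul]

theorem toWord_actHom [DecidableEq E] (h : H) (x : FreeGroup E) :
    (actHom H E h x).toWord = x.toWord.map (letterMap h) := by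
  have e : actHom H E h x = FreeGroup.map (fun y => h • y) x := rfl
  conv_lhs => rw [e, ← mk_toWord (x := x), map.mk, toWord_mk]
  refine IsReduced.reduce_eq ?_
  refine (List.isChain_map _).mpr ((isReduced_toWord (x := x)).imp ?_)
  intro a b hab he
  exact hab (MulAction.injective h he)

variable (src tgt : E → V)

/-- The initial vertex of an oriented edge. -/
def lstart (l : E × Bool) : V := if l.2 then src l.1 else tgt l.1

/-- The terminal vertex of an oriented edge. -/
def lstop (l : E × Bool) : V := if l.2 then tgt l.1 else src l.1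

theorem lstart_flip (l : E × Bool) : lstart src tgt (flipLetter l) = lstop src tgt l := by
  obtain ⟨a, b⟩ := l; cases b <;> rfl

theorem lstop_flip (l : E × Bool) : lstop src tgt (flipLetter l) = lstart src tgt l := by
  obtain ⟨a, b⟩ := l; cases b <;> rfl

/-- Walks in the graph. -/
def Walk : V → List (E × Bool) → V → Prop
  | a, [], b => a = b
  | a, l :: L, b => lstart src tgt l = a ∧ Walk (lstop src tgt l) L b

theorem walk_append {a c : V} {L M : List (E × Bool)} :
    Walk src tgt a (L ++ M) c ↔ ∃ b, Walk src tgt a L b ∧ Walk src tgt b M c := by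
  induction L generalizing a with
  | nil => simp [Walk]
  | cons l L ih => simp only [List.cons_append, Walk, ih]; aesop

theorem walk_invRev {a b : V} {L : List (E × Bool)} (h : Walk src tgt a L b) :
    Walk src tgt b (invRev L) a := by
  induction L generalizing a with
  | nil => exact h.symm
  | cons l L ih =>
    obtain ⟨rfl, h2⟩ := h
    have e : invRev (l :: L) = invRev L ++ [flipLetter l] := by simp [invRev, flipLetter]
    rw [e, walk_append]
    exact ⟨_, ih h2, lstart_flip src tgt l, lstop_flip src tgt l⟩

theorem walk_step {a b : V} {L M : List (E × Bool)} (hs : Red.Step L M) (h : Walk src tgt a L b) :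
    Walk src tgt a M b := by
  cases hs with
  | @not L₁ L₂ x s =>
    obtain ⟨c, h1, hx, hy, h3⟩ := (walk_append src tgt).mp h
    refine (walk_append src tgt).mpr ⟨c, h1, ?_⟩
    change lstart src tgt (x, s) = c at hx
    have e : lstop src tgt (x, !s) = c := by
      rw [← hx]; exact lstop_flip src tgt (x, s)
    rwa [e] at h3

theorem walk_red {a b : V} {L M : List (E × Bool)} (hs : Red L M) (h : Walk src tgt a L b) :
    Walk src tgt a M b := by
  induction hs with
  | refl => exact h
  | tail _ hs ih => exact walk_step src tgt hs ih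

variable (hsrc : ∀ (h : H) e, src (h • e) = h • src e) (htgt : ∀ (h : H) e, tgt (h • e) = h • tgt e)

include hsrc htgt in
theorem walk_smul (h : H) {a b : V} {L : List (E × Bool)} (hw : Walk src tgt a L b) :
    Walk src tgt (h • a) (L.map (letterMap h)) (h • b) := by
  induction L generalizing a with
  | nil => exact congrArg (h • ·) hw
  | cons l L ih =>
    obtain ⟨rfl, h2⟩ := hw
    obtain ⟨e, s⟩ := l
    have := ih h2
    cases s <;> simp_all [Walk, lstart, lstop, letterMap]

/-- The pairs of a group element and a walk from `v₀` to its image. -/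
def walkGroup [DecidableEq E] (v₀ : V) : Subgroup (FreeGroup E ⋊[actHom H E] H) where
  carrier := {g | Walk src tgt v₀ g.left.toWord (g.right • v₀)}
  one_mem' := by simp [Walk]
  mul_mem' := by
    intro a b ha hb
    show Walk src tgt v₀ (a * b).left.toWord ((a * b).right • v₀)
    rw [SemidirectProduct.mul_left, SemidirectProduct.mul_right, toWord_mul, toWord_actHom, mul_smul]
    exact walk_red src tgt reduce.red
      ((walk_append src tgt).mpr ⟨_, ha, walk_smul src tgt hsrc htgt a.right hb⟩)
  inv_mem' := by
    intro a ha
    show Walk src tgt v₀ (a⁻¹).left.toWord ((a⁻¹).right • v₀)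
    rw [SemidirectProduct.inv_left, SemidirectProduct.inv_right, toWord_actHom, toWord_inv]
    have := walk_smul src tgt hsrc htgt a.right⁻¹ (walk_invRev src tgt ha)
    rwa [inv_smul_smul] at this

theorem mem_walkGroup [DecidableEq E] {v₀ : V} {g : FreeGroup E ⋊[actHom H E] H} :
    g ∈ walkGroup src tgt hsrc htgt v₀ ↔ Walk src tgt v₀ g.left.toWord (g.right • v₀) := Iff.rfl

section Torsion

variable [DecidableEq E]

theorem getLast?_pow {a : FreeGroup E ⋊[actHom H E] H} {f x : E × Bool}
    (hf : a.left.toWord.head? = some f) (hx : a.left.toWord.getLast? = some x)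
    (hne : x ≠ flipLetter (letterMap a.right f)) :
    ∀ n : ℕ, (a ^ (n + 1)).left.toWord.getLast? = some (letterMap (a.right ^ n) x) ∧
      n < (a ^ (n + 1)).left.toWord.length := by
  intro n
  induction n with
  | zero =>
    refine ⟨by simpa [letterMap_one] using hx, ?_⟩
    rw [pow_one]
    exact List.length_pos_iff.mpr fun h => by simp [h] at hf
  | succ n ih =>
    obtain ⟨hl, hlen⟩ := ih
    have hright : (a ^ (n + 1)).right = a.right ^ (n + 1) :=
      map_pow (SemidirectProduct.rightHom (N := FreeGroup E) (φ := actHom H E)) a (n + 1)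
    rw [pow_succ a (n + 1), SemidirectProduct.mul_left, toWord_mul, toWord_actHom, hright]
    have hred : FreeGroup.IsReduced ((a ^ (n + 1)).left.toWord ++
        a.left.toWord.map (letterMap (a.right ^ (n + 1)))) := by
      refine List.isChain_append.mpr ⟨isReduced_toWord, ?_, fun y hy z hz he => ?_⟩
      · rw [← toWord_actHom]; exact isReduced_toWord
      rw [hl, Option.mem_def, Option.some.injEq] at hy
      rw [List.head?_map, hf, Option.map_some, Option.mem_def, Option.some.injEq] at hz
      subst hy hz
      by_contra hb
      apply hne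
      obtain ⟨x1, x2⟩ := x
      obtain ⟨f1, f2⟩ := f
      simp only [letterMap, flipLetter] at he hb ⊢
      rw [pow_succ, mul_smul] at he
      refine Prod.ext (MulAction.injective _ he) ?_
      cases x2 <;> cases f2 <;> simp_all
    have hne' : a.left.toWord ≠ [] := fun h => by simp [h] at hf
    rw [hred.reduce_eq]
    refine ⟨?_, ?_⟩
    · rw [List.getLast?_append, List.getLast?_map, hx]; rfl
    · rw [List.length_append, List.length_map]
      have := List.length_pos_iff.mpr hne'
      omega

theorem getLast?_torsion {a : FreeGroup E ⋊[actHom H E] H} (ha : IsOfFinOrder a) {f : E × Bool}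
    (hf : a.left.toWord.head? = some f) :
    a.left.toWord.getLast? = some (flipLetter (letterMap a.right f)) := by
  obtain ⟨x, hx⟩ : ∃ x, a.left.toWord.getLast? = some x := by
    refine ⟨a.left.toWord.getLast fun h => by simp [h] at hf, ?_⟩
    exact List.getLast?_eq_some_getLast _
  rw [hx]
  by_contra hne
  obtain ⟨n, hn, hn1⟩ := isOfFinOrder_iff_pow_eq_one.mp ha
  have := (getLast?_pow hf hx (fun h => hne (congrArg some h)) (n - 1)).2
  rw [Nat.sub_add_cancel hn, hn1] at this
  simp at this

theorem isOfFinOrder_of_mem_finite {G : Type u} [Group G] {A : Subgroup G} [Finite A] {c : G} (hc : c ∈ A) :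
    IsOfFinOrder c :=
  A.subtype.isOfFinOrder (isOfFinOrder_of_finite (⟨c, hc⟩ : A))

theorem head?_eq_of_finite {A : Subgroup (FreeGroup E ⋊[actHom H E] H)} [Finite A] {a b : FreeGroup E ⋊[actHom H E] H}
    (ha : a ∈ A) (hb : b ∈ A) {f : E × Bool} (hf : a.left.toWord.head? = some f) {g : E × Bool}
    (hg : b.left.toWord.head? = some g) : g = f := by
  have htor : ∀ c ∈ A, IsOfFinOrder c := fun c hc => isOfFinOrder_of_mem_finite hc
  by_contra hne
  have hred : FreeGroup.IsReduced (a.left.toWord ++ b.left.toWord.map (letterMap a.right)) := by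
    refine List.isChain_append.mpr ⟨isReduced_toWord, ?_, fun y hy z hz he => ?_⟩
    · rw [← toWord_actHom]; exact isReduced_toWord
    rw [getLast?_torsion (htor a ha) hf, Option.mem_def, Option.some.injEq] at hy
    rw [List.head?_map, hg, Option.map_some, Option.mem_def, Option.some.injEq] at hz
    subst hy hz
    obtain ⟨f1, f2⟩ := f
    obtain ⟨g1, g2⟩ := g
    simp only [letterMap, flipLetter] at he ⊢
    have h1 := MulAction.injective _ he
    subst h1
    cases f2 <;> cases g2 <;> simp_all
  have hw : (a * b).left.toWord = a.left.toWord ++ b.left.toWord.map (letterMap a.right) := by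
    rw [SemidirectProduct.mul_left, toWord_mul, toWord_actHom, hred.reduce_eq]
  have hh : (a * b).left.toWord.head? = some f := by rw [hw, List.head?_append, hf]; rfl
  have hl := getLast?_torsion (htor _ (mul_mem ha hb)) hh
  rw [hw, List.getLast?_append, List.getLast?_map, getLast?_torsion (htor b hb) hg] at hl
  simp only [Option.map_some, Option.some_or, SemidirectProduct.mul_right, ← flipLetter_letterMap,
    letterMap_letterMap, Option.some.injEq] at hl
  have hl' := flipLetter_inj hl
  obtain ⟨f1, f2⟩ := f
  obtain ⟨g1, g2⟩ := g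
  simp only [letterMap, Prod.ext_iff] at hl'
  exact hne (Prod.ext (MulAction.injective _ hl'.1) hl'.2)

theorem fix_of_finite {A : Subgroup (FreeGroup E ⋊[actHom H E] H)} [Finite A] {a b : FreeGroup E ⋊[actHom H E] H}
    (ha : a ∈ A) (hb : b ∈ A) {f : E × Bool} (hf : a.left.toWord.head? = some f)
    (hb1 : b.left = 1) : letterMap b.right f = f := by
  refine head?_eq_of_finite ha (mul_mem hb ha) hf ?_
  rw [SemidirectProduct.mul_left, hb1, one_mul, toWord_actHom, List.head?_map, hf]
  rfl

include hsrc htgt in
/-- A finite group of walks fixes a vertex. -/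
theorem exists_conj_left_eq_one [MulAction.IsPretransitive H V] (v₀ : V)
    (A : Subgroup (FreeGroup E ⋊[actHom H E] H)) [Finite A] (hA : A ≤ walkGroup src tgt hsrc htgt v₀) :
    ∃ t ∈ walkGroup src tgt hsrc htgt v₀, ∀ a ∈ A, (t * a * t⁻¹).left = 1 := by
  haveI := Fintype.ofFinite A
  obtain ⟨n, hn⟩ : ∃ n, n = ∑ a : A, (a.1.left).toWord.length := ⟨_, rfl⟩
  induction n using Nat.strong_induction_on generalizing A with
  | h n ih =>
    by_cases hall : ∀ a ∈ A, a.left = 1
    · exact ⟨1, one_mem _, fun a ha => by simpa using hall a ha⟩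
    push Not at hall
    obtain ⟨a₀, ha₀, hne₀⟩ := hall
    obtain ⟨f, W, hW⟩ : ∃ f W, a₀.left.toWord = f :: W :=
      List.exists_cons_of_ne_nil fun h => hne₀ (toWord_eq_nil_iff.mp h)
    have hf : a₀.left.toWord.head? = some f := by rw [hW]; rfl
    obtain ⟨k, hk⟩ := MulAction.exists_smul_eq H v₀ (lstop src tgt f)
    obtain ⟨t, ht⟩ : ∃ t : FreeGroup E ⋊[actHom H E] H, t = ⟨FreeGroup.mk [f], k⟩ := ⟨_, rfl⟩
    have hfw : (FreeGroup.mk [f]).toWord = [f] := by
      rw [toWord_mk]; exact FreeGroup.IsReduced.singleton.reduce_eq
    have htG : t ∈ walkGroup src tgt hsrc htgt v₀ := by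
      rw [mem_walkGroup, ht, hfw]
      have hstart : lstart src tgt f = v₀ := by
        have := (mem_walkGroup src tgt hsrc htgt).mp (hA ha₀)
        rw [hW] at this
        exact this.1
      exact ⟨hstart, hk.symm⟩
    let A' : Subgroup (FreeGroup E ⋊[actHom H E] H) := A.map (MulAut.conj t⁻¹).toMonoidHom
    let eA : A ≃ A' := (A.equivMapOfInjective _ (MulAut.conj t⁻¹).injective).toEquiv
    haveI : Finite A' := Finite.of_equiv _ eA
    haveI := Fintype.ofFinite A'
    have hA' : A' ≤ walkGroup src tgt hsrc htgt v₀ := by
      rintro - ⟨a, ha, rfl⟩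
      simpa using mul_mem (mul_mem (inv_mem htG) (hA ha)) htG
    have hlen : ∀ a ∈ A, (t⁻¹ * a * t).left.toWord.length ≤ a.left.toWord.length ∧
        (a.left ≠ 1 → (t⁻¹ * a * t).left.toWord.length < a.left.toWord.length) := by
      intro a ha
      have e : (t⁻¹ * a * t).left =
          actHom H E k⁻¹ ((FreeGroup.mk [f])⁻¹ * a.left * actHom H E a.right (FreeGroup.mk [f])) := by
        simp only [ht, SemidirectProduct.mul_left, SemidirectProduct.inv_left, SemidirectProduct.inv_right,
          mul_assoc, MulEquiv.map_mul]
      rw [e, toWord_actHom, List.length_map]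
      by_cases h1 : a.left = 1
      · have hfix := fix_of_finite ha₀ ha hf h1
        refine ⟨?_, fun h => absurd h1 h⟩
        rw [h1, mul_one]
        have e2 : actHom H E a.right (FreeGroup.mk [f]) = FreeGroup.mk [f] := by
          apply toWord_injective
          rw [toWord_actHom, hfw, List.map_singleton, hfix]
        rw [e2, inv_mul_cancel]
      · obtain ⟨g, M, hM⟩ : ∃ g M, a.left.toWord = g :: M :=
          List.exists_cons_of_ne_nil fun h => h1 (toWord_eq_nil_iff.mp h)
        have hgf : g = f := head?_eq_of_finite ha₀ ha hf (by rw [hM]; rfl)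
        subst hgf
        have hlast := getLast?_torsion
          (isOfFinOrder_of_mem_finite ha)
          (show a.left.toWord.head? = some g by rw [hM]; rfl)
        obtain ⟨M', hM'⟩ : ∃ M', M = M' ++ [flipLetter (letterMap a.right g)] := by
          rcases M.eq_nil_or_concat with rfl | ⟨M', x, rfl⟩
          · exfalso
            rw [hM] at hlast
            simp only [List.getLast?_singleton, Option.some.injEq] at hlast
            obtain ⟨g1, g2⟩ := g
            simp [flipLetter, letterMap] at hlast
          · rw [hM, List.concat_eq_append, ← List.cons_append, List.getLast?_concat, Option.some.injEq] at hlast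
            exact ⟨M', by rw [List.concat_eq_append, hlast]⟩
        have hmk : a.left = FreeGroup.mk [g] * FreeGroup.mk M' * (actHom H E a.right (FreeGroup.mk [g]))⁻¹ := by
          have hinv : (actHom H E a.right (FreeGroup.mk [g]))⁻¹ =
              FreeGroup.mk [flipLetter (letterMap a.right g)] := rfl
          conv_lhs => rw [← mk_toWord (x := a.left), hM, hM']
          rw [hinv, mul_mk, mul_mk]; rfl
        have e2 : (FreeGroup.mk [g])⁻¹ * a.left * actHom H E a.right (FreeGroup.mk [g]) = FreeGroup.mk M' := by
          rw [hmk]; group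
        have hlt : (FreeGroup.mk M').toWord.length < a.left.toWord.length := by
          rw [hM, hM', toWord_mk]
          have := (reduce.red (L := M')).sublist.length_le
          simp only [List.length_cons, List.length_append]
          omega
        rw [e2]
        exact ⟨hlt.le, fun _ => hlt⟩
    have hlt : ∑ b : A', b.1.left.toWord.length < n := by
      rw [hn, ← Equiv.sum_comp eA fun b : A' => b.1.left.toWord.length]
      have hv : ∀ a : A, (eA a).1 = t⁻¹ * a.1 * t := fun a => by
        show MulAut.conj t⁻¹ a.1 = _
        simp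
      refine Finset.sum_lt_sum (fun a _ => ?_) ⟨⟨a₀, ha₀⟩, Finset.mem_univ _, ?_⟩
      · rw [hv]; exact (hlen a.1 a.2).1
      · rw [hv]; exact (hlen a₀ ha₀).2 hne₀
    obtain ⟨t', ht', ht'1⟩ := ih _ hlt A' hA' _ rfl
    refine ⟨t' * t⁻¹, mul_mem ht' (inv_mem htG), fun a ha => ?_⟩
    have := ht'1 _ ⟨a, ha, rfl⟩
    simpa [mul_assoc] using this

end Torsion

/-- The kernel of the projection is free. -/
theorem isFreeGroup_ker (G : Subgroup (FreeGroup E ⋊[actHom H E] H)) :
    IsFreeGroup (SemidirectProduct.rightHom.comp G.subtype).ker := by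
  let i : (SemidirectProduct.rightHom.comp G.subtype).ker →* FreeGroup E :=
    MonoidHom.mk' (fun g => g.1.1.left) fun a b => by
      have ha : a.1.1.right = 1 := a.2
      simp [ha]
  have hi : Function.Injective i := fun a b h =>
    Subtype.ext (Subtype.ext (SemidirectProduct.ext h ((a.2 : a.1.1.right = 1).trans (b.2 : b.1.1.right = 1).symm)))
  exact IsFreeGroup.ofMulEquiv (MonoidHom.ofInjective hi).symm

end Cfsg.Agent.Fusion.GraphWords
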