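import Cfsg.Agent.Lib.Fusion.Basic
import Cfsg.Agent.Lib.Fusion.GraphWords

/-! Leary-Stancu: every fusion system on a finite group is realised by a group of walks. -/

set_option linter.style.haveILetI false
set_option linter.unusedSectionVars false

namespace Cfsg.Agent.Fusion.GraphRealize

open Cfsg Cfsg.FusionSystem GraphWords

universe u

variable {Ω : Type u} [Group Ω] {S : Subgroup Ω}

/-- The regular representation. -/
def reg (S : Subgroup Ω) : S →* Equiv.Perm S := MulAction.toPermHom S S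

theorem reg_apply (s x : S) : reg S s x = s * x := rfl

theorem reg_injective : Function.Injective (reg S) := fun a b h => by
  simpa [reg_apply] using congrArg (fun f : Equiv.Perm S => f 1) h

/-- A morphism of subgroups of `S` is conjugation by a permutation of `S`. -/
theorem exists_perm [Finite S] {P : Subgroup Ω} (hP : P ≤ S) {φ : P →* Ω} (hφ : ∀ x, φ x ∈ S)
    (hinj : Function.Injective φ) :
    ∃ σ : Equiv.Perm S, ∀ x : P, σ * reg S ⟨x, hP x.2⟩ * σ⁻¹ = reg S ⟨φ x, hφ x⟩ := by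
  classical
  let ψ : P →* S := φ.codRestrict S hφ
  let i : P →* S := Subgroup.inclusion hP
  have hψ : Function.Injective ψ := fun a b h => hinj (congrArg Subtype.val h :)
  have hi : Function.Injective i := Subgroup.inclusion_injective hP
  obtain ⟨T, hT, -⟩ := Subgroup.exists_isComplement_right i.range 1
  obtain ⟨U, hU, -⟩ := Subgroup.exists_isComplement_right ψ.range 1
  have hcard : Nat.card T = Nat.card U := by
    have h1 := hT.card_mul_card
    have h2 := hU.card_mul_card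
    have h3 : Nat.card i.range = Nat.card ψ.range :=
      (Nat.card_congr (MonoidHom.ofInjective hi).toEquiv).symm.trans
        (Nat.card_congr (MonoidHom.ofInjective hψ).toEquiv)
    have h3' : Nat.card (i.range : Set S) = Nat.card (ψ.range : Set S) := h3
    rw [h3'] at h1
    exact Nat.eq_of_mul_eq_mul_left Nat.card_pos (h1.trans h2.symm)
  haveI : Fintype T := Fintype.ofFinite _
  haveI : Fintype U := Fintype.ofFinite _
  rw [Nat.card_eq_fintype_card, Nat.card_eq_fintype_card] at hcard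
  let eT : T ≃ U := Fintype.equivOfCardEq hcard
  let eR : (i.range : Set S) ≃ (ψ.range : Set S) :=
    (MonoidHom.ofInjective hi).toEquiv.symm.trans (MonoidHom.ofInjective hψ).toEquiv
  let a : Prod (i.range : Set S) T ≃ S := Equiv.ofBijective (fun q => (q.1 : S) * q.2) hT
  let b : Prod (ψ.range : Set S) U ≃ S := Equiv.ofBijective (fun q => (q.1 : S) * q.2) hU
  refine ⟨a.symm.trans ((eR.prodCongr eT).trans b), fun x => ?_⟩
  rw [mul_inv_eq_iff_eq_mul]
  refine Equiv.ext fun s => ?_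
  obtain ⟨⟨⟨-, y, rfl⟩, t⟩, rfl⟩ := a.surjective s
  have hxy : i x * (i y * t.1) = a (⟨i (x * y), x * y, rfl⟩, t) := by
    show _ = i (x * y) * t.1
    rw [map_mul, mul_assoc]
  simp only [Equiv.Perm.mul_apply, reg_apply, Equiv.trans_apply, Equiv.symm_apply_apply]
  rw [show (⟨x, hP x.2⟩ : S) * a (⟨i y, y, rfl⟩, t) = a (⟨i (x * y), x * y, rfl⟩, t) from hxy,
    Equiv.symm_apply_apply]
  have hR : ∀ z : P, eR ⟨i z, z, rfl⟩ = ⟨ψ z, z, rfl⟩ := fun z => by
    have e : (MonoidHom.ofInjective hi).toEquiv.symm ⟨i z, z, rfl⟩ = z := by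
      rw [Equiv.symm_apply_eq]; rfl
    show (MonoidHom.ofInjective hψ).toEquiv _ = _
    rw [e]; rfl
  show ((eR ⟨i (x * y), _⟩ : (ψ.range : Set S)) : S) * (eT t : S) =
    ψ x * (((eR ⟨i y, _⟩ : (ψ.range : Set S)) : S) * (eT t : S))
  rw [hR, hR]
  show ψ (x * y) * _ = _
  rw [map_mul, mul_assoc]

variable (F : FusionSystem S)

/-- The morphisms, as edge types. -/
abbrev Mor : Type u := Σ P : Subgroup Ω, {φ : P →* Ω // φ ∈ F.Hom P}

/-- The stabiliser of the standard edge. -/
def edgeSub (d : Mor F) : Subgroup (Equiv.Perm S) :=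
  (d.1.subgroupOf S).map (reg S)

/-- The stabiliser of the standard vertex. -/
def vertSub (S : Subgroup Ω) : Subgroup (Equiv.Perm S) := (reg S).range

/-- The edges. -/
abbrev Edge : Type u := Σ d : Mor F, Equiv.Perm S ⧸ edgeSub F d

variable {F}

instance : MulAction (Equiv.Perm S) (Edge F) where
  smul h e := ⟨e.1, h • e.2⟩
  one_smul e := by show (⟨e.1, _⟩ : Edge F) = e; rw [one_smul]
  mul_smul a b e := Sigma.ext rfl (heq_of_eq (mul_smul a b e.2))

theorem edge_smul_mk (h k : Equiv.Perm S) (d : Mor F) :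
    h • (⟨d, (k : Equiv.Perm S ⧸ edgeSub F d)⟩ : Edge F) = ⟨d, ((h * k : Equiv.Perm S) : _ ⧸ edgeSub F d)⟩ :=
  rfl

theorem edgeSub_le (d : Mor F) : edgeSub F d ≤ vertSub S := Subgroup.map_le_range _ _

section

variable [Finite S]

/-- The chosen permutation of a morphism. -/
noncomputable def perm (d : Mor F) : Equiv.Perm S :=
  (exists_perm (F.le_of_mem d.2.2).1 (F.le_of_mem d.2.2).2 (F.injective_of_mem d.2.2)).choose

theorem perm_spec (d : Mor F) (x : d.1) :
    perm d * reg S ⟨x, (F.le_of_mem d.2.2).1 x.2⟩ * (perm d)⁻¹ =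
      reg S ⟨d.2.1 x, (F.le_of_mem d.2.2).2 x⟩ :=
  (exists_perm (F.le_of_mem d.2.2).1 (F.le_of_mem d.2.2).2 (F.injective_of_mem d.2.2)).choose_spec x

/-- The initial vertex. -/
def src (e : Edge F) : Equiv.Perm S ⧸ vertSub S := Subgroup.quotientMapOfLE (edgeSub_le e.1) e.2

/-- The terminal vertex. -/
noncomputable def tgt (e : Edge F) : Equiv.Perm S ⧸ vertSub S :=
  Quotient.liftOn' e.2 (fun k => ((k * (perm e.1)⁻¹ : Equiv.Perm S) : Equiv.Perm S ⧸ vertSub S))
    fun a b hab => by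
      rw [QuotientGroup.leftRel_apply] at hab
      obtain ⟨x, hx, hxab⟩ := hab
      refine QuotientGroup.eq.mpr ?_
      rw [mul_inv_rev, inv_inv, show perm e.1 * a⁻¹ * (b * (perm e.1)⁻¹) =
        perm e.1 * (a⁻¹ * b) * (perm e.1)⁻¹ by group, ← hxab]
      exact ⟨_, (perm_spec e.1 ⟨x, hx⟩).symm⟩

theorem src_smul (h : Equiv.Perm S) (e : Edge F) : src (h • e) = h • src e := by
  obtain ⟨d, c⟩ := e
  induction c using QuotientGroup.induction_on with
  | H k => rfl

theorem tgt_smul (h : Equiv.Perm S) (e : Edge F) : tgt (h • e) = h • tgt e := by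
  obtain ⟨d, c⟩ := e
  induction c using QuotientGroup.induction_on with
  | H k => exact congrArg QuotientGroup.mk (mul_assoc h k _)

open Classical in
/-- The realising group. -/
noncomputable def bigGroup (F : FusionSystem S) :
    Subgroup (FreeGroup (Edge F) ⋊[actHom (Equiv.Perm S) (Edge F)] Equiv.Perm S) :=
  walkGroup src tgt src_smul tgt_smul ((1 : Equiv.Perm S) : Equiv.Perm S ⧸ vertSub S)

theorem smul_base (s : S) :
    reg S s • ((1 : Equiv.Perm S) : Equiv.Perm S ⧸ vertSub S) = ((1 : Equiv.Perm S) : _ ⧸ vertSub S) := by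
  rw [MulAction.Quotient.smul_mk, smul_eq_mul, mul_one, QuotientGroup.eq, mul_one]
  exact inv_mem ⟨s, rfl⟩

/-- The embedding of `S`. -/
noncomputable def incl (F : FusionSystem S) : S →* bigGroup F :=
  (SemidirectProduct.inr.comp (reg S)).codRestrict (bigGroup F) fun s => by
    classical
    show Walk src tgt _ (FreeGroup.toWord (1 : FreeGroup (Edge F))) _
    rw [FreeGroup.toWord_one]
    exact (smul_base s).symm

theorem incl_left (s : S) : (incl F s).1.left = 1 := rfl

theorem incl_right (s : S) : (incl F s).1.right = reg S s := rfl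

/-- Following fixed edges stays inside the system. -/
theorem follow {R : Subgroup Ω} {hR : R ≤ S} {h : Equiv.Perm S} {L : List (Edge F × Bool)}
    (hfix : ∀ x : R, ∀ l ∈ L, reg S ⟨x, hR x.2⟩ • l.1 = l.1) :
    ∀ (k : Equiv.Perm S) (α : Ω → Ω) (hα : MapTo F R α),
      (∀ x : R, reg S ⟨x, hR x.2⟩ = k * reg S ⟨α x, hα.mem x.2⟩ * k⁻¹) →
      Walk src tgt (k : Equiv.Perm S ⧸ vertSub S) L (h : Equiv.Perm S ⧸ vertSub S) →
      ∃ β, ∃ hβ : MapTo F R β, ∀ x : R, reg S ⟨x, hR x.2⟩ = h * reg S ⟨β x, hβ.mem x.2⟩ * h⁻¹ := by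
  induction L with
  | nil =>
    intro k α hα heq hw
    obtain ⟨s, hs⟩ := QuotientGroup.eq.mp (hw : (k : Equiv.Perm S ⧸ vertSub S) = h)
    have hh : h = k * reg S s := by rw [hs]; group
    refine ⟨_, hα.comp (mapTo_cj (P := img α R) hα.img_le (S.inv_mem s.2)) fun x hx => mem_img_of_mem hx,
      fun x => ?_⟩
    rw [heq, hh, show (⟨cj (s : Ω)⁻¹ (α x), _⟩ : S) = s⁻¹ * ⟨α x, hα.mem x.2⟩ * s from
      Subtype.ext (by simp [cj]), map_mul, map_mul, map_inv]
    group
  | cons l L ih =>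
    intro k α hα heq hw
    obtain ⟨⟨d, c⟩, b⟩ := l
    induction c using QuotientGroup.induction_on with
    | H m =>
      obtain ⟨hstart, hrest⟩ := hw
      have hfixm : ∀ x : R, ∃ q : d.1,
          m⁻¹ * reg S ⟨x, hR x.2⟩ * m = reg S ⟨q, (F.le_of_mem d.2.2).1 q.2⟩ := by
        intro x
        have h1 := hfix x _ List.mem_cons_self
        replace h1 : ((reg S ⟨x, hR x.2⟩ * m : Equiv.Perm S) : Equiv.Perm S ⧸ edgeSub F d) = m :=
          eq_of_heq (Sigma.mk.inj_iff.mp h1).2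
        obtain ⟨q, hq, hq'⟩ := QuotientGroup.eq.mp h1.symm
        exact ⟨⟨q, hq⟩, by rw [mul_assoc]; exact hq'.symm⟩
      have ih' := ih (fun x l hl => hfix x l (List.mem_cons_of_mem _ hl))
      cases b
      · -- backwards
        obtain ⟨s, hs⟩ := QuotientGroup.eq.mp
          (hstart : ((m * (perm d)⁻¹ : Equiv.Perm S) : Equiv.Perm S ⧸ vertSub S) = k)
        obtain ⟨ψ, hψ, hψl⟩ := (mapTo_ev d.2.2).exists_inverse
        have hval : ∀ x : R, ∀ q : d.1, m⁻¹ * reg S ⟨x, hR x.2⟩ * m = reg S ⟨q, (F.le_of_mem d.2.2).1 q.2⟩ →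
            d.2.1 q = cj (s : Ω) (α x) := by
          intro x q hq
          have hk : k = m * (perm d)⁻¹ * reg S s := by rw [hs]; group
          have e : reg S ⟨d.2.1 q, (F.le_of_mem d.2.2).2 q⟩ = reg S (s * ⟨α x, hα.mem x.2⟩ * s⁻¹) := by
            rw [← perm_spec, ← hq, heq x, hk, map_mul, map_mul, map_inv]; group
          exact congrArg Subtype.val (reg_injective e)
        have hmem : ∀ x ∈ R, cj (s : Ω) (α x) ∈ img (ev d.2.1) d.1 := fun x hx => by
          obtain ⟨q, hq⟩ := hfixm ⟨x, hx⟩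
          rw [← hval ⟨x, hx⟩ q hq, ← ev_apply d.2.1 q.2]
          exact mem_img_of_mem q.2
        have hα' := (hα.comp (mapTo_cj (P := img α R) hα.img_le s.2) fun x hx => mem_img_of_mem hx).comp hψ hmem
        refine ih' m _ hα' (fun x => ?_) hrest
        obtain ⟨q, hq⟩ := hfixm x
        rw [show (⟨ψ (cj (s : Ω) (α x)), _⟩ : S) = ⟨q, (F.le_of_mem d.2.2).1 q.2⟩ from Subtype.ext (by
          show ψ (cj (s : Ω) (α x)) = q
          rw [← hval x q hq, ← ev_apply d.2.1 q.2, hψl _ q.2]), ← hq]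
        group
      · -- forwards
        obtain ⟨s, hs⟩ := QuotientGroup.eq.mp (hstart : (m : Equiv.Perm S ⧸ vertSub S) = k)
        have hval : ∀ x : R, ∀ q : d.1, m⁻¹ * reg S ⟨x, hR x.2⟩ * m = reg S ⟨q, (F.le_of_mem d.2.2).1 q.2⟩ →
            (q : Ω) = cj (s : Ω) (α x) := by
          intro x q hq
          have hk : k = m * reg S s := by rw [hs]; exact (mul_inv_cancel_left _ _).symm
          have e : reg S ⟨q, (F.le_of_mem d.2.2).1 q.2⟩ = reg S (s * ⟨α x, hα.mem x.2⟩ * s⁻¹) := by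
            rw [← hq, heq x, hk, map_mul, map_mul, map_inv]; group
          exact congrArg Subtype.val (reg_injective e)
        have hmem : ∀ x ∈ R, cj (s : Ω) (α x) ∈ d.1 := fun x hx => by
          obtain ⟨q, hq⟩ := hfixm ⟨x, hx⟩
          exact hval ⟨x, hx⟩ q hq ▸ q.2
        have hα' := (hα.comp (mapTo_cj (P := img α R) hα.img_le s.2) fun x hx => mem_img_of_mem hx).comp
          (mapTo_ev d.2.2) hmem
        refine ih' (m * (perm d)⁻¹) _ hα' (fun x => ?_) hrest
        obtain ⟨q, hq⟩ := hfixm x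
        rw [show (⟨ev d.2.1 (cj (s : Ω) (α x)), _⟩ : S) = ⟨d.2.1 q, (F.le_of_mem d.2.2).2 q⟩ from Subtype.ext (by
          show ev d.2.1 (cj (s : Ω) (α x)) = d.2.1 q
          rw [← hval x q hq, ev_apply d.2.1 q.2]), ← perm_spec, ← hq]
        group

theorem isRealizedBy : F.IsRealizedBy (incl F) := by
  classical
  refine ⟨fun a b h => reg_injective (congrArg (fun g : bigGroup F => g.1.right) h),
    fun P hP φ hφ => ⟨fun hmem => ?_, ?_⟩⟩
  · let d : Mor F := ⟨P, φ, hmem⟩
    let f : Edge F := ⟨d, ((perm d : Equiv.Perm S) : Equiv.Perm S ⧸ edgeSub F d)⟩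
    have hw : (FreeGroup.of f)⁻¹.toWord = [(f, false)] := by
      rw [FreeGroup.toWord_inv, FreeGroup.toWord_of]; rfl
    refine ⟨⟨⟨(FreeGroup.of f)⁻¹, perm d⟩, ?_⟩, fun x => Subtype.ext ?_⟩
    · show Walk src tgt _ (FreeGroup.of f)⁻¹.toWord (perm d • _)
      rw [hw]
      refine ⟨?_, ?_⟩
      · show ((perm d * (perm d)⁻¹ : Equiv.Perm S) : Equiv.Perm S ⧸ vertSub S) = _
        rw [mul_inv_cancel]
      · show ((perm d : Equiv.Perm S) : Equiv.Perm S ⧸ vertSub S) = _
        rw [MulAction.Quotient.smul_mk, smul_eq_mul, mul_one]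
    · have hspec := perm_spec d x
      refine SemidirectProduct.ext ?_ hspec.symm
      simp only [Subgroup.coe_mul, Subgroup.coe_inv, SemidirectProduct.mul_left, SemidirectProduct.mul_right,
        SemidirectProduct.inv_left]
      have hfix : reg S ⟨φ x, hφ x⟩ • f = f := by
        rw [edge_smul_mk]
        refine congrArg (Sigma.mk d) (QuotientGroup.eq.mpr ?_)
        refine ⟨⟨x, hP x.2⟩⁻¹, inv_mem (x.2 : (⟨x, hP x.2⟩ : S) ∈ P.subgroupOf S), ?_⟩
        rw [map_inv, ← hspec]; group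
      rw [incl_left, incl_left, incl_right, map_one, mul_one, ← MulAut.mul_apply, ← map_mul, show perm d * reg S ⟨x, hP x.2⟩ * (perm d)⁻¹ = _ from hspec]
      show 1 = (FreeGroup.of f)⁻¹ * _
      rw [inv_inv, eq_inv_mul_iff_mul_eq, mul_one]
      show _ = FreeGroup.of (reg S ⟨φ x, hφ x⟩ • f)
      rw [hfix]
  · rintro ⟨g, hg⟩
    obtain ⟨⟨w, h⟩, hgw⟩ := g
    have hR : φ.range ≤ S := by
      rintro - ⟨x, rfl⟩
      exact hφ x
    have hgx : ∀ x : P, reg S ⟨φ x, hφ x⟩ = h * reg S ⟨x, hP x.2⟩ * h⁻¹ ∧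
        actHom _ _ (reg S ⟨φ x, hφ x⟩) w = w := by
      intro x
      have h1 := congrArg Subtype.val (hg x)
      have hr : reg S ⟨φ x, hφ x⟩ = h * reg S ⟨x, hP x.2⟩ * h⁻¹ :=
        congrArg SemidirectProduct.right h1
      have hl := congrArg SemidirectProduct.left h1
      simp only [Subgroup.coe_mul, Subgroup.coe_inv, SemidirectProduct.mul_left, SemidirectProduct.mul_right,
        SemidirectProduct.inv_left] at hl
      rw [incl_left, incl_left, incl_right, map_one, mul_one, ← MulAut.mul_apply, ← map_mul, ← hr, map_inv] at hl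
      exact ⟨hr, (mul_inv_eq_one.mp hl.symm).symm⟩
    have hfix : ∀ y : φ.range, ∀ l ∈ w.toWord, reg S ⟨y, hR y.2⟩ • l.1 = l.1 := by
      rintro ⟨-, x, rfl⟩ l hl
      have h1 := congrArg FreeGroup.toWord (hgx x).2
      rw [toWord_actHom] at h1
      exact congrArg Prod.fst ((List.map_eq_map_iff.mp (h1.trans (List.map_id _).symm)) l hl)
    obtain ⟨β, hβ, hβe⟩ := follow (hR := hR) (h := h) hfix 1 (fun x => x) (mapTo_id F hR)
      (fun x => by simp) (by
        have h2 : Walk src tgt _ w.toWord (h • _) := hgw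
        rwa [MulAction.Quotient.smul_mk, smul_eq_mul, mul_one] at h2)
    have key : ∀ x : P, β (φ x) = x := fun x => by
      have h1 := hβe ⟨φ x, x, rfl⟩
      rw [show reg S ⟨((⟨φ x, x, rfl⟩ : φ.range) : Ω), _⟩ = reg S ⟨φ x, hφ x⟩ from rfl, (hgx x).1,
        mul_left_inj, mul_right_inj] at h1
      exact (congrArg Subtype.val (reg_injective h1)).symm
    obtain ⟨γ, hγ, hγl⟩ := hβ.exists_inverse
    have himg : img β φ.range = P := by
      refine le_antisymm (img_le_of_forall ?_) fun x hx => ?_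
      · rintro - ⟨x, rfl⟩
        rw [key x]; exact x.2
      · have h2 := mem_img_of_mem (f := β) (P := φ.range) (x := φ ⟨x, hx⟩) ⟨⟨x, hx⟩, rfl⟩
        rwa [key ⟨x, hx⟩] at h2
    rw [himg] at hγ
    exact hγ.hom_mem fun x => by rw [← hγl _ ⟨x, rfl⟩, key x]

theorem conj_finite (A : Subgroup (bigGroup F)) (hA : Finite A) :
    ∃ g : bigGroup F, ∀ a ∈ A, g * a * g⁻¹ ∈ (incl F).range := by
  classical
  haveI := hA
  let A' := A.map (bigGroup F).subtype
  haveI : Finite A' := Finite.of_equiv _ (A.equivMapOfInjective _ (bigGroup F).subtype_injective).toEquiv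
  obtain ⟨t, ht, htA⟩ := exists_conj_left_eq_one src tgt src_smul tgt_smul _ A' (Subgroup.map_subtype_le A)
  refine ⟨⟨t, ht⟩, fun a ha => ?_⟩
  have h1 := htA _ ⟨a, ha, rfl⟩
  have h2 := ((⟨t, ht⟩ : bigGroup F) * a * (⟨t, ht⟩ : bigGroup F)⁻¹).2
  obtain ⟨b, hb⟩ : ∃ b, b = (⟨t, ht⟩ : bigGroup F) * a * (⟨t, ht⟩ : bigGroup F)⁻¹ := ⟨_, rfl⟩
  rw [← hb] at h2 ⊢
  have hb1 : b.1.left = 1 := by rw [hb]; exact h1
  change Walk src tgt _ b.1.left.toWord _ at h2
  rw [hb1, FreeGroup.toWord_one, Walk, MulAction.Quotient.smul_mk, smul_eq_mul, mul_one,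
    QuotientGroup.eq, inv_one, one_mul] at h2
  obtain ⟨s, hs⟩ := h2
  exact ⟨s, Subtype.ext (SemidirectProduct.ext hb1.symm hs)⟩

theorem exists_realisation :
    ∃ (G : Type u) (_ : Group G) (ι : S →* G), F.IsRealizedBy ι ∧
      (∀ H : Subgroup G, Finite H → ∃ g : G, ∀ h ∈ H, g * h * g⁻¹ ∈ ι.range) ∧
      ∃ N : Subgroup G, N.Normal ∧ IsFreeGroup N ∧ N.index ∣ (Nat.card S).factorial := by
  refine ⟨bigGroup F, inferInstance, incl F, isRealizedBy, conj_finite,
    (SemidirectProduct.rightHom.comp (bigGroup F).subtype).ker, inferInstance, isFreeGroup_ker _, ?_⟩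
  rw [Subgroup.index_ker, ← Nat.card_perm]
  exact Subgroup.card_subgroup_dvd_card _

end

end Cfsg.Agent.Fusion.GraphRealize
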