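import Cfsg.Agent.Lib.Fusion.CentralQuotient
import Cfsg.Agent.Lib.Fusion.RealizedNormal
import Mathlib.GroupTheory.SchurZassenhaus

/-!
Section-freeness passes to factor systems by arbitrary kernels.
-/

set_option autoImplicit false
set_option linter.style.haveILetI false

namespace Cfsg.Agent.Fusion

open Cfsg.FusionSystem (centralizerIn normalizerIn imageAlong preimageAlong)

universe u v w

variable {Ω : Type u} [Group Ω] {S : Subgroup Ω} {F : FusionSystem S}
variable {Ω' : Type w} [Group Ω'] {S' : Subgroup Ω'} {E : FusionSystem S'} {θ : S →* Ω'}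
variable {P' Q' : Subgroup Ω'} {P Q Z : Subgroup Ω} {f : Ω → Ω} {p : ℕ}

/-- A normal subgroup of order prime to `p`, killing what centralizes a normal `p`-subgroup
containing its centralizer in a Sylow subgroup. -/
theorem exists_pPrime_normal_core {X : Type*} [Group X] [Finite X] [Fact p.Prime] (T : Sylow p X)
    {B : Subgroup X} (hB : B.Normal) (hBT : B ≤ (T : Subgroup X))
    (hc : ∀ y ∈ (T : Subgroup X), (∀ b ∈ B, b * y = y * b) → y ∈ B) :
    ∃ D : Subgroup X, ∃ _ : D.Normal, (T : Subgroup X) ⊓ D = ⊥ ∧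
      Subgroup.centralizer ((B.map (QuotientGroup.mk' D) : Subgroup (X ⧸ D)) : Set (X ⧸ D)) ≤
        B.map (QuotientGroup.mk' D) := by
  have := hB
  set C := Subgroup.centralizer (B : Set X) with hC
  have hCn : C.Normal := Subgroup.normal_centralizer
  obtain ⟨TC, hTC⟩ := exists_sylow_inf T C
  set Z := (T : Subgroup X) ⊓ C with hZ
  have hZB : Z ≤ B := fun y hy => hc y hy.1 (Subgroup.mem_centralizer_iff.mp hy.2)
  have hZc : ∀ z ∈ (TC : Subgroup C), ∀ c : C, z * c = c * z := by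
    intro z hz c
    rw [hTC, Subgroup.mem_subgroupOf] at hz
    exact Subtype.ext (Subgroup.mem_centralizer_iff.mp c.2 _ (hZB hz))
  have hTCn : (TC : Subgroup C).Normal :=
    ⟨fun z hz c => by rwa [← hZc z hz c, mul_inv_cancel_right]⟩
  have hco : (Nat.card (TC : Subgroup C)).Coprime (TC : Subgroup C).index := by
    obtain ⟨e, he⟩ := IsPGroup.iff_card.mp TC.2
    rw [he]
    exact Nat.Coprime.pow_left e ((Fact.out : p.Prime).coprime_iff_not_dvd.mpr TC.not_dvd_index)
  obtain ⟨D₀, hD₀⟩ := Subgroup.exists_right_complement'_of_coprime hco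
  have hD₀p : (Nat.card D₀).Coprime p := by
    rw [← hD₀.symm.index_eq_card]
    exact ((Fact.out : p.Prime).coprime_iff_not_dvd.mpr TC.not_dvd_index).symm
  have hmem : ∀ c : C, (orderOf c).Coprime p → c ∈ D₀ := by
    intro c hc'
    obtain ⟨⟨z, d⟩, hzd⟩ := hD₀.2 c
    replace hzd : (z : C) * d = c := hzd
    have hz : Commute (z : C) d := hZc z z.2 d
    obtain ⟨e, he⟩ := TC.2 z
    have he' : (z : C) ^ p ^ e = 1 := congrArg Subtype.val he
    have hn : c ^ p ^ e = (d : C) ^ p ^ e := by rw [← hzd, hz.mul_pow, he', one_mul]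
    obtain ⟨k, hk⟩ := exists_pow_eq_self_of_coprime (hc'.symm.pow_left e)
    rw [← hk, hn]
    exact D₀.pow_mem (D₀.pow_mem d.2 _) _
  set D := D₀.map C.subtype with hD
  have hDn : D.Normal := by
    refine ⟨?_⟩
    rintro _ ⟨d, hd, rfl⟩ g
    refine ⟨⟨g * d * g⁻¹, hCn.conj_mem _ d.2 g⟩, hmem _ ?_, rfl⟩
    rw [← Subgroup.orderOf_coe]
    show (orderOf (MulAut.conj g (d : X))).Coprime p
    rw [MulEquiv.orderOf_eq, Subgroup.orderOf_coe]
    rw [← show orderOf (⟨d, hd⟩ : D₀) = orderOf d from (Subgroup.orderOf_coe _).symm]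
    exact Nat.Coprime.coprime_dvd_left (orderOf_dvd_natCard (⟨d, hd⟩ : D₀)) hD₀p
  have := hDn
  have hDT : (T : Subgroup X) ⊓ D = ⊥ := by
    refine (Subgroup.eq_bot_iff_forall _).mpr ?_
    rintro _ ⟨hT, d, hd, rfl⟩
    obtain ⟨e, he⟩ := T.2 ⟨_, hT⟩
    have h1 : (d : X) ^ p ^ e = 1 := congrArg Subtype.val he
    have h2 : (⟨d, hd⟩ : D₀) ^ p ^ e = 1 := Subtype.ext (Subtype.ext h1)
    have h3 : (⟨d, hd⟩ : D₀) = 1 := orderOf_eq_one_iff.mp (Nat.eq_one_of_dvd_coprimes
      (hD₀p.pow_right e) (orderOf_dvd_natCard _) (orderOf_dvd_of_pow_eq_one h2))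
    exact congrArg (fun w : D₀ => ((w : C) : X)) h3
  refine ⟨D, hDn, hDT, fun m hm => ?_⟩
  obtain ⟨x, rfl⟩ := QuotientGroup.mk'_surjective D m
  have hxC : x ∈ C := by
    refine Subgroup.mem_centralizer_iff.mpr fun b hb => ?_
    have h1 := Subgroup.mem_centralizer_iff.mp hm _ ⟨b, hb, rfl⟩
    rw [← map_mul, ← map_mul] at h1
    have h2 : (b * x)⁻¹ * (x * b) ∈ D := QuotientGroup.eq.mp h1
    have h3 : (b * x)⁻¹ * (x * b) ∈ B := by
      have := B.mul_mem (hB.conj_mem _ (B.inv_mem hb) x⁻¹) hb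
      convert this using 1
      group
    have h4 : (b * x)⁻¹ * (x * b) = 1 := Subgroup.mem_bot.mp (hDT ▸ ⟨hBT h3, h2⟩)
    exact inv_mul_eq_one.mp h4
  obtain ⟨⟨z, d⟩, hzd⟩ := hD₀.2 ⟨x, hxC⟩
  have hzd' : ((z : C) : X) * ((d : C) : X) = x := congrArg Subtype.val hzd
  have hzB : ((z : C) : X) ∈ B := by
    have h : (z : C) ∈ Z.subgroupOf C := hTC.le z.2
    exact hZB (Subgroup.mem_subgroupOf.mp h)
  refine ⟨_, hzB, ?_⟩
  have hd1 : QuotientGroup.mk' D ((d : C) : X) = 1 :=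
    (QuotientGroup.eq_one_iff _).mpr ⟨_, d.2, rfl⟩
  rw [← hzd', map_mul, hd1, mul_one]

/-- Section-freeness passes to all factor systems. -/
theorem isSectionFree_image [Finite S] [Fact p.Prime] (hS : IsPGroup p S)
    (hF : F.IsSaturated p) (h : F.IsSurjectiveMorphism E θ) {H : Type v} [Group H] (hH : F.IsSectionFree p H) : E.IsSectionFree p H := by
  intro Q' hQn hQc N' hN' L _ ι' hL hinv
  have hr := h.2.1
  have hQ'S : Q' ≤ S' := hQn.1
  set Q := preimageAlong θ Q' with hQdef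
  have hQS : Q ≤ S := preimageAlong_le
  have hTdef : preimageAlong θ (normalizerIn S' Q') = normalizerIn S Q :=
    preimageAlong_normalizerIn h hQ'S
  have hQn' := isFullyNormalized_preimage h hQn
  have hQc' := isCentric_preimage h hQc
  have hT' : normalizerIn S' Q' ≤ θ.range := hr.symm ▸ normalizerIn_le
  haveI : Finite (normalizerIn S Q) := finite_of_le normalizerIn_le
  haveI : Finite S' := hr ▸ Finite.of_surjective θ.rangeRestrict θ.rangeRestrict_surjective
  haveI : Finite (normalizerIn S' Q') := finite_of_le normalizerIn_le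
  have hN := isNormalizerSystem_nSys F hQS
  obtain ⟨G, _, ι, hmod⟩ := exists_model (hS.to_le normalizerIn_le)
    (isConstrained_normalizerSystem hS hF hQn' hQc' hN)
  haveI := hmod.1
  have hQnorm := isNormal_normalizerSystem hQS hN
  have hQT : Q ≤ normalizerIn S Q := le_normalizerIn hQS
  have hZQ : kerIn θ ≤ Q := kerIn_le_preimageAlong
  set K := imageAlong ι (kerIn θ) with hKdef
  have hKn : K.Normal := by
    refine ⟨fun k hk a => ?_⟩
    obtain ⟨z, hz, rfl⟩ := (mem_imageAlong (hZQ.trans hQT)).mp hk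
    obtain ⟨f, hf, hfa⟩ := IsRealizedBy.exists_mapTo hmod.2.1 hQT a fun y hy => by
      obtain ⟨w, -, hwy⟩ := IsModel.conj_mem hmod hQnorm a hy
      rw [← hwy]
      exact th_mem_range ι w
    obtain ⟨-, -, g, hg, hgf, -⟩ := (mapTo_nSys_iff hN).mp hf
    rw [← hfa z (hZQ hz)]
    refine th_mem_imageAlong (hZQ.trans hQT) ?_
    rw [← hgf z (hZQ hz)]
    exact StronglyClosed.map_mem (IsMorphism.stronglyClosed_kerIn h.1) hg
      (Subgroup.mem_sup_left (hZQ hz)) hz
  set π := QuotientGroup.mk' K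
  -- the map from the Sylow subgroup downstairs
  let θT : ↥(normalizerIn S Q) →* ↥(normalizerIn S' Q') :=
    (θ.comp (Subgroup.inclusion normalizerIn_le)).codRestrict _ fun t => by
      obtain ⟨h1, h2⟩ := mem_preimageAlong.mp (hTdef.symm.le t.2)
      rw [th_apply θ h1] at h2
      exact h2
  have hθT : ∀ t : ↥(normalizerIn S Q), ((θT t : ↥(normalizerIn S' Q')) : Ω') = th θ (t : Ω) :=
    fun t => (th_apply θ (normalizerIn_le t.2)).symm
  have hθTs : Function.Surjective θT := by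
    rintro ⟨y, hy⟩
    obtain ⟨x, hx, rfl⟩ := exists_preimage hT' hy
    exact ⟨⟨x, hTdef ▸ hx⟩, Subtype.ext (hθT _)⟩
  have hker : θT.ker ≤ (π.comp ι).ker := by
    intro t ht
    rw [MonoidHom.mem_ker] at ht ⊢
    refine (QuotientGroup.eq_one_iff _).mpr ?_
    rw [show ι t = th ι (t : Ω) from (th_coe ι t).symm]
    refine th_mem_imageAlong (hZQ.trans hQT) (mem_kerIn.mpr ⟨normalizerIn_le t.2, ?_⟩)
    rw [← hθT t, ht]
    rfl
  let ι₁ : ↥(normalizerIn S' Q') →* G ⧸ K :=
    θT.liftOfRightInverse _ (Function.rightInverse_surjInv hθTs) ⟨π.comp ι, hker⟩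
  have hι₁ : ∀ t, ι₁ (θT t) = π (ι t) := fun t =>
    θT.liftOfRightInverse_comp_apply _ (Function.rightInverse_surjInv hθTs) ⟨π.comp ι, hker⟩ t
  have hth : ∀ x ∈ normalizerIn S Q, th ι₁ (th θ x) = π (th ι x) := fun x hx => by
    rw [th_apply ι hx, ← hι₁, ← hθT ⟨x, hx⟩, th_coe]
  have hinj : Function.Injective ι₁ := by
    rw [injective_iff_map_eq_one]
    intro y hy
    obtain ⟨t, rfl⟩ := hθTs y
    rw [hι₁] at hy
    obtain ⟨z, hz, hzt⟩ := (mem_imageAlong (hZQ.trans hQT)).mp ((QuotientGroup.eq_one_iff _).mp hy)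
    have hzt' : (⟨z, hQT (hZQ hz)⟩ : ↥(normalizerIn S Q)) = t :=
      hmod.2.1.1 (by rw [← hzt, th_apply ι (hQT (hZQ hz))])
    exact Subtype.ext (by rw [hθT, ← hzt']; exact (mem_kerIn.mp hz).2)
  have hrange : ι₁.range = ι.range.map π := by
    ext y
    constructor
    · rintro ⟨w, rfl⟩
      obtain ⟨t, rfl⟩ := hθTs w
      exact ⟨_, ⟨t, rfl⟩, (hι₁ t).symm⟩
    · rintro ⟨_, ⟨t, rfl⟩, rfl⟩
      exact ⟨θT t, hι₁ t⟩
  have hpre : ∀ P' : Subgroup Ω', P' ≤ normalizerIn S' Q' →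
      preimageAlong θ P' ≤ normalizerIn S Q := fun P' hP' x hx => hTdef ▸ mem_preimageAlong.mpr
        ⟨(mem_preimageAlong.mp hx).1, hP' (mem_preimageAlong.mp hx).2⟩
  have hreal : N'.IsRealizedBy ι₁ := by
    refine ⟨hinj, fun P' hP' φ hφ => ?_⟩
    have hP'r : P' ≤ θ.range := hP'.trans hT'
    constructor
    · intro hmem
      obtain ⟨-, -, g, hg, hgφ, hgQ⟩ := (mapTo_nSys_iff hN').mp (mapTo_ev hmem)
      obtain ⟨hle, f, hf, hfg⟩ := IsSurjectiveMorphism.exists_lift h hg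
      have hmono : ∀ A : Subgroup Ω', A ≤ P' ⊔ Q' →
          preimageAlong θ A ≤ preimageAlong θ (P' ⊔ Q') := fun A hA x hx =>
        mem_preimageAlong.mpr ⟨(mem_preimageAlong.mp hx).1, hA (mem_preimageAlong.mp hx).2⟩
      have hPf := hf.restrict (hmono P' le_sup_left)
      have hfT : ∀ x ∈ preimageAlong θ P', f x ∈ normalizerIn S Q := fun x hx => by
        rw [← hTdef]
        refine mem_preimageAlong.mpr ⟨hPf.mem hx, ?_⟩
        rw [← hfg x (hmono P' le_sup_left hx), hgφ _ (mem_preimageAlong.mp hx).2,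
          ev_apply φ (mem_preimageAlong.mp hx).2]
        exact hφ _
      have hsup : preimageAlong θ P' ⊔ Q ≤ preimageAlong θ (P' ⊔ Q') :=
        sup_le (hmono _ le_sup_left) (hmono _ le_sup_right)
      have hfQ : ∀ x ∈ Q, f x ∈ Q := fun x hx => mem_preimageAlong.mpr
        ⟨hf.mem (hmono _ le_sup_right hx), by
          rw [← hfg x (hmono _ le_sup_right hx)]
          exact hgQ.le (mem_img_of_mem (mem_preimageAlong.mp hx).2)⟩
      haveI := finite_of_le hQS
      have hfN : MapTo (nSys F hQS) (preimageAlong θ P') f := (mapTo_nSys_iff hN).mpr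
        ⟨hpre P' hP', hfT, f, hf.restrict hsup, fun _ _ => rfl,
          img_eq_self_of_forall (hf.restrict (hmono _ le_sup_right)) hfQ⟩
      obtain ⟨a, ha⟩ := IsRealizedBy.exists_conj hmod.2.1 hfN
      refine ⟨π a, fun y => ?_⟩
      obtain ⟨x, hx, hxy⟩ := exists_preimage hP'r y.2
      have hfx : th θ (f x) = φ y := by
        rw [← hfg x (hmono P' le_sup_left hx), hxy, hgφ _ y.2, ev_coe]
      rw [← th_apply ι₁ (hφ y), ← hfx, hth _ (hfT x hx), ha x hx, map_mul, map_mul, map_inv,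
        ← hth x (hpre P' hP' hx), hxy, th_apply ι₁ (hP' y.2)]
    · rintro ⟨a', ha'⟩
      obtain ⟨a, rfl⟩ := QuotientGroup.mk'_surjective K a'
      obtain ⟨f, hf, hfa⟩ := IsRealizedBy.exists_mapTo hmod.2.1 (hpre P' hP') a fun x hx => by
        have hx' := (mem_preimageAlong.mp hx).2
        have e := ha' ⟨th θ x, hx'⟩
        rw [← th_apply ι₁ (hP' hx'), hth x (hpre P' hP' hx), ← map_inv, ← map_mul,
          ← map_mul] at e
        obtain ⟨t, ht⟩ := hθTs ⟨φ ⟨th θ x, hx'⟩, hφ _⟩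
        rw [← ht, hι₁] at e
        obtain ⟨k, hk, hkk⟩ : ∃ k ∈ K, ι t * k = a * th ι x * a⁻¹ :=
          ⟨(ι t)⁻¹ * (a * th ι x * a⁻¹), QuotientGroup.eq.mp e, mul_inv_cancel_left _ _⟩
        rw [← hkk]
        exact Subgroup.mul_mem _ ⟨t, rfl⟩ (imageAlong_le_range hk)
      obtain ⟨-, hfT, g, hg, hgf, hgQ⟩ := (mapTo_nSys_iff hN).mp hf
      obtain ⟨g', hg', hgg⟩ := IsMorphism.exists_map h.1 hg
      have hle : P' ⊔ Q' ≤ imageAlong θ (preimageAlong θ P' ⊔ Q) := by
        refine sup_le (fun y hy => ?_) (fun y hy => ?_)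
        · obtain ⟨x, hx, rfl⟩ := exists_preimage hP'r hy
          exact th_mem_imageAlong hg.le (Subgroup.mem_sup_left hx)
        · obtain ⟨x, hx, rfl⟩ := exists_preimage (hr.symm ▸ hQ'S : Q' ≤ θ.range) hy
          exact th_mem_imageAlong hg.le (Subgroup.mem_sup_right hx)
      have hval : ∀ y : P', g' y = φ y := by
        intro y
        obtain ⟨x, hx, hxy⟩ := exists_preimage hP'r y.2
        have e := ha' y
        rw [← th_apply ι₁ (hP' y.2), ← hxy, hth x (hpre P' hP' hx), ← map_inv, ← map_mul,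
          ← map_mul, ← hfa x hx, ← hth _ (hfT x hx)] at e
        have hfx' : th θ (f x) ∈ normalizerIn S' Q' :=
          (mem_preimageAlong.mp (hTdef.symm ▸ hfT x hx)).2
        rw [th_apply ι₁ hfx'] at e
        rw [← hxy, hgg x (Subgroup.mem_sup_left hx), hgf x hx]
        exact (congrArg Subtype.val (hinj e)).symm
      haveI := finite_of_le hQ'S
      refine ((mapTo_nSys_iff hN').mpr ⟨hP', fun y hy => ev_apply φ hy ▸ hφ _, g',
        hg'.restrict hle, fun y hy => (hval ⟨y, hy⟩).trans (ev_apply φ hy).symm, ?_⟩).hom_mem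
        fun y => (ev_coe φ y).symm
      refine img_eq_self_of_forall ((hg'.restrict hle).restrict le_sup_right) fun y hy => ?_
      obtain ⟨x, hx, rfl⟩ := exists_preimage (hr.symm ▸ hQ'S : Q' ≤ θ.range) hy
      rw [hgg x (Subgroup.mem_sup_right hx)]
      exact (mem_preimageAlong.mp (hgQ.le (mem_img_of_mem hx))).2
  -- kill the part of order prime to `p`
  obtain ⟨TG, hTG⟩ := hmod.2.2.1
  let TX : Sylow p (G ⧸ K) := TG.mapSurjective (QuotientGroup.mk'_surjective K)
  have hTX : (TX : Subgroup (G ⧸ K)) = ι₁.range := by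
    rw [Sylow.coe_mapSurjective, hTG, hrange]
  set B := imageAlong ι₁ Q' with hB
  have hQ'T : Q' ≤ normalizerIn S' Q' := le_normalizerIn hQ'S
  have hBn : B.Normal := by
    have h1 : (imageAlong ι Q).Normal := IsModel.normal_imageAlong hmod hQnorm
    have h2 : B = (imageAlong ι Q).map π := by
      refine le_antisymm (fun y hy => ?_) ?_
      · obtain ⟨w, hw, rfl⟩ := (mem_imageAlong hQ'T).mp hy
        obtain ⟨x, hx, rfl⟩ := exists_preimage (hQ'T.trans hT') hw
        rw [hth x (hpre Q' hQ'T hx)]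
        exact ⟨_, th_mem_imageAlong hQT hx, rfl⟩
      · rintro _ ⟨y, hy, rfl⟩
        obtain ⟨x, hx, rfl⟩ := (mem_imageAlong hQT).mp hy
        rw [← hth x (hQT hx)]
        exact th_mem_imageAlong hQ'T (mem_preimageAlong.mp hx).2
    rw [h2]
    exact h1.map π (QuotientGroup.mk'_surjective K)
  have hS'p : IsPGroup p S' := hr ▸ hS.of_surjective θ.rangeRestrict θ.rangeRestrict_surjective
  obtain ⟨D, hD, hDT, hDc⟩ := exists_pPrime_normal_core TX hBn
    (show B ≤ (TX : Subgroup (G ⧸ K)) from hTX ▸ imageAlong_le_range) (by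
      intro y hy hyc
      rw [hTX] at hy
      obtain ⟨w, hw, rfl⟩ := exists_th_eq hy
      refine th_mem_imageAlong hQ'T (centralizerIn_le_of_isCentric hQc (mem_centralizerIn.mpr
        ⟨normalizerIn_le hw, fun q hq => th_inj hinj (mul_mem (hQ'T hq) hw)
          (mul_mem hw (hQ'T hq)) ?_⟩))
      rw [th_mul ι₁ (hQ'T hq) hw, th_mul ι₁ hw (hQ'T hq)]
      exact hyc _ (th_mem_imageAlong hQ'T hq))
  have := hD
  have hinf : ι₁.range ⊓ D = ⊥ := hTX ▸ hDT
  set π₂ := QuotientGroup.mk' D with hπ₂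
  have hmodel : N'.IsModel p ((G ⧸ K) ⧸ D) (π₂.comp ι₁) := by
    refine ⟨inferInstance, IsRealizedBy.quotient hreal TX hTX D hinf,
      ⟨TX.mapSurjective (QuotientGroup.mk'_surjective D),
        by rw [Sylow.coe_mapSurjective, hTX, MonoidHom.range_comp]⟩, ?_⟩
    have hBp : IsPGroup p B := TX.2.to_le (hTX ▸ imageAlong_le_range)
    have hOle : B.map π₂ ≤ Cfsg.pCore p ((G ⧸ K) ⧸ D) :=
      le_pCore (hBn.map π₂ (QuotientGroup.mk'_surjective D)) (hBp.map π₂)
    exact (Subgroup.centralizer_le hOle).trans (hDc.trans hOle)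
  obtain ⟨φ, -⟩ := IsModel.exists_iso hL hmodel
  have hKinv : Cfsg.Involves H ((G ⧸ K) ⧸ D) :=
    SL2Dickson.involves_trans (M := (⊤ : Subgroup ((G ⧸ K) ⧸ D)))
      (φ.symm.toMonoidHom.comp (⊤ : Subgroup ((G ⧸ K) ⧸ D)).subtype)
      (fun y => ⟨⟨φ y, trivial⟩, φ.symm_apply_apply y⟩) hinv
  exact hH Q hQn' hQc' _ hN G ι hmod
    (SL2Dickson.involves_of_quotient K (SL2Dickson.involves_of_quotient D hKinv))

end Cfsg.Agent.Fusion
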