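import Cfsg.Agent.Lib.Fusion.KModel
import Cfsg.Agent.Lib.Fusion.RealizedNormal
import Cfsg.Agent.Lib.Fusion.SectionFreeQuotient
import Cfsg.Agent.Lib.SL2Dickson.Involve

/-!
Models of the local systems of the fusion system of a group, and section-freeness.
-/

set_option autoImplicit false
set_option linter.style.haveILetI false

namespace Cfsg.Agent.Fusion

open Cfsg.FusionSystem (centralizerIn normalizerIn imageAlong preimageAlong)

universe u v

variable {G : Type u} [Group G] {S R : Subgroup G} {p : ℕ} {f : G → G}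

/-- The inclusion of `N_S(R)` in `N_G(R)`. -/
def normalizerIncl (S R : Subgroup G) :
    ↥(normalizerIn S R) →* ↥(Subgroup.normalizer (R : Set G)) :=
  Subgroup.inclusion inf_le_right

theorem normalizerIncl_range : (normalizerIncl S R).range =
    (normalizerIn S R).subgroupOf (Subgroup.normalizer (R : Set G)) :=
  Subgroup.inclusion_range inf_le_right

theorem th_normalizerIncl {x : G} (hx : x ∈ normalizerIn S R) :
    ((th (normalizerIncl S R) x : ↥(Subgroup.normalizer (R : Set G))) : G) = x := by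
  rw [th_apply _ hx]; rfl

/-- The normalizer system in the fusion system of a group is realized by the normalizer. -/
theorem isRealizedBy_normalizerIncl [Finite G] (hR : R ≤ S)
    {N : FusionSystem (normalizerIn S R)} (hN : (groupFusionSystem S).IsNormalizerSystem R N) :
    N.IsRealizedBy (normalizerIncl S R) := by
  refine ⟨Subgroup.inclusion_injective _, fun P hP φ hφ => ⟨fun h => ?_, fun ⟨a, ha⟩ => ?_⟩⟩
  · obtain ⟨-, -, g, hg, hgφ, hgR⟩ := (mapTo_nSys_iff hN).mp (mapTo_ev h)
    obtain ⟨-, a, ha⟩ := mapTo_gfs_iff.mp hg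
    have haR : a ∈ Subgroup.normalizer (R : Set G) := mem_normalizer_of_forall fun y hy => by
      rw [← (ha y (Subgroup.mem_sup_right hy)).1]
      exact hgR.le (mem_img_of_mem hy)
    refine ⟨⟨a, haR⟩, fun x => Subtype.ext ?_⟩
    show φ x = a * x * a⁻¹
    rw [← (ha x (Subgroup.mem_sup_left x.2)).1, hgφ _ x.2, ev_coe]
  · have hval : ∀ x : P, φ x = (a : G) * x * (a : G)⁻¹ := fun x => congrArg Subtype.val (ha x)
    refine (hom_mem_iff_mapTo (f := ev φ) fun x => (ev_coe φ x).symm).mpr
      ((mapTo_nSys_iff hN).mpr ⟨hP, fun x hx => ev_apply φ hx ▸ hφ _, cj (a : G),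
        mapTo_gfs_cj (sup_le (hP.trans normalizerIn_le) hR) fun x hx => ?_,
        fun x hx => by rw [ev_apply φ hx, hval ⟨x, hx⟩]; rfl, ?_⟩)
    · have hle : P ⊔ R ≤ S.comap (MulAut.conj (a : G)).toMonoidHom := by
        refine sup_le (fun y hy => ?_) fun y hy => ?_
        · show (a : G) * y * (a : G)⁻¹ ∈ S
          rw [← hval ⟨y, hy⟩]
          exact normalizerIn_le (hφ _)
        · exact hR ((Subgroup.mem_normalizer_iff.mp a.2 y).mp hy)
      exact hle hx
    · rw [img_cj]
      refine Subgroup.eq_of_le_of_card_ge ?_ (card_map_conj R _).ge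
      rintro _ ⟨y, hy, rfl⟩
      exact (Subgroup.mem_normalizer_iff.mp a.2 y).mp hy

variable [Finite G] [Fact p.Prime]

/-- A model of a local system of the fusion system of a group, as a quotient of the normalizer. -/
theorem exists_model_gfs (T : Sylow p G)
    (hRn : (groupFusionSystem (T : Subgroup G)).IsFullyNormalized R)
    (hRc : (groupFusionSystem (T : Subgroup G)).IsCentric R)
    {N : FusionSystem (normalizerIn (T : Subgroup G) R)}
    (hN : (groupFusionSystem (T : Subgroup G)).IsNormalizerSystem R N) :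
    ∃ D : Subgroup ↥(Subgroup.normalizer (R : Set G)), ∃ _ : D.Normal,
      R.subgroupOf (Subgroup.normalizer (R : Set G)) ⊓ D = ⊥ ∧
      N.IsModel p (↥(Subgroup.normalizer (R : Set G)) ⧸ D)
        ((QuotientGroup.mk' D).comp (normalizerIncl (T : Subgroup G) R)) := by
  set X := Subgroup.normalizer (R : Set G)
  have hRT := hRn.1
  have hle : normalizerIn (T : Subgroup G) R ≤ X := inf_le_right
  obtain ⟨TX, hTX⟩ := (isSylowIn_iff_exists hle).mp ((isFullyNormalized_gfs_iff T hRT).mp hRn)
  have hBT : R.subgroupOf X ≤ (TX : Subgroup X) := by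
    rw [hTX]
    exact fun y hy => le_normalizerIn hRT hy
  obtain ⟨D, hD, hTD, hC⟩ := exists_pPrime_normal_core TX
    (B := R.subgroupOf X) Subgroup.normal_in_normalizer hBT fun y hy hc => by
      rw [hTX] at hy
      refine centralizerIn_le_of_isCentric hRc (mem_centralizerIn.mpr ⟨normalizerIn_le hy,
        fun r hr => ?_⟩)
      exact congrArg Subtype.val (hc ⟨r, Subgroup.le_normalizer hr⟩ hr)
  have := hD
  refine ⟨D, hD, le_bot_iff.mp ((inf_le_inf_right _ hBT).trans hTD.le), inferInstance,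
    IsRealizedBy.quotient (isRealizedBy_normalizerIncl hRT hN) TX
      (hTX.trans normalizerIncl_range.symm) D (by rw [normalizerIncl_range, ← hTX]; exact hTD),
    ?_, ?_⟩
  · refine ⟨TX.mapSurjective (QuotientGroup.mk'_surjective D), ?_⟩
    rw [Sylow.coe_mapSurjective, MonoidHom.range_comp, normalizerIncl_range, ← hTX]
  · have hBn : (R.subgroupOf X).Normal := Subgroup.normal_in_normalizer
    have hB : (R.subgroupOf X).map (QuotientGroup.mk' D) ≤ pCore p (X ⧸ D) :=
      le_pCore (hBn.map _ (QuotientGroup.mk'_surjective D)) ((TX.2.to_le hBT).map _)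
    exact (Subgroup.centralizer_le hB).trans (hC.trans hB)

open Cfsg.Agent.SL2Dickson (natAut involves_qd involves_trans)
open scoped MatrixGroups

omit [Finite G] [Fact p.Prime] in
/-- A group embedded in another inherits its involved sections. -/
theorem involves_of_normalizer {H : Type v} [Group H] {X : Subgroup G} {L : Type u} [Group L]
    (π : X →* L) (hπ : Function.Surjective π) (h : Cfsg.Involves H L) : Cfsg.Involves H G :=
  involves_trans (M := X) π hπ h

omit [Finite G] in
/-- The fusion system of a group without a given section is free of that section. -/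
theorem isSectionFree_gfs [Finite G] (T : Sylow p G) {H : Type v} [Group H]
    (h : ¬ Cfsg.Involves H G) :
    (groupFusionSystem (T : Subgroup G)).IsSectionFree p H := by
  intro Q hQn hQc N hN L _ ι hmod hinv
  obtain ⟨D, hD, -, hmod'⟩ := exists_model_gfs T hQn hQc hN
  have := hD
  obtain ⟨e, -⟩ := IsModel.exists_iso hmod' hmod
  exact h (involves_of_normalizer (e.toMonoidHom.comp (QuotientGroup.mk' D))
    (e.surjective.comp (QuotientGroup.mk'_surjective D)) hinv)

/-- The translation part of an element of the affine group. -/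
abbrev AffQd (p : ℕ) := Multiplicative (Fin 2 → ZMod p) ⋊[natAut p] SL(2, ZMod p)

/-- A normalizer carrying the action of a `Qd(p)` section on a `p`-subgroup involves `Qd(p)` in
every quotient that keeps this subgroup. -/
theorem involves_qd_of_action (hp2 : p ≠ 2) {H Q X : Subgroup G} (ρ : H →* AffQd p)
    (hQH : Q ≤ H) (hQX : Q ≤ X) (hQ1 : ∀ q : Q, (ρ ⟨q, hQH q.2⟩).right = 1)
    (hQ2 : ∀ v, ∃ q : Q, (ρ ⟨q, hQH q.2⟩).left = v)
    (hact : ∀ g : SL(2, ZMod p), ∃ n : X, ∃ h : H, (ρ h).right = g ∧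
      (h : G) ∈ Subgroup.normalizer (Q : Set G) ∧
      ∀ q ∈ Q, (n : G) * q * (n : G)⁻¹ = (h : G) * q * (h : G)⁻¹)
    {L : Type u} [Group L] [Finite L] (π : X →* L)
    (hinj : ∀ q : Q, π ⟨q, hQX q.2⟩ = 1 → q = 1)
    (hker : ∀ d : X, π d = 1 → ∀ q ∈ Q, (d : G) * q = q * (d : G)) :
    Cfsg.Involves ↥(Cfsg.qd p) L := by
  let P2 : Subgroup (X × H) :=
    { carrier := {x | (x.2 : G) ∈ Subgroup.normalizer (Q : Set G) ∧
        ∀ q ∈ Q, (x.1 : G) * q * (x.1 : G)⁻¹ = (x.2 : G) * q * (x.2 : G)⁻¹}
      one_mem' := ⟨Subgroup.one_mem _, fun q _ => rfl⟩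
      mul_mem' := by
        rintro ⟨n, h⟩ ⟨n', h'⟩ ⟨hN, he⟩ ⟨hN', he'⟩
        refine ⟨Subgroup.mul_mem _ hN hN', fun q hq => ?_⟩
        have hq' := (Subgroup.mem_normalizer_iff.mp hN' q).mp hq
        have h1 := he _ hq'
        dsimp only at *
        rw [← he' q hq] at h1
        simp only [Prod.fst_mul, Prod.snd_mul, Subgroup.coe_mul, mul_inv_rev]
        rw [show ((n : G) * n') * q * ((n' : G)⁻¹ * (n : G)⁻¹) =
          (n : G) * ((n' : G) * q * (n' : G)⁻¹) * (n : G)⁻¹ by group, h1, he' q hq]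
        group
      inv_mem' := by
        rintro ⟨n, h⟩ ⟨hN, he⟩
        refine ⟨Subgroup.inv_mem _ hN, fun q hq => ?_⟩
        have hq' : (h : G)⁻¹ * q * (h : G) ∈ Q := by
          simpa using (Subgroup.mem_normalizer_iff.mp (Subgroup.inv_mem _ hN) q).mp hq
        have h1 := he _ hq'
        dsimp only at *
        simp only [Prod.fst_inv, Prod.snd_inv, Subgroup.coe_inv, inv_inv]
        rw [show (h : G) * ((h : G)⁻¹ * q * (h : G)) * (h : G)⁻¹ = q by group] at h1
        calc (n : G)⁻¹ * q * (n : G)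
            = (n : G)⁻¹ * ((n : G) * ((h : G)⁻¹ * q * (h : G)) * (n : G)⁻¹) * (n : G) := by
              rw [h1]
          _ = (h : G)⁻¹ * q * (h : G) := by group }
  let ψ : P2 →* L := π.comp ((MonoidHom.fst X H).comp P2.subtype)
  let R : P2 →* AffQd p := ρ.comp ((MonoidHom.snd X H).comp P2.subtype)
  let d : Q → P2 := fun q => ⟨(⟨q, hQX q.2⟩, ⟨q, hQH q.2⟩),
    Subgroup.le_normalizer q.2, fun _ _ => rfl⟩
  let dh : Q →* P2 := MonoidHom.mk' d fun a b => rfl
  have hleft : ∀ (x : P2) (q q' : Q), dh q' = x * dh q * x⁻¹ →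
      (R (dh q')).left = natAut p (R x).right (R (dh q)).left := by
    intro x q q' hqq
    have e : R (dh q) = SemidirectProduct.inl (R (dh q)).left :=
      SemidirectProduct.ext rfl (hQ1 q)
    rw [hqq, map_mul, map_mul, map_inv, e]
    simp [SemidirectProduct.mul_left, SemidirectProduct.inv_left]
  have hconj : ∀ (x : P2) (q : Q), ∃ q' : Q, dh q' = x * dh q * x⁻¹ := by
    intro x q
    refine ⟨⟨_, (Subgroup.mem_normalizer_iff.mp x.2.1 q).mp q.2⟩, Subtype.ext (Prod.ext ?_ ?_)⟩
    · exact Subtype.ext (x.2.2 q q.2).symm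
    · rfl
  have hfaith : ∀ g : SL(2, ZMod p), (∀ v, natAut p g v = v) → g = 1 := by
    intro g hg
    refine Matrix.SpecialLinearGroup.ext _ _ fun i j => ?_
    have h1 : g.1.mulVec (Pi.single j 1) = Pi.single j 1 := by
      simpa [SL2Dickson.natAut_apply] using hg (Multiplicative.ofAdd (Pi.single j 1))
    have h2 := congrFun h1 i
    rw [Matrix.mulVec_single_one] at h2
    simpa [Matrix.one_apply, Pi.single_apply] using h2
  -- the kernel
  let W : Subgroup P2 :=
    ((R.comp dh).ker.map dh) ⊔ ψ.ker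
  have hW1 : ∀ x : P2, ψ x = 1 → ∀ q : Q, x * dh q * x⁻¹ = dh q := by
    intro x hx q
    obtain ⟨q', hq'⟩ := hconj x q
    rw [← hq']
    have h1 : (q' : G) = (x.1.1 : G) * q * (x.1.1 : G)⁻¹ :=
      congrArg (fun y : P2 => (y.1.1 : G)) hq'
    rw [hker x.1.1 hx _ q.2, mul_inv_cancel_right] at h1
    rw [show q' = q from Subtype.ext h1]
  have hWn : W.Normal := by
    have : ψ.ker.Normal := inferInstance
    refine ⟨fun w hw x => ?_⟩
    have hle : W ≤ W.comap (MulAut.conj x).toMonoidHom := by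
      refine sup_le ?_ fun y hy => Subgroup.mem_sup_right (this.conj_mem y hy x)
      rintro _ ⟨q, hq, rfl⟩
      obtain ⟨q', hq'⟩ := hconj x q
      refine Subgroup.mem_sup_left ⟨q', ?_, hq'⟩
      have h2 := congrArg R hq'
      rw [map_mul, map_mul, map_inv, show R (dh q) = 1 from hq, mul_one, mul_inv_cancel] at h2
      exact h2
    exact hle hw
  have hWR : ∀ w ∈ W, (R w).right = 1 := by
    intro w hw
    have hle : W ≤ (SemidirectProduct.rightHom.comp R).ker := by
      refine sup_le ?_ fun x hx => hfaith _ fun v => ?_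
      · rintro _ ⟨q, -, rfl⟩
        exact hQ1 q
      · obtain ⟨q, rfl⟩ := hQ2 v
        exact (hleft x q q (hW1 x hx q).symm).symm
    exact hle hw
  have hdW : ∀ q : Q, dh q ∈ W ↔ (R (dh q)).left = 1 := by
    intro q
    refine ⟨fun h => ?_, fun h => Subgroup.mem_sup_left
      ⟨q, SemidirectProduct.ext h (hQ1 q), rfl⟩⟩
    rw [← SetLike.mem_coe, Subgroup.mul_normal, Set.mem_mul] at h
    obtain ⟨_, ⟨q', hq', rfl⟩, k, hk, hqk⟩ := h
    have hk' : k = dh (q'⁻¹ * q) := by rw [map_mul, map_inv, ← hqk, inv_mul_cancel_left]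
    have h1 := hinj (q'⁻¹ * q) (by
      have h2 : ψ k = 1 := hk
      rw [hk'] at h2
      exact h2)
    rw [inv_mul_eq_one] at h1
    subst h1
    exact congrArg SemidirectProduct.left (show R (dh q') = 1 from hq')
  have := hWn
  let π₂ : P2 ⧸ W →* SL(2, ZMod p) :=
    QuotientGroup.lift W (SemidirectProduct.rightHom.comp R) fun w hw => hWR w hw
  have hπ₂ : Function.Surjective π₂ := fun g => by
    obtain ⟨n, h, hg, hN, he⟩ := hact g
    exact ⟨QuotientGroup.mk (⟨(n, h), hN, he⟩ : P2), hg⟩
  let lft : Q →* Multiplicative (Fin 2 → ZMod p) :=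
    MonoidHom.mk' (fun q => (R (dh q)).left) fun a b => by
      rw [map_mul, map_mul, SemidirectProduct.mul_left,
        show (R (dh a)).right = 1 from hQ1 a, map_one, MulAut.one_apply]
  have hlft : Function.Surjective lft := hQ2
  let e : Multiplicative (Fin 2 → ZMod p) →* P2 ⧸ W :=
    lft.liftOfRightInverse _ (Function.rightInverse_surjInv hlft)
      ⟨(QuotientGroup.mk' W).comp dh, fun q hq =>
        (QuotientGroup.eq_one_iff _).mpr ((hdW q).mpr hq)⟩
  have he : ∀ q, e (lft q) = QuotientGroup.mk (dh q) := fun q =>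
    lft.liftOfRightInverse_comp_apply _ (Function.rightInverse_surjInv hlft) _ q
  have hinje : Function.Injective e := by
    rw [injective_iff_map_eq_one]
    intro v hv
    obtain ⟨q, rfl⟩ := hlft v
    rw [he] at hv
    exact (hdW q).mp ((QuotientGroup.eq_one_iff _).mp hv)
  have hI : Cfsg.Involves ↥(Cfsg.qd p) (P2 ⧸ W) := by
    refine involves_qd hp2 (⊤ : Subgroup (P2 ⧸ W)) (π₂.comp (Subgroup.subtype _))
      (hπ₂.comp fun y => ⟨⟨y, trivial⟩, rfl⟩) e hinje ?_
    rintro ⟨s, -⟩ v
    obtain ⟨x, rfl⟩ := QuotientGroup.mk_surjective s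
    obtain ⟨q, rfl⟩ := hlft v
    obtain ⟨q', hq'⟩ := hconj x q
    show QuotientGroup.mk x * e (lft q) * (QuotientGroup.mk x)⁻¹ = e (natAut p (R x).right (lft q))
    rw [show natAut p (R x).right (lft q) = lft q' from (hleft x q q' hq').symm, he, he,
      ← QuotientGroup.mk_inv, ← QuotientGroup.mk_mul, ← QuotientGroup.mk_mul, hq']
  have hsurj := ψ.rangeRestrict_surjective
  refine involves_trans (M := ψ.range)
    (ψ.rangeRestrict.liftOfRightInverse _ (Function.rightInverse_surjInv hsurj)
      ⟨QuotientGroup.mk' W, fun x hx => (QuotientGroup.eq_one_iff _).mpr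
        (Subgroup.mem_sup_right (show ψ x = 1 from congrArg Subtype.val hx))⟩) ?_ hI
  intro y
  obtain ⟨x, rfl⟩ := QuotientGroup.mk'_surjective W y
  exact ⟨ψ.rangeRestrict x, ψ.rangeRestrict.liftOfRightInverse_comp_apply _ _ _ x⟩

end Cfsg.Agent.Fusion
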