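import Cfsg.Agent.Lib.Fusion.GroupModel
import Cfsg.Agent.Lib.Transfer.NatPair

/-!
The fusion system of a group is `Qd(p)`-free only when the group is.
-/

set_option autoImplicit false
set_option linter.style.haveILetI false

namespace Cfsg.Agent.Fusion

open Cfsg.FusionSystem (centralizerIn normalizerIn imageAlong preimageAlong)
open Cfsg.Agent.SL2Dickson (natAut)
open scoped MatrixGroups

universe u

variable {G : Type u} [Group G] [Finite G] {p : ℕ} [Fact p.Prime]

theorem natAct_eq_natAut : Cfsg.Agent.Transfer.natAct p = natAut p :=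
  MonoidHom.ext fun _ => MulEquiv.ext fun _ => rfl

theorem exists_qdHom (h : Cfsg.Involves ↥(Cfsg.qd p) G) :
    ∃ (H : Subgroup G) (ρ : H →* AffQd p), Function.Surjective ρ := by
  obtain ⟨K, R, hR, ⟨e⟩⟩ := h
  have := hR
  obtain ⟨e₂⟩ := Cfsg.Agent.Transfer.exists_equiv_qd (p := p)
  rw [natAct_eq_natAut] at e₂
  exact ⟨K, (e₂.symm.toMonoidHom.comp e.toMonoidHom).comp (QuotientGroup.mk' _),
    (e₂.symm.surjective.comp e.surjective).comp (QuotientGroup.mk'_surjective _)⟩

/-- If `Qd(p)` is involved in the group it is involved in a model of a local system. -/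
theorem exists_model_involves_qd (hp2 : p ≠ 2) (P : Sylow p G)
    (h : Cfsg.Involves ↥(Cfsg.qd p) G) :
    ¬ (groupFusionSystem (P : Subgroup G)).IsSectionFree p ↥(Cfsg.qd p) := by
  intro hfree
  obtain ⟨H, ρ, hρ⟩ := h |> exists_qdHom
  set V := Multiplicative (Fin 2 → ZMod p)
  let rt : H →* SL(2, ZMod p) := SemidirectProduct.rightHom.comp ρ
  let lft : rt.ker →* V := MonoidHom.mk' (fun x => (ρ x).left) fun a b => by
    show (ρ (a.1 * b.1)).left = _
    rw [map_mul, SemidirectProduct.mul_left, show (ρ a.1).right = 1 from a.2, map_one,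
      MulAut.one_apply]
  have hlft : Function.Surjective lft := fun v => by
    obtain ⟨x, hx⟩ := hρ (SemidirectProduct.inl v)
    refine ⟨⟨x, ?_⟩, ?_⟩
    · show (ρ x).right = 1
      rw [hx]; rfl
    · show (ρ x).left = v
      rw [hx]; rfl
  obtain ⟨T⟩ : Nonempty (Sylow p rt.ker) := inferInstance
  have hVp : IsPGroup p V := fun v => by
    refine ⟨1, ?_⟩
    apply Multiplicative.toAdd.injective
    funext i
    rw [toAdd_pow]
    simp
  have hTtop : (T : Subgroup rt.ker).map lft = ⊤ := by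
    rw [← Sylow.coe_mapSurjective hlft T]
    exact ((T.mapSurjective hlft).3 (hVp.to_subgroup ⊤) le_top).symm
  set T₀ : Subgroup H := (T : Subgroup rt.ker).map rt.ker.subtype with hT₀
  set Q : Subgroup G := T₀.map H.subtype with hQdef
  have hQH : Q ≤ H := by rintro _ ⟨x, -, rfl⟩; exact x.2
  have hQp : IsPGroup p Q := (T.2.map _).map _
  have hQ1 : ∀ q : Q, (ρ ⟨q, hQH q.2⟩).right = 1 := by
    rintro ⟨_, x, ⟨y, hy, rfl⟩, rfl⟩
    exact y.2
  have hQ2 : ∀ v, ∃ q : Q, (ρ ⟨q, hQH q.2⟩).left = v := by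
    intro v
    obtain ⟨y, hy, rfl⟩ : v ∈ (T : Subgroup rt.ker).map lft := hTtop ▸ Subgroup.mem_top v
    exact ⟨⟨_, _, ⟨y, hy, rfl⟩, rfl⟩, rfl⟩
  have hN : ∀ g : SL(2, ZMod p), ∃ x : H, (ρ x).right = g ∧
      (x : G) ∈ Subgroup.normalizer (Q : Set G) := by
    intro g
    obtain ⟨x, rfl⟩ : ∃ x, rt x = g :=
      (SemidirectProduct.rightHom_surjective.comp hρ) g
    have hx : x ∈ Subgroup.normalizer (T₀ : Set H) ⊔ rt.ker := by
      rw [Sylow.normalizer_sup_eq_top T]; trivial
    rw [← SetLike.mem_coe, Subgroup.mul_normal, Set.mem_mul] at hx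
    obtain ⟨n, hn, k, hk, rfl⟩ := hx
    refine ⟨n, ?_, mem_normalizer_of_forall fun y hy => ?_⟩
    · show rt n = rt (n * k)
      rw [map_mul, show rt k = 1 from hk, mul_one]
    · obtain ⟨z, hz, rfl⟩ := hy
      exact ⟨n * z * n⁻¹, (Subgroup.mem_normalizer_iff.mp hn z).mp hz, rfl⟩
  -- a Sylow subgroup of the centralizer
  set CQ := Subgroup.centralizer (Q : Set G) with hCQ
  obtain ⟨TC⟩ : Nonempty (Sylow p CQ) := inferInstance
  set C : Subgroup G := (TC : Subgroup CQ).map CQ.subtype with hCdef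
  have hCle : C ≤ CQ := by rintro _ ⟨x, -, rfl⟩; exact x.2
  have hQC : Q ≤ Subgroup.normalizer (C : Set G) := fun q hq =>
    mem_normalizer_of_forall fun c hc => by
      rw [Subgroup.mem_centralizer_iff.mp (hCle hc) q hq, mul_inv_cancel_right]
      exact hc
  set R := Q ⊔ C with hRdef
  have hRp : IsPGroup p R := hQp.to_sup_of_normal_right' (TC.2.map _) hQC
  set X₀ := Subgroup.normalizer (R : Set G)
  have hFr : ∀ x : H, (x : G) ∈ Subgroup.normalizer (Q : Set G) →
      ∃ n : X₀, ∀ q ∈ Q, (n : G) * q * (n : G)⁻¹ = (x : G) * q * (x : G)⁻¹ := by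
    intro x hx
    set M := Subgroup.normalizer (Q : Set G)
    have hCM : CQ ≤ M := Subgroup.centralizer_le_normalizer _
    have hn : (CQ.subgroupOf M).Normal :=
      (Subgroup.normal_subgroupOf_iff_le_normalizer hCM).mpr fun m hm =>
        mem_normalizer_of_forall fun c hc => Subgroup.mem_centralizer_iff.mpr fun q hq => by
          have h1 : m⁻¹ * q * m ∈ Q := by
            simpa using (Subgroup.mem_normalizer_iff.mp (M.inv_mem hm) q).mp hq
          calc q * (m * c * m⁻¹) = m * ((m⁻¹ * q * m) * c) * m⁻¹ := by group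
            _ = m * c * m⁻¹ * q := by rw [Subgroup.mem_centralizer_iff.mp hc _ h1]; group
    let TC' : Sylow p (CQ.subgroupOf M) :=
      TC.mapSurjective (f := (Subgroup.subgroupOfEquivOfLe hCM).symm.toMonoidHom)
        (MulEquiv.surjective _)
    have hmem : (⟨x, hx⟩ : M) ∈ Subgroup.normalizer
        (((TC' : Subgroup (CQ.subgroupOf M)).map (CQ.subgroupOf M).subtype : Subgroup M) :
          Set M) ⊔ CQ.subgroupOf M := by
      rw [Sylow.normalizer_sup_eq_top TC']; trivial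
    rw [← SetLike.mem_coe, Subgroup.mul_normal, Set.mem_mul] at hmem
    obtain ⟨n, hn', c, hc, hnc⟩ := hmem
    have hnC : ∀ y ∈ C, (n : G) * y * (n : G)⁻¹ ∈ C := by
      rintro _ ⟨y, hy, rfl⟩
      have h1 : (⟨y, hCM y.2⟩ : M) ∈
          (TC' : Subgroup (CQ.subgroupOf M)).map (CQ.subgroupOf M).subtype :=
        ⟨⟨⟨y, hCM y.2⟩, y.2⟩, ⟨y, hy, rfl⟩, rfl⟩
      obtain ⟨w, hw, hwe⟩ := (Subgroup.mem_normalizer_iff.mp hn' _).mp h1
      obtain ⟨z, hz, rfl⟩ := hw
      exact ⟨z, hz, congrArg Subtype.val hwe⟩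
    refine ⟨⟨n, mem_normalizer_of_forall fun y hy => ?_⟩, fun q hq => ?_⟩
    · have hle : R ≤ R.comap (MulAut.conj (n : G)).toMonoidHom :=
        sup_le (fun z hz => Subgroup.mem_sup_left
            ((Subgroup.mem_normalizer_iff.mp n.2 z).mp hz))
          fun z hz => Subgroup.mem_sup_right (hnC z hz)
      exact hle hy
    · have h1 : (x : G) = (n : G) * (c : G) := (congrArg Subtype.val hnc).symm
      rw [h1, show (n : G) * (c : G) * q * ((n : G) * (c : G))⁻¹ =
        (n : G) * ((c : G) * q * (c : G)⁻¹) * (n : G)⁻¹ by group]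
      rw [← Subgroup.mem_centralizer_iff.mp (show (c : G) ∈ CQ from hc) q hq,
        mul_inv_cancel_right]
  -- into `P`
  obtain ⟨T', hT'⟩ := hRp.exists_le_sylow
  obtain ⟨g₀, hg₀⟩ := MulAction.exists_smul_eq G T' P
  have hR₀ : R.map (MulAut.conj g₀).toMonoidHom ≤ (P : Subgroup G) := by
    rw [← hg₀, Sylow.coe_subgroup_smul]
    rintro _ ⟨k, hk, rfl⟩
    exact Subgroup.smul_mem_pointwise_smul _ _ _ (hT' hk)
  obtain ⟨R', hconj, hR'n⟩ :=
    exists_isFullyNormalized (F := groupFusionSystem (P : Subgroup G)) hR₀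
  obtain ⟨-, hR'P, g₁, hg₁⟩ := isConj_gfs_iff.mp hconj
  obtain ⟨g, hg⟩ : ∃ g, R.map (MulAut.conj g).toMonoidHom = R' := by
    refine ⟨g₁ * g₀, ?_⟩
    rw [← hg₁, Subgroup.map_map]
    congr 1
    ext y
    simp
  have hcen : ∀ (k : G) (y : G), IsPGroup p (Subgroup.zpowers y) →
      (∀ r ∈ R, r * y = y * r) → y ∈ R := by
    intro _ y hyp hy
    have hyC : y ∈ CQ := Subgroup.mem_centralizer_iff.mpr fun q hq => hy q (Subgroup.mem_sup_left hq)
    have hZN : Subgroup.zpowers y ≤ Subgroup.normalizer (C : Set G) := by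
      rw [Subgroup.zpowers_le]
      exact mem_normalizer_of_forall fun c hc => by
        rw [← hy c (Subgroup.mem_sup_right hc), mul_inv_cancel_right]
        exact hc
    have h1 := hyp.to_sup_of_normal_right' (TC.2.map _) hZN
    have hle : Subgroup.zpowers y ⊔ C ≤ CQ := sup_le (Subgroup.zpowers_le.mpr hyC) hCle
    have h2 := TC.3 (h1.of_equiv (Subgroup.subgroupOfEquivOfLe hle).symm)
      (fun c hc => Subgroup.mem_sup_right (show (c : G) ∈ C from ⟨c, hc, rfl⟩))
    have h3 : (⟨y, hyC⟩ : CQ) ∈ (Subgroup.zpowers y ⊔ C).subgroupOf CQ :=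
      Subgroup.mem_sup_left (Subgroup.mem_zpowers y)
    rw [h2] at h3
    exact Subgroup.mem_sup_right ⟨_, h3, rfl⟩
  have hR'c : (groupFusionSystem (P : Subgroup G)).IsCentric R' := by
    refine ⟨hR'P, fun W hW y hy => ?_⟩
    obtain ⟨-, hWP, k, hk⟩ := isConj_gfs_iff.mp hW
    have hWR : R.map (MulAut.conj (k * g)).toMonoidHom = W := by
      rw [← hk, ← hg, Subgroup.map_map]
      congr 1
      ext z
      simp
    have hy' := (mem_centralizerIn.mp hy)
    have h1 : (k * g)⁻¹ * y * (k * g) ∈ R := by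
      refine hcen 1 _ ?_ fun r hr => ?_
      · have hyp : IsPGroup p (Subgroup.zpowers y) :=
          P.2.to_le (Subgroup.zpowers_le.mpr hy'.1)
        have := hyp.map (MulAut.conj (k * g)⁻¹).toMonoidHom
        rwa [MonoidHom.map_zpowers, show (MulAut.conj (k * g)⁻¹).toMonoidHom y =
          (k * g)⁻¹ * y * (k * g) by simp [MulAut.conj_apply, mul_assoc]] at this
      · have h2 := hy'.2 ((k * g) * r * (k * g)⁻¹) (hWR ▸ ⟨r, hr, rfl⟩)
        calc r * ((k * g)⁻¹ * y * (k * g))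
            = (k * g)⁻¹ * ((k * g) * r * (k * g)⁻¹ * y) * (k * g) := by group
          _ = _ := by rw [h2]; group
    rw [← hWR]
    exact ⟨_, h1, by show k * g * _ * (k * g)⁻¹ = y; group⟩
  have hNs := isNormalizerSystem_nSys (groupFusionSystem (P : Subgroup G)) hR'P
  obtain ⟨D, hD, hRD, hmod⟩ := exists_model_gfs P hR'n hR'c hNs
  have := hD
  let π₀ : X₀ →* Subgroup.normalizer (R' : Set G) :=
    ((MulAut.conj g).toMonoidHom.comp X₀.subtype).codRestrict _ fun x => by
      have h1 : MulAut.conj g (x : G) ∈ X₀.map (MulAut.conj g).toMonoidHom := ⟨x, x.2, rfl⟩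
      rw [Subgroup.map_equiv_normalizer_eq R (MulAut.conj g)] at h1
      exact Eq.subst (motive := fun Y : Subgroup G =>
        MulAut.conj g (x : G) ∈ Subgroup.normalizer (Y : Set G)) hg h1
  refine hfree R' hR'n hR'c _ hNs _ _ hmod ?_
  have hQX : Q ≤ X₀ := le_sup_left.trans Subgroup.le_normalizer
  refine involves_qd_of_action hp2 ρ hQH hQX hQ1 hQ2 (fun a => ?_)
    ((QuotientGroup.mk' D).comp π₀) (fun q hq => ?_) fun d hd q hq => ?_
  · obtain ⟨x, hxa, hxN⟩ := hN a
    obtain ⟨n, hn⟩ := hFr x hxN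
    exact ⟨n, x, hxa, hxN, hn⟩
  · have h1 : π₀ ⟨q, hQX q.2⟩ ∈ (⊥ : Subgroup ↥(Subgroup.normalizer (R' : Set G))) :=
      hRD ▸ ⟨show (π₀ ⟨q, hQX q.2⟩ : G) ∈ R' from
        hg.le ⟨q, Subgroup.mem_sup_left q.2, rfl⟩, (QuotientGroup.eq_one_iff _).mp hq⟩
    have h2 := congrArg Subtype.val (Subgroup.mem_bot.mp h1)
    exact Subtype.ext ((MulAut.conj g).injective (h2.trans (map_one _).symm))
  · have hdD : π₀ d ∈ D := (QuotientGroup.eq_one_iff _).mp hd
    have hqB : π₀ ⟨q, hQX hq⟩ ∈ R'.subgroupOf (Subgroup.normalizer (R' : Set G)) :=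
      show (π₀ ⟨q, hQX hq⟩ : G) ∈ R' from hg.le ⟨q, Subgroup.mem_sup_left hq, rfl⟩
    have h1 := Subgroup.commute_of_normal_of_disjoint _ _ Subgroup.normal_in_normalizer hD
      (disjoint_iff.mpr hRD) _ _ hqB hdD
    have h2 : MulAut.conj g (d : G) * MulAut.conj g q =
        MulAut.conj g q * MulAut.conj g (d : G) := (congrArg Subtype.val h1).symm
    rw [← map_mul, ← map_mul] at h2
    exact (MulAut.conj g).injective h2

end Cfsg.Agent.Fusion
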