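import Cfsg.Agent.Lib.Fusion.Normal
import Cfsg.Agent.Lib.Fusion.Saturation
import Cfsg.Agent.Lib.Fusion.StronglyEmbedded
import Mathlib.GroupTheory.SpecificGroups.Cyclic

/-!
Stability of a fusion system in terms of its normalizer systems.
-/

set_option autoImplicit false

namespace Cfsg.Agent.Fusion

open Cfsg.FusionSystem (centralizerIn normalizerIn)

section Groups

variable {A B : Type*} [Group A] [Group B] {p : ℕ}

/-- Membership in `O_p` is inherited by a smaller subgroup and along isomorphisms. -/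
theorem mem_pCore_transport [Finite A] [Finite B] [Fact p.Prime] (e : A ≃* B) (K : Subgroup A)
    (L : Subgroup B) (H : Subgroup A) (hH : H ≤ K) (hKL : K.map e.toMonoidHom = L) {x : A}
    (hxH : x ∈ H) (hx : e x ∈ (pCore p L).map L.subtype) : x ∈ (pCore p H).map H.subtype := by
  let φ : H →* L := (e.toMonoidHom.comp H.subtype).codRestrict L fun h => hKL ▸ ⟨h, hH h.2, rfl⟩
  have hφ : Function.Injective φ := fun a b hab =>
    Subtype.ext (e.injective (congrArg Subtype.val hab))
  have hn : ((pCore p L).comap φ).Normal := by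
    have hL : (pCore p L).Normal := by infer_instance
    exact hL.comap φ
  have hp : IsPGroup p ((pCore p L).comap φ) :=
    (isPGroup_pCore p L).comap_of_injective φ hφ
  obtain ⟨l, hl, hle⟩ := hx
  exact ⟨⟨x, hxH⟩, le_pCore hn hp (show φ ⟨x, hxH⟩ ∈ pCore p L from
    (Subtype.ext hle : l = φ ⟨x, hxH⟩) ▸ hl), rfl⟩

/-- A stable automorphism of a finite cyclic `p`-group lies in `O_p` of any group of automorphisms. -/
theorem mem_pCore_of_cyclic [Finite A] [IsCyclic A] [Fact p.Prime] (hA : IsPGroup p A)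
    (H : Subgroup (MulAut A)) {χ : MulAut A} (hχH : χ ∈ H)
    (h : ∀ a : A, (χ a⁻¹) * a * (χ a⁻¹) * (χ (χ a)) = 1) :
    χ ∈ (pCore p H).map H.subtype := by
  have : Finite (MulAut A) := finite_mulAut A
  have hcomm : ∀ a b : A, a * b = b * a := fun a b => by
    let := IsCyclic.commGroup (α := A)
    exact mul_comm a b
  have hauts : ∀ a b : H, a * b = b * a := fun a b => by
    apply Subtype.ext
    apply (IsCyclic.mulAutMulEquiv A).injective
    simp only [Subgroup.coe_mul, map_mul]
    exact mul_comm _ _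
  obtain ⟨e, he⟩ := IsPGroup.iff_card.mp hA
  have hd : ∀ a : A, χ (a⁻¹ * χ a) = a⁻¹ * χ a := fun a => by
    let := IsCyclic.commGroup (α := A)
    have h1 := h a
    rw [map_inv] at h1
    rw [map_mul, map_inv]
    have h2 : χ (χ a) = χ a * a⁻¹ * χ a := by
      have := eq_inv_of_mul_eq_one_right h1
      rw [this]; group
    rw [h2]
    simp [mul_comm]
  have hpow : ∀ n : ℕ, ∀ a : A, (χ ^ n) a = a * (a⁻¹ * χ a) ^ n := by
    intro n
    induction n with
    | zero => intro a; simp
    | succ n ih =>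
      intro a
      rw [pow_succ' χ, MulAut.mul_apply, ih a, map_mul, map_pow, hd a, pow_succ', ← mul_assoc,
        mul_inv_cancel_left]
  have hχp : χ ^ p ^ e = 1 := MulEquiv.ext fun a => by
    rw [hpow, MulAut.one_apply, ← he, pow_card_eq_one', mul_one]
  let x : H := ⟨χ, hχH⟩
  have hxp : x ^ p ^ e = 1 := Subtype.ext (by simpa using hχp)
  have hp' : IsPGroup p (Subgroup.zpowers x) := by
    obtain ⟨j, -, hj⟩ := (Nat.dvd_prime_pow (Fact.out : p.Prime)).mp
      (orderOf_dvd_of_pow_eq_one hxp)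
    exact IsPGroup.of_card ((Nat.card_zpowers x).trans hj)
  have hn : (Subgroup.zpowers x).Normal := ⟨fun y hy g => by
    rw [hauts g y, mul_inv_cancel_right]; exact hy⟩
  exact ⟨x, le_pCore hn hp' (Subgroup.mem_zpowers x), rfl⟩

end Groups

variable {Ω : Type*} [Group Ω] {S : Subgroup Ω} {p : ℕ} [Fact p.Prime]

/-- Every automorphism in `Aut_F(Q)` satisfying the stability identity lies in `O_p`. -/
def StablePred {T : Subgroup Ω} (F : FusionSystem T) (p : ℕ) (Q : Subgroup Ω) : Prop :=
  ∀ χ : MulAut ↥Q, χ ∈ F.autGroup Q → (∀ a : ↥Q, (χ a⁻¹) * a * (χ a⁻¹) * (χ (χ a)) = 1) →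
    χ ∈ ((pCore p ↥(F.autGroup Q)).map (F.autGroup Q).subtype : Subgroup (MulAut ↥Q))

theorem stable_normalizer [Finite S] (F : FusionSystem S)
    (h : ∀ Q : Subgroup Ω, F.IsFullyNormalized Q → StablePred F p Q) {T : Subgroup Ω}
    (N : FusionSystem T) (hN : N.IsSubsystemOf F) (hT : T ≤ S) {Q : Subgroup Ω} (hQ : Q ≤ T) :
    StablePred N p Q := by
  intro χ hχ hid
  have := finite_of_le (hQ.trans hT)
  obtain ⟨Q', hQQ', hQ'⟩ := exists_isFullyNormalized (F := F) (hQ.trans hT)
  have := finite_of_le hQ'.1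
  have := finite_mulAut Q
  have := finite_mulAut Q'
  obtain ⟨f, hf, hfQ⟩ := isConj_iff.mp hQQ'
  have hsub : N.autGroup Q ≤ F.autGroup Q := Subgroup.closure_mono fun _ ha => hN Q ha
  have hmap := map_congr_autGroup hf hfQ
  refine mem_pCore_transport (MulAut.congr (isoEquiv hf hfQ)) (F.autGroup Q) (F.autGroup Q')
    (N.autGroup Q) hsub hmap hχ (h Q' hQ' _ (hmap ▸ ⟨χ, hsub hχ, rfl⟩) fun a => ?_)
  obtain ⟨b, rfl⟩ := (isoEquiv hf hfQ).surjective a
  have h1 := congrArg (isoEquiv hf hfQ) (hid b)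
  simpa [MulAut.congr, map_mul, map_inv] using h1

theorem stable_iff_normalizer [Finite S] (hS : IsPGroup p S) (F : FusionSystem S) :
    (∀ Q : Subgroup Ω, F.IsFullyNormalized Q → StablePred F p Q) ↔
      ∀ R : Subgroup Ω, F.IsFullyNormalized R → ¬ IsCyclic ↥R →
        ∀ N : FusionSystem (normalizerIn S R), F.IsNormalizerSystem R N →
          ∀ Q : Subgroup Ω, N.IsFullyNormalized Q → StablePred N p Q := by
  constructor
  · intro h R _ _ N hN Q hQ
    exact stable_normalizer F h N (fun P φ hφ => (hN P ▸ hφ : φ ∈ F.normalizerHom R P).1)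
      normalizerIn_le hQ.1
  · intro h Q hQ χ hχ hid
    have := finite_of_le hQ.1
    by_cases hc : IsCyclic ↥Q
    · exact mem_pCore_of_cyclic (hS.to_le hQ.1) _ hχ hid
    have hN := isNormalizerSystem_nSys F hQ.1
    have hQN : Q ≤ normalizerIn S Q := le_normalizerIn hQ.1
    have hfull : (nSys F hQ.1).IsFullyNormalized Q := by
      refine ⟨hQN, fun R hR => ?_⟩
      obtain ⟨f, hf, hfR⟩ := isConj_iff.mp hR
      obtain ⟨-, -, g, -, hgf, hgQ⟩ := (mapTo_nSys_iff hN).mp hf
      rw [← hfR, ← img_congr (f := g) hgf, hgQ]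
    have he : (nSys F hQ.1).autGroup Q = F.autGroup Q := by
      ext a
      rw [mem_autGroup_iff hQN, mem_autGroup_iff hQ.1, mapTo_nSys_iff hN]
      constructor
      · rintro ⟨-, -, g, hg, hgf, -⟩
        exact (hg.restrict le_sup_left).congr' fun x hx => (hgf x hx).symm
      · intro ha
        refine ⟨hQN, fun x hx => hQN (autFun_mem a hx), autFun a, ?_, fun x _ => rfl,
          img_autFun a⟩
        rw [sup_idem]; exact ha
    have := h Q hQ hc _ hN Q hfull χ (he.symm ▸ hχ) hid
    rwa [he] at this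

end Cfsg.Agent.Fusion
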