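import Cfsg.Agent.Lib.Fusion.Group
import Cfsg.Agent.Lib.Fusion.NormalizerStable
import Cfsg.Prelude.Def_LocalEven

/-!
Normalizer `p`-stability of a group in terms of its fusion system.
-/

set_option autoImplicit false

namespace Cfsg.Agent.Fusion

open Cfsg.FusionSystem (centralizerIn normalizerIn)
open scoped commutatorElement

variable {G : Type*} [Group G] {p : ℕ}

theorem stable_identity_iff {P : Subgroup G} {g : G} (hg : g ∈ Subgroup.normalizer (P : Set G)) :
    ⁅⁅P, Subgroup.zpowers g⁆, Subgroup.zpowers g⁆ = ⊥ ↔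
      ∀ a : P, ((P.normalizerMonoidHom ⟨g, hg⟩) a⁻¹) * a * ((P.normalizerMonoidHom ⟨g, hg⟩) a⁻¹) *
        ((P.normalizerMonoidHom ⟨g, hg⟩) ((P.normalizerMonoidHom ⟨g, hg⟩) a)) = 1 := by
  have key : ∀ a : G, g * a⁻¹ * g⁻¹ * a * (g * a⁻¹ * g⁻¹) * (g * (g * a * g⁻¹) * g⁻¹) = 1 ↔
      Commute g ⁅a⁻¹, g⁆ := by
    intro a
    rw [commutatorElement_def, inv_inv, commute_iff_eq,
      show g * a⁻¹ * g⁻¹ * a * (g * a⁻¹ * g⁻¹) * (g * (g * a * g⁻¹) * g⁻¹)
        = g * ((a⁻¹ * g * a * g⁻¹ * g)⁻¹ * (g * (a⁻¹ * g * a * g⁻¹))) * g⁻¹ by group,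
      conj_eq_one_iff]
    constructor
    · intro h
      have h1 := mul_eq_one_iff_inv_eq.mp h
      rw [← h1]; group
    · intro h
      rw [h]; group
  rw [Subgroup.commutator_eq_bot_iff_le_centralizer]
  have hcoe : ∀ a : P, (((P.normalizerMonoidHom ⟨g, hg⟩) a : P) : G) = g * a * g⁻¹ := fun _ => rfl
  constructor
  · intro h a
    apply Subtype.ext
    simp only [Subgroup.coe_mul, hcoe, InvMemClass.coe_inv, OneMemClass.coe_one]
    refine (key a).mpr ?_
    have h1 := h (Subgroup.commutator_mem_commutator (P.inv_mem a.2) (Subgroup.mem_zpowers g))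
    exact Subgroup.mem_centralizer_iff.mp h1 g (Subgroup.mem_zpowers g)
  · intro h
    have hC : ∀ v ∈ P, ⁅v, g⁆ ∈ Subgroup.centralizer (Subgroup.zpowers g : Set G) := by
      intro v hv
      have h1 := congrArg (Subtype.val : P → G) (h ⟨v⁻¹, P.inv_mem hv⟩)
      simp only [Subgroup.coe_mul, hcoe, InvMemClass.coe_inv, OneMemClass.coe_one] at h1
      have h2 : Commute g ⁅v, g⁆ := by simpa using (key v⁻¹).mp h1
      refine Subgroup.mem_centralizer_iff.mpr fun y hy => ?_
      obtain ⟨j, rfl⟩ := Subgroup.mem_zpowers_iff.mp hy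
      exact (h2.zpow_left j).eq
    refine (Subgroup.commutator_le).mpr fun v hv y hy => ?_
    obtain ⟨j, rfl⟩ := Subgroup.mem_zpowers_iff.mp hy
    have hc := hC v hv
    have h2 : Commute ⁅v, g⁆ g :=
      (Subgroup.mem_centralizer_iff.mp hc g (Subgroup.mem_zpowers g)).symm
    have h3 : ⁅v, g ^ j⁆ = ⁅v, g⁆ ^ j := by
      have h4 : v * g * v⁻¹ = ⁅v, g⁆ * g := by rw [commutatorElement_def]; group
      rw [commutatorElement_def v (g ^ j), ← conj_zpow, h4, h2.mul_zpow, mul_inv_cancel_right]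
    rw [h3]
    exact Subgroup.zpow_mem _ hc j

theorem autInducedBy_top_eq (P : Subgroup G) : autInducedBy ⊤ P = P.normalizerMonoidHom.range := by
  rw [autInducedBy_eq_map, Subgroup.top_subgroupOf, MonoidHom.range_eq_map]

theorem mk_mem_pCore_iff [Finite G] [Fact p.Prime] {P : Subgroup G} {g : G}
    (hg : g ∈ Subgroup.normalizer (P : Set G)) :
    (QuotientGroup.mk (s := (Subgroup.centralizer (P : Set G)).subgroupOf
      (Subgroup.normalizer (P : Set G))) (⟨g, hg⟩ : Subgroup.normalizer (P : Set G)) ∈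
        pCore p (Subgroup.normalizer (P : Set G) ⧸
          (Subgroup.centralizer (P : Set G)).subgroupOf (Subgroup.normalizer (P : Set G)))) ↔
      P.normalizerMonoidHom ⟨g, hg⟩ ∈ (pCore p P.normalizerMonoidHom.range).map
        P.normalizerMonoidHom.range.subtype := by
  have hk := Subgroup.normalizerMonoidHom_ker (H := P)
  set f := P.normalizerMonoidHom
  let e := (QuotientGroup.quotientMulEquivOfEq hk.symm).trans
    (QuotientGroup.quotientKerEquivRange f)
  have he : e (QuotientGroup.mk (⟨g, hg⟩ : Subgroup.normalizer (P : Set G))) =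
      ⟨f ⟨g, hg⟩, ⟨_, rfl⟩⟩ := Subtype.ext rfl
  constructor
  · intro h
    refine ⟨⟨f ⟨g, hg⟩, ⟨_, rfl⟩⟩, ?_, rfl⟩
    rw [← he]
    exact le_pCore ((normal_pCore p _).map e.toMonoidHom e.surjective) ((isPGroup_pCore p _).map _)
      ⟨_, h, rfl⟩
  · rintro ⟨r, hr, hrg⟩
    have h2 : r = e (QuotientGroup.mk (⟨g, hg⟩ : Subgroup.normalizer (P : Set G))) := by
      rw [he]; exact Subtype.ext hrg
    rw [h2] at hr
    exact le_pCore ((normal_pCore p _).comap e.toMonoidHom)
      ((isPGroup_pCore p _).comap_of_injective _ e.injective) hr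

/-- Normalizer `p`-stability, read in the fusion system. -/
theorem normalizerPStable_iff [Finite G] [Fact p.Prime] (S : Sylow p G) :
    IsNormalizerPStable p G ↔ ∀ Q : Subgroup G,
      (groupFusionSystem (S : Subgroup G)).IsFullyNormalized Q →
        StablePred (groupFusionSystem (S : Subgroup G)) p Q := by
  constructor
  · intro h Q hQ χ hχ hid
    rw [autGroup_gfs hQ.1, autInducedBy_top_eq] at hχ ⊢
    obtain ⟨⟨g, hg⟩, rfl⟩ := hχ
    exact (mk_mem_pCore_iff hg).mp (h Q (S.2.to_le hQ.1) g hg ((stable_identity_iff hg).mpr hid))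
  · intro h P hP g hg hcom
    refine (mk_mem_pCore_iff hg).mpr ?_
    -- conjugate `P` to a fully normalized subgroup of `S`
    obtain ⟨T, hT⟩ := hP.exists_le_sylow
    obtain ⟨x, hx⟩ := MulAction.exists_smul_eq G T S
    have hP0 : P.map (MulAut.conj x).toMonoidHom ≤ (S : Subgroup G) := by
      refine (map_conj_le_iff x).mpr fun k hk => ?_
      rw [← hx, Sylow.coe_subgroup_smul]
      exact Subgroup.smul_mem_pointwise_smul _ _ _ (hT hk)
    obtain ⟨Q, hQc, hQn⟩ := exists_isFullyNormalized (F := groupFusionSystem (S : Subgroup G)) hP0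
    obtain ⟨-, -, z, hz⟩ := isConj_gfs_iff.mp hQc
    obtain ⟨y, hy⟩ : ∃ y : G, P.map (MulAut.conj y).toMonoidHom = Q := by
      refine ⟨z * x, ?_⟩
      rw [← hz, Subgroup.map_map]
      congr 1
      ext a
      simp [mul_assoc]
    subst hy
    set Q := P.map (MulAut.conj y).toMonoidHom with hQ
    let i : P ≃* Q := (MulAut.conj y).subgroupMap P
    have hi : ∀ a : P, ((i a : Q) : G) = y * a * y⁻¹ := fun a => rfl
    have hmem : ∀ n : G, n ∈ Subgroup.normalizer (P : Set G) →
        y * n * y⁻¹ ∈ Subgroup.normalizer (Q : Set G) := fun n hn => by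
      rw [hQ, ← Subgroup.map_equiv_normalizer_eq P (MulAut.conj y)]
      exact ⟨n, hn, rfl⟩
    have hconj : ∀ (n : G) (hn : n ∈ Subgroup.normalizer (P : Set G)),
        MulAut.congr i (P.normalizerMonoidHom ⟨n, hn⟩) =
          Q.normalizerMonoidHom ⟨y * n * y⁻¹, hmem n hn⟩ := by
      intro n hn
      refine MulEquiv.ext fun b => ?_
      obtain ⟨a, rfl⟩ := i.surjective b
      apply Subtype.ext
      show ((i (P.normalizerMonoidHom ⟨n, hn⟩ (i.symm (i a))) : Q) : G) = _
      rw [MulEquiv.symm_apply_apply, hi]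
      show y * (n * a * n⁻¹) * y⁻¹ = y * n * y⁻¹ * (i a : G) * (y * n * y⁻¹)⁻¹
      rw [hi]; group
    have hrange : P.normalizerMonoidHom.range.map (MulAut.congr i).toMonoidHom =
        Q.normalizerMonoidHom.range := by
      refine le_antisymm ?_ ?_
      · rintro _ ⟨_, ⟨⟨n, hn⟩, rfl⟩, rfl⟩
        exact ⟨_, (hconj n hn).symm⟩
      · rintro _ ⟨⟨m, hm⟩, rfl⟩
        have hn : y⁻¹ * m * y ∈ Subgroup.normalizer (P : Set G) := by
          rw [hQ, ← Subgroup.map_equiv_normalizer_eq P (MulAut.conj y)] at hm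
          obtain ⟨n, hn, rfl⟩ := hm
          simpa [mul_assoc] using hn
        refine ⟨_, ⟨⟨y⁻¹ * m * y, hn⟩, rfl⟩, (hconj _ hn).trans ?_⟩
        congr 1
        exact Subtype.ext (by simp [mul_assoc])
    have := finite_mulAut P
    have := finite_mulAut Q
    have hA : (groupFusionSystem (S : Subgroup G)).autGroup Q = Q.normalizerMonoidHom.range := by
      rw [autGroup_gfs hQn.1, autInducedBy_top_eq]
    refine mem_pCore_transport (MulAut.congr i) _ Q.normalizerMonoidHom.range _ le_rfl hrange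
      ⟨_, rfl⟩ ?_
    have := h Q hQn (MulAut.congr i (P.normalizerMonoidHom ⟨g, hg⟩))
      (hA ▸ hrange ▸ ⟨_, ⟨_, rfl⟩, rfl⟩) fun b => ?_
    · rwa [hA] at this
    · obtain ⟨a, rfl⟩ := i.surjective b
      have h1 := congrArg i ((stable_identity_iff hg).mp hcom a)
      simpa [MulAut.congr, map_mul, map_inv] using h1

end Cfsg.Agent.Fusion
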