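import Cfsg.Agent.Lib.Fusion.ImageSaturation
import Cfsg.Agent.Lib.Fusion.Centric

/-!
Isomorphisms of fusion systems given by a pair of plain functions inverse to one another on the
underlying groups.
-/

set_option autoImplicit false

namespace Cfsg.Agent.Fusion

open Cfsg.FusionSystem (centralizerIn normalizerIn imageAlong preimageAlong InducedAlong)

variable {Ω Ω' : Type*} [Group Ω] [Group Ω'] {T : Subgroup Ω} {T' : Subgroup Ω'}
variable {u : Ω → Ω'} {v : Ω' → Ω} {P Q : Subgroup Ω}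

/-- The image of a subgroup under a function, as a generated subgroup. -/
def imgX (u : Ω → Ω') (P : Subgroup Ω) : Subgroup Ω' := Subgroup.closure (u '' P)

theorem imgX_mono (h : P ≤ Q) : imgX u P ≤ imgX u Q :=
  Subgroup.closure_mono (Set.image_mono h)

theorem mem_imgX_of_mem {x : Ω} (hx : x ∈ P) : u x ∈ imgX u P :=
  Subgroup.subset_closure ⟨x, hx, rfl⟩

theorem imgX_le_of_forall {R : Subgroup Ω'} (h : ∀ x ∈ P, u x ∈ R) : imgX u P ≤ R :=
  (Subgroup.closure_le R).mpr (by rintro _ ⟨x, hx, rfl⟩; exact h x hx)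

/-- `u` and `v` are mutually inverse isomorphisms between `T` and `T'`. -/
structure Bij (T : Subgroup Ω) (T' : Subgroup Ω') (u : Ω → Ω') (v : Ω' → Ω) : Prop where
  mem : ∀ x ∈ T, u x ∈ T'
  mem' : ∀ y ∈ T', v y ∈ T
  left : ∀ x ∈ T, v (u x) = x
  right : ∀ y ∈ T', u (v y) = y
  map_mul : ∀ x ∈ T, ∀ y ∈ T, u (x * y) = u x * u y

namespace Bij

theorem symm (h : Bij T T' u v) : Bij T' T v u :=
  ⟨h.mem', h.mem, h.right, h.left, fun x hx y hy => by
    conv_lhs => rw [← h.right x hx, ← h.right y hy, ← h.map_mul _ (h.mem' x hx) _ (h.mem' y hy)]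
    exact h.left _ (T.mul_mem (h.mem' x hx) (h.mem' y hy))⟩

theorem map_one (h : Bij T T' u v) : u 1 = 1 := by
  have h1 := h.map_mul 1 T.one_mem 1 T.one_mem
  rw [mul_one] at h1
  exact (mul_eq_left.mp h1.symm)

theorem map_inv (h : Bij T T' u v) {x : Ω} (hx : x ∈ T) : u x⁻¹ = (u x)⁻¹ := by
  refine eq_inv_of_mul_eq_one_left ?_
  rw [← h.map_mul _ (T.inv_mem hx) _ hx, inv_mul_cancel, h.map_one]

theorem inj (h : Bij T T' u v) {x y : Ω} (hx : x ∈ T) (hy : y ∈ T) (he : u x = u y) : x = y := by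
  rw [← h.left x hx, he, h.left y hy]

theorem mem_imgX_iff (h : Bij T T' u v) (hP : P ≤ T) {y : Ω'} :
    y ∈ imgX u P ↔ ∃ x ∈ P, u x = y := by
  constructor
  · intro hy
    unfold imgX at hy
    induction hy using Subgroup.closure_induction with
    | mem z hz => obtain ⟨x, hx, rfl⟩ := hz; exact ⟨x, hx, rfl⟩
    | one => exact ⟨1, P.one_mem, h.map_one⟩
    | mul a b _ _ ha hb =>
        obtain ⟨x, hx, rfl⟩ := ha
        obtain ⟨z, hz, rfl⟩ := hb
        exact ⟨x * z, P.mul_mem hx hz, h.map_mul x (hP hx) z (hP hz)⟩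
    | inv a _ ha =>
        obtain ⟨x, hx, rfl⟩ := ha
        exact ⟨x⁻¹, P.inv_mem hx, h.map_inv (hP hx)⟩
  · rintro ⟨x, hx, rfl⟩
    exact mem_imgX_of_mem hx

theorem imgX_le (h : Bij T T' u v) (hP : P ≤ T) : imgX u P ≤ T' :=
  imgX_le_of_forall fun x hx => h.mem x (hP hx)

theorem imgX_top (h : Bij T T' u v) : imgX u T = T' :=
  le_antisymm (h.imgX_le le_rfl) fun y hy => h.right y hy ▸ mem_imgX_of_mem (h.mem' y hy)

theorem imgX_imgX (h : Bij T T' u v) (hP : P ≤ T) : imgX v (imgX u P) = P := by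
  refine le_antisymm (imgX_le_of_forall fun y hy => ?_) fun x hx => ?_
  · obtain ⟨x, hx, rfl⟩ := (h.mem_imgX_iff hP).mp hy
    rwa [h.left x (hP hx)]
  · rw [← h.left x (hP hx)]
    exact mem_imgX_of_mem (mem_imgX_of_mem hx)

theorem mem_imgX_symm_iff (h : Bij T T' u v) {P' : Subgroup Ω'} (hP : P' ≤ T') {x : Ω}
    (hx : x ∈ T) : x ∈ imgX v P' ↔ u x ∈ P' := by
  refine ⟨fun h1 => ?_, fun h1 => h.left x hx ▸ mem_imgX_of_mem h1⟩
  obtain ⟨y, hy, rfl⟩ := (h.symm.mem_imgX_iff hP).mp h1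
  rwa [h.right y (hP hy)]

theorem restrict (h : Bij T T' u v) (hP : P ≤ T) : Bij P (imgX u P) u v where
  mem _ hx := mem_imgX_of_mem hx
  mem' y hy := by
    obtain ⟨x, hx, rfl⟩ := (h.mem_imgX_iff hP).mp hy
    rwa [h.left x (hP hx)]
  left x hx := h.left x (hP hx)
  right y hy := h.right y (h.imgX_le hP hy)
  map_mul x hx y hy := h.map_mul x (hP hx) y (hP hy)

theorem imgX_sup (h : Bij T T' u v) (hP : P ≤ T) (hQ : Q ≤ T) :
    imgX u (P ⊔ Q) = imgX u P ⊔ imgX u Q := by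
  refine le_antisymm ?_ (sup_le (imgX_mono le_sup_left) (imgX_mono le_sup_right))
  have h1 : P ⊔ Q ≤ imgX v (imgX u P ⊔ imgX u Q) :=
    sup_le ((h.imgX_imgX hP).ge.trans (imgX_mono le_sup_left))
      ((h.imgX_imgX hQ).ge.trans (imgX_mono le_sup_right))
  refine (imgX_mono h1).trans (le_of_eq ?_)
  exact h.symm.imgX_imgX (sup_le (h.imgX_le hP) (h.imgX_le hQ))

theorem finite (h : Bij T T' u v) [Finite T] : Finite T' :=
  Finite.of_injective (fun y : T' => (⟨v y, h.mem' y y.2⟩ : T)) fun a b hab =>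
    Subtype.ext (h.symm.inj a.2 b.2 (congrArg Subtype.val hab))

theorem isPGroup {p : ℕ} (h : Bij T T' u v) (hT : IsPGroup p T) : IsPGroup p T' := by
  let φ : T' →* T := MonoidHom.mk' (fun y => ⟨v y, h.mem' y y.2⟩)
    fun a b => Subtype.ext (h.symm.map_mul a a.2 b b.2)
  exact hT.of_injective φ fun a b hab =>
    Subtype.ext (h.symm.inj a.2 b.2 (congrArg Subtype.val hab))

/-- The homomorphism on `T`. -/
def hom (h : Bij T T' u v) : T →* Ω' :=
  MonoidHom.mk' (fun x => u x) fun a b => h.map_mul a a.2 b b.2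

theorem th_hom (h : Bij T T' u v) {x : Ω} (hx : x ∈ T) : th h.hom x = u x :=
  (th_apply h.hom hx).trans rfl

theorem range_hom (h : Bij T T' u v) : h.hom.range = T' := by
  refine le_antisymm ?_ fun y hy => ⟨⟨v y, h.mem' y hy⟩, h.right y hy⟩
  rintro _ ⟨x, rfl⟩
  exact h.mem x x.2

end Bij

/-! ### Isomorphisms of systems -/

/-- `u` and `v` carry the maps of `E` onto those of `E'`. -/
structure SysIso (E : FusionSystem T) (E' : FusionSystem T') (u : Ω → Ω') (v : Ω' → Ω) : Prop where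
  bij : Bij T T' u v
  map : ∀ (P : Subgroup Ω) (f : Ω → Ω), MapTo E P f →
    MapTo E' (imgX u P) (fun y => u (f (v y)))
  map' : ∀ (P' : Subgroup Ω') (f' : Ω' → Ω'), MapTo E' P' f' →
    MapTo E (imgX v P') (fun x => v (f' (u x)))

variable {E : FusionSystem T} {E' : FusionSystem T'}

namespace SysIso

theorem symm (h : SysIso E E' u v) : SysIso E' E v u := ⟨h.bij.symm, h.map', h.map⟩

theorem mapTo_iff (h : SysIso E E' u v) {P' : Subgroup Ω'} {f' : Ω' → Ω'} :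
    MapTo E' P' f' ↔ P' ≤ T' ∧ (∀ y ∈ P', f' y ∈ T') ∧
      MapTo E (imgX v P') (fun x => v (f' (u x))) := by
  refine ⟨fun hf => ⟨hf.le, fun y hy => hf.mem hy, h.map' P' f' hf⟩,
    fun ⟨hP, hm, hf⟩ => ?_⟩
  have h1 := h.map _ _ hf
  rw [h.bij.symm.imgX_imgX hP] at h1
  refine h1.congr' fun y hy => ?_
  show f' y = u (v (f' (u (v y))))
  rw [h.bij.right y (hP hy), h.bij.right _ (hm y hy)]

/-- A map of `E'` in terms of a map of `E`. -/
theorem map_apply (h : SysIso E E' u v) {f : Ω → Ω} (hf : MapTo E P f) {g : Ω' → Ω'}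
    (hg : ∀ x ∈ P, g (u x) = u (f x)) : MapTo E' (imgX u P) g := by
  refine (h.map P f hf).congr' fun y hy => ?_
  obtain ⟨x, hx, rfl⟩ := (h.bij.mem_imgX_iff hf.le).mp hy
  show g (u x) = u (f (v (u x)))
  rw [hg x hx, h.bij.left x (hf.le hx)]

theorem congr (h : SysIso E E' u v) {u' : Ω → Ω'} {v' : Ω' → Ω} (hu : ∀ x ∈ T, u' x = u x)
    (hv : ∀ y ∈ T', v' y = v y) : SysIso E E' u' v' := by
  have hb : Bij T T' u' v' :=
    ⟨fun x hx => (hu x hx).symm ▸ h.bij.mem x hx, fun y hy => (hv y hy).symm ▸ h.bij.mem' y hy,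
      fun x hx => by rw [hu x hx, hv _ (h.bij.mem x hx), h.bij.left x hx],
      fun y hy => by rw [hv y hy, hu _ (h.bij.mem' y hy), h.bij.right y hy],
      fun x hx y hy => by rw [hu x hx, hu y hy, hu _ (T.mul_mem hx hy), h.bij.map_mul x hx y hy]⟩
  have hU : ∀ {P : Subgroup Ω}, P ≤ T → imgX u' P = imgX u P := fun hP => by
    unfold imgX; rw [Set.image_congr fun x hx => hu x (hP hx)]
  have hV : ∀ {P' : Subgroup Ω'}, P' ≤ T' → imgX v' P' = imgX v P' := fun hP => by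
    unfold imgX; rw [Set.image_congr fun x hx => hv x (hP hx)]
  refine ⟨hb, fun P f hf => ?_, fun P' f' hf => ?_⟩
  · rw [hU hf.le]
    refine h.map_apply hf fun x hx => ?_
    rw [hv _ (h.bij.mem x (hf.le hx)), h.bij.left x (hf.le hx), hu _ (hf.mem hx)]
  · rw [hV hf.le]
    refine h.symm.map_apply hf fun x hx => ?_
    rw [hu _ (h.bij.mem' x (hf.le hx)), h.bij.right x (hf.le hx), hv _ (hf.mem hx)]

theorem trans {Ω'' : Type*} [Group Ω''] {T'' : Subgroup Ω''} {E'' : FusionSystem T''}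
    {u₂ : Ω' → Ω''} {v₂ : Ω'' → Ω'} (h : SysIso E E' u v) (h₂ : SysIso E' E'' u₂ v₂) :
    SysIso E E'' (fun x => u₂ (u x)) (fun z => v (v₂ z)) := by
  have hU : ∀ {P : Subgroup Ω}, P ≤ T → imgX u₂ (imgX u P) = imgX (fun x => u₂ (u x)) P := by
    intro P hP
    refine le_antisymm (imgX_le_of_forall fun y hy => ?_)
      (imgX_le_of_forall fun x hx => mem_imgX_of_mem (mem_imgX_of_mem hx))
    obtain ⟨x, hx, rfl⟩ := (h.bij.mem_imgX_iff hP).mp hy
    exact mem_imgX_of_mem (u := fun x => u₂ (u x)) hx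
  have hV : ∀ {P : Subgroup Ω''}, P ≤ T'' → imgX v (imgX v₂ P) = imgX (fun z => v (v₂ z)) P := by
    intro P hP
    refine le_antisymm (imgX_le_of_forall fun y hy => ?_)
      (imgX_le_of_forall fun x hx => mem_imgX_of_mem (mem_imgX_of_mem hx))
    obtain ⟨x, hx, rfl⟩ := (h₂.bij.symm.mem_imgX_iff hP).mp hy
    exact mem_imgX_of_mem (u := fun z => v (v₂ z)) hx
  refine ⟨⟨fun x hx => h₂.bij.mem _ (h.bij.mem x hx), fun z hz => h.bij.mem' _ (h₂.bij.mem' z hz),
    fun x hx => by rw [h₂.bij.left _ (h.bij.mem x hx), h.bij.left x hx],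
    fun z hz => by rw [h.bij.right _ (h₂.bij.mem' z hz), h₂.bij.right z hz],
    fun x hx y hy => by
      rw [h.bij.map_mul x hx y hy, h₂.bij.map_mul _ (h.bij.mem x hx) _ (h.bij.mem y hy)]⟩,
    fun P f hf => hU hf.le ▸ h₂.map _ _ (h.map P f hf),
    fun P f hf => hV hf.le ▸ h.map' _ _ (h₂.map' P f hf)⟩

theorem restrict_top (h : SysIso E E' u v) {f : Ω → Ω} (hf : MapTo E P f) :
    imgX u (img f P) = img (fun y => u (f (v y))) (imgX u P) := by
  refine le_antisymm (imgX_le_of_forall fun y hy => ?_) (img_le_of_forall fun z hz => ?_)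
  · obtain ⟨x, hx, rfl⟩ := (hf.mem_img_iff le_rfl).mp hy
    have := mem_img_of_mem (f := fun y => u (f (v y))) (mem_imgX_of_mem (u := u) hx)
    rwa [h.bij.left x (hf.le hx)] at this
  · obtain ⟨x, hx, rfl⟩ := (h.bij.mem_imgX_iff hf.le).mp hz
    rw [h.bij.left x (hf.le hx)]
    exact mem_imgX_of_mem (mem_img_of_mem hx)

theorem isSurjectiveMorphism (h : SysIso E E' u v) : E.IsSurjectiveMorphism E' h.bij.hom := by
  have himg : ∀ {P : Subgroup Ω}, P ≤ T → imageAlong h.bij.hom P = imgX u P := fun hP => by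
    ext y
    rw [mem_imageAlong hP, h.bij.mem_imgX_iff hP]
    exact ⟨fun ⟨x, hx, e⟩ => ⟨x, hx, (h.bij.th_hom (hP hx)).symm.trans e⟩,
      fun ⟨x, hx, e⟩ => ⟨x, hx, (h.bij.th_hom (hP hx)).trans e⟩⟩
  refine ⟨⟨fun s => h.bij.mem s s.2, fun P φ hφ => ?_⟩, h.bij.range_hom, fun P' hP' φ' hφ' => ?_⟩
  · have hf := mapTo_ev hφ
    have h1 := h.map P _ hf
    rw [← himg hf.le] at h1
    obtain ⟨φ', hφ', hφ'f⟩ := h1
    refine ⟨φ', hφ', (inducedAlong_iff (f := ev φ) (f' := fun y => u (ev φ (v y))) hf.le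
      (fun x hx => hf.mem hx) (fun x => (ev_coe φ x).symm) hφ'f).mpr fun x hx => ⟨th_mem_imageAlong hf.le hx, ?_⟩⟩
    show u (ev φ (v _)) = _
    rw [h.bij.th_hom (hf.le hx), h.bij.th_hom (hf.mem hx), h.bij.left x (hf.le hx)]
  · have h1 := h.map' P' _ (mapTo_ev hφ')
    have he : imgX v P' = preimageAlong h.bij.hom P' := by
      ext x
      rw [mem_preimageAlong]
      refine ⟨fun hx => ?_, fun ⟨hx, hx'⟩ => ?_⟩
      · have hxT := h.bij.symm.imgX_le hP' hx
        exact ⟨hxT, (h.bij.th_hom hxT).symm ▸ (h.bij.mem_imgX_symm_iff hP' hxT).mp hx⟩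
      · exact (h.bij.mem_imgX_symm_iff hP' hx).mpr (h.bij.th_hom hx ▸ hx')
    rw [he] at h1
    obtain ⟨φ, hφ, hφf⟩ := id h1
    refine ⟨φ, hφ, (inducedAlong_iff (f := fun x => v (ev φ' (u x))) preimageAlong_le
      (fun x hx => h1.mem hx) hφf (fun y => (ev_coe φ' y).symm)).mpr
      fun x hx => ⟨(mem_preimageAlong.mp hx).2, ?_⟩⟩
    have hxT := preimageAlong_le hx
    have hx' : u x ∈ P' := h.bij.th_hom hxT ▸ (mem_preimageAlong.mp hx).2
    have hm := (mapTo_ev hφ').mem hx'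
    rw [h.bij.th_hom hxT, h.bij.th_hom (h.bij.mem' _ hm), h.bij.right _ hm]

theorem isSaturated {p : ℕ} [Finite T] [Fact p.Prime] (h : SysIso E E' u v) (hT : IsPGroup p T)
    (hE : E.IsSaturated p) : E'.IsSaturated p :=
  isSaturated_image hT hE h.isSurjectiveMorphism

theorem unique {E'' : FusionSystem T'} (h : SysIso E E' u v) (h' : SysIso E E'' u v) :
    E' = E'' :=
  fusionSystem_ext fun P f => h.mapTo_iff.trans h'.mapTo_iff.symm

end SysIso

/-- The image of a system under a bijection. -/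
noncomputable def imgSys (E : FusionSystem T) (h : Bij T T' u v) : FusionSystem T' where
  Hom P' := {φ' | P' ≤ T' ∧ (∀ y, φ' y ∈ T') ∧
    MapTo E (imgX v P') (fun x => v (ev φ' (u x)))}
  le_of_mem h' := ⟨h'.1, h'.2.1⟩
  injective_of_mem := by
    rintro P' φ' ⟨hP, hm, hf⟩ a b hab
    have h1 := hf.inj (mem_imgX_of_mem (u := v) a.2) (mem_imgX_of_mem b.2) (by
      rw [h.right _ (hP a.2), h.right _ (hP b.2), ev_coe, ev_coe, hab])
    exact Subtype.ext (h.symm.inj (hP a.2) (hP b.2) h1)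
  conj_mem := by
    intro P' g hP hg
    have hm : ∀ y : P', g * (y : Ω') * g⁻¹ ∈ T' := fun y =>
      T'.mul_mem (T'.mul_mem hg (hP y.2)) (T'.inv_mem hg)
    refine ⟨hP, hm, (mapTo_cj (F := E) (h.symm.imgX_le hP) (h.mem' g hg)).congr' fun x hx => ?_⟩
    have hxT := h.symm.imgX_le hP hx
    have hux := (h.mem_imgX_symm_iff hP hxT).mp hx
    rw [ev_apply _ hux]
    show v (g * u x * g⁻¹) = v g * x * (v g)⁻¹
    rw [h.symm.map_mul _ (T'.mul_mem hg (h.mem x hxT)) _ (T'.inv_mem hg),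
      h.symm.map_mul _ hg _ (h.mem x hxT), h.symm.map_inv hg, h.left x hxT]
  comp_mem := by
    rintro P' Q' φ ψ ⟨hP, hφm, hf⟩ ⟨hQ, hψm, hg⟩ hh
    refine ⟨hP, fun y => hψm _, (hf.comp hg fun x hx => ?_).congr' fun x hx => ?_⟩
    · have hux := (h.mem_imgX_symm_iff hP (h.symm.imgX_le hP hx)).mp hx
      rw [ev_apply _ hux]
      exact mem_imgX_of_mem (hh ⟨_, hux⟩)
    · have hux := (h.mem_imgX_symm_iff hP (h.symm.imgX_le hP hx)).mp hx
      show v (ev (ψ.comp (φ.codRestrict Q' hh)) (u x)) = v (ev ψ (u (v (ev φ (u x)))))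
      rw [ev_apply _ hux, ev_apply φ hux, h.right _ (hφm _), ev_apply ψ (hh ⟨_, hux⟩)]
      rfl
  inv_mem := by
    rintro P' φ ⟨hP, hφm, hf⟩
    obtain ⟨k, hk, hkf, -, -⟩ := hf.exists_iso_inverse
    have hr : φ.range ≤ T' := by rintro _ ⟨y, rfl⟩; exact hφm y
    have hsub : imgX v φ.range ≤ img (fun x => v (ev φ (u x))) (imgX v P') := by
      refine imgX_le_of_forall ?_
      rintro _ ⟨y, rfl⟩
      have := mem_img_of_mem (f := fun x => v (ev φ (u x))) (mem_imgX_of_mem (u := v) y.2)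
      rwa [h.right _ (hP y.2), ev_coe] at this
    replace hk := hk.restrict hsub
    have hmul : ∀ a b : φ.range, u (k (v ((a * b : φ.range) : Ω'))) =
        u (k (v a)) * u (k (v b)) := fun a b => by
      rw [Subgroup.coe_mul, h.symm.map_mul _ (hr a.2) _ (hr b.2),
        hk.map_mul (mem_imgX_of_mem a.2) (mem_imgX_of_mem b.2),
        h.map_mul _ (hk.mem (mem_imgX_of_mem a.2)) _ (hk.mem (mem_imgX_of_mem b.2))]
    refine ⟨MonoidHom.mk' (fun y => u (k (v y))) hmul,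
      ⟨hr, fun y => h.mem _ (hk.mem (mem_imgX_of_mem y.2)), hk.congr' fun x hx => ?_⟩, fun y => ?_⟩
    · have hxT := h.symm.imgX_le hr hx
      have hux := (h.mem_imgX_symm_iff hr hxT).mp hx
      rw [ev_apply _ hux]
      show v (u (k (v (u x)))) = k x
      rw [h.left x hxT, h.left _ (hk.mem hx)]
    · show u (k (v (φ y))) = y
      have h1 := hkf _ (mem_imgX_of_mem (u := v) y.2)
      rw [h.right _ (hP y.2), ev_coe] at h1
      rw [h1, h.right _ (hP y.2)]

theorem mapTo_imgSys_iff (h : Bij T T' u v) {P' : Subgroup Ω'} {f' : Ω' → Ω'} :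
    MapTo (imgSys E h) P' f' ↔ P' ≤ T' ∧ (∀ y ∈ P', f' y ∈ T') ∧
      MapTo E (imgX v P') (fun x => v (f' (u x))) := by
  have hcongr : ∀ (hP : P' ≤ T') {g : Ω' → Ω'}, (∀ y ∈ P', g y = f' y) →
      ∀ x ∈ imgX v P', v (g (u x)) = v (f' (u x)) := fun hP g hg x hx => by
    rw [hg _ ((h.mem_imgX_symm_iff hP (h.symm.imgX_le hP hx)).mp hx)]
  constructor
  · rintro ⟨φ, ⟨hP, hm, hf⟩, hφf⟩
    refine ⟨hP, fun y hy => hφf ⟨y, hy⟩ ▸ hm _, hf.congr' fun x hx => ?_⟩
    exact (hcongr hP (fun y hy => by rw [ev_apply φ hy]; exact hφf ⟨y, hy⟩) x hx).symm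
  · rintro ⟨hP, hm, hf⟩
    have hmul : ∀ a b : P', f' ((a * b : P') : Ω') = f' a * f' b := fun a b => by
      have hab := mem_imgX_of_mem (u := v) a.2
      have hbb := mem_imgX_of_mem (u := v) b.2
      have h1 := hf.map_mul hab hbb
      rw [h.map_mul _ (h.mem' _ (hP a.2)) _ (h.mem' _ (hP b.2)), h.right _ (hP a.2),
        h.right _ (hP b.2), ← h.symm.map_mul _ (hm a a.2) _ (hm b b.2)] at h1
      exact h.symm.inj (hm _ (a * b).2) (T'.mul_mem (hm a a.2) (hm b b.2)) h1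
    refine ⟨MonoidHom.mk' (fun y => f' y) hmul,
      ⟨hP, fun y => hm y y.2, hf.congr' (hcongr hP fun y hy => ?_)⟩, fun y => rfl⟩
    rw [ev_apply _ hy]
    rfl

theorem sysIso_imgSys (E : FusionSystem T) (h : Bij T T' u v) : SysIso E (imgSys E h) u v := by
  refine ⟨h, fun P f hf => ?_, fun P' f' hf => ((mapTo_imgSys_iff h).mp hf).2.2⟩
  refine (mapTo_imgSys_iff h).mpr ⟨h.imgX_le hf.le, fun y hy => ?_, ?_⟩
  · obtain ⟨x, hx, rfl⟩ := (h.mem_imgX_iff hf.le).mp hy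
    rw [h.left x (hf.le hx)]
    exact h.mem _ (hf.mem hx)
  · rw [h.imgX_imgX hf.le]
    refine hf.congr' fun x hx => ?_
    rw [h.left x (hf.le hx), h.left _ (hf.mem hx)]

end Cfsg.Agent.Fusion
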