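import Cfsg.Agent.Lib.Fusion.Iso
import Cfsg.Agent.Lib.Fusion.DirectFactor
import Cfsg.Agent.Lib.Fusion.Subnormal
import Cfsg.Agent.Lib.Fusion.Hyperfocal
import Cfsg.Prelude.Def_FusionComponents

/-!
Transport of invariance, normality, subnormality and quasisimplicity along isomorphisms of systems.
-/

set_option autoImplicit false

namespace Cfsg.Agent.Fusion

open Cfsg.FusionSystem (centralizerIn normalizerIn)

variable {Ω Ω' : Type*} [Group Ω] [Group Ω'] {S T : Subgroup Ω} {S' T' : Subgroup Ω'}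
variable {F : FusionSystem S} {F' : FusionSystem S'} {E : FusionSystem T} {E' : FusionSystem T'}
variable {u : Ω → Ω'} {v : Ω' → Ω} {p : ℕ}

theorem SysIso.isSubsystemOf (hF : SysIso F F' u v) (hE : SysIso E E' u v)
    (h : E.IsSubsystemOf F) : E'.IsSubsystemOf F' := fun P' φ hφ => by
  obtain ⟨hP, hm, hf⟩ := hE.mapTo_iff.mp (mapTo_ev hφ)
  exact mapTo_ev_iff.mp (hF.mapTo_iff.mpr
    ⟨hP.trans (hF.bij.imgX_le (show T ≤ S from (IsSubsystemOf.mapTo h
      (mapTo_id E le_rfl)).le) |> fun h1 => hE.bij.imgX_top ▸ h1),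
      fun y hy => (hE.bij.imgX_top ▸ hF.bij.imgX_le
        (show T ≤ S from (IsSubsystemOf.mapTo h (mapTo_id E le_rfl)).le)) (hm y hy),
      IsSubsystemOf.mapTo h hf⟩)

theorem SysIso.stronglyClosed (hF : SysIso F F' u v) (hTS : T ≤ S) (hE : Bij T T' u v)
    (h : F.StronglyClosed T) : F'.StronglyClosed T' := by
  have hT' : T' ≤ S' := hE.imgX_top ▸ hF.bij.imgX_le hTS
  refine stronglyClosed_iff.mpr ⟨hT', fun R f hR hf y hy => ?_⟩
  have h1 := hF.map' R f hf
  have h2 := StronglyClosed.map_mem h h1 (mem_imgX_of_mem hy) (hE.mem' y (hR hy))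
  rw [hF.bij.right y (hT' (hR hy))] at h2
  have := hE.mem _ h2
  rwa [hF.bij.right _ (hf.mem hy)] at this

variable [Finite S] [Fact p.Prime]

theorem SysIso.isInvariantIn (hF : SysIso F F' u v) (hE : SysIso E E' u v)
    (h : E.IsInvariantIn F) : E'.IsInvariantIn F' := by
  have hTS : T ≤ S := h.2.1.1
  have hT' : T' ≤ S' := hE.bij.imgX_top ▸ hF.bij.imgX_le hTS
  have hsc := hF.stronglyClosed hTS hE.bij h.2.1
  have := hF.bij.finite
  have := finite_of_le hTS
  refine isInvariantIn_of_mapTo (hF.isSubsystemOf hE h.1) hsc (fun P' f' hP' hf' α hα => ?_)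
    fun P' f' hP' hf' => ?_
  · have ha' := mapTo_of_mem_autGroup hT' hα
    have ha := hF.map' _ _ ha'
    rw [hE.bij.symm.imgX_top] at ha
    have haT : img (fun x => v (autFun α (u x))) T = T := StronglyClosed.img_eq h.2.1 ha le_rfl
    have hf := hE.map' P' f' hf'
    obtain ⟨g, hg, hgx⟩ := IsInvariantIn.transport h hf.le hf (autOf_mem ha haT)
    have h1 := hE.map _ _ hg
    have he : imgX u (img (autFun (autOf ha haT)) (imgX v P')) = img (autFun α) P' := by
      refine le_antisymm (imgX_le_of_forall fun x hx => ?_) (img_le_of_forall fun y hy => ?_)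
      · obtain ⟨w, hw, rfl⟩ :=
          (((mapTo_of_mem_autGroup hTS (autOf_mem ha haT)).restrict hf.le).mem_img_iff le_rfl).mp hx
        obtain ⟨y, hy, rfl⟩ := (hE.bij.symm.mem_imgX_iff hP').mp hw
        rw [autFun_autOf ha haT (hE.bij.mem' y (hP' hy)), hE.bij.right y (hP' hy),
          hE.bij.right _ (autFun_mem α (hP' hy))]
        exact mem_img_of_mem hy
      · have := mem_imgX_of_mem (u := u)
          (mem_img_of_mem (f := autFun (autOf ha haT)) (mem_imgX_of_mem (u := v) hy))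
        rwa [autFun_autOf ha haT (hE.bij.mem' y (hP' hy)), hE.bij.right y (hP' hy),
          hE.bij.right _ (autFun_mem α (hP' hy))] at this
    rw [he] at h1
    refine ⟨_, h1, fun y hy => ?_⟩
    have hy' := hE.bij.mem' y (hP' hy)
    have hfy : f' y ∈ T' := hf'.mem hy
    have h2 := hgx (v y) (mem_imgX_of_mem hy)
    rw [autFun_autOf ha haT hy', hE.bij.right y (hP' hy),
      autFun_autOf ha haT (hE.bij.mem' _ hfy), hE.bij.right _ hfy] at h2
    show u (g (v (autFun α y))) = _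
    rw [h2, hE.bij.right _ (autFun_mem α hfy)]
  · have hf := hF.map' P' f' hf'
    obtain ⟨a, ha, f₀, hf₀, hfx⟩ := IsInvariantIn.frattini h (hE.bij.symm.imgX_le hP') hf
    have ha1 := hF.map _ _ (mapTo_of_mem_autGroup hTS ha)
    rw [hE.bij.imgX_top] at ha1
    have := finite_of_le hT'
    have haT := img_eq_self_of_forall ha1 fun y hy =>
      StronglyClosed.map_mem hsc ha1 hy hy
    have h1 := hE.map _ _ hf₀
    rw [hE.bij.symm.imgX_imgX hP'] at h1
    refine ⟨autOf ha1 haT, autOf_mem _ _, _, h1, fun y hy => ?_⟩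
    have h2 := hfx (v y) (mem_imgX_of_mem hy)
    rw [hE.bij.right y (hP' hy)] at h2
    rw [autFun_autOf ha1 haT (h1.mem hy)]
    show f' y = u (autFun a (v (u (f₀ (v y)))))
    rw [hE.bij.left _ (hf₀.mem (mem_imgX_of_mem hy)), ← h2, hF.bij.right _ (hf'.mem hy)]

theorem SysIso.isNormalIn (hS : IsPGroup p S) (hF : SysIso F F' u v) (hE : SysIso E E' u v)
    (h : E.IsNormalIn F p) : E'.IsNormalIn F' p := by
  have hTS : T ≤ S := h.1.2.2.2.1.1
  have := finite_of_le hTS
  have := hF.bij.finite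
  refine ⟨⟨hE.isSaturated (hS.to_le hTS) h.1.1, hF.isSaturated hS h.1.2.1,
    hF.isInvariantIn hE h.1.2.2⟩, fun α hα => ?_⟩
  have hT' : T' ≤ S' := hE.bij.imgX_top ▸ hF.bij.imgX_le hTS
  have hC : imgX u (centralizerIn S T) = centralizerIn S' T' := by
    refine le_antisymm (imgX_le_of_forall fun c hc => ?_) fun c hc => ?_
    · obtain ⟨hcS, hcc⟩ := mem_centralizerIn.mp hc
      refine mem_centralizerIn.mpr ⟨hF.bij.mem c hcS, fun y hy => ?_⟩
      have hy' := hTS (hE.bij.mem' y hy)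
      rw [← hF.bij.right y (hT' hy), ← hF.bij.map_mul _ hy' _ hcS,
        ← hF.bij.map_mul _ hcS _ hy', hcc _ (hE.bij.mem' y hy)]
    · obtain ⟨hcS, hcc⟩ := mem_centralizerIn.mp hc
      rw [← hF.bij.right c hcS]
      refine mem_imgX_of_mem (mem_centralizerIn.mpr ⟨hF.bij.mem' c hcS, fun x hx => ?_⟩)
      have hx' := hF.bij.mem x (hTS hx)
      rw [← hF.bij.left x (hTS hx), ← hF.bij.symm.map_mul _ hx' _ hcS,
        ← hF.bij.symm.map_mul _ hcS _ hx', hcc _ (hE.bij.mem x hx)]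
  have ha := hE.map' _ _ (mapTo_of_mem_autGroup le_rfl hα)
  rw [hE.bij.symm.imgX_top] at ha
  have haT := img_eq_self_of_forall ha fun x hx => ha.mem hx
  obtain ⟨β, hβ, hβT, hβc⟩ := h.2 _ (autOf_mem ha haT)
  have hTC : T ⊔ centralizerIn S T ≤ S := sup_le hTS centralizerIn_le
  have hb := hF.map _ _ (mapTo_of_mem_autGroup hTC hβ)
  have heq : imgX u (T ⊔ centralizerIn S T) = T' ⊔ centralizerIn S' T' := by
    rw [hF.bij.imgX_sup hTS centralizerIn_le, hE.bij.imgX_top, hC]
  rw [heq] at hb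
  have := finite_of_le (sup_le hT' (centralizerIn_le (S := S') (P := T')))
  have hbimg := img_eq_self_of_forall hb fun y hy => by
    obtain ⟨x, hx, rfl⟩ : ∃ x ∈ T ⊔ centralizerIn S T, u x = y := by
      rw [← hF.bij.mem_imgX_iff hTC, heq]
      exact hy
    rw [hF.bij.left x (hTC hx), ← heq]
    exact mem_imgX_of_mem (autFun_mem β hx)
  refine ⟨autOf hb hbimg, autOf_mem _ _, fun y => ?_, fun c hc => ?_⟩
  · rw [← autFun_coe, Subgroup.coe_inclusion, autFun_autOf hb hbimg
      (Subgroup.mem_sup_left y.2)]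
    have hy := hE.bij.mem' _ y.2
    have h1 := hβT ⟨v y, hy⟩
    rw [← autFun_coe, Subgroup.coe_inclusion, ← autFun_coe (autOf ha haT),
      autFun_autOf ha haT hy] at h1
    rw [h1, hE.bij.right _ y.2, hE.bij.right _ (autFun_mem α y.2), autFun_coe]
  · rw [← autFun_coe, autFun_autOf hb hbimg c.2]
    obtain ⟨d, hd, hdc⟩ := (hF.bij.mem_imgX_iff centralizerIn_le).mp (hC.ge hc)
    have hdS := centralizerIn_le hd
    have h1 := hβc ⟨d, Subgroup.mem_sup_right hd⟩ hd
    rw [← autFun_coe] at h1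
    rw [← hdc, hF.bij.left d hdS, ← hF.bij.map_inv hdS, ← hF.bij.map_mul _ (S.inv_mem hdS) _
      (hTC (autFun_mem β (Subgroup.mem_sup_right hd)))]
    obtain ⟨h2, h3⟩ := Subgroup.mem_inf.mp h1
    refine Subgroup.mem_inf.mpr ⟨hE.bij.mem _ h2, Subgroup.mem_centralizer_iff.mpr fun y hy => ?_⟩
    rw [← hE.bij.right y hy, ← hE.bij.map_mul _ (hE.bij.mem' y hy) _ h2,
      ← hE.bij.map_mul _ h2 _ (hE.bij.mem' y hy),
      Subgroup.mem_centralizer_iff.mp h3 _ (hE.bij.mem' y hy)]

end Cfsg.Agent.Fusion
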