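import Cfsg.Agent.Lib.Fusion.RankThreeSmall
import Cfsg.Agent.Lib.FGB.MaxClassAmbient

/-!
Where a small essential subgroup can sit in a p-group of maximal class.
-/

set_option autoImplicit false
set_option linter.style.haveILetI false

namespace Cfsg.Agent.Fusion.MaxSmall

open Cfsg.FusionSystem (centralizerIn normalizerIn)
open Cfsg.Agent.FGB.MaxClass
open scoped commutatorElement

universe u

variable {p : ℕ} [hp : Fact p.Prime] {Ω : Type u} [Group Ω] {S : Subgroup Ω}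

/-- The `j`-th term of the upper central series, as a lower central term. -/
def Zj (S : Subgroup Ω) (n j : ℕ) : Subgroup Ω := S.lowerCentralSeries (n - 1 - j)

/-- The group generated by `x` and the `j`-th upper central term. -/
def PK (S : Subgroup Ω) (n : ℕ) (x : Ω) (j : ℕ) : Subgroup Ω := Subgroup.zpowers x ⊔ Zj S n j

theorem mem_zsup {x : Ω} {K : Subgroup Ω} (hn : x ∈ Subgroup.normalizer (K : Set Ω)) {q : Ω} :
    q ∈ Subgroup.zpowers x ⊔ K ↔ ∃ i : ℤ, ∃ v ∈ K, q = x ^ i * v := by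
  rw [← SetLike.mem_coe, Subgroup.coe_mul_of_left_le_normalizer_right _ _ (Subgroup.zpowers_le.mpr hn),
    Set.mem_mul]
  constructor
  · rintro ⟨a, ⟨i, rfl⟩, v, hv, rfl⟩
    exact ⟨i, v, hv, rfl⟩
  · rintro ⟨i, v, hv, rfl⟩
    exact ⟨_, ⟨i, rfl⟩, v, hv, rfl⟩

omit hp in
theorem zpow_mod_eq {x : Ω} (hxp : x ^ p = 1) (i : ℤ) : x ^ i = x ^ (i % p) := by
  conv_lhs => rw [← Int.emod_add_mul_ediv i p, zpow_add, zpow_mul, zpow_natCast, hxp, one_zpow, mul_one]

theorem exists_zpow_self {x : Ω} (hxp : x ^ p = 1) {i : ℤ} (hi : ¬ (p : ℤ) ∣ i) :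
    ∃ j : ℤ, x ^ (i * j) = x := by
  have hcop : IsCoprime (p : ℤ) i := ((Nat.prime_iff_prime_int.mp hp.out).coprime_iff_not_dvd).mpr hi
  obtain ⟨a, b, hab⟩ := hcop
  refine ⟨b, ?_⟩
  have h1 : i * b = 1 + (p : ℤ) * (-a) := by linear_combination hab
  rw [h1, zpow_add, zpow_one, zpow_mul, zpow_natCast, hxp, one_zpow, mul_one]

theorem zpow_mem_iff {x : Ω} {K : Subgroup Ω} (hxp : x ^ p = 1) (hxK : x ∉ K) {i : ℤ} :
    x ^ i ∈ K ↔ (p : ℤ) ∣ i := by
  refine ⟨fun h => by_contra fun hi => ?_, fun ⟨c, hc⟩ => ?_⟩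
  · obtain ⟨j, hj⟩ := exists_zpow_self hxp hi
    exact hxK (hj ▸ zpow_mul x i j ▸ zpow_mem h j)
  · rw [hc, zpow_mul, zpow_natCast, hxp, one_zpow]; exact one_mem _

theorem zpow_eq_one_of_dvd {x : Ω} (hxp : x ^ p = 1) {i : ℤ} (hi : (p : ℤ) ∣ i) : x ^ i = 1 := by
  obtain ⟨c, rfl⟩ := hi
  rw [zpow_mul, zpow_natCast, hxp, one_zpow]

theorem card_zsup {x : Ω} {K : Subgroup Ω} [Finite K] (hn : x ∈ Subgroup.normalizer (K : Set Ω))
    (hxp : x ^ p = 1) (hxK : x ∉ K) : Nat.card ↥(Subgroup.zpowers x ⊔ K) = p * Nat.card K := by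
  let f : Fin p × K → ↥(Subgroup.zpowers x ⊔ K) := fun iv =>
    ⟨x ^ ((iv.1 : ℕ) : ℤ) * (iv.2 : Ω), (mem_zsup hn).mpr ⟨_, _, iv.2.2, rfl⟩⟩
  have hf : Function.Bijective f := by
    refine ⟨fun a b hab => ?_, fun q => ?_⟩
    · have h1 : x ^ ((a.1 : ℕ) : ℤ) * (a.2 : Ω) = x ^ ((b.1 : ℕ) : ℤ) * (b.2 : Ω) := congrArg Subtype.val hab
      have h2 : x ^ ((((a.1 : ℕ) : ℤ)) - ((b.1 : ℕ) : ℤ)) ∈ K := by
        have h3 : x ^ ((((a.1 : ℕ) : ℤ)) - ((b.1 : ℕ) : ℤ)) = (b.2 : Ω) * (a.2 : Ω)⁻¹ := by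
          rw [eq_mul_inv_iff_mul_eq, sub_eq_neg_add, zpow_add, zpow_neg, mul_assoc, h1, inv_mul_cancel_left]
        rw [h3]
        exact mul_mem b.2.2 (inv_mem a.2.2)
      obtain ⟨c, hc⟩ := (zpow_mem_iff hxp hxK).mp h2
      have hab1 : (a.1 : ℕ) = (b.1 : ℕ) := by
        have := a.1.isLt
        have := b.1.isLt
        rcases lt_trichotomy c 0 with hc0 | hc0 | hc0
        · nlinarith
        · subst hc0; omega
        · nlinarith
      rw [hab1] at h1
      exact Prod.ext (Fin.ext hab1) (Subtype.ext (mul_left_cancel h1))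
    · obtain ⟨i, v, hv, he⟩ := (mem_zsup hn).mp q.2
      have hp0 : (0 : ℤ) < p := by exact_mod_cast hp.out.pos
      refine ⟨(⟨(i % p).toNat, by
        have := Int.emod_lt_of_pos i hp0; have := Int.emod_nonneg i hp0.ne'; omega⟩, ⟨v, hv⟩), Subtype.ext ?_⟩
      show x ^ (((i % p).toNat : ℕ) : ℤ) * v = q
      rw [Int.toNat_of_nonneg (Int.emod_nonneg i hp0.ne'), ← zpow_mod_eq hxp, he]
  rw [← Nat.card_eq_of_bijective f hf, Nat.card_prod, Nat.card_fin]

variable [Finite S] {n : ℕ} (h : IsMax p n S)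

omit hp [Finite S] in
theorem Zj_le (j : ℕ) : Zj S n j ≤ S := Ambient.lcs_le _

omit hp [Finite S] in
theorem Zj_mono {i j : ℕ} (hij : i ≤ j) : Zj S n i ≤ Zj S n j := Ambient.lcs_anti (by omega)

omit hp [Finite S] in
theorem mem_normalizer_Zj [Finite S] {x : Ω} (hx : x ∈ S) (j : ℕ) :
    x ∈ Subgroup.normalizer (Zj S n j : Set Ω) := by
  haveI := finite_of_le (Zj_le (S := S) (n := n) j)
  exact mem_normalizer_of_forall fun y hy => Ambient.lcs_conj hy hx

omit hp [Finite S] in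
theorem mem_PK [Finite S] {x q : Ω} (hx : x ∈ S) {j : ℕ} :
    q ∈ PK S n x j ↔ ∃ i : ℤ, ∃ v ∈ Zj S n j, q = x ^ i * v := mem_zsup (mem_normalizer_Zj hx j)

omit hp [Finite S] in
theorem PK_le {x : Ω} (hx : x ∈ S) (j : ℕ) : PK S n x j ≤ S :=
  sup_le (Subgroup.zpowers_le.mpr hx) (Zj_le j)

include h

theorem card_Zj {j : ℕ} (hj : j + 2 ≤ n) : Nat.card (Zj S n j) = p ^ j := by
  rw [Zj, Ambient.card_lcs h (by omega) (by omega)]
  congr 1; omega

theorem card_PK {x : Ω} (hx : x ∈ S) (hxp : x ^ p = 1) {j : ℕ} (hxj : x ∉ Zj S n j) (hj : j + 2 ≤ n) :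
    Nat.card (PK S n x j) = p ^ (j + 1) := by
  haveI := finite_of_le (Zj_le (S := S) (n := n) j)
  rw [PK, card_zsup (mem_normalizer_Zj hx j) hxp hxj, card_Zj h hj, pow_succ']

theorem card_TS {i : ℕ} (hi1 : 1 ≤ i) (hi : i + 3 ≤ n) : Nat.card (Ambient.TS S i) = p ^ (n - 1) := by
  have hn := h.two_le
  obtain ⟨s, hsS, hs⟩ := Ambient.TS_ne_top h hi
  haveI := finite_of_le (Ambient.TS_le (S := S) i)
  obtain ⟨e, he⟩ := IsPGroup.iff_card.mp (h.isPGroup.to_le (Ambient.TS_le i))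
  have hlt : Ambient.TS S i < S := lt_of_le_of_ne (Ambient.TS_le i) fun heq => hs (by rw [heq]; exact hsS)
  have h1 := card_lt_card_of_lt hlt
  rw [he, h.card, Nat.pow_lt_pow_iff_right hp.out.one_lt] at h1
  have h2 := Subgroup.card_le_of_le (Ambient.lcs_one_le_TS (S := S) i)
  rw [Ambient.card_lcs h le_rfl (by omega), he, Nat.pow_le_pow_iff_right hp.out.one_lt] at h2
  rcases Nat.lt_or_ge e (n - 1) with hlt' | hge
  · exfalso
    haveI := finite_of_le (Ambient.lcs_le (S := S) 1)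
    have heq := Subgroup.eq_of_le_of_card_ge (Ambient.lcs_one_le_TS (S := S) i)
      (by rw [Ambient.card_lcs h le_rfl (by omega), he]; exact Nat.pow_le_pow_right hp.out.pos (by omega))
    have hcyc : ∀ g ∈ S, ∃ z : ℤ, g * (s ^ z)⁻¹ ∈ S.lowerCentralSeries 1 := fun g hg => by
      rw [heq]; exact Ambient.exists_split h hi1 hi hsS hs hg
    set q := layerMap S 1
    have hgen : ∀ y, y ∈ Subgroup.zpowers (q ⟨s, hsS⟩) := by
      intro y
      obtain ⟨g, rfl⟩ := QuotientGroup.mk'_surjective _ y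
      obtain ⟨z, hz⟩ := hcyc g g.2
      refine ⟨z, ?_⟩
      have := layer_eq_one_iff.2 ((Ambient.mem_lcs_iff (a := g * (⟨s, hsS⟩ ^ z)⁻¹)).1 hz)
      rw [map_mul, map_inv, map_zpow, mul_inv_eq_one] at this
      exact this.symm
    have hcard := (h.quot (j := 1) le_rfl (by omega)).card
    have hle : orderOf (q ⟨s, hsS⟩) ∣ p := by
      refine orderOf_dvd_of_pow_eq_one ?_
      rw [← map_pow, layer_eq_one_iff, Subgroup.top_lowerCentralSeries_one]
      exact h.pow_mem_commutator (by omega) _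
    have := Nat.le_of_dvd hp.out.pos hle
    rw [orderOf_eq_card_of_forall_mem_zpowers hgen, hcard] at this
    exact absurd this (not_le.mpr (lt_self_pow₀ hp.out.one_lt (by norm_num)))
  · rw [he, show e = n - 1 by omega]

theorem commute_Zj_two {u x : Ω} (hu : u ∈ Zj S n 2) (hx : x ∈ Ambient.TS S (n - 3)) : Commute u x := by
  have hn := h.two_le
  rw [Zj, show n - 1 - 2 = n - 3 by omega] at hu
  exact commutatorElement_eq_one_iff_commute.mp (Ambient.eq_one h (by omega) (Ambient.TS_comm hx hu))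

/-- The shapes of a small subgroup. -/
theorem small_cases {F : FusionSystem S} {E : Subgroup Ω} (hn5 : 5 ≤ n) (hs : IsSmallEss p F E) :
    (Zj S n 2 ≤ E ∧ ∀ x ∈ E, x ∉ Zj S n 2 → x ∈ Ambient.TS S (n - 3) ∧
        x ∉ S.lowerCentralSeries 1 ∧ (n = 5 ∨ (6 ≤ n ∧ x ∉ Ambient.TS S 1))) ∨
      (n = 6 ∧ E ≤ Ambient.TS S 1 ∧ ¬ Ambient.TS S 1 ≤ Ambient.TS S (n - 3) ∧
        ¬ E ≤ S.lowerCentralSeries 1 ∧ Nat.card (E ⊓ Zj S n 3 : Subgroup Ω) = p ^ 2 ∧
        normalizerIn S E = E ⊔ Zj S n 3) := by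
  have hSp : IsPGroup p S := h.isPGroup
  have hne : Nat.card S ≠ p ^ 3 := by
    rw [h.card]; intro he; have := Nat.pow_right_injective hp.out.two_le he; omega
  have hN := hs.card_normalizer hSp hne
  have hES := hs.le
  haveI := finite_of_le hES
  haveI := finite_of_le (normalizerIn_le (S := S) (P := E))
  have hfit : ∀ K : Subgroup Ω, K ≤ normalizerIn S E → ∀ k, Nat.card K = p ^ k → k ≤ 4 := fun K hK k hk => by
    have h1 := Subgroup.card_le_of_le hK
    rwa [hN, hk, Nat.pow_le_pow_iff_right hp.out.one_lt] at h1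
  have hZ1 : Zj S n 1 ≤ E := fun z hz => hs.mem_of_comm (Zj_le 1 hz) fun y hy => by
    refine (commutatorElement_eq_one_iff_commute.mp (Ambient.eq_one h ?_ (Ambient.comm_succ hz (hES hy)))).symm
    omega
  -- all elements lie in one of the two two-step centralizers
  have hone : E ≤ Ambient.TS S 1 ∨ E ≤ Ambient.TS S (n - 3) := by
    by_contra hnot
    obtain ⟨h1, h2⟩ := not_or.mp hnot
    have hpt : ∀ x ∈ E, x ∈ Ambient.TS S 1 ∨ x ∈ Ambient.TS S (n - 3) := fun x hx => by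
      by_contra hx'
      obtain ⟨a, b⟩ := not_or.mp hx'
      have hle := Ambient.centralizer_small h hn5 (hES hx) a b hES fun y hy => hs.comm y hy x hx
      rw [hs.card, Nat.pow_le_pow_iff_right hp.out.one_lt] at hle
      omega
    obtain ⟨a, ha, ha'⟩ := SetLike.not_le_iff_exists.mp h1
    obtain ⟨b, hb, hb'⟩ := SetLike.not_le_iff_exists.mp h2
    have ha2 := (hpt a ha).resolve_left ha'
    have hb1 := (hpt b hb).resolve_right hb'
    rcases hpt _ (mul_mem ha hb) with hc | hc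
    · exact ha' ((Subgroup.mul_mem_cancel_right _ hb1).mp hc)
    · exact hb' ((Subgroup.mul_mem_cancel_left _ ha2).mp hc)
  have hnormZ3 : ¬ E = Zj S n 3 := fun heq => by
    have hSN : S ≤ normalizerIn S E := fun g hg => mem_normalizerIn_of_forall hES hg fun y hy => by
      rw [heq] at hy ⊢
      exact Ambient.lcs_conj hy hg
    have := hfit S hSN n h.card
    omega
  by_cases hZ2 : Zj S n 2 ≤ E
  · left
    refine ⟨hZ2, fun x hxE hxZ => ?_⟩
    have hxS := hES hxE
    have hxC : x ∈ Ambient.TS S (n - 3) := by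
      obtain ⟨u, hu, hu'⟩ := Ambient.exists_elt h (k := n - 3) (by omega) (by omega)
      refine Ambient.mem_TS_of_comm h (by omega) (by omega) hxS hu hu' ?_
      have hu2 : u ∈ E := hZ2 (by rw [Zj, show n - 1 - 2 = n - 3 by omega]; exact hu)
      rw [commutatorElement_eq_one_iff_commute.mpr (hs.comm u hu2 x hxE)]
      exact one_mem _
    have hgenE : E = PK S n x 2 := by
      have hle : PK S n x 2 ≤ E := sup_le (Subgroup.zpowers_le.mpr hxE) hZ2
      refine (Subgroup.eq_of_le_of_card_ge hle ?_).symm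
      rw [hs.card, card_PK h hxS (hs.exp x hxE) hxZ (by omega)]
    -- an `S`-invariant group pushing commutators into `Z₂` normalizes `E`
    have hnorm : ∀ g ∈ S, ⁅g, x⁆ ∈ Zj S n 2 → g ∈ normalizerIn S E := by
      intro g hg hgx
      refine mem_normalizerIn_of_forall hES hg fun y hy => ?_
      rw [hgenE, mem_PK hxS] at hy
      obtain ⟨i, v, hv, rfl⟩ := hy
      have e : g * (x ^ i * v) * g⁻¹ = (⁅g, x⁆ * x) ^ i * (g * v * g⁻¹) := by
        rw [commutatorElement_def, show g * x * g⁻¹ * x⁻¹ * x = g * x * g⁻¹ by group, conj_zpow]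
        group
      rw [e]
      exact mul_mem (zpow_mem (mul_mem (hZ2 hgx) hxE) i) (hZ2 (Ambient.lcs_conj hv hg))
    have hxZ3 : x ∉ Zj S n 3 := fun hx3 => hnormZ3 (by
      haveI := finite_of_le (Zj_le (S := S) (n := n) 3)
      refine Subgroup.eq_of_le_of_card_ge ?_ ?_
      · rw [hgenE]; exact sup_le (Subgroup.zpowers_le.mpr hx3) (Zj_mono (by omega))
      · rw [hs.card, card_Zj h (by omega)])
    rcases Nat.lt_or_ge n 6 with h6 | h6
    · obtain rfl : n = 5 := by omega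
      exact ⟨hxC, hxZ3, Or.inl rfl⟩
    have hx1 : x ∉ Ambient.TS S 1 := by
      intro hx1
      have h4 : S.lowerCentralSeries (n - 5) ≤ normalizerIn S E := fun g hg => by
        refine hnorm g (Ambient.lcs_le _ hg) ?_
        have := Ambient.TS_comm ((Ambient.TS_eq h (i := n - 5) (by omega) (by omega)).symm ▸ hx1) hg
        rwa [show n - 5 + 2 = n - 1 - 2 by omega] at this
      have hNeq : S.lowerCentralSeries (n - 5) = normalizerIn S E := by
        refine Subgroup.eq_of_le_of_card_ge h4 ?_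
        rw [hN, Ambient.card_lcs h (by omega) (by omega)]
        exact Nat.pow_le_pow_right hp.out.pos (by omega)
      have hx4 : x ∈ S.lowerCentralSeries (n - 5) := hNeq ▸ le_normalizerIn hES hxE
      rcases Nat.lt_or_ge n 7 with h7 | h7
      · obtain rfl : n = 6 := by omega
        have hT : Ambient.TS S 1 ≤ normalizerIn S E := fun g hg => by
          refine hnorm g (Ambient.TS_le _ hg) ?_
          rw [← commutatorElement_inv]
          exact inv_mem (Ambient.TS_comm hg hx4)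
        have := hfit _ hT _ (card_TS h le_rfl (by omega))
        omega
      · have h5 : S.lowerCentralSeries (n - 6) ≤ normalizerIn S E := fun g hg => by
          refine hnorm g (Ambient.lcs_le _ hg) ?_
          exact Ambient.lcs_anti (by omega) (Ambient.comm_add hg hx4)
        have := hfit _ h5 _ (Ambient.card_lcs h (by omega) (by omega))
        omega
    exact ⟨hxC, fun hh => hx1 (Ambient.lcs_one_le_TS 1 hh), Or.inr ⟨h6, hx1⟩⟩
  · right
    have hE2 : ¬ E ≤ Ambient.TS S (n - 3) := fun hle => hZ2 fun u hu =>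
      hs.mem_of_comm (Zj_le 2 hu) fun y hy => (commute_Zj_two h hu (hle hy)).symm
    have hE1 := hone.resolve_right hE2
    have hexc : ¬ Ambient.TS S 1 ≤ Ambient.TS S (n - 3) := fun hle => hE2 (hE1.trans hle)
    have hn6 : 6 ≤ n := by
      by_contra hlt
      obtain rfl : n = 5 := by omega
      exact hexc (Ambient.TS_top_odd h (by omega) (by omega)).ge
    have hEL : ¬ E ≤ S.lowerCentralSeries 1 := fun hle => hE2 (hle.trans (Ambient.lcs_one_le_TS _))
    obtain ⟨x, hxE, hxL⟩ := SetLike.not_le_iff_exists.mp hEL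
    have hxS := hES hxE
    haveI := finite_of_le (Zj_le (S := S) (n := n) 3)
    have hZ3N : Zj S n 3 ≤ normalizerIn S E := fun g hg => by
      refine mem_normalizerIn_of_forall hES (Zj_le 3 hg) fun y hy => ?_
      have h2 : ⁅g, y⁆ ∈ Zj S n 1 := by
        have := Ambient.TS_comm ((Ambient.TS_eq h (i := n - 4) (by omega) (by omega)).symm ▸ hE1 hy)
          (show g ∈ S.lowerCentralSeries (n - 4) by rwa [Zj, show n - 1 - 3 = n - 4 by omega] at hg)
        rwa [Zj, show n - 1 - 1 = n - 4 + 2 by omega]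
      rw [show g * y * g⁻¹ = ⁅g, y⁆ * y by rw [commutatorElement_def]; group]
      exact mul_mem (hZ1 h2) hy
    set T := E ⊓ Zj S n 3 with hTdef
    have hxn : x ∈ Subgroup.normalizer (Zj S n 3 : Set Ω) := mem_normalizer_Zj hxS 3
    have hxZ3 : x ∉ Zj S n 3 := fun hh => hxL (Ambient.lcs_anti (by omega) hh)
    have hsup : normalizerIn S E = E ⊔ Zj S n 3 := by
      refine (Subgroup.eq_of_le_of_card_ge (sup_le (le_normalizerIn hES) hZ3N) ?_).symm
      haveI := finite_of_le (sup_le hES (Zj_le (S := S) (n := n) 3))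
      refine le_trans (le_of_eq ?_) (Subgroup.card_le_of_le
        (show Subgroup.zpowers x ⊔ Zj S n 3 ≤ E ⊔ Zj S n 3 from sup_le_sup_right (Subgroup.zpowers_le.mpr hxE) _))
      rw [hN, card_zsup hxn (hs.exp x hxE) hxZ3, card_Zj h (by omega), ← pow_succ']
    have hTL : E ⊓ S.lowerCentralSeries 1 = T := by
      refine le_antisymm (fun y hy => ⟨hy.1, ?_⟩) (inf_le_inf_left _ (Ambient.lcs_anti (by omega)))
      have hyN : y ∈ Subgroup.zpowers x ⊔ Zj S n 3 := by
        have heq : Subgroup.zpowers x ⊔ Zj S n 3 = normalizerIn S E := by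
          refine Subgroup.eq_of_le_of_card_ge
            (sup_le (Subgroup.zpowers_le.mpr (le_normalizerIn hES hxE)) hZ3N) ?_
          rw [hN, card_zsup hxn (hs.exp x hxE) hxZ3, card_Zj h (by omega), ← pow_succ']
        rw [heq]; exact le_normalizerIn hES hy.1
      obtain ⟨i, v, hv, rfl⟩ := (mem_zsup hxn).mp hyN
      have hxi : x ^ i ∈ S.lowerCentralSeries 1 :=
        (Subgroup.mul_mem_cancel_right _ (Ambient.lcs_anti (by omega) hv)).mp hy.2
      rw [zpow_eq_one_of_dvd (hs.exp x hxE) ((zpow_mem_iff (hs.exp x hxE) hxL).mp hxi), one_mul]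
      exact hv
    have hTcard : Nat.card T = p ^ 2 := by
      haveI := finite_of_le (inf_le_left.trans hES : T ≤ S)
      obtain ⟨e, he⟩ := IsPGroup.iff_card.mp (hSp.to_le (inf_le_left.trans hES : T ≤ S))
      have hlt : T < E := lt_of_le_of_ne inf_le_left fun heq => hxZ3 (heq.ge hxE).2
      have h1 := card_lt_card_of_lt hlt
      rw [hs.card, he, Nat.pow_lt_pow_iff_right hp.out.one_lt] at h1
      have hx2 : x ∉ T := fun hh => hxZ3 hh.2
      have hxT : x ∈ Subgroup.normalizer (T : Set Ω) := mem_normalizer_of_forall fun y hy => by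
        rw [(hs.comm x hxE y hy.1).eq, mul_inv_cancel_right]
        exact hy
      have hEeq : E = Subgroup.zpowers x ⊔ T := by
        refine le_antisymm (fun y hy => ?_) (sup_le (Subgroup.zpowers_le.mpr hxE) inf_le_left)
        obtain ⟨k, w, hw, rfl⟩ := Ambient.TS_rep h (i := 1) (by omega) (hE1 hxE) hxL (hE1 hy)
        refine mul_mem (Subgroup.mem_sup_left (zpow_mem (Subgroup.mem_zpowers x) k)) (Subgroup.mem_sup_right ?_)
        rw [← hTL]
        exact ⟨(Subgroup.mul_mem_cancel_left _ (zpow_mem hxE k)).mp hy, hw⟩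
      have h2 := hs.card
      rw [hEeq, card_zsup hxT (hs.exp x hxE) hx2, he, ← pow_succ'] at h2
      have := Nat.pow_right_injective hp.out.two_le h2
      rw [he, show e = 2 by omega]
    refine ⟨?_, hE1, hexc, hEL, hTcard, hsup⟩
    by_contra hne6
    have hn7 : 7 ≤ n := by omega
    have hn8 : 8 ≤ n := by
      by_contra hlt
      obtain rfl : n = 7 := by omega
      exact hexc (Ambient.TS_top_odd h (by omega) (by omega)).ge
    -- the group `L` of order `p ^ 5` moves `x` inside `x Z₃`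
    set L := S.lowerCentralSeries (n - 6) with hL
    have hLx : ∀ g ∈ L, ⁅g, x⁆ ∈ Zj S n 3 := fun g hg => by
      have := Ambient.TS_comm ((Ambient.TS_eq h (i := n - 6) (by omega) (by omega)).symm ▸ hE1 hxE) hg
      rwa [Zj, show n - 1 - 3 = n - 6 + 2 by omega]
    have hZ3ab : ∀ a ∈ Zj S n 3, ∀ b ∈ Zj S n 3, Commute a b := fun a ha b hb =>
      commutatorElement_eq_one_iff_commute.mp (Ambient.eq_one h (by omega) (Ambient.comm_add ha hb))
    have hLT : ∀ g ∈ L, ∀ t ∈ T, g * t * g⁻¹ ∈ T := fun g hg t ht => by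
      rw [show g * t * g⁻¹ = ⁅g, t⁆ * t by rw [commutatorElement_def]; group]
      have hc : ⁅g, t⁆ ∈ Zj S n 1 := by
        rw [Zj]; exact Ambient.lcs_anti (by omega) (Ambient.comm_add hg ht.2)
      exact mul_mem (⟨hZ1 hc, Zj_mono (by omega) hc⟩ : ⁅g, t⁆ ∈ T) ht
    set K := L ⊓ normalizerIn S E with hK
    let φ : L → (Zj S n 3) ⧸ T.subgroupOf (Zj S n 3) := fun g => QuotientGroup.mk ⟨⁅(g : Ω), x⁆, hLx g g.2⟩
    have hφ : ∀ a b : L, φ a = φ b → (a : Ω)⁻¹ * b ∈ K := by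
      intro a b hab
      have h0 : (⟨⁅(a : Ω), x⁆, hLx a a.2⟩ : Zj S n 3)⁻¹ * ⟨⁅(b : Ω), x⁆, hLx b b.2⟩ ∈
          T.subgroupOf (Zj S n 3) := QuotientGroup.eq.mp hab
      have h1 : (⁅(a : Ω), x⁆)⁻¹ * ⁅(b : Ω), x⁆ ∈ T := h0
      have hg : (a : Ω)⁻¹ * b ∈ L := mul_mem (inv_mem a.2) b.2
      refine ⟨hg, mem_normalizerIn_of_forall hES (Ambient.lcs_le _ hg) fun y hy => ?_⟩
      have hgx : (a : Ω)⁻¹ * b * x * ((a : Ω)⁻¹ * b)⁻¹ ∈ E := by
        have e : (a : Ω)⁻¹ * b * x * ((a : Ω)⁻¹ * b)⁻¹ =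
            (a : Ω)⁻¹ * (⁅(b : Ω), x⁆ * (⁅(a : Ω), x⁆)⁻¹) * ((a : Ω)⁻¹)⁻¹ * x := by
          simp only [commutatorElement_def]; group
        rw [e]
        refine mul_mem (hLT _ (inv_mem a.2) _ ?_).1 hxE
        rw [(hZ3ab _ (hLx _ b.2) _ (inv_mem (hLx _ a.2))).eq]
        exact h1
      obtain ⟨k, w, hw, rfl⟩ := Ambient.TS_rep h (i := 1) (by omega) (hE1 hxE) hxL (hE1 hy)
      have hwT : w ∈ T := hTL ▸ ⟨(Subgroup.mul_mem_cancel_left _ (zpow_mem hxE k)).mp hy, hw⟩
      rw [show (a : Ω)⁻¹ * b * (x ^ k * w) * ((a : Ω)⁻¹ * b)⁻¹ = ((a : Ω)⁻¹ * b * x ^ k * ((a : Ω)⁻¹ * b)⁻¹) *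
        ((a : Ω)⁻¹ * b * w * ((a : Ω)⁻¹ * b)⁻¹) by group, ← conj_zpow]
      exact mul_mem (zpow_mem hgx k) (hLT _ hg _ hwT).1
    haveI := finite_of_le (Ambient.lcs_le (S := S) (n - 6))
    have hinjout : Function.Injective (fun c : L ⧸ K.subgroupOf L => φ c.out) := fun c c' hcc => by
      rw [← Quotient.out_eq' c, ← Quotient.out_eq' c']
      exact QuotientGroup.eq.mpr (hφ _ _ hcc)
    have hcard := Nat.card_le_card_of_injective _ hinjout
    have hTZ : Nat.card ((Zj S n 3) ⧸ T.subgroupOf (Zj S n 3)) = p := by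
      have h2 := Subgroup.card_eq_card_quotient_mul_card_subgroup (T.subgroupOf (Zj S n 3))
      rw [Nat.card_congr (Subgroup.subgroupOfEquivOfLe (inf_le_right : T ≤ Zj S n 3)).toEquiv, hTcard,
        card_Zj h (by omega), pow_succ' p 2] at h2
      exact (Nat.eq_of_mul_eq_mul_right (pow_pos hp.out.pos 2) h2).symm
    have hKle : Nat.card K ≤ p ^ 3 := by
      rw [← card_Zj h (j := 3) (by omega)]
      refine Subgroup.card_le_of_le fun y hy => ?_
      have hyN : y ∈ E ⊔ Zj S n 3 := hsup ▸ hy.2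
      haveI : (Zj S n 3).subgroupOf S |>.Normal := ⟨fun a ha g => Ambient.lcs_conj ha g.2⟩
      have hy1 : y ∈ S.lowerCentralSeries 1 := Ambient.lcs_anti (by omega) hy.1
      have hEle : E ≤ Subgroup.zpowers x ⊔ Zj S n 3 := fun z hz => by
        obtain ⟨k, w, hw, rfl⟩ := Ambient.TS_rep h (i := 1) (by omega) (hE1 hxE) hxL (hE1 hz)
        refine mul_mem (Subgroup.mem_sup_left (zpow_mem (Subgroup.mem_zpowers x) k)) (Subgroup.mem_sup_right ?_)
        have : w ∈ T := hTL ▸ ⟨(Subgroup.mul_mem_cancel_left _ (zpow_mem hxE k)).mp hz, hw⟩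
        exact this.2
      obtain ⟨i, v, hv, rfl⟩ := (mem_zsup hxn).mp (sup_le hEle le_sup_right hyN)
      have hxi : x ^ i ∈ S.lowerCentralSeries 1 :=
        (Subgroup.mul_mem_cancel_right _ (Ambient.lcs_anti (by omega) hv)).mp hy1
      rw [zpow_eq_one_of_dvd (hs.exp x hxE) ((zpow_mem_iff (hs.exp x hxE) hxL).mp hxi), one_mul]
      exact hv
    have h3 := Subgroup.card_eq_card_quotient_mul_card_subgroup (K.subgroupOf L)
    rw [Nat.card_congr (Subgroup.subgroupOfEquivOfLe (inf_le_left : K ≤ L)).toEquiv,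
      Ambient.card_lcs h (by omega) (by omega), show n - 1 - (n - 6) = 5 by omega] at h3
    rw [hTZ] at hcard
    have hbad : p ^ 5 ≤ p * p ^ 3 := h3.le.trans (Nat.mul_le_mul hcard hKle)
    rw [← pow_succ', Nat.pow_le_pow_iff_right hp.out.one_lt] at hbad
    omega

end Cfsg.Agent.Fusion.MaxSmall
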