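import Cfsg.Agent.Lib.Fusion.MaxClassSmallCases
import Cfsg.Agent.Lib.FGB.MaxClassCongr

/-!
The chain of normalizers above a small subgroup in a p-group of maximal class, and what every
automorphism in the system leaves invariant along it.
-/

set_option autoImplicit false
set_option linter.style.haveILetI false

namespace Cfsg.Agent.Fusion.MaxSmall

open Cfsg.FusionSystem (centralizerIn normalizerIn)
open Cfsg.Agent.FGB.MaxClass
open scoped commutatorElement

universe u

variable {p : ℕ} [hp : Fact p.Prime] {Ω : Type u} [Group Ω] {S : Subgroup Ω} [Finite S]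
variable {n : ℕ} (h : IsMax p n S)

/-- An element of a small subgroup outside the second centre, which this subgroup contains. -/
structure IsShift (p : ℕ) (S : Subgroup Ω) (n : ℕ) (x : Ω) : Prop where
  memTS : x ∈ Ambient.TS S (n - 3)
  notMemL : x ∉ S.lowerCentralSeries 1
  exp : x ^ p = 1
  shift : n = 5 ∨ (6 ≤ n ∧ x ∉ Ambient.TS S 1)

omit hp [Finite S] in
theorem IsShift.memS {x : Ω} (hx : IsShift p S n x) : x ∈ S := Ambient.TS_le _ hx.memTS

include h

theorem PK_le_TS {x : Ω} (hx : IsShift p S n x) {j : ℕ} (hj : j + 2 ≤ n) : PK S n x j ≤ Ambient.TS S (n - 3) :=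
  sup_le (Subgroup.zpowers_le.mpr hx.memTS) ((Ambient.lcs_anti (by omega)).trans (Ambient.lcs_one_le_TS _))

theorem PK_inf {x q : Ω} (hx : IsShift p S n x) {j : ℕ} (hj : j + 2 ≤ n) (hq : q ∈ PK S n x j)
    (hqL : q ∈ S.lowerCentralSeries 1) : q ∈ Zj S n j := by
  obtain ⟨i, v, hv, rfl⟩ := (mem_PK hx.memS).mp hq
  have hxi : x ^ i ∈ S.lowerCentralSeries 1 :=
    (Subgroup.mul_mem_cancel_right _ (Ambient.lcs_anti (by omega) hv)).mp hqL
  rw [zpow_eq_one_of_dvd hx.exp ((zpow_mem_iff hx.exp hx.notMemL).mp hxi), one_mul]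
  exact hv

omit hp in
theorem comm_PK {x q r : Ω} (hx : x ∈ S) {j : ℕ} (hj : j + 1 ≤ n) (hq : q ∈ PK S n x j)
    (hr : r ∈ PK S n x j) : ⁅q, r⁆ ∈ Zj S n (j - 1) := by
  obtain ⟨a, v, hv, rfl⟩ := (mem_PK hx).mp hq
  obtain ⟨b, w, hw, rfl⟩ := (mem_PK hx).mp hr
  have hvS := Zj_le j hv
  have hwS := Zj_le j hw
  have hcv : ⁅v, x ^ b * w⁆ ∈ Zj S n (j - 1) :=
    Ambient.lcs_anti (by omega) (Ambient.comm_succ hv (mul_mem (zpow_mem hx b) hwS))
  have hcw : ⁅x ^ a, w⁆ ∈ Zj S n (j - 1) :=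
    Ambient.lcs_anti (by omega) (Ambient.comm_succ' hw (zpow_mem hx a))
  have e : ⁅x ^ a * v, x ^ b * w⁆ =
      x ^ a * ⁅v, x ^ b * w⁆ * (x ^ a)⁻¹ * (x ^ b * ⁅x ^ a, w⁆ * (x ^ b)⁻¹) := by
    simp only [commutatorElement_def]; group
  rw [e]
  exact mul_mem (Ambient.lcs_conj hcv (zpow_mem hx a)) (Ambient.lcs_conj hcw (zpow_mem hx b))

theorem PK_top {x : Ω} (hx : IsShift p S n x) (hn : 5 ≤ n) : PK S n x (n - 2) = Ambient.TS S (n - 3) := by
  refine le_antisymm (PK_le_TS h hx (by omega)) fun t ht => ?_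
  obtain ⟨k, w, hw, rfl⟩ := Ambient.TS_rep h (by omega) hx.memTS hx.notMemL ht
  exact (mem_PK hx.memS).mpr ⟨k, w, by rwa [Zj, show n - 1 - (n - 2) = 1 by omega], rfl⟩

/-- The normalizer of a link of the chain is contained in the next link. -/
theorem chain_normalizer {x : Ω} (hx : IsShift p S n x) (hn : 6 ≤ n) {k : ℕ} (hk : 2 ≤ k) (hk' : k + 3 ≤ n) :
    normalizerIn S (PK S n x k) ≤ PK S n x (k + 1) := by
  intro g hg
  have hx1 : x ∉ Ambient.TS S 1 := (hx.shift.resolve_left (by omega)).2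
  have hxP : x ∈ PK S n x k := Subgroup.mem_sup_left (Subgroup.mem_zpowers x)
  have hgS := hg.1
  have hgTS : g ∈ Ambient.TS S (n - 3) := by
    by_contra hgT
    have h1 := Ambient.comm_not_mem h (by omega) (by omega) hx.memTS hx.notMemL hgS hgT
    have hgx : ⁅g, x⁆ ∈ PK S n x k := by
      rw [commutatorElement_def]
      exact mul_mem (conj_mem_of_mem_normalizerIn hg hxP) (inv_mem hxP)
    have hL1 : ⁅g, x⁆ ∈ S.lowerCentralSeries 1 :=
      Ambient.comm_succ (i := 0) (by rw [Subgroup.lowerCentralSeries_zero]; exact hgS) hx.memS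
    exact h1 (Ambient.lcs_anti (by omega) (PK_inf h hx (by omega) hgx hL1))
  obtain ⟨a, w, hw, rfl⟩ := Ambient.TS_rep h (by omega) hx.memTS hx.notMemL hgTS
  refine (mem_PK hx.memS).mpr ⟨a, w, ?_, rfl⟩
  have hwx : ⁅w, x⁆ ∈ Zj S n k := by
    have hmem : w * x * w⁻¹ ∈ PK S n x k := by
      have := mul_mem (mul_mem (zpow_mem hxP (-a)) (conj_mem_of_mem_normalizerIn hg hxP)) (zpow_mem hxP a)
      have e : x ^ (-a) * (x ^ a * w * x * (x ^ a * w)⁻¹) * x ^ a = w * x * w⁻¹ := by group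
      rwa [e] at this
    refine PK_inf h hx (by omega) ?_ (Ambient.lcs_anti (by omega) (Ambient.comm_succ hw hx.memS))
    rw [commutatorElement_def]
    exact mul_mem hmem (inv_mem hxP)
  have key : ∀ j, 1 ≤ j → j + k + 2 ≤ n → w ∈ S.lowerCentralSeries j := by
    intro j hj
    induction j, hj using Nat.le_induction with
    | base => exact fun _ => hw
    | succ j hj ih =>
      intro hjk
      by_contra hout
      refine Ambient.step h hj (by omega) hx.memS ?_ (ih (by omega)) hout ?_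
      · exact fun hh => hx1 (Ambient.TS_eq h hj (by omega) ▸ hh)
      · exact Ambient.lcs_anti (by omega) hwx
  rw [Zj, show n - 1 - (k + 1) = n - 2 - k by omega]
  exact key _ (by omega) (by omega)

theorem card_PK' {x : Ω} (hx : IsShift p S n x) {j : ℕ} (hj : j + 2 ≤ n) :
    Nat.card (PK S n x j) = p ^ (j + 1) :=
  card_PK h hx.memS hx.exp (fun hh => hx.notMemL (Ambient.lcs_anti (by omega) hh)) hj

omit hp in
theorem PK_succ_le {x : Ω} (hx : x ∈ S) {k : ℕ} (hk : k + 2 ≤ n) :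
    PK S n x (k + 1) ≤ normalizerIn S (PK S n x k) := by
  intro g hg
  refine mem_normalizerIn_of_forall (PK_le hx k) (PK_le hx _ hg) fun q hq => ?_
  have hmono : PK S n x k ≤ PK S n x (k + 1) := sup_le_sup_left (Zj_mono (by omega)) _
  have h1 := comm_PK h hx (j := k + 1) (by omega) hg (hmono hq)
  rw [show g * q * g⁻¹ = ⁅g, q⁆ * q by rw [commutatorElement_def, inv_mul_cancel_right]]
  exact mul_mem (Subgroup.mem_sup_right (by rwa [Nat.add_sub_cancel] at h1)) hq

theorem normalizer_PK {x : Ω} (hx : IsShift p S n x) (hn : 6 ≤ n) {k : ℕ} (hk : 2 ≤ k) (hk' : k + 3 ≤ n) :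
    normalizerIn S (PK S n x k) = PK S n x (k + 1) :=
  le_antisymm (chain_normalizer h hx hn hk hk') (PK_succ_le h hx.memS (by omega))

variable {F : FusionSystem S} {E : Subgroup Ω}

theorem card_ne (hn : 5 ≤ n) : Nat.card S ≠ p ^ 3 := by
  rw [h.card]; intro he; have := Nat.pow_right_injective hp.out.two_le he; omega

theorem exists_shift (hn : 5 ≤ n) (hs : IsSmallEss p F E) (hZ : Zj S n 2 ≤ E) :
    ∃ x ∈ E, x ∉ Zj S n 2 ∧ IsShift p S n x := by
  have hnle : ¬ E ≤ Zj S n 2 := fun hle => by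
    haveI := finite_of_le (Zj_le (S := S) (n := n) 2)
    have := Subgroup.card_le_of_le hle
    rw [hs.card, card_Zj h (by omega), Nat.pow_le_pow_iff_right hp.out.one_lt] at this
    omega
  obtain ⟨x, hxE, hxZ⟩ := SetLike.not_le_iff_exists.mp hnle
  rcases small_cases h hn hs with ⟨-, hall⟩ | ⟨h6, hE1, hexc, hEL, -, -⟩
  · obtain ⟨a, b, c⟩ := hall x hxE hxZ
    exact ⟨x, hxE, hxZ, a, b, hs.exp x hxE, c⟩
  · exfalso
    obtain ⟨y, hy, hyL⟩ := SetLike.not_le_iff_exists.mp hEL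
    subst h6
    -- `E` lies in the centralizer of the second centre, so `T₁` equals it
    obtain ⟨u, hu, hu'⟩ := Ambient.exists_elt h (k := 3) (by omega) (by omega)
    have hyTS : y ∈ Ambient.TS S 3 := by
      refine Ambient.mem_TS_of_comm h (by omega) (by omega) (hs.le hy) hu hu' ?_
      have hu2 : u ∈ E := hZ hu
      rw [commutatorElement_eq_one_iff_commute.mpr (hs.comm u hu2 y hy)]
      exact one_mem _
    exact hexc fun t ht => by
      obtain ⟨k, w, hw, rfl⟩ := Ambient.TS_rep h (i := 1) (by omega) (hE1 hy) hyL ht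
      exact mul_mem (zpow_mem hyTS k) (Ambient.lcs_one_le_TS _ hw)

theorem eq_PK_two (hn : 5 ≤ n) (hs : IsSmallEss p F E) (hZ : Zj S n 2 ≤ E) {x : Ω} (hxE : x ∈ E)
    (hx : IsShift p S n x) : E = PK S n x 2 := by
  haveI := finite_of_le hs.le
  refine (Subgroup.eq_of_le_of_card_ge (sup_le (Subgroup.zpowers_le.mpr hxE) hZ) ?_).symm
  rw [hs.card]
  exact (card_PK' h hx (by omega)).ge

theorem normalizer_eq (hn : 5 ≤ n) (hs : IsSmallEss p F E) (hZ : Zj S n 2 ≤ E) {x : Ω} (hxE : x ∈ E)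
    (hx : IsShift p S n x) : normalizerIn S E = PK S n x 3 := by
  haveI := finite_of_le (normalizerIn_le (S := S) (P := E))
  refine (Subgroup.eq_of_le_of_card_ge ?_ ?_).symm
  · rw [eq_PK_two h hn hs hZ hxE hx]
    exact PK_succ_le h hx.memS (by omega)
  · rw [hs.card_normalizer h.isPGroup (card_ne h hn), card_PK' h hx (by omega)]

/-- In the order `p ^ 6` case without the second centre. -/
theorem side_data (hs : IsSmallEss p F E) (hn6 : n = 6) (hE1 : E ≤ Ambient.TS S 1)
    (hsup : normalizerIn S E = E ⊔ Zj S n 3) {x : Ω} (hxE : x ∈ E) (hxL : x ∉ S.lowerCentralSeries 1) :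
    normalizerIn S E = PK S n x 3 ∧ normalizerIn S (normalizerIn S E) = Ambient.TS S 1 := by
  have hxS := hs.le hxE
  haveI := finite_of_le (normalizerIn_le (S := S) (P := E))
  have hN : normalizerIn S E = PK S n x 3 := by
    refine (Subgroup.eq_of_le_of_card_ge (sup_le (Subgroup.zpowers_le.mpr (le_normalizerIn hs.le hxE))
      (hsup ▸ le_sup_right)) ?_).symm
    rw [hs.card_normalizer h.isPGroup (card_ne h (by omega))]
    exact (card_PK h hxS (hs.exp x hxE) (fun hh => hxL (Ambient.lcs_anti (by omega) hh)) (by omega)).ge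
  refine ⟨hN, le_antisymm (fun g hg => ?_) fun g hg => ?_⟩
  · by_contra hgT
    have h1 := Ambient.comm_not_mem h le_rfl (by omega) (hE1 hxE) hxL hg.1 hgT
    have hxN : x ∈ normalizerIn S E := le_normalizerIn hs.le hxE
    have hgx : ⁅g, x⁆ ∈ PK S n x 3 := by
      rw [commutatorElement_def, ← hN]
      exact mul_mem (conj_mem_of_mem_normalizerIn hg hxN) (inv_mem hxN)
    obtain ⟨i, v, hv, he⟩ := (mem_PK hxS).mp hgx
    have hL1 : ⁅g, x⁆ ∈ S.lowerCentralSeries 1 :=
      Ambient.comm_succ (i := 0) (by rw [Subgroup.lowerCentralSeries_zero]; exact hg.1) hxS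
    rw [he] at hL1 h1
    have hxi : x ^ i ∈ S.lowerCentralSeries 1 :=
      (Subgroup.mul_mem_cancel_right _ (Ambient.lcs_anti (by omega) hv)).mp hL1
    rw [zpow_eq_one_of_dvd (hs.exp x hxE) ((zpow_mem_iff (hs.exp x hxE) hxL).mp hxi), one_mul] at h1
    exact h1 (Ambient.lcs_anti (by omega) hv)
  · refine mem_normalizerIn_of_forall normalizerIn_le (Ambient.TS_le _ hg) fun q hq => ?_
    have hqS := normalizerIn_le hq
    rw [hN] at hq ⊢
    have hqT : q ∈ Ambient.TS S 1 :=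
      sup_le (Subgroup.zpowers_le.mpr (hE1 hxE))
        ((Ambient.lcs_anti (by omega)).trans (Ambient.lcs_one_le_TS _)) hq
    rw [show g * q * g⁻¹ = ⁅g, q⁆ * q by rw [commutatorElement_def, inv_mul_cancel_right]]
    refine mul_mem (Subgroup.mem_sup_right ?_) hq
    rw [Zj, show n - 1 - 3 = 2 by omega]
    exact Ambient.TS_comm_TS h (by omega) hg hqT

/-- The normalizer of the normalizer has order at most `p ^ 5`. -/
theorem normalizer_normalizer_le (hn : 6 ≤ n) (hs : IsSmallEss p F E) :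
    Nat.card (normalizerIn S (normalizerIn S E)) ≤ p ^ 5 := by
  rcases small_cases h (by omega) hs with ⟨hZ, -⟩ | ⟨h6, hE1, -, hEL, -, hsup⟩
  · obtain ⟨x, hxE, -, hx⟩ := exists_shift h (by omega) hs hZ
    rw [normalizer_eq h (by omega) hs hZ hxE hx, normalizer_PK h hx hn (by omega) (by omega),
      card_PK' h hx (by omega)]
  · obtain ⟨x, hxE, hxL⟩ := SetLike.not_le_iff_exists.mp hEL
    rw [(side_data h hs h6 hE1 hsup hxE hxL).2, card_TS h le_rfl (by omega), h6]

theorem TS_normal_normalized {i : ℕ} (hi1 : 1 ≤ i) (hi : i + 3 ≤ n) :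
    F.IsFullyNormalized (Ambient.TS S i) ∧ normalizerIn S (Ambient.TS S i) = S := by
  have hnorm : normalizerIn S (Ambient.TS S i) = S := by
    refine le_antisymm normalizerIn_le fun g hg =>
      mem_normalizerIn_of_forall (Ambient.TS_le i) hg fun t ht => ?_
    rw [show g * t * g⁻¹ = ⁅g, t⁆ * t by rw [commutatorElement_def, inv_mul_cancel_right]]
    exact mul_mem (Ambient.lcs_one_le_TS i (Ambient.comm_succ (i := 0)
      (by rw [Subgroup.lowerCentralSeries_zero]; exact hg) (Ambient.TS_le i ht))) ht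
  refine ⟨⟨Ambient.TS_le i, fun Q hQ => ?_⟩, hnorm⟩
  rw [hnorm]
  exact Subgroup.card_le_of_le normalizerIn_le

/-- The links of the chain are fully normalized. -/
theorem PK_normalized (hn : 5 ≤ n) (hs : IsSmallEss p F E) (hZ : Zj S n 2 ≤ E) {x : Ω} (hxE : x ∈ E)
    (hx : IsShift p S n x) {k : ℕ} (hk : 2 ≤ k) (hk' : k + 2 ≤ n) : F.IsFullyNormalized (PK S n x k) := by
  rcases Nat.lt_or_ge (k + 2) n with hlt | hge
  swap
  · rw [show k = n - 2 by omega, PK_top h hx hn]
    exact (TS_normal_normalized h (by omega) (by omega)).1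
  rcases Nat.lt_or_ge k 3 with hk2 | hk3
  · rw [show k = 2 by omega, ← eq_PK_two h hn hs hZ hxE hx]
    exact hs.normalized
  have hn6 : 6 ≤ n := by omega
  refine ⟨PK_le hx.memS k, fun R hR => ?_⟩
  obtain ⟨f, hf, rfl⟩ := isConj_iff.mp hR
  rw [normalizer_PK h hx hn6 hk (by omega), card_PK' h hx (by omega)]
  have hN3 := normalizer_eq h hn hs hZ hxE hx
  have h3k : PK S n x 3 ≤ PK S n x k := sup_le_sup_left (Zj_mono hk3) _
  have hER : E ≤ PK S n x 3 := hN3 ▸ le_normalizerIn hs.le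
  have hsmall := hs.img_small h.isPGroup (hf.restrict h3k) hER (card_PK' h hx (by omega)) hN3.ge
  obtain ⟨hs', hle'⟩ := hsmall
  haveI := finite_of_le (normalizerIn_le (S := S) (P := img f E))
  have himg3 : img f (PK S n x 3) = normalizerIn S (img f E) := by
    refine Subgroup.eq_of_le_of_card_ge hle' ?_
    rw [hs'.card_normalizer h.isPGroup (card_ne h hn), hf.card_img h3k, card_PK' h hx (by omega)]
  rcases Nat.lt_or_ge k 4 with hk3' | hk4
  · rw [show k = 3 by omega, himg3]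
    exact normalizer_normalizer_le h hn6 hs'
  rcases small_cases h hn hs' with ⟨hZ', -⟩ | ⟨h6, -⟩
  swap
  · omega
  obtain ⟨x', hxE', -, hx'⟩ := exists_shift h hn hs' hZ'
  have himg : ∀ j, 3 ≤ j → j ≤ k → img f (PK S n x j) = PK S n x' j := by
    intro j hj
    induction j, hj using Nat.le_induction with
    | base => intro _; rw [himg3, normalizer_eq h hn hs' hZ' hxE' hx']
    | succ j hj ih =>
      intro hjk
      have hjk' : PK S n x (j + 1) ≤ PK S n x k := sup_le_sup_left (Zj_mono hjk) _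
      have hjj : PK S n x j ≤ PK S n x (j + 1) := sup_le_sup_left (Zj_mono (by omega)) _
      have hfj := hf.restrict hjk'
      haveI := finite_of_le (PK_le (S := S) (n := n) hx'.memS (j + 1))
      refine Subgroup.eq_of_le_of_card_ge ?_ ?_
      · rw [← normalizer_PK h hx' hn6 (k := j) (by omega) (by omega)]
        refine img_le_of_forall fun z hz =>
          mem_normalizerIn_of_forall (PK_le hx'.memS j) (hfj.mem hz) fun q hq => ?_
        rw [← ih (by omega)] at hq ⊢
        obtain ⟨e, he, rfl⟩ := (hfj.mem_img_iff hjj).mp hq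
        rw [← hfj.map_conj hz (hjj he)]
        exact mem_img_of_mem (conj_mem_of_mem_normalizerIn (PK_succ_le h hx.memS (by omega) hz) he)
      · rw [hf.card_img hjk', card_PK' h hx (by omega), card_PK' h hx' (by omega)]
  rw [himg k hk3 le_rfl, normalizer_PK h hx' hn6 hk (by omega), card_PK' h hx' (by omega)]

omit h hp in
/-- Conjugation by powers of `g` covers a coset. -/
theorem cover_iter {x g : Ω} {K X : Subgroup Ω} (hc : x⁻¹ * (g * x * g⁻¹) ∈ K)
    (hK : ∀ v ∈ K, v⁻¹ * (g * v * g⁻¹) ∈ X) (hX : ∀ u ∈ X, g * u * g⁻¹ ∈ X) :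
    ∀ i : ℕ, ∃ t ∈ X, g ^ i * x * (g ^ i)⁻¹ = x * (x⁻¹ * (g * x * g⁻¹)) ^ i * t := by
  intro i
  induction i with
  | zero => exact ⟨1, one_mem _, by simp⟩
  | succ i ih =>
    obtain ⟨t, ht, he⟩ := ih
    set c := x⁻¹ * (g * x * g⁻¹) with hc'
    refine ⟨(c ^ i)⁻¹ * (g * c ^ i * g⁻¹) * (g * t * g⁻¹), mul_mem (hK _ (pow_mem hc i)) (hX t ht), ?_⟩
    calc g ^ (i + 1) * x * (g ^ (i + 1))⁻¹ = g * (g ^ i * x * (g ^ i)⁻¹) * g⁻¹ := by
          rw [pow_succ']; group
      _ = g * (x * c ^ i * t) * g⁻¹ := by rw [he]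
      _ = x * c * c ^ i * ((c ^ i)⁻¹ * (g * c ^ i * g⁻¹) * (g * t * g⁻¹)) := by rw [hc']; group
      _ = x * c ^ (i + 1) * ((c ^ i)⁻¹ * (g * c ^ i * g⁻¹) * (g * t * g⁻¹)) := by rw [pow_succ']; group

omit hp [Finite S] h in
theorem zpow_coset {x v : Ω} {Y : Subgroup Ω} (hn : x ∈ Subgroup.normalizer (Y : Set Ω)) (hv : v ∈ Y) :
    ∀ j : ℤ, (x ^ j)⁻¹ * (x * v) ^ j ∈ Y := by
  intro j
  induction j using Int.induction_on with
  | zero => simp
  | succ i ih =>
    have e : (x ^ ((i : ℤ) + 1))⁻¹ * (x * v) ^ ((i : ℤ) + 1) =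
        x⁻¹ * ((x ^ (i : ℤ))⁻¹ * (x * v) ^ (i : ℤ)) * x * v := by
      rw [zpow_add_one, zpow_add_one]; group
    rw [e]
    exact mul_mem ((Subgroup.mem_normalizer_iff''.mp hn _).mp ih) hv
  | pred i ih =>
    have e : (x ^ (-(i : ℤ) - 1))⁻¹ * (x * v) ^ (-(i : ℤ) - 1) =
        x * (((x ^ (-(i : ℤ)))⁻¹ * (x * v) ^ (-(i : ℤ))) * v⁻¹) * x⁻¹ := by
      rw [zpow_sub_one, zpow_sub_one]; group
    rw [e]
    exact (Subgroup.mem_normalizer_iff.mp hn _).mp (mul_mem ih (inv_mem hv))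

omit h in
/-- The only normal maximal subgroup above `X` stays where it is. -/
theorem line_invariant {x : Ω} {P X Y : Subgroup Ω} (hxp : x ^ p = 1) (hxS : x ∈ S)
    (hPS : P ≤ S) (hXY : X ≤ Y) (hYP : Y ≤ P) (hYn : ∀ g ∈ S, ∀ v ∈ Y, g * v * g⁻¹ ∈ Y)
    (hP : ∀ q ∈ P, ∃ i : ℤ, ∃ v ∈ Y, q = x ^ i * v) (hfn : F.IsFullyNormalized E)
    (hlt : Nat.card (normalizerIn S E) < Nat.card S) (hE : E = Subgroup.zpowers x ⊔ X)
    (hcardEY : Nat.card E = Nat.card Y)
    (hcov : ∀ v ∈ Y, ∃ g ∈ S, (∀ u ∈ X, g * u * g⁻¹ ∈ X) ∧ (x * v)⁻¹ * (g * x * g⁻¹) ∈ X)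
    {α : MulAut P} (hα : α ∈ F.autGroup P) (hX : ∀ u ∈ X, autFun α u ∈ X) :
    ∀ u ∈ Y, autFun α u ∈ Y := by
  by_contra hnot
  push Not at hnot
  obtain ⟨u₀, hu₀, hout⟩ := hnot
  haveI := finite_of_le (hYP.trans hPS)
  haveI := finite_of_le (hXY.trans (hYP.trans hPS))
  have hmap := mapTo_of_mem_autGroup hPS hα
  have hxn : x ∈ Subgroup.normalizer (Y : Set Ω) := mem_normalizer_of_forall fun v hv => hYn x hxS v hv
  obtain ⟨i, v, hv, he⟩ := hP _ (autFun_mem α (hYP hu₀))
  have hpi : ¬ (p : ℤ) ∣ i := fun hdvd => hout (by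
    rw [he, zpow_eq_one_of_dvd hxp hdvd, one_mul]; exact hv)
  obtain ⟨j, hj⟩ := exists_zpow_self hxp hpi
  have hcos : (x ^ (i * j))⁻¹ * (x ^ i * v) ^ j ∈ Y := by
    have h2 := zpow_coset (zpow_mem hxn i) hv j
    rwa [← zpow_mul] at h2
  rw [hj] at hcos
  obtain ⟨g, hgS, hgX, hgx⟩ := hcov _ hcos
  rw [mul_inv_cancel_left] at hgx
  have himgX : img (autFun α) X = X := by
    refine Subgroup.eq_of_le_of_card_ge (img_le_of_forall hX) ?_
    rw [hmap.card_img (hXY.trans hYP)]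
  set Y' := img (autFun α) Y with hY'
  have hXY' : X ≤ Y' := himgX ▸ img_mono hXY
  have hgxY' : g * x * g⁻¹ ∈ Y' := by
    have h1 : (x ^ i * v) ^ j ∈ Y' := zpow_mem (he ▸ mem_img_of_mem hu₀) j
    have := mul_mem h1 (hXY' hgx)
    rwa [mul_inv_cancel_left] at this
  have hEY : ∀ e ∈ E, g * e * g⁻¹ ∈ Y' := by
    have hle : E ≤ Y'.comap (MulAut.conj g).toMonoidHom := by
      rw [hE]
      exact sup_le (Subgroup.zpowers_le.mpr hgxY') fun u hu => hXY' (hgX u hu)
    exact fun e he => hle he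
  have hES := hfn.1
  have hcj := mapTo_cj (F := F) hES hgS
  haveI : Finite Y' := finite_of_le ((hmap.restrict hYP).img_le)
  have himg : img (cj g) E = Y' := by
    refine Subgroup.eq_of_le_of_card_ge (img_le_of_forall hEY) ?_
    rw [hcj.card_img le_rfl, hY', hmap.card_img hYP, hcardEY]
  have hconj : F.IsConj E Y :=
    isConj_trans (isConj_iff.mpr ⟨_, hcj, himg⟩) (isConj_symm (hmap.restrict hYP).isConj)
  have hNY : normalizerIn S Y = S := le_antisymm normalizerIn_le fun g hg =>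
    mem_normalizerIn_of_forall (hYP.trans hPS) hg fun v hv => hYn g hg v hv
  have := hfn.2 Y hconj
  rw [hNY] at this
  omega

/-- An automorphism preserves the second centre. -/
theorem center_invariant (hn : 5 ≤ n) (hs : IsSmallEss p F E) (hZ : Zj S n 2 ≤ E) {x : Ω} (hxE : x ∈ E)
    (hx : IsShift p S n x) {k : ℕ} (hk : 3 ≤ k) (hk' : k + 2 ≤ n) {α : MulAut (PK S n x k)}
    (hα : α ∈ F.autGroup (PK S n x k)) : ∀ v ∈ Zj S n 2, autFun α v ∈ Zj S n 2 := by
  intro v hv
  have hPS := PK_le (S := S) (n := n) hx.memS k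
  have hmap := mapTo_of_mem_autGroup hPS hα
  have hvP : v ∈ PK S n x k := Subgroup.mem_sup_right (Zj_mono (by omega) hv)
  have hcomm : ∀ q ∈ PK S n x k, Commute (autFun α v) q := by
    intro q hq
    have hq' := autFun_mem α⁻¹ hq
    have hc : Commute v (autFun α⁻¹ q) := commute_Zj_two h hv (PK_le_TS h hx hk' hq')
    have h1 := congrArg (autFun α) hc.eq
    rwa [hmap.map_mul hvP hq', hmap.map_mul hq' hvP, autFun_autFun_inv α hq] at h1
  have hxP : x ∈ PK S n x k := Subgroup.mem_sup_left (Subgroup.mem_zpowers x)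
  have hEPK : E ≤ PK S n x k := by
    rw [eq_PK_two h hn hs hZ hxE hx]; exact sup_le_sup_left (Zj_mono (by omega)) _
  have hvE : autFun α v ∈ E :=
    hs.mem_of_comm (hmap.mem hvP) fun y hy => (hcomm y (hEPK hy)).symm
  rw [eq_PK_two h hn hs hZ hxE hx] at hvE
  obtain ⟨i, w, hw, he⟩ := (mem_PK hx.memS).mp hvE
  obtain ⟨y, hy, hy'⟩ := Ambient.exists_elt h (k := n - 4) (by omega) (by omega)
  have hyZ : y ∈ Zj S n 3 := by rwa [Zj, show n - 1 - 3 = n - 4 by omega]
  have hwy : Commute w y := commute_Zj_two h hw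
    (Ambient.lcs_one_le_TS _ (Ambient.lcs_anti (by omega) hy))
  have hc := hcomm y (Subgroup.mem_sup_right (Zj_mono hk hyZ))
  rw [he] at hc ⊢
  have hxi : Commute (x ^ i) y := by
    have := hc.mul_left hwy.inv_left
    rwa [mul_inv_cancel_right] at this
  by_cases hdvd : (p : ℤ) ∣ i
  · rw [zpow_eq_one_of_dvd hx.exp hdvd, one_mul]; exact hw
  exfalso
  obtain ⟨j, hj⟩ := exists_zpow_self hx.exp hdvd
  have hxy : Commute x y := by
    have h3 := hxi.zpow_left j
    rwa [← zpow_mul, hj] at h3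
  have hyE : y ∈ E := hs.mem_of_comm (Zj_le 3 hyZ) fun z hz => by
    rw [eq_PK_two h hn hs hZ hxE hx] at hz
    obtain ⟨a, t, ht, rfl⟩ := (mem_PK hx.memS).mp hz
    exact (hxy.zpow_left a).mul_left (commute_Zj_two h ht (Ambient.lcs_one_le_TS _ (Ambient.lcs_anti (by omega) hy)))
  rw [eq_PK_two h hn hs hZ hxE hx] at hyE
  refine hy' ?_
  have := PK_inf h hx (by omega) hyE (Ambient.lcs_anti (by omega) hy)
  rwa [Zj, show n - 1 - 2 = n - 4 + 1 by omega] at this

/-- An element moving `x` onto the top layer of `Z_k`. -/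
theorem exists_mover {x : Ω} (hx : IsShift p S n x) {k : ℕ} (hk : 3 ≤ k) (hk' : k + 2 ≤ n) :
    ∃ g ∈ S, x⁻¹ * (g * x * g⁻¹) ∈ Zj S n k ∧ x⁻¹ * (g * x * g⁻¹) ∉ Zj S n (k - 1) := by
  have hn : 5 ≤ n := by omega
  have hkey : ∃ g ∈ S, ⁅g, x⁆ ∈ Zj S n k ∧ ⁅g, x⁆ ∉ Zj S n (k - 1) := by
    rcases Nat.lt_or_ge (k + 2) n with hlt | hge
    · have hx1 : x ∉ Ambient.TS S 1 := (hx.shift.resolve_left (by omega)).2
      obtain ⟨g, hg, hg'⟩ := Ambient.exists_elt h (k := n - 2 - k) (by omega) (by omega)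
      refine ⟨g, Ambient.lcs_le _ hg, ?_, ?_⟩
      · rw [Zj, show n - 1 - k = n - 2 - k + 1 by omega]
        exact Ambient.comm_succ hg hx.memS
      · rw [Zj, show n - 1 - (k - 1) = n - 2 - k + 2 by omega]
        exact Ambient.step h (by omega) (by omega) hx.memS
          (fun hh => hx1 (Ambient.TS_eq h (i := n - 2 - k) (by omega) (by omega) ▸ hh)) hg hg'
    · obtain ⟨g, hgS, hg⟩ := Ambient.TS_ne_top h (i := n - 3) (by omega)
      refine ⟨g, hgS, ?_, ?_⟩
      · rw [Zj, show n - 1 - k = 1 by omega]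
        exact Ambient.comm_succ (i := 0) (by rw [Subgroup.lowerCentralSeries_zero]; exact hgS) hx.memS
      · rw [Zj, show n - 1 - (k - 1) = 2 by omega]
        exact Ambient.comm_not_mem h (by omega) (by omega) hx.memTS hx.notMemL hgS hg
  obtain ⟨g, hgS, hc, hc'⟩ := hkey
  have hxS := hx.memS
  have e : x⁻¹ * (g * x * g⁻¹) = x⁻¹ * ⁅g, x⁆ * x := by rw [commutatorElement_def]; group
  refine ⟨g, hgS, ?_, fun hh => hc' ?_⟩
  · rw [e]
    have := Ambient.lcs_conj hc (inv_mem hxS)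
    rwa [inv_inv] at this
  · rw [e] at hh
    have h4 : x * (x⁻¹ * ⁅g, x⁆ * x) * x⁻¹ = ⁅g, x⁆ := by group
    rw [← h4]
    exact Ambient.lcs_conj hh hxS

theorem zpow_natCast_mod {j : ℕ} (hj : 1 ≤ j) (hj' : j + 2 ≤ n) {u v : Ω} (hu : u ∈ S.lowerCentralSeries j)
    (hu' : u ∉ S.lowerCentralSeries (j + 1)) (hv : v ∈ S.lowerCentralSeries j) :
    ∃ m : ℕ, (u ^ m)⁻¹ * v ∈ S.lowerCentralSeries (j + 1) := by
  obtain ⟨a, w, hw, rfl⟩ := Ambient.split h hj (by omega) hu hu' hv
  have hp0 : (0 : ℤ) < p := by exact_mod_cast hp.out.pos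
  refine ⟨(a % p).toNat, ?_⟩
  have e : (u ^ (a % p).toNat)⁻¹ * (u ^ a * w) = (u ^ p) ^ (a / p) * w := by
    rw [← zpow_natCast, Int.toNat_of_nonneg (Int.emod_nonneg a hp0.ne')]
    conv_lhs => rw [← mul_assoc, ← zpow_neg, ← zpow_add]
    rw [← zpow_natCast u p, ← zpow_mul]
    congr 2
    have := Int.emod_add_mul_ediv a p
    linarith
  rw [e]
  exact mul_mem (zpow_mem (Ambient.pow_mem_succ h hj hj' hu) _) hw

theorem cover_chain {x : Ω} (hx : IsShift p S n x) {k : ℕ} (hk : 3 ≤ k) (hk' : k + 2 ≤ n) :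
    ∀ v ∈ Zj S n k, ∃ g ∈ S, (∀ u ∈ Zj S n (k - 1), g * u * g⁻¹ ∈ Zj S n (k - 1)) ∧
      (x * v)⁻¹ * (g * x * g⁻¹) ∈ Zj S n (k - 1) := by
  intro v hv
  obtain ⟨g, hgS, hc, hc'⟩ := exists_mover h hx hk hk'
  have hiter := cover_iter (K := Zj S n k) (X := Zj S n (k - 1)) hc
    (fun w hw => by
      rw [show w⁻¹ * (g * w * g⁻¹) = w⁻¹ * ⁅g, w⁆ * w⁻¹⁻¹ by rw [commutatorElement_def]; group]
      exact Ambient.lcs_conj (Ambient.lcs_anti (by omega) (Ambient.comm_succ' hw hgS)) (inv_mem (Zj_le k hw)))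
    (fun u hu => Ambient.lcs_conj hu hgS)
  have hidx : n - 1 - (k - 1) = n - 1 - k + 1 := by omega
  obtain ⟨m, hm⟩ := zpow_natCast_mod h (j := n - 1 - k) (by omega) (by omega) hc
    (by rw [Zj, hidx] at hc'; exact hc') hv
  obtain ⟨t, ht, he⟩ := hiter m
  refine ⟨g ^ m, pow_mem hgS m, fun u hu => Ambient.lcs_conj hu (pow_mem hgS m), ?_⟩
  rw [he, show (x * v)⁻¹ * (x * (x⁻¹ * (g * x * g⁻¹)) ^ m * t) =
    (((x⁻¹ * (g * x * g⁻¹)) ^ m)⁻¹ * v)⁻¹ * t by group]
  refine mul_mem (inv_mem ?_) ht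
  rw [Zj, hidx]
  exact hm

/-- Every automorphism of a link preserves the upper central series below it. -/
theorem Zj_invariant (hn : 5 ≤ n) (hs : IsSmallEss p F E) (hZ : Zj S n 2 ≤ E) {x : Ω} (hxE : x ∈ E)
    (hx : IsShift p S n x) {k : ℕ} (hk : 3 ≤ k) (hk' : k + 2 ≤ n) {α : MulAut (PK S n x k)}
    (hα : α ∈ F.autGroup (PK S n x k)) :
    ∀ i, 2 ≤ i → i ≤ k → ∀ v ∈ Zj S n i, autFun α v ∈ Zj S n i := by
  have hPS := PK_le (S := S) (n := n) hx.memS k
  have hmap := mapTo_of_mem_autGroup hPS hα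
  have hxP : x ∈ PK S n x k := Subgroup.mem_sup_left (Subgroup.mem_zpowers x)
  have hsub : ∀ i, i ≤ k → Zj S n i ≤ PK S n x k := fun i hi => (Zj_mono hi).trans le_sup_right
  -- downwards, from the commutators
  have hlow : ∀ d, ∀ i, 3 ≤ i → i + d + 1 = k → ∀ v ∈ Zj S n i, autFun α v ∈ Zj S n i := by
    intro d
    induction d with
    | zero =>
      intro i hi hik
      have himg : ∀ u ∈ PK S n x k, ⁅autFun α u, autFun α x⁆ ∈ Zj S n i := fun u hu => by
        have := comm_PK h hx.memS (j := k) (by omega) (autFun_mem α hu) (autFun_mem α hxP)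
        rwa [show k - 1 = i by omega] at this
      have step' : ∀ j, 2 ≤ j → j ≤ i → ∀ v ∈ Zj S n j, autFun α v ∈ Zj S n i := by
        intro j hj
        induction j, hj using Nat.le_induction with
        | base => exact fun _ v hv => Zj_mono (by omega) (center_invariant h hn hs hZ hxE hx hk hk' hα v hv)
        | succ j hj ih =>
          intro hji v hv
          have hx1 : x ∉ Ambient.TS S 1 := (hx.shift.resolve_left (by omega)).2
          obtain ⟨h0, hh0, hh0'⟩ := Ambient.exists_elt h (k := n - 3 - j) (by omega) (by omega)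
          have hh0P : h0 ∈ PK S n x k := hsub (j + 2) (by omega) (by rwa [Zj, show n - 1 - (j + 2) = n - 3 - j by omega])
          have hu : ⁅h0, x⁆ ∈ S.lowerCentralSeries (n - 2 - j) := by
            rw [show n - 2 - j = n - 3 - j + 1 by omega]; exact Ambient.comm_succ hh0 hx.memS
          have hu' : ⁅h0, x⁆ ∉ S.lowerCentralSeries (n - 2 - j + 1) := by
            rw [show n - 2 - j + 1 = n - 3 - j + 2 by omega]
            exact Ambient.step h (by omega) (by omega) hx.memS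
              (fun hh => hx1 (Ambient.TS_eq h (i := n - 3 - j) (by omega) (by omega) ▸ hh)) hh0 hh0'
          obtain ⟨a, w, hw, rfl⟩ := Ambient.split h (g := v) (i := n - 2 - j) (by omega) (by omega) hu hu'
            (by rwa [Zj, show n - 1 - (j + 1) = n - 2 - j by omega] at hv)
          have huP : ⁅h0, x⁆ ∈ PK S n x k :=
            hsub (j + 1) (by omega) (by rwa [Zj, show n - 1 - (j + 1) = n - 2 - j by omega])
          have hwZ : w ∈ Zj S n j := by rwa [Zj, show n - 1 - j = n - 2 - j + 1 by omega]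
          rw [hmap.map_mul (zpow_mem huP a) (hsub j (by omega) hwZ), mapTo_map_zpow hmap huP]
          refine mul_mem (zpow_mem ?_ a) (ih (by omega) w hwZ)
          rw [mapTo_map_comm hmap hh0P hxP]
          exact himg h0 hh0P
      exact step' i (by omega) le_rfl
    | succ d ihd =>
      intro i hi hik
      have hprev := ihd (i + 1) (by omega) (by omega)
      have himg : ∀ u ∈ Zj S n (i + 1), ⁅autFun α u, autFun α x⁆ ∈ Zj S n i := fun u hu => by
        have := Ambient.comm_succ (hprev u hu) (hPS (autFun_mem α hxP))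
        exact Ambient.lcs_anti (by omega) this
      intro v hv
      suffices step' : ∀ j, 2 ≤ j → j ≤ i → ∀ v ∈ Zj S n j, autFun α v ∈ Zj S n i from
        step' i (by omega) le_rfl v hv
      intro j hj
      induction j, hj using Nat.le_induction with
      | base => exact fun _ v hv => Zj_mono (by omega) (center_invariant h hn hs hZ hxE hx hk hk' hα v hv)
      | succ j hj ih =>
        intro hji v hv
        have hx1 : x ∉ Ambient.TS S 1 := (hx.shift.resolve_left (by omega)).2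
        obtain ⟨h0, hh0, hh0'⟩ := Ambient.exists_elt h (k := n - 3 - j) (by omega) (by omega)
        have hh0Z : h0 ∈ Zj S n (i + 1) :=
          Zj_mono (show j + 2 ≤ i + 1 by omega) (by rwa [Zj, show n - 1 - (j + 2) = n - 3 - j by omega])
        have hu : ⁅h0, x⁆ ∈ S.lowerCentralSeries (n - 2 - j) := by
          rw [show n - 2 - j = n - 3 - j + 1 by omega]; exact Ambient.comm_succ hh0 hx.memS
        have hu' : ⁅h0, x⁆ ∉ S.lowerCentralSeries (n - 2 - j + 1) := by
          rw [show n - 2 - j + 1 = n - 3 - j + 2 by omega]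
          exact Ambient.step h (by omega) (by omega) hx.memS
            (fun hh => hx1 (Ambient.TS_eq h (i := n - 3 - j) (by omega) (by omega) ▸ hh)) hh0 hh0'
        obtain ⟨a, w, hw, rfl⟩ := Ambient.split h (g := v) (i := n - 2 - j) (by omega) (by omega) hu hu'
          (by rwa [Zj, show n - 1 - (j + 1) = n - 2 - j by omega] at hv)
        have huP : ⁅h0, x⁆ ∈ PK S n x k :=
          hsub (j + 1) (by omega) (by rwa [Zj, show n - 1 - (j + 1) = n - 2 - j by omega])
        have hwZ : w ∈ Zj S n j := by rwa [Zj, show n - 1 - j = n - 2 - j + 1 by omega]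
        rw [hmap.map_mul (zpow_mem huP a) (hsub j (by omega) hwZ), mapTo_map_zpow hmap huP]
        refine mul_mem (zpow_mem ?_ a) (ih (by omega) w hwZ)
        rw [mapTo_map_comm hmap (hsub (i + 1) (by omega) hh0Z) hxP]
        exact himg h0 hh0Z
  intro i hi hik
  rcases Nat.lt_or_ge i k with hlt | hge
  · rcases Nat.lt_or_ge i 3 with h2 | h3
    · rw [show i = 2 by omega]
      exact center_invariant h hn hs hZ hxE hx hk hk' hα
    · exact hlow (k - i - 1) i h3 (by omega)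
  obtain rfl : i = k := by omega
  have hX : ∀ u ∈ Zj S n (i - 1), autFun α u ∈ Zj S n (i - 1) := by
    rcases Nat.lt_or_ge i 4 with h3 | h4
    · rw [show i - 1 = 2 by omega]
      exact center_invariant h hn hs hZ hxE hx hk hk' hα
    · exact hlow 0 (i - 1) (by omega) (by omega)
  refine line_invariant (E := PK S n x (i - 1)) hx.exp hx.memS hPS (Zj_mono (by omega)) le_sup_right
    (fun g hg v hv => Ambient.lcs_conj hv hg) (fun q hq => (mem_PK hx.memS).mp hq)
    (PK_normalized h hn hs hZ hxE hx (by omega) (by omega)) ?_ rfl ?_ (cover_chain h hx hk hk') hα hX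
  · rcases Nat.lt_or_ge n 6 with h5 | h6
    · rw [show i - 1 = 2 by omega, ← eq_PK_two h hn hs hZ hxE hx,
        hs.card_normalizer h.isPGroup (card_ne h hn), h.card]
      exact Nat.pow_lt_pow_right hp.out.one_lt (by omega)
    · rw [normalizer_PK h hx h6 (k := i - 1) (by omega) (by omega), card_PK' h hx (by omega), h.card]
      exact Nat.pow_lt_pow_right hp.out.one_lt (by omega)
  · rw [card_PK' h hx (by omega), card_Zj h (by omega)]
    congr 1; omega

end Cfsg.Agent.Fusion.MaxSmall
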