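import Cfsg.Agent.Lib.Fusion.MaxClassSmallRegular

/-!
No small subgroup contains the second centre.
-/

set_option autoImplicit false
set_option linter.style.haveILetI false

namespace Cfsg.Agent.Fusion.MaxSmall

open Cfsg.FusionSystem (centralizerIn normalizerIn)
open Cfsg.Agent.FGB.MaxClass
open scoped commutatorElement

universe u

variable {p : ℕ} [hp : Fact p.Prime] {Ω : Type u} [Group Ω] {S : Subgroup Ω} [Finite S] {n : ℕ}
  (h : IsMax p n S) {F : FusionSystem S} {E : Subgroup Ω}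

include h

/-- The case of order `p ^ 5`. -/
theorem false_five (h5 : n = 5) (htwo : ¬ (p : ℤ) ∣ 2) (hF : F.IsSaturated p) (hs : IsSmallEss p F E)
    (hZ : Zj S n 2 ≤ E) {x : Ω} (hxE : x ∈ E) (hx : IsShift p S n x) {y : Ω}
    (hy : y ∈ S.lowerCentralSeries (n - 4)) (hy' : y ∉ S.lowerCentralSeries (n - 3))
    (hd : ⁅y, x⁆ ∈ Zj S n 2) (hd1 : ⁅y, x⁆ ≠ 1) (hdp : ⁅y, x⁆ ^ p = 1) {w₀ : Ω} (hw₀ : w₀ ∈ Zj S n 2)
    (hw₀d : w₀ ∉ Subgroup.zpowers ⁅y, x⁆) {f f₀ : Ω → Ω} (hf : MapTo F (PK S n x (n - 2)) f)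
    (hfmem : ∀ q ∈ PK S n x (n - 2), f q ∈ PK S n x (n - 2)) (hf0 : ∀ q ∈ PK S n x 3, f q = f₀ q)
    (hfx : f₀ x = x ^ (-1 : ℤ))
    (hfsplit : ∀ a b : ℤ, f (⁅y, x⁆ ^ a * w₀ ^ b) = ⁅y, x⁆ ^ (-a) * w₀ ^ b)
    (hsgn : ∀ j, 3 ≤ j → j ≤ n - 2 → ∀ v ∈ Zj S n j,
      Ambient.chi S (n - j) (f v) = Ambient.chi S (n - j) v ^ eps j)
    (hfy' : y⁻¹ * f y ∈ S.lowerCentralSeries (n - 3)) : False := by
  subst h5
  set d := ⁅y, x⁆
  have hyZ : y ∈ Zj S 5 3 := hy
  have hyS := Ambient.lcs_le _ hy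
  have hT12 : Ambient.TS S 2 = Ambient.TS S 1 := by
    simpa using Ambient.TS_top_odd h (le_refl 5) (by norm_num)
  have hxT : x ∈ Ambient.TS S 1 := hT12 ▸ hx.memTS
  have hPtop : PK S 5 x 3 = Ambient.TS S 2 := PK_top h hx le_rfl
  set P := PK S 5 x 3 with hP
  have hPS := PK_le (S := S) (n := 5) hx.memS 3
  haveI := finite_of_le hPS
  have himg := img_eq_self_of_forall hf hfmem
  have hd3' : d ∈ S.lowerCentralSeries 3 := Ambient.TS_comm hxT hy
  have hL3 : ∀ v ∈ S.lowerCentralSeries 3, ∃ a : ℤ, v = d ^ a := by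
    intro v hv
    obtain ⟨a, t, ht, rfl⟩ := Ambient.split h (g := v) (i := 3) (by omega) (by omega) hd3'
      (fun hh => hd1 (Ambient.eq_one h (by omega) hh)) hv
    exact ⟨a, by rw [Ambient.eq_one h (i := 4) (by omega) ht, mul_one]⟩
  let c : Fin 5 → Subgroup Ω :=
    ![⊥, S.lowerCentralSeries 3, S.lowerCentralSeries 2, S.lowerCentralSeries 1, P]
  have hcle : ∀ i, c i ≤ P := by
    intro i
    fin_cases i
    · exact bot_le
    · exact (Ambient.lcs_anti (by omega)).trans le_sup_right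
    · exact (Ambient.lcs_anti (by omega)).trans le_sup_right
    · exact (le_sup_right : Zj S 5 3 ≤ P)
    · exact le_rfl
  have hcinv : ∀ α ∈ F.autGroup P, ∀ i, ∀ z ∈ c i, autFun α z ∈ c i := by
    intro α hα i z hz
    have hm := mapTo_of_mem_autGroup hPS hα
    have hZ2inv := Zj_invariant h le_rfl hs hZ hxE hx (k := 3) le_rfl (by omega) hα 2 le_rfl (by omega)
    have hZ3inv := Zj_invariant h le_rfl hs hZ hxE hx (k := 3) le_rfl (by omega) hα 3 (by omega) le_rfl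
    fin_cases i
    · rw [Subgroup.mem_bot.mp hz, hm.map_one]; exact one_mem _
    · obtain ⟨a, rfl⟩ := hL3 z hz
      rw [mapTo_map_zpow hm (hcle 1 hd3')]
      refine zpow_mem ?_ a
      have hyP3 : y ∈ P := Subgroup.mem_sup_right hyZ
      have hxP3 : x ∈ P := Subgroup.mem_sup_left (Subgroup.mem_zpowers x)
      show autFun α ⁅y, x⁆ ∈ S.lowerCentralSeries 3
      rw [mapTo_map_comm hm hyP3 hxP3]
      exact Ambient.TS_comm (i := 1) (hT12 ▸ hPtop ▸ autFun_mem α hxP3) (hZ3inv y hyZ)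
    · exact hZ2inv z hz
    · exact hZ3inv z hz
    · exact autFun_mem α hz
  have hN : normalizerIn S P = S := hPtop ▸ (TS_normal_normalized h (F := F) (i := 2) (by omega) (by omega)).2
  have hccen : ∀ g ∈ normalizerIn S P, ∀ i : Fin 4, ∀ z ∈ c i.succ, z⁻¹ * (g * z * g⁻¹) ∈ c i.castSucc := by
    intro g hg i z hz
    have hzS : z ∈ S := (hcle _).trans hPS hz
    have e : z⁻¹ * (g * z * g⁻¹) = z⁻¹ * ⁅g, z⁆ * z⁻¹⁻¹ := by rw [commutatorElement_def]; group
    rw [e]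
    fin_cases i
    · have h1 : ⁅g, z⁆ = 1 := Ambient.eq_one h (i := 4) (by omega) (Ambient.comm_succ' hz hg.1)
      rw [h1, mul_one, inv_inv, inv_mul_cancel]
      exact one_mem _
    · exact Ambient.lcs_conj (Ambient.comm_succ' hz hg.1) (inv_mem hzS)
    · exact Ambient.lcs_conj (Ambient.comm_succ' hz hg.1) (inv_mem hzS)
    · exact Ambient.lcs_conj (Ambient.comm_succ (i := 0)
        (by rw [Subgroup.lowerCentralSeries_zero]; exact hg.1) hzS) (inv_mem hzS)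
  obtain ⟨g, hg, hgf, -⟩ := exists_extension_series h.isPGroup hF
    (PK_normalized h le_rfl hs hZ hxE hx (k := 3) (by omega) (by omega)) c rfl rfl hcle hcinv hccen
    (autOf_mem hf himg)
  rw [hN] at hg
  have hgf' : ∀ q ∈ P, g q = f q := fun q hq => by rw [hgf q hq, autFun_autOf hf himg hq]
  obtain ⟨s, hsS, hs1⟩ := Ambient.TS_ne_top h (i := 1) (by omega)
  have hxS := hx.memS
  have hxP3 : x ∈ P := Subgroup.mem_sup_left (Subgroup.mem_zpowers x)
  obtain ⟨a, ha⟩ := Ambient.exists_split h le_rfl (by omega) hsS hs1 (hg.mem hsS)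
  set t := g s * (s ^ a)⁻¹
  have hgs : g s = t * s ^ a := (inv_mul_cancel_right _ _).symm
  have htS := Ambient.TS_le 1 ha
  -- on the first layer
  set u := ⁅s, x⁆
  have hu : u ∈ S.lowerCentralSeries 1 :=
    Ambient.comm_succ (i := 0) (by rw [Subgroup.lowerCentralSeries_zero]; exact hsS) hxS
  have hu' : u ∉ S.lowerCentralSeries 2 := Ambient.comm_not_mem h le_rfl (by omega) hxT hx.notMemL hsS hs1
  have h2 : Ambient.chi S 2 (g u) = Ambient.chi S 2 u := by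
    rw [hgf' u (Subgroup.mem_sup_right hu)]
    have := hsgn 3 le_rfl le_rfl u hu
    rwa [show eps 3 = 1 by norm_num [eps], zpow_one] at this
  have hgx : g x = x ^ (-1 : ℤ) := by rw [hgf' x hxP3, hf0 x hxP3, hfx]
  have hsx : ⁅s ^ a, x ^ (-1 : ℤ)⁆ ∈ S.lowerCentralSeries 1 :=
    Ambient.comm_succ (i := 0) (by rw [Subgroup.lowerCentralSeries_zero]; exact zpow_mem hsS a) (zpow_mem hxS _)
  rw [mapTo_map_comm hg hsS hxS, hgs, hgx] at h2
  have e1 : Ambient.chi S 2 ⁅t * s ^ a, x ^ (-1 : ℤ)⁆ = Ambient.chi S 2 u ^ (a * (-1)) := by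
    have h4 := Ambient.chi_comm (S := S) (i := 0) (h := s) (r := 1)
      (by rw [Subgroup.lowerCentralSeries_zero]; exact hsS) (one_mem _) hxS a (-1)
    rw [mul_one] at h4
    rw [← h4]
    set q := ⁅s ^ a, x ^ (-1 : ℤ)⁆ with hq
    have e : ⁅t * s ^ a, x ^ (-1 : ℤ)⁆ = ⁅t, q⁆ * q * ⁅t, x ^ (-1 : ℤ)⁆ := by
      rw [hq]; simp only [commutatorElement_def]; group
    have hA : ⁅t, q⁆ ∈ S.lowerCentralSeries 2 := Ambient.comm_succ' hsx htS
    have hB : ⁅t, x ^ (-1 : ℤ)⁆ ∈ S.lowerCentralSeries 2 :=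
      Ambient.TS_comm_TS h (by omega) ha (zpow_mem hxT _)
    have hAS := Ambient.lcs_le _ hA
    have hqS := Ambient.lcs_le _ hsx
    rw [e, Ambient.chi_mul (mul_mem hAS hqS) (Ambient.lcs_le _ hB), Ambient.chi_mul hAS hqS,
      (Ambient.chi_eq_one_iff hAS).mpr hA, (Ambient.chi_eq_one_iff (Ambient.lcs_le _ hB)).mpr hB, one_mul,
      mul_one]
  rw [e1] at h2
  obtain ⟨b1, hb1⟩ := dvd_of_zpow_eq (g := Ambient.chi S 2 u) (a := a * (-1)) (b := 1)
    (chi_pow_p h (i := 1) le_rfl (by omega) hu)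
    (fun h1 => hu' ((Ambient.chi_eq_one_iff (Ambient.lcs_le _ hu)).mp h1)) (by rw [zpow_one]; exact h2)
  -- on the second centre
  set e := ⁅y, s⁆
  have he : e ∈ S.lowerCentralSeries 2 := Ambient.comm_succ hy hsS
  have he' : e ∉ S.lowerCentralSeries 3 := Ambient.step h le_rfl (by omega) hsS hs1 hy hy'
  have hfe : Ambient.chi S 3 (f e) = Ambient.chi S 3 e := by
    obtain ⟨α, β, heq⟩ := span_two h le_rfl hd hdp hd1 hw₀ hw₀d (v := e) he
    have hdS := Ambient.lcs_le 3 hd3'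
    have hwS := Zj_le 2 hw₀
    rw [heq, hfsplit, Ambient.chi_mul (zpow_mem hdS _) (zpow_mem hwS _),
      Ambient.chi_mul (zpow_mem hdS _) (zpow_mem hwS _), Ambient.chi_zpow hdS, Ambient.chi_zpow hdS,
      (Ambient.chi_eq_one_iff hdS).mpr hd3', one_zpow, one_zpow]
  set r := y⁻¹ * f y with hr
  have hfyeq : g y = y * r := by rw [hgf' y (Subgroup.mem_sup_right hyZ), hr, mul_inv_cancel_left]
  have hrS := Ambient.lcs_le _ hfy'
  have h3 : Ambient.chi S 3 (g e) = Ambient.chi S 3 e := by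
    rw [hgf' e (Subgroup.mem_sup_right (Zj_mono (show 2 ≤ 3 by omega) he)), hfe]
  rw [mapTo_map_comm hg hyS hsS, hfyeq, hgs] at h3
  have hyr : y * r ∈ S.lowerCentralSeries 1 := mul_mem hy (Ambient.lcs_anti (by omega) hfy')
  set q := ⁅y * r, s ^ a⁆ with hq
  have hq2 : q ∈ S.lowerCentralSeries 2 := Ambient.comm_succ hyr (zpow_mem hsS a)
  have e2 : ⁅y * r, t * s ^ a⁆ = ⁅y * r, t⁆ * (⁅t, q⁆ * q) := by
    rw [hq]; simp only [commutatorElement_def]; group
  have hA : ⁅y * r, t⁆ ∈ S.lowerCentralSeries 3 := Ambient.TS_comm ha hyr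
  have hB : ⁅t, q⁆ ∈ S.lowerCentralSeries 3 := Ambient.comm_succ' hq2 htS
  have hqS := Ambient.lcs_le _ hq2
  rw [e2, Ambient.chi_mul (Ambient.lcs_le _ hA) (mul_mem (Ambient.lcs_le _ hB) hqS),
    Ambient.chi_mul (Ambient.lcs_le _ hB) hqS, (Ambient.chi_eq_one_iff (Ambient.lcs_le _ hA)).mpr hA,
    (Ambient.chi_eq_one_iff (Ambient.lcs_le _ hB)).mpr hB, one_mul, one_mul, hq] at h3
  have h4 := Ambient.chi_comm (S := S) (i := 1) (h := y) (r := r) hy hfy' hsS 1 a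
  rw [zpow_one, one_mul] at h4
  rw [h4] at h3
  obtain ⟨b2, hb2⟩ := dvd_of_zpow_eq (g := Ambient.chi S 3 e) (a := a) (b := 1)
    (chi_pow_p h (i := 2) (by omega) (by omega) he)
    (fun h1 => he' ((Ambient.chi_eq_one_iff (Ambient.lcs_le _ he)).mp h1)) (by rw [zpow_one]; exact h3)
  exact htwo ⟨-(b1 + b2), by linarith⟩

/-- No small subgroup contains the second centre. -/
theorem false_of_center_two (hp3 : p ≠ 2) (hn : 5 ≤ n) (hF : F.IsSaturated p) (hs : IsSmallEss p F E)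
    (hZ : Zj S n 2 ≤ E) : False := by
  obtain ⟨x, hxE, hx, y, hy, hy', hd, hd1, hdp, w₀, hw₀, hw₀d, hw₀p, f₀, hf₀, hf₀mem, hfx, hfd, hfw⟩ :=
    start_data h hn hF hs hZ
  set d := ⁅y, x⁆
  obtain ⟨f, hf, hfmem, hf0, hsgn⟩ := chain_sign h hn hF hs hZ hxE hx hy hy' hd hd1 hdp hf₀ hf₀mem hfx hfd
    (n - 2) (by omega) (by omega)
  have hyZ : y ∈ Zj S n 3 := by rwa [Zj, show n - 1 - 3 = n - 4 by omega]
  have hyP : y ∈ PK S n x (n - 2) := Subgroup.mem_sup_right (Zj_mono (by omega) hyZ)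
  have hd3 : d ∈ PK S n x 3 := Subgroup.mem_sup_right (Zj_mono (by omega) hd)
  have hw3 : w₀ ∈ PK S n x 3 := Subgroup.mem_sup_right (Zj_mono (by omega) hw₀)
  have h3n : PK S n x 3 ≤ PK S n x (n - 2) := sup_le_sup_left (Zj_mono (by omega)) _
  have hfd' : f d = d ^ (-1 : ℤ) := by rw [hf0 d hd3, hfd]
  have hfw' : f w₀ = w₀ := by rw [hf0 w₀ hw3, hfw]
  have hfsplit : ∀ a b : ℤ, f (d ^ a * w₀ ^ b) = d ^ (-a) * w₀ ^ b := fun a b => by
    rw [hf.map_mul (zpow_mem (h3n hd3) a) (zpow_mem (h3n hw3) b), mapTo_map_zpow hf (h3n hd3),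
      mapTo_map_zpow hf (h3n hw3), hfd', hfw', ← zpow_mul]
    norm_num
  have hyS := Ambient.lcs_le _ hy
  have hfy := hsgn 3 le_rfl (by omega) y hyZ
  rw [show eps 3 = 1 by norm_num [eps], zpow_one] at hfy
  have hfy' : y⁻¹ * f y ∈ S.lowerCentralSeries (n - 3) :=
    (Ambient.chi_eq_iff hyS (hf.mem hyP)).mp hfy.symm
  have htwo : ¬ (p : ℤ) ∣ 2 := fun hdvd => by
    have h2 := Nat.le_of_dvd (by omega) (Int.natCast_dvd_natCast.mp (show (p : ℤ) ∣ ((2 : ℕ) : ℤ) from hdvd))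
    have := hp.out.two_le
    omega
  rcases hx.shift with h5 | ⟨h6, hx1⟩
  · exact false_five h h5 htwo hF hs hZ hxE hx hy hy' hd hd1 hdp hw₀ hw₀d hf hfmem hf0 hfx hfsplit hsgn hfy'
  · -- the exceptional case
    have hexc : ¬ Ambient.TS S 1 ≤ Ambient.TS S (n - 3) := fun hle => by
      haveI := finite_of_le (Ambient.TS_le (S := S) (n - 3))
      refine hx1 ?_
      rw [Subgroup.eq_of_le_of_card_ge hle (by rw [card_TS h (by omega) (by omega), card_TS h le_rfl (by omega)])]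
      exact hx.memTS
    have heven : n % 2 = 0 := by
      by_contra hodd
      exact hexc (Ambient.TS_top_odd h hn (by omega)).ge
    obtain ⟨w, hw, -, hwy⟩ := Ambient.exceptional_comm h h6 hexc hy hy'
    have hwS := Ambient.lcs_le _ hw
    have hwZ : w ∈ Zj S n (n - 2) := by rwa [Zj, show n - 1 - (n - 2) = 1 by omega]
    have hwP : w ∈ PK S n x (n - 2) := Subgroup.mem_sup_right hwZ
    have heps : eps (n - 2) = -1 := by
      rw [eps, Odd.neg_one_pow]
      exact ⟨(n - 2) / 2, by omega⟩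
    have hfw2 := hsgn (n - 2) (by omega) le_rfl w hwZ
    rw [show n - (n - 2) = 2 by omega, heps, zpow_neg_one, ← Ambient.chi_inv hwS] at hfw2
    have hr2 : (w⁻¹)⁻¹ * f w ∈ S.lowerCentralSeries 2 :=
      (Ambient.chi_eq_iff (inv_mem hwS) (hf.mem hwP)).mp hfw2.symm
    set r := (w⁻¹)⁻¹ * f w with hr
    set r' := y⁻¹ * f y with hr'
    set z := ⁅w, y⁆ with hz
    have hz1 : z ∈ S.lowerCentralSeries (n - 2) := Ambient.lcs_anti (by omega) (Ambient.comm_add hw hy)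
    have hzP : z ∈ PK S n x (n - 2) := Subgroup.mem_sup_right (by
      rw [Zj]; exact Ambient.lcs_anti (by omega) hz1)
    have hzero : ∀ i j : ℕ, n - 1 ≤ i + j + 1 → ∀ a ∈ S.lowerCentralSeries i, ∀ b ∈ S.lowerCentralSeries j,
        Commute a b := fun i j hij a ha b hb =>
      commutatorElement_eq_one_iff_commute.mp (Ambient.eq_one h hij (Ambient.comm_add ha hb))
    have hfz : f z = z⁻¹ := by
      rw [hz, mapTo_map_comm hf hwP hyP, show f w = w⁻¹ * r by rw [hr]; group,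
        show f y = y * r' by rw [hr']; group]
      exact Ambient.comm_inv_correct (hzero 2 (n - 4) (by omega) _ hr2 _ hy)
        (hzero 2 (n - 3) (by omega) _ hr2 _ hfy') (hzero 1 (n - 3) (by omega) _ hw _ hfy')
        (hzero (n - 2) 1 (by omega) _ hz1 _ hw)
    have hz2 : z ∈ Zj S n 2 := by rw [Zj]; exact Ambient.lcs_anti (by omega) hz1
    obtain ⟨a, b, hab⟩ := span_two h hn hd hdp hd1 hw₀ hw₀d hz2
    have hdw : Commute d w₀ := commute_Zj_two h hd
      ((Ambient.lcs_anti (by omega)).trans (Ambient.lcs_one_le_TS _) hw₀)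
    rw [hab, hfsplit, mul_inv_rev, ← zpow_neg, ← zpow_neg, ← (hdw.zpow_zpow (-a) (-b)).eq,
      mul_left_cancel_iff] at hfz
    have hw₀1 : w₀ ≠ 1 := fun h1 => hw₀d (h1 ▸ one_mem _)
    obtain ⟨c, hc⟩ := dvd_of_zpow_eq hw₀p hw₀1 hfz
    have hpb : (p : ℤ) ∣ b := by
      have h2b : (p : ℤ) ∣ 2 * b := ⟨c, by linarith⟩
      exact ((Nat.prime_iff_prime_int.mp hp.out).dvd_or_dvd h2b).resolve_left htwo
    rw [zpow_eq_one_of_dvd hw₀p hpb, mul_one] at hab
    have hpa : ¬ (p : ℤ) ∣ a := fun hdvd => hwy (by rw [hab, zpow_eq_one_of_dvd hdp hdvd])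
    obtain ⟨j, hj⟩ := exists_zpow_self hdp hpa
    have hdbad : d ∈ S.lowerCentralSeries (n - 2) := by
      rw [← hj, zpow_mul, ← hab]; exact zpow_mem hz1 j
    exact Ambient.step h (i := n - 4) (by omega) (by omega) hx.memS
      (fun hh => hx1 (Ambient.TS_eq h (i := n - 4) (by omega) (by omega) ▸ hh)) hy
      (by rwa [show n - 4 + 1 = n - 3 by omega]) (by rwa [show n - 4 + 2 = n - 2 by omega])

end Cfsg.Agent.Fusion.MaxSmall
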