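import Cfsg.Agent.Lib.Fusion.MaxClassSmallChain

/-!
A torus element along the chain of a small subgroup containing the second centre.
-/

set_option autoImplicit false
set_option linter.style.haveILetI false

namespace Cfsg.Agent.Fusion.MaxSmall

open Cfsg.FusionSystem (centralizerIn normalizerIn)
open Cfsg.Agent.FGB.MaxClass
open scoped commutatorElement

universe u

variable {p : ℕ} [hp : Fact p.Prime] {Ω : Type u} [Group Ω] {S : Subgroup Ω}

/-- The sign on the layers. -/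
def eps (j : ℕ) : ℤ := (-1) ^ (j + 1)

theorem eps_succ (j : ℕ) : eps (j + 1) = -eps j := by
  simp [eps, pow_succ]

omit hp in
theorem zpow_congr_mod {G : Type*} [Group G] {g : G} (hg : g ^ p = 1) {a b : ℤ} (hab : (p : ℤ) ∣ a - b) :
    g ^ a = g ^ b := by
  obtain ⟨c, hc⟩ := hab
  rw [show a = b + (p : ℤ) * c by linarith, zpow_add, zpow_mul, zpow_natCast, hg, one_zpow, mul_one]

theorem dvd_of_zpow_eq {G : Type*} [Group G] {g : G} (hg : g ^ p = 1) (hg1 : g ≠ 1) {a b : ℤ}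
    (hab : g ^ a = g ^ b) : (p : ℤ) ∣ a - b := by
  rw [← orderOf_eq_prime hg hg1, orderOf_dvd_iff_zpow_eq_one, zpow_sub, hab, mul_inv_cancel]

variable [Finite S] {n : ℕ} (h : IsMax p n S)

include h

theorem chi_pow_p {i : ℕ} (hi : 1 ≤ i) (hi' : i + 2 ≤ n) {u : Ω} (hu : u ∈ S.lowerCentralSeries i) :
    Ambient.chi S (i + 1) u ^ p = 1 := by
  have huS := Ambient.lcs_le i hu
  rw [← zpow_natCast, ← Ambient.chi_zpow huS, zpow_natCast, Ambient.chi_eq_one_iff (pow_mem huS p)]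
  exact Ambient.pow_mem_succ h hi hi' hu

/-- Two elements span the second centre. -/
theorem span_two {d w : Ω} (hn : 5 ≤ n) (hd : d ∈ Zj S n 2) (hdp : d ^ p = 1) (hd1 : d ≠ 1)
    (hw : w ∈ Zj S n 2) (hwd : w ∉ Subgroup.zpowers d) {v : Ω} (hv : v ∈ Zj S n 2) :
    ∃ a b : ℤ, v = d ^ a * w ^ b := by
  have hcomm : ∀ s ∈ Zj S n 2, ∀ t ∈ Zj S n 2, Commute s t := fun s hs t ht =>
    commute_Zj_two h hs ((Ambient.lcs_anti (by omega)).trans (Ambient.lcs_one_le_TS _) ht)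
  haveI := finite_of_le (Zj_le (S := S) (n := n) 2)
  have hsup : Subgroup.zpowers d ⊔ Subgroup.zpowers w ≤ Zj S n 2 :=
    sup_le (Subgroup.zpowers_le.mpr hd) (Subgroup.zpowers_le.mpr hw)
  have heq : Subgroup.zpowers d ⊔ Subgroup.zpowers w = Zj S n 2 := by
    refine Subgroup.eq_of_le_of_card_ge hsup ?_
    haveI := finite_of_le (hsup.trans (Zj_le (S := S) (n := n) 2))
    have hlt : Subgroup.zpowers d < Subgroup.zpowers d ⊔ Subgroup.zpowers w :=
      lt_of_le_of_ne le_sup_left fun he => hwd (he ▸ Subgroup.mem_sup_right (Subgroup.mem_zpowers w))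
    have h1 := card_lt_card_of_lt hlt
    obtain ⟨e, he⟩ := IsPGroup.iff_card.mp (h.isPGroup.to_le (hsup.trans (Zj_le (S := S) (n := n) 2)))
    rw [Nat.card_zpowers, orderOf_eq_prime hdp hd1, he] at h1
    have h2 : 1 < e := (Nat.pow_lt_pow_iff_right hp.out.one_lt).mp (by rw [pow_one]; exact h1)
    rw [he, card_Zj h (by omega)]
    exact Nat.pow_le_pow_right hp.out.pos h2
  have hn' : d ∈ Subgroup.normalizer (Subgroup.zpowers w : Set Ω) := by
    refine Subgroup.centralizer_le_normalizer _ (Subgroup.mem_centralizer_iff.mpr ?_)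
    rintro _ ⟨k, rfl⟩
    exact ((hcomm w hw d hd).zpow_left k).eq
  obtain ⟨a, v', ⟨b, rfl⟩, rfl⟩ := (mem_zsup hn').mp (heq.ge hv)
  exact ⟨a, b, rfl⟩

variable {F : FusionSystem S} {E : Subgroup Ω}

/-- The starting data: a torus element on the normalizer of `E`. -/
theorem start_data (hn : 5 ≤ n) (hF : F.IsSaturated p) (hs : IsSmallEss p F E) (hZ : Zj S n 2 ≤ E) :
    ∃ x ∈ E, IsShift p S n x ∧ ∃ y ∈ S.lowerCentralSeries (n - 4), y ∉ S.lowerCentralSeries (n - 3) ∧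
      ⁅y, x⁆ ∈ Zj S n 2 ∧ ⁅y, x⁆ ≠ 1 ∧ ⁅y, x⁆ ^ p = 1 ∧ ∃ w ∈ Zj S n 2, w ∉ Subgroup.zpowers ⁅y, x⁆ ∧
        w ^ p = 1 ∧ ∃ f : Ω → Ω, MapTo F (PK S n x 3) f ∧ (∀ q ∈ PK S n x 3, f q ∈ PK S n x 3) ∧
          f x = x ^ (-1 : ℤ) ∧ f ⁅y, x⁆ = ⁅y, x⁆ ^ (-1 : ℤ) ∧ f w = w := by
  obtain ⟨x₀, hx₀E, -, hx₀⟩ := exists_shift h hn hs hZ
  obtain ⟨y, hy, hy'⟩ := Ambient.exists_elt h (k := n - 4) (by omega) (by omega)
  rw [show n - 4 + 1 = n - 3 by omega] at hy'
  have hyZ : y ∈ Zj S n 3 := by rwa [Zj, show n - 1 - 3 = n - 4 by omega]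
  have hy2 : y ∉ Zj S n 2 := by rwa [Zj, show n - 1 - 2 = n - 3 by omega]
  have hyTS : y ∈ Ambient.TS S (n - 3) := Ambient.lcs_one_le_TS _ (Ambient.lcs_anti (by omega) hy)
  have hyN : y ∈ normalizerIn S E := by
    rw [normalizer_eq h hn hs hZ hx₀E hx₀]; exact Subgroup.mem_sup_right hyZ
  have hyE : y ∉ E := fun hh => hy2 (by
    rw [eq_PK_two h hn hs hZ hx₀E hx₀] at hh
    exact PK_inf h hx₀ (by omega) hh (Ambient.lcs_anti (by omega) hy))
  have hd₀ : ⁅y, x₀⁆ ∈ Zj S n 2 := by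
    rw [Zj, show n - 1 - 2 = n - 4 + 1 by omega]; exact Ambient.comm_succ hy hx₀.memS
  have hd₀ne : ⁅y, x₀⁆ ≠ 1 := fun h1 => hyE (hs.mem_of_comm hyN.1 fun e he => by
    rw [eq_PK_two h hn hs hZ hx₀E hx₀] at he
    obtain ⟨a, t, ht, rfl⟩ := (mem_PK hx₀.memS).mp he
    exact ((commutatorElement_eq_one_iff_commute.mp h1).symm.zpow_left a).mul_left (commute_Zj_two h ht hyTS))
  have hexact : ∀ e ∈ E, ∃ a : ℤ, e ∈ E ∧ ⁅y, e⁆ = ⁅y, x₀⁆ ^ a ∧
      ∃ t ∈ Zj S n 2, e = x₀ ^ a * t := by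
    intro e he
    have he' := he
    rw [eq_PK_two h hn hs hZ hx₀E hx₀] at he'
    obtain ⟨a, t, ht, rfl⟩ := (mem_PK hx₀.memS).mp he'
    refine ⟨a, he, ?_, t, ht, rfl⟩
    have e1 : ⁅y, x₀ ^ a * t⁆ = ⁅y, x₀ ^ a⁆ * (x₀ ^ a * ⁅y, t⁆ * (x₀ ^ a)⁻¹) := by
      simp only [commutatorElement_def]; group
    have e2 := Ambient.comm_zpow_exact (x := x₀) (y := y) (commute_Zj_two h hd₀ hx₀.memTS)
      (commute_Zj_two h hd₀ hyTS) 1 a
    rw [zpow_one, one_mul] at e2
    rw [e1, commutatorElement_eq_one_iff_commute.mpr (commute_Zj_two h ht hyTS).symm, mul_one,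
      mul_inv_cancel, mul_one, e2]
  obtain ⟨x, hxE, hxZ, w, hw, hwd, htor⟩ := hs.exists_torus h.isPGroup hF (card_ne h hn) hyN hyE hZ
    (card_Zj h (by omega)) (fun t ht => (commute_Zj_two h ht hyTS).symm) hd₀ hd₀ne
    (fun e he => by
      obtain ⟨a, -, ha, -⟩ := hexact e he
      exact Subgroup.mem_zpowers_iff.mpr ⟨a, ha.symm⟩)
  have hx : IsShift p S n x := by
    rcases small_cases h hn hs with ⟨-, hall⟩ | ⟨h6, hE1, hexc, hEL, -, -⟩
    · obtain ⟨a, b, c⟩ := hall x hxE hxZ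
      exact ⟨a, b, hs.exp x hxE, c⟩
    · exfalso
      refine hexc fun t ht => ?_
      obtain ⟨k, v, hv, rfl⟩ := Ambient.TS_rep h (i := 1) (by omega) (hE1 hx₀E) hx₀.notMemL ht
      exact mul_mem (zpow_mem hx₀.memTS k) (Ambient.lcs_one_le_TS _ hv)
  obtain ⟨a, -, hda, t, ht, hxeq⟩ := hexact x hxE
  have hpa : ¬ (p : ℤ) ∣ a := fun hdvd => hxZ (by
    rw [hxeq, zpow_eq_one_of_dvd hx₀.exp hdvd, one_mul]; exact ht)
  obtain ⟨f, hf, hfd, hfx, hfw, -, hfN⟩ := htor (p - 1) (p - 1) (by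
    rw [← ZMod.natCast_eq_natCast_iff, Nat.cast_mul, Nat.cast_sub hp.out.one_le, ZMod.natCast_self,
      Nat.cast_one]
    ring)
  rw [normalizer_eq h hn hs hZ hxE hx] at hf hfN
  have hp1 : ((p - 1 : ℕ) : ℤ) = (p : ℤ) - 1 := by
    rw [Nat.cast_sub hp.out.one_le, Nat.cast_one]
  have hd₀p : ⁅y, x₀⁆ ^ p = 1 := hs.exp _ (hZ hd₀)
  refine ⟨x, hxE, hx, y, hy, hy', hda ▸ zpow_mem hd₀ a, fun h1 => hpa ?_, hs.exp _ (hZ (hda ▸ zpow_mem hd₀ a)),
    w, hw, fun hh => hwd ?_, hs.exp _ (hZ hw), f, hf, hfN, ?_, ?_, hfw⟩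
  · have h2 : ⁅y, x₀⁆ ^ a = ⁅y, x₀⁆ ^ (0 : ℤ) := by rw [← hda, h1, zpow_zero]
    simpa using dvd_of_zpow_eq hd₀p hd₀ne h2
  · rw [hda] at hh
    exact (Subgroup.zpowers_le.mpr (zpow_mem (Subgroup.mem_zpowers _) a)) hh
  · rw [hfx, ← zpow_natCast, hp1]
    exact zpow_congr_mod hx.exp ⟨1, by ring⟩
  · have hd₀P : ⁅y, x₀⁆ ∈ PK S n x 3 := Subgroup.mem_sup_right (Zj_mono (by omega) hd₀)
    rw [hda, mapTo_map_zpow hf hd₀P, hfd, ← zpow_natCast, ← zpow_mul, ← zpow_mul, hp1]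
    exact zpow_congr_mod hd₀p ⟨a, by ring⟩

/-- Along the chain the automorphism acts on the layers by alternating signs. -/
theorem chain_sign (hn : 5 ≤ n) (hF : F.IsSaturated p) (hs : IsSmallEss p F E) (hZ : Zj S n 2 ≤ E)
    {x : Ω} (hxE : x ∈ E) (hx : IsShift p S n x) {y : Ω} (hy : y ∈ S.lowerCentralSeries (n - 4))
    (hy' : y ∉ S.lowerCentralSeries (n - 3)) (hd : ⁅y, x⁆ ∈ Zj S n 2) (hd1 : ⁅y, x⁆ ≠ 1)
    (hdp : ⁅y, x⁆ ^ p = 1) {f₀ : Ω → Ω} (hf₀ : MapTo F (PK S n x 3) f₀)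
    (hmem : ∀ q ∈ PK S n x 3, f₀ q ∈ PK S n x 3) (hfx : f₀ x = x ^ (-1 : ℤ))
    (hfd : f₀ ⁅y, x⁆ = ⁅y, x⁆ ^ (-1 : ℤ)) :
    ∀ k, 3 ≤ k → k + 2 ≤ n → ∃ f : Ω → Ω, MapTo F (PK S n x k) f ∧
      (∀ q ∈ PK S n x k, f q ∈ PK S n x k) ∧ (∀ q ∈ PK S n x 3, f q = f₀ q) ∧
      ∀ j, 3 ≤ j → j ≤ k → ∀ v ∈ Zj S n j,
        Ambient.chi S (n - j) (f v) = Ambient.chi S (n - j) v ^ eps j := by
  intro k hk
  induction k, hk using Nat.le_induction with
  | base =>
    intro _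
    refine ⟨f₀, hf₀, hmem, fun q _ => rfl, fun j hj hj' => ?_⟩
    obtain rfl : j = 3 := by omega
    have hPS := PK_le (S := S) (n := n) hx.memS 3
    haveI := finite_of_le hPS
    have himg := img_eq_self_of_forall hf₀ hmem
    have hyZ : y ∈ Zj S n 3 := by rwa [Zj, show n - 1 - 3 = n - 4 by omega]
    have hinv := Zj_invariant h hn hs hZ hxE hx le_rfl (by omega) (autOf_mem hf₀ himg)
    have hf3 : ∀ i, 2 ≤ i → i ≤ 3 → ∀ v ∈ Zj S n i, f₀ v ∈ Zj S n i := fun i hi hi' v hv => by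
      have := hinv i hi hi' v hv
      rwa [autFun_autOf hf₀ himg (Subgroup.mem_sup_right (Zj_mono hi' hv))] at this
    have hfy := hf3 3 (by omega) le_rfl y hyZ
    rw [Zj, show n - 1 - 3 = n - 4 by omega] at hfy
    obtain ⟨a, r, hr, he⟩ := Ambient.split h (g := f₀ y) (i := n - 4) (by omega) (by omega) hy
      (by rwa [show n - 4 + 1 = n - 3 by omega]) hfy
    have hrZ : r ∈ Zj S n 2 := by rwa [Zj, show n - 1 - 2 = n - 4 + 1 by omega]
    have hyTS : y ∈ Ambient.TS S (n - 3) := Ambient.lcs_one_le_TS _ (Ambient.lcs_anti (by omega) hy)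
    have hxP : x ∈ PK S n x 3 := Subgroup.mem_sup_left (Subgroup.mem_zpowers x)
    have hyP : y ∈ PK S n x 3 := Subgroup.mem_sup_right hyZ
    have hcalc : f₀ ⁅y, x⁆ = ⁅y, x⁆ ^ (a * (-1)) := by
      rw [mapTo_map_comm hf₀ hyP hxP, he, hfx,
        show ⁅y ^ a * r, x ^ (-1 : ℤ)⁆ = y ^ a * ⁅r, x ^ (-1 : ℤ)⁆ * (y ^ a)⁻¹ * ⁅y ^ a, x ^ (-1 : ℤ)⁆ by
          simp only [commutatorElement_def]; group,
        commutatorElement_eq_one_iff_commute.mpr ((commute_Zj_two h hrZ hx.memTS).zpow_right (-1)), mul_one,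
        mul_inv_cancel, one_mul,
        Ambient.comm_zpow_exact (commute_Zj_two h hd hx.memTS) (commute_Zj_two h hd hyTS)]
    have hpa : (p : ℤ) ∣ a - 1 := by
      obtain ⟨c, hc⟩ := dvd_of_zpow_eq hdp hd1 (hcalc.symm.trans hfd)
      exact ⟨-c, by linarith⟩
    intro v hv
    rw [Zj, show n - 1 - 3 = n - 4 by omega] at hv
    obtain ⟨b, t, ht, rfl⟩ := Ambient.split h (g := v) (i := n - 4) (by omega) (by omega) hy
      (by rwa [show n - 4 + 1 = n - 3 by omega]) hv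
    have htZ : t ∈ Zj S n 2 := by rwa [Zj, show n - 1 - 2 = n - 4 + 1 by omega]
    have hyS := Ambient.lcs_le _ hy
    have htS := Zj_le 2 htZ
    rw [hf₀.map_mul (zpow_mem hyP b) (Subgroup.mem_sup_right (Zj_mono (by omega) htZ)),
      mapTo_map_zpow hf₀ hyP, he, show eps 3 = 1 by norm_num [eps], zpow_one,
      Ambient.chi_mul (zpow_mem (mul_mem (zpow_mem hyS a) (Zj_le 2 hrZ)) b) (Zj_le 2 (hf3 2 le_rfl (by omega) t htZ)),
      Ambient.chi_zpow (mul_mem (zpow_mem hyS a) (Zj_le 2 hrZ)), Ambient.chi_mul (zpow_mem hyS a) (Zj_le 2 hrZ),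
      Ambient.chi_mul (zpow_mem hyS b) htS, Ambient.chi_zpow hyS, Ambient.chi_zpow hyS,
      show n - 3 = n - 1 - 2 by omega, (Ambient.chi_eq_one_iff (Zj_le 2 hrZ)).mpr hrZ,
      (Ambient.chi_eq_one_iff htS).mpr htZ,
      (Ambient.chi_eq_one_iff (Zj_le 2 (hf3 2 le_rfl (by omega) t htZ))).mpr (hf3 2 le_rfl (by omega) t htZ),
      mul_one, mul_one, mul_one, show n - 1 - 2 = n - 4 + 1 by omega,
      zpow_congr_mod (chi_pow_p h (i := n - 4) (by omega) (by omega) hy) hpa, zpow_one]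
  | succ k hk ih =>
    intro hk2
    obtain ⟨f, hf, hfmem, hf0, hsgn⟩ := ih (by omega)
    have hn6 : 6 ≤ n := by omega
    have hx1 : x ∉ Ambient.TS S 1 := (hx.shift.resolve_left (by omega)).2
    have hPS := PK_le (S := S) (n := n) hx.memS k
    haveI := finite_of_le hPS
    have himg := img_eq_self_of_forall hf hfmem
    set P := PK S n x k with hP
    -- the series
    let c : Fin (k + 1) → Subgroup Ω :=
      fun i => if (i : ℕ) = 0 then ⊥ else if (i : ℕ) = k then P else Zj S n ((i : ℕ) + 1)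
    have hc0 : c 0 = ⊥ := if_pos rfl
    have hclast : c (Fin.last k) = P := by
      show (if k = 0 then ⊥ else if k = k then P else Zj S n (k + 1)) = P
      rw [if_neg (by omega), if_pos rfl]
    have hcle : ∀ i, c i ≤ P := by
      intro i
      show (if (i : ℕ) = 0 then ⊥ else if (i : ℕ) = k then P else Zj S n ((i : ℕ) + 1)) ≤ P
      split_ifs
      · exact bot_le
      · exact le_rfl
      · exact (Zj_mono (by have := i.isLt; omega)).trans le_sup_right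
    have hcinv : ∀ α ∈ F.autGroup P, ∀ i, ∀ z ∈ c i, autFun α z ∈ c i := by
      intro α hα i z hz
      change z ∈ (if (i : ℕ) = 0 then ⊥ else if (i : ℕ) = k then P else Zj S n ((i : ℕ) + 1)) at hz
      show autFun α z ∈ (if (i : ℕ) = 0 then ⊥ else if (i : ℕ) = k then P else Zj S n ((i : ℕ) + 1))
      split_ifs at hz ⊢ with h1 h2
      · rw [Subgroup.mem_bot.mp hz, (mapTo_of_mem_autGroup hPS hα).map_one]; exact one_mem _
      · exact autFun_mem α hz
      · exact Zj_invariant h hn hs hZ hxE hx hk (by omega) hα _ (by omega) (by have := i.isLt; omega) z hz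
    have hN : normalizerIn S P = PK S n x (k + 1) := normalizer_PK h hx hn6 (by omega) (by omega)
    have hccen : ∀ g ∈ normalizerIn S P, ∀ i : Fin k, ∀ z ∈ c i.succ, z⁻¹ * (g * z * g⁻¹) ∈ c i.castSucc := by
      intro g hg i z hz
      have hgTS : g ∈ Ambient.TS S (n - 3) := PK_le_TS h hx (by omega) (hN ▸ hg)
      have hzS : z ∈ S := (hcle _).trans hPS hz
      have e : z⁻¹ * (g * z * g⁻¹) = z⁻¹ * ⁅g, z⁆ * z⁻¹⁻¹ := by rw [commutatorElement_def]; group
      change z ∈ (if ((i.succ : Fin (k + 1)) : ℕ) = 0 then ⊥ else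
        if ((i.succ : Fin (k + 1)) : ℕ) = k then P else Zj S n (((i.succ : Fin (k + 1)) : ℕ) + 1)) at hz
      show z⁻¹ * (g * z * g⁻¹) ∈ (if ((i.castSucc : Fin (k + 1)) : ℕ) = 0 then ⊥ else
        if ((i.castSucc : Fin (k + 1)) : ℕ) = k then P else Zj S n (((i.castSucc : Fin (k + 1)) : ℕ) + 1))
      rw [Fin.val_succ] at hz
      rw [Fin.val_castSucc]
      have hik := i.isLt
      rw [if_neg (by omega)] at hz
      rcases Nat.eq_zero_or_pos (i : ℕ) with hi0 | hi0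
      · rw [if_pos hi0]
        rw [if_neg (by omega), hi0] at hz
        rw [Subgroup.mem_bot, (commute_Zj_two h hz hgTS).symm.eq, mul_inv_cancel_right, inv_mul_cancel]
      · rw [if_neg (by omega), if_neg (by omega), e]
        refine Ambient.lcs_conj ?_ (inv_mem hzS)
        by_cases hlast : (i : ℕ) + 1 = k
        · rw [if_pos hlast] at hz
          rw [hlast]
          have hgP : g ∈ PK S n x (k + 1) := hN ▸ hg
          have := comm_PK h hx.memS (j := k + 1) (by omega) hgP (sup_le_sup_left (Zj_mono (by omega)) _ hz)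
          rwa [Nat.add_sub_cancel] at this
        · rw [if_neg hlast] at hz
          exact Ambient.lcs_anti (by omega) (Ambient.comm_succ' hz hg.1)
    obtain ⟨g, hg, hgf, hgmem⟩ := exists_extension_series h.isPGroup hF
      (PK_normalized h hn hs hZ hxE hx (by omega) (by omega)) c hc0 hclast hcle hcinv hccen
      (autOf_mem hf himg)
    rw [hN] at hg hgmem
    have hgf' : ∀ q ∈ P, g q = f q := fun q hq => by rw [hgf q hq, autFun_autOf hf himg hq]
    have h3k : PK S n x 3 ≤ P := sup_le_sup_left (Zj_mono hk) _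
    refine ⟨g, hg, hgmem, fun q hq => by rw [hgf' q (h3k hq), hf0 q hq], fun j hj hj' v hv => ?_⟩
    rcases Nat.lt_or_ge j (k + 1) with hjk | hjk
    · rw [hgf' v (Subgroup.mem_sup_right (Zj_mono (by omega) hv))]
      exact hsgn j hj (by omega) v hv
    obtain rfl : j = k + 1 := by omega
    -- the new layer
    haveI := finite_of_le (PK_le (S := S) (n := n) hx.memS (k + 1))
    have himg' := img_eq_self_of_forall hg hgmem
    set i := n - 2 - k with hi
    obtain ⟨h0, hh0, hh0'⟩ := Ambient.exists_elt h (k := i) (by omega) (by omega)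
    have hh0Z : h0 ∈ Zj S n (k + 1) := by rwa [Zj, show n - 1 - (k + 1) = i by omega]
    have hinv := Zj_invariant h hn hs hZ hxE hx (k := k + 1) (by omega) (by omega) (autOf_mem hg himg')
      (k + 1) (by omega) le_rfl
    have hfz : ∀ z ∈ Zj S n (k + 1), g z ∈ S.lowerCentralSeries i := fun z hz => by
      have := hinv z hz
      rw [autFun_autOf hg himg' (Subgroup.mem_sup_right hz)] at this
      rwa [Zj, show n - 1 - (k + 1) = i by omega] at this
    obtain ⟨a, r, hr, hea⟩ := Ambient.split h (g := g h0) (i := i) (by omega) (by omega) hh0 hh0' (hfz h0 hh0Z)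
    set u := ⁅h0, x⁆
    have hu : u ∈ S.lowerCentralSeries (i + 1) := Ambient.comm_succ hh0 hx.memS
    have hu' : u ∉ S.lowerCentralSeries (i + 2) := Ambient.step h (by omega) (by omega) hx.memS
      (fun hh => hx1 (Ambient.TS_eq h (i := i) (by omega) (by omega) ▸ hh)) hh0 hh0'
    have huk : u ∈ Zj S n k := by rwa [Zj, show n - 1 - k = i + 1 by omega]
    have hxP3 : x ∈ PK S n x 3 := Subgroup.mem_sup_left (Subgroup.mem_zpowers x)
    have hgx : g x = x ^ (-1 : ℤ) := by rw [hgf' x (h3k hxP3), hf0 x hxP3, hfx]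
    have hgu : g u = ⁅h0 ^ a * r, x ^ (-1 : ℤ)⁆ := by
      rw [mapTo_map_comm hg (Subgroup.mem_sup_right hh0Z) (Subgroup.mem_sup_left (Subgroup.mem_zpowers x)),
        hea, hgx]
    have h2 : Ambient.chi S (i + 2) (g u) = Ambient.chi S (i + 2) u ^ eps k := by
      rw [hgf' u (Subgroup.mem_sup_right huk), show i + 2 = n - k by omega]
      exact hsgn k hk le_rfl u huk
    rw [hgu, Ambient.chi_comm hh0 hr hx.memS] at h2
    have hchiu : Ambient.chi S (i + 2) u ≠ 1 := fun h1 =>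
      hu' ((Ambient.chi_eq_one_iff (Ambient.lcs_le _ hu)).mp h1)
    obtain ⟨t, ht⟩ := dvd_of_zpow_eq (chi_pow_p h (i := i + 1) (by omega) (by omega) hu) hchiu h2
    have hpa : (p : ℤ) ∣ a - eps (k + 1) := ⟨-t, by rw [eps_succ]; linarith⟩
    have hvi : v ∈ S.lowerCentralSeries i := by rwa [Zj, show n - 1 - (k + 1) = i by omega] at hv
    obtain ⟨b, w, hw, rfl⟩ := Ambient.split h (g := v) (i := i) (by omega) (by omega) hh0 hh0' hvi
    have hwk : w ∈ Zj S n k := by rwa [Zj, show n - 1 - k = i + 1 by omega]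
    have hh0S := Ambient.lcs_le _ hh0
    have hgw : g w ∈ S.lowerCentralSeries (i + 1) := by
      rw [hgf' w (Subgroup.mem_sup_right hwk)]
      have h3 := hsgn k hk le_rfl w hwk
      have hwk' := Zj_invariant h hn hs hZ hxE hx hk (by omega) (autOf_mem hf himg) k (by omega) le_rfl w hwk
      rw [autFun_autOf hf himg (Subgroup.mem_sup_right hwk)] at hwk'
      rwa [Zj, show n - 1 - k = i + 1 by omega] at hwk'
    rw [hg.map_mul (zpow_mem (Subgroup.mem_sup_right hh0Z) b)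
        (Subgroup.mem_sup_right (Zj_mono (by omega) hwk)),
      mapTo_map_zpow hg (Subgroup.mem_sup_right hh0Z), hea, show n - (k + 1) = i + 1 by omega,
      Ambient.chi_mul (zpow_mem (mul_mem (zpow_mem hh0S a) (Ambient.lcs_le _ hr)) b) (Ambient.lcs_le _ hgw),
      Ambient.chi_zpow (mul_mem (zpow_mem hh0S a) (Ambient.lcs_le _ hr)),
      Ambient.chi_mul (zpow_mem hh0S a) (Ambient.lcs_le _ hr),
      Ambient.chi_mul (zpow_mem hh0S b) (Ambient.lcs_le _ hw), Ambient.chi_zpow hh0S, Ambient.chi_zpow hh0S,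
      (Ambient.chi_eq_one_iff (Ambient.lcs_le _ hr)).mpr hr, (Ambient.chi_eq_one_iff (Ambient.lcs_le _ hw)).mpr hw,
      (Ambient.chi_eq_one_iff (Ambient.lcs_le _ hgw)).mpr hgw, mul_one, mul_one, mul_one,
      zpow_congr_mod (chi_pow_p h (i := i) (by omega) (by omega) hh0) hpa, ← zpow_mul, ← zpow_mul, mul_comm]

end Cfsg.Agent.Fusion.MaxSmall
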