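import Cfsg.Agent.Lib.Fusion.MaxClassSmallFinish

/-!
The exceptional small subgroups in a group of order `p ^ 6` do not occur.
-/

set_option autoImplicit false
set_option linter.style.haveILetI false

namespace Cfsg.Agent.Fusion.MaxSmall

open Cfsg.FusionSystem (centralizerIn normalizerIn)
open Cfsg.Agent.FGB.MaxClass
open scoped commutatorElement

universe u

variable {p : ℕ} [hp : Fact p.Prime] {Ω : Type u} [Group Ω] {S : Subgroup Ω}

theorem chi_commutator {j : ℕ} {a b : Ω} (ha : a ∈ S) (hb : b ∈ S) :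
    Ambient.chi S j ⁅a, b⁆ = ⁅Ambient.chi S j a, Ambient.chi S j b⁆ := by
  rw [commutatorElement_def, commutatorElement_def,
    Ambient.chi_mul (mul_mem (mul_mem ha hb) (inv_mem ha)) (inv_mem hb),
    Ambient.chi_mul (mul_mem ha hb) (inv_mem ha), Ambient.chi_mul ha hb, Ambient.chi_inv ha,
    Ambient.chi_inv hb]

variable [Finite S] (h : IsMax p 6 S) {F : FusionSystem S} {E : Subgroup Ω}

include h

theorem central_four {z q : Ω} (hz : z ∈ S.lowerCentralSeries 4) (hq : q ∈ S) : Commute z q :=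
  commutatorElement_eq_one_iff_commute.mp (Ambient.eq_one h (i := 4 + 1) (by omega) (Ambient.comm_succ hz hq))

theorem commute_two {a b : Ω} (ha : a ∈ S.lowerCentralSeries 2) (hb : b ∈ S.lowerCentralSeries 2) :
    Commute a b :=
  commutatorElement_eq_one_iff_commute.mp (Ambient.eq_one h (i := 2 + 2 + 1) (by omega) (Ambient.comm_add ha hb))

theorem commute_one_three {a b : Ω} (ha : a ∈ S.lowerCentralSeries 1) (hb : b ∈ S.lowerCentralSeries 3) :
    Commute a b :=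
  commutatorElement_eq_one_iff_commute.mp (Ambient.eq_one h (i := 1 + 3 + 1) (by omega) (Ambient.comm_add ha hb))

/-- Commutators inside `⟨x⟩ Z₃` lie in the centre. -/
theorem comm_side {x q r : Ω} (hx : x ∈ Ambient.TS S 1) (hq : q ∈ PK S 6 x 3) (hr : r ∈ PK S 6 x 3) :
    ⁅q, r⁆ ∈ S.lowerCentralSeries 4 := by
  have hxS := Ambient.TS_le 1 hx
  have hx2 : x ∈ Ambient.TS S 2 := (Ambient.TS_eq h (i := 2) (by omega) le_rfl).symm ▸ hx
  obtain ⟨a, v, hv, rfl⟩ := (mem_PK hxS).mp hq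
  obtain ⟨b, w, hw, rfl⟩ := (mem_PK hxS).mp hr
  have hw' : x ^ b * w ∈ Ambient.TS S 2 :=
    mul_mem (zpow_mem hx2 b) (Ambient.lcs_one_le_TS _ (Ambient.lcs_anti (show 1 ≤ 2 by omega) hw))
  have hcv : ⁅v, x ^ b * w⁆ ∈ S.lowerCentralSeries 4 := Ambient.TS_comm hw' hv
  have hcw : ⁅x ^ a, w⁆ ∈ S.lowerCentralSeries 4 := by
    rw [← commutatorElement_inv]; exact inv_mem (Ambient.TS_comm (zpow_mem hx2 a) hw)
  have e : ⁅x ^ a * v, x ^ b * w⁆ =
      x ^ a * ⁅v, x ^ b * w⁆ * (x ^ a)⁻¹ * (x ^ b * ⁅x ^ a, w⁆ * (x ^ b)⁻¹) := by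
    simp only [commutatorElement_def]; group
  rw [e]
  exact mul_mem (Ambient.lcs_conj hcv (zpow_mem hxS a)) (Ambient.lcs_conj hcw (zpow_mem hxS b))

/-- The torus on the normalizer of the subgroup. -/
theorem side_start (hp5 : 5 ≤ p) (hF : F.IsSaturated p) (hs : IsSmallEss p F E) (hE1 : E ≤ Ambient.TS S 1)
    (hexc : ¬ Ambient.TS S 1 ≤ Ambient.TS S 3) (hEL : ¬ E ≤ S.lowerCentralSeries 1)
    (hT : Nat.card (E ⊓ Zj S 6 3 : Subgroup Ω) = p ^ 2) (hsup : normalizerIn S E = E ⊔ Zj S 6 3) :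
    ∃ x ∈ E, x ∉ S.lowerCentralSeries 1 ∧ E = Subgroup.zpowers x ⊔ (E ⊓ Zj S 6 3) ∧
      (∀ z ∈ S.lowerCentralSeries 3, z ∉ S.lowerCentralSeries 4 → ⁅z, x⁆ ≠ 1) ∧
      ∃ y ∈ E, y ∈ S.lowerCentralSeries 2 ∧ y ∉ S.lowerCentralSeries 3 ∧
        ∃ f : Ω → Ω, MapTo F (PK S 6 x 3) f ∧ (∀ q ∈ PK S 6 x 3, f q ∈ PK S 6 x 3) ∧
          f x = x ^ (((p + 1) / 2 : ℕ) : ℤ) ∧ f y = y ∧
          ∀ z ∈ S.lowerCentralSeries 4, f z = z ^ (2 : ℤ) := by
  obtain ⟨x₀, hx₀E, hx₀L⟩ := SetLike.not_le_iff_exists.mp hEL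
  have hES := hs.le
  haveI := finite_of_le hES
  set T := E ⊓ Zj S 6 3 with hTdef
  haveI := finite_of_le (inf_le_left.trans hES : T ≤ S)
  have hgen : ∀ x ∈ E, x ∉ T → E = Subgroup.zpowers x ⊔ T := by
    intro x hx hxT
    have hxn : x ∈ Subgroup.normalizer (T : Set Ω) := mem_normalizer_of_forall fun t ht => by
      rw [(hs.comm x hx t ht.1).eq, mul_inv_cancel_right]; exact ht
    refine (Subgroup.eq_of_le_of_card_ge (sup_le (Subgroup.zpowers_le.mpr hx) inf_le_left) ?_).symm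
    rw [hs.card, card_zsup hxn (hs.exp x hx) hxT, hT, ← pow_succ']
  have hE0 := hgen x₀ hx₀E fun hh => hx₀L (Ambient.lcs_anti (show 1 ≤ 2 by omega) hh.2)
  have hout : ∀ x ∈ E, x ∉ T → x ∉ S.lowerCentralSeries 1 := by
    intro x hx hxT hxL
    have hx0n : x₀ ∈ Subgroup.normalizer (T : Set Ω) := mem_normalizer_of_forall fun t ht => by
      rw [(hs.comm x₀ hx₀E t ht.1).eq, mul_inv_cancel_right]; exact ht
    obtain ⟨i, t, ht, rfl⟩ := (mem_zsup hx0n).mp (hE0 ▸ hx)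
    have hxi : x₀ ^ i ∈ S.lowerCentralSeries 1 :=
      (Subgroup.mul_mem_cancel_right _ (Ambient.lcs_anti (show 1 ≤ 2 by omega) ht.2)).mp hxL
    rw [zpow_eq_one_of_dvd (hs.exp x₀ hx₀E) ((zpow_mem_iff (hs.exp x₀ hx₀E) hx₀L).mp hxi), one_mul] at hxT
    exact hxT ht
  have hne : ∀ x ∈ E, x ∉ S.lowerCentralSeries 1 → ∀ z ∈ S.lowerCentralSeries 3,
      z ∉ S.lowerCentralSeries 4 → ⁅z, x⁆ ≠ 1 := by
    intro x hx hxL z hz hz' hc
    have hx3 : x ∈ Ambient.TS S 3 :=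
      Ambient.mem_TS_of_comm h (i := 3) (by omega) (by omega) (hES hx) hz hz' (by rw [hc]; exact one_mem _)
    refine hexc fun t ht => ?_
    obtain ⟨k, v, hv, rfl⟩ := Ambient.TS_rep h (i := 1) (by omega) (hE1 hx) hxL ht
    exact mul_mem (zpow_mem hx3 k) (Ambient.lcs_one_le_TS _ hv)
  obtain ⟨u, hu, hu'⟩ := Ambient.exists_elt h (k := 3) (by omega) (by omega)
  have hu2 : u ∈ Zj S 6 3 := Ambient.lcs_anti (show 2 ≤ 3 by omega) hu
  have huE : u ∉ E := fun hh =>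
    hne x₀ hx₀E hx₀L u hu hu' (commutatorElement_eq_one_iff_commute.mpr (hs.comm u hh x₀ hx₀E))
  have hd0 : ⁅u, x₀⁆ ∈ S.lowerCentralSeries 4 := Ambient.comm_succ hu (hES hx₀E)
  have hd0ne := hne x₀ hx₀E hx₀L u hu hu'
  have hL4E : S.lowerCentralSeries 4 ≤ E := fun z hz =>
    hs.mem_of_comm (Ambient.lcs_le _ hz) fun e he => (central_four h hz (hES he)).symm
  have hd0T : ⁅u, x₀⁆ ∈ T := ⟨hL4E hd0, Ambient.lcs_anti (show 2 ≤ 4 by omega) hd0⟩
  have hgen4 : ∀ z ∈ S.lowerCentralSeries 4, ∃ k : ℤ, z = ⁅u, x₀⁆ ^ k := by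
    intro z hz
    obtain ⟨k, v, hv, rfl⟩ := Ambient.split h (g := z) (i := 4) (by omega) (by omega) hd0
      (fun hh => hd0ne (Ambient.eq_one h (i := 5) le_rfl hh)) hz
    exact ⟨k, by rw [Ambient.eq_one h (i := 5) le_rfl hv, mul_one]⟩
  obtain ⟨x, hxE, hxT, y, hy, hyd, htor⟩ := hs.exists_torus h.isPGroup hF (card_ne h (by omega))
    (show u ∈ normalizerIn S E from hsup ▸ Subgroup.mem_sup_right hu2) huE (inf_le_left : T ≤ E) hT
    (fun t ht => commute_two h hu2 ht.2) hd0T hd0ne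
    (fun e he => by
      obtain ⟨k, hk⟩ := hgen4 _ (Ambient.comm_succ hu (hES he))
      exact Subgroup.mem_zpowers_iff.mpr ⟨k, hk.symm⟩)
  have hxL := hout x hxE hxT
  obtain ⟨f, hf, hfd, hfx, hfy, -, hfN⟩ := htor 2 ((p + 1) / 2) (by
    have hodd : p % 2 = 1 := (Nat.Prime.eq_two_or_odd hp.out).resolve_left (by omega)
    rw [show 2 * ((p + 1) / 2) = 1 + p by omega]
    exact (Nat.ModEq.refl 1).add (Nat.modEq_zero_iff_dvd.mpr dvd_rfl))
  rw [(side_data h hs rfl hE1 hsup hxE hxL).1] at hf hfN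
  refine ⟨x, hxE, hxL, hgen x hxE hxT, hne x hxE hxL, y, hy.1, hy.2, fun hy3 => ?_, f, hf, hfN,
    by rw [hfx, zpow_natCast], hfy, fun z hz => ?_⟩
  · by_cases hy4 : y ∈ S.lowerCentralSeries 4
    · obtain ⟨k, hk⟩ := hgen4 y hy4
      exact hyd (Subgroup.mem_zpowers_iff.mpr ⟨k, hk.symm⟩)
    · exact hne x hxE hxL y hy3 hy4 (commutatorElement_eq_one_iff_commute.mpr (hs.comm y hy.1 x hxE))
  · obtain ⟨k, rfl⟩ := hgen4 z hz
    rw [mapTo_map_zpow hf (Subgroup.mem_sup_right hd0T.2) k, hfd, ← zpow_natCast, ← zpow_mul, ← zpow_mul]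
    congr 1; push_cast; ring

/-- The map on the normalizer of the normalizer. -/
theorem side_extend (hF : F.IsSaturated p) (hs : IsSmallEss p F E) (hE1 : E ≤ Ambient.TS S 1)
    (hsup : normalizerIn S E = E ⊔ Zj S 6 3) {x : Ω} (hxE : x ∈ E) (hxL : x ∉ S.lowerCentralSeries 1)
    (hEgen : E = Subgroup.zpowers x ⊔ (E ⊓ Zj S 6 3))
    (hne : ∀ z ∈ S.lowerCentralSeries 3, z ∉ S.lowerCentralSeries 4 → ⁅z, x⁆ ≠ 1)
    {y : Ω} (hyE : y ∈ E) (hy : y ∈ S.lowerCentralSeries 2) (hy' : y ∉ S.lowerCentralSeries 3)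
    {w : Ω} (hw : w ∈ S.lowerCentralSeries 1) (hw' : w ∉ S.lowerCentralSeries 2)
    {f : Ω → Ω} (hf : MapTo F (PK S 6 x 3) f) (hmem : ∀ q ∈ PK S 6 x 3, f q ∈ PK S 6 x 3) :
    ⁅w, x⁆ ∈ S.lowerCentralSeries 3 ∧ ⁅w, x⁆ ∉ S.lowerCentralSeries 4 ∧
      ∃ g : Ω → Ω, MapTo F (Ambient.TS S 1) g ∧ (∀ q ∈ PK S 6 x 3, g q = f q) ∧
        ∀ q ∈ Ambient.TS S 1, g q ∈ Ambient.TS S 1 := by
  have hES := hs.le
  have hxS := hES hxE
  have hx1 := hE1 hxE
  have hC2 : Ambient.TS S 2 = Ambient.TS S 1 := Ambient.TS_eq h (by omega) le_rfl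
  have hwS := Ambient.lcs_le _ hw
  have hwTS : w ∈ Ambient.TS S 1 := Ambient.lcs_one_le_TS 1 hw
  set T := E ⊓ Zj S 6 3 with hTdef
  haveI := finite_of_le hES
  haveI := finite_of_le (inf_le_left.trans hES : T ≤ S)
  have hL4T : S.lowerCentralSeries 4 ≤ T := fun z hz =>
    ⟨hs.mem_of_comm (Ambient.lcs_le _ hz) fun e he => (central_four h hz (hES he)).symm,
      Ambient.lcs_anti (show 2 ≤ 4 by omega) hz⟩
  have hTn : ∀ g ∈ Ambient.TS S 1, ∀ t ∈ T, g * t * g⁻¹ ∈ T := fun g hg t ht => by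
    rw [show g * t * g⁻¹ = ⁅g, t⁆ * t by rw [commutatorElement_def, inv_mul_cancel_right]]
    refine mul_mem (hL4T ?_) ht
    rw [← commutatorElement_inv]
    exact inv_mem (Ambient.TS_comm (hC2.symm ▸ hg) ht.2)
  have hxn : x ∈ Subgroup.normalizer (T : Set Ω) := mem_normalizer_of_forall fun t ht => hTn x hx1 t ht
  obtain ⟨hN, hNN⟩ := side_data h hs rfl hE1 hsup hxE hxL
  have hr3 : ⁅w, x⁆ ∈ S.lowerCentralSeries 3 := Ambient.TS_comm hx1 hw
  have hr4 : ⁅w, x⁆ ∉ S.lowerCentralSeries 4 := by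
    intro hr4
    have hwx : w * x * w⁻¹ ∈ E := by
      rw [show w * x * w⁻¹ = ⁅w, x⁆ * x by rw [commutatorElement_def, inv_mul_cancel_right]]
      exact mul_mem (hL4T hr4).1 hxE
    have hwN : w ∈ normalizerIn S E := mem_normalizerIn_of_forall hES hwS fun q hq => by
      rw [hEgen] at hq
      obtain ⟨i, t, ht, rfl⟩ := (mem_zsup hxn).mp hq
      rw [show w * (x ^ i * t) * w⁻¹ = (w * x ^ i * w⁻¹) * (w * t * w⁻¹) by group, ← conj_zpow]
      exact mul_mem (zpow_mem hwx i) (hTn w hwTS t ht).1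
    rw [hN] at hwN
    obtain ⟨i, v, hv, he⟩ := (mem_PK hxS).mp hwN
    rw [he] at hw hw'
    have hxi : x ^ i ∈ S.lowerCentralSeries 1 :=
      (Subgroup.mul_mem_cancel_right _ (Ambient.lcs_anti (show 1 ≤ 2 by omega) hv)).mp hw
    rw [zpow_eq_one_of_dvd (hs.exp x hxE) ((zpow_mem_iff (hs.exp x hxE) hxL).mp hxi), one_mul] at hw'
    exact hw' hv
  refine ⟨hr3, hr4, ?_⟩
  have hPS := PK_le (S := S) (n := 6) hxS 3
  have hP1 : PK S 6 x 3 ≤ Ambient.TS S 1 :=
    sup_le (Subgroup.zpowers_le.mpr hx1) ((Ambient.lcs_anti (show 1 ≤ 2 by omega)).trans (Ambient.lcs_one_le_TS _))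
  haveI := finite_of_le hPS
  have himg := img_eq_self_of_forall hf hmem
  have hEP : E ≤ PK S 6 x 3 := hN ▸ le_normalizerIn hES
  have hZP : S.lowerCentralSeries 2 ≤ PK S 6 x 3 := (le_sup_right : Zj S 6 3 ≤ PK S 6 x 3)
  have hxP : x ∈ PK S 6 x 3 := hEP hxE
  set P := PK S 6 x 3 with hP
  obtain ⟨u, hu, hu'⟩ := Ambient.exists_elt h (k := 3) (by omega) (by omega)
  have huP : u ∈ P := hZP (Ambient.lcs_anti (by omega) hu)
  have hd : ⁅u, x⁆ ∈ S.lowerCentralSeries 4 := Ambient.comm_succ hu hxS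
  have hd1 := hne u hu hu'
  -- what the automorphisms leave invariant
  have hinv4 : ∀ α ∈ F.autGroup P, ∀ z ∈ S.lowerCentralSeries 4, autFun α z ∈ S.lowerCentralSeries 4 := by
    intro α hα z hz
    obtain ⟨k, v, hv, rfl⟩ := Ambient.split h (g := z) (i := 4) (by omega) (by omega) hd
      (fun hh => hd1 (Ambient.eq_one h (i := 5) le_rfl hh)) hz
    rw [Ambient.eq_one h (i := 5) le_rfl hv, mul_one,
      mapTo_map_zpow (mapTo_of_mem_autGroup hPS hα) (hZP (Ambient.lcs_anti (by omega) hd)),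
      mapTo_map_comm (mapTo_of_mem_autGroup hPS hα) huP hxP]
    exact zpow_mem (comm_side h hx1 (autFun_mem α huP) (autFun_mem α hxP)) k
  have hinvT : ∀ α ∈ F.autGroup P, ∀ t ∈ T, autFun α t ∈ T := by
    intro α hα t ht
    have hmap := mapTo_of_mem_autGroup hPS hα
    have htP : t ∈ P := hZP ht.2
    have hcomm : ∀ q ∈ P, Commute (autFun α t) q := by
      intro q hq
      have hq' := autFun_mem α⁻¹ hq
      have hc : Commute t (autFun α⁻¹ q) := by
        obtain ⟨i, v, hv, he⟩ := (mem_PK hxS).mp hq'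
        rw [he]
        exact ((hs.comm t ht.1 x hxE).zpow_right i).mul_right (commute_two h ht.2 hv)
      have h1 := congrArg (autFun α) hc.eq
      rwa [hmap.map_mul htP hq', hmap.map_mul hq' htP, autFun_autFun_inv α hq] at h1
    have htE : autFun α t ∈ E := hs.mem_of_comm (hmap.mem htP) fun e he => (hcomm e (hEP he)).symm
    rw [hEgen] at htE
    obtain ⟨i, s, hsT, he⟩ := (mem_zsup hxn).mp htE
    by_cases hdvd : (p : ℤ) ∣ i
    · rw [he, zpow_eq_one_of_dvd (hs.exp x hxE) hdvd, one_mul]; exact hsT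
    exfalso
    obtain ⟨j, hj⟩ := exists_zpow_self (hs.exp x hxE) hdvd
    have hc := hcomm u huP
    rw [he] at hc
    have hsu : Commute s u := commute_two h hsT.2 (Ambient.lcs_anti (by omega) hu)
    have hxi : Commute (x ^ i) u := by
      have := hc.mul_left hsu.inv_left
      rwa [mul_inv_cancel_right] at this
    have hxu := hxi.zpow_left j
    rw [← zpow_mul, hj] at hxu
    exact hd1 (commutatorElement_eq_one_iff_commute.mpr hxu.symm)
  have hinv2 : ∀ α ∈ F.autGroup P, ∀ v ∈ S.lowerCentralSeries 2, autFun α v ∈ S.lowerCentralSeries 2 := by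
    intro α hα
    have hc3 : x⁻¹ * (w * x * w⁻¹) ∈ S.lowerCentralSeries 3 := by
      rw [show x⁻¹ * (w * x * w⁻¹) = x⁻¹ * ⁅w, x⁆ * x⁻¹⁻¹ by rw [commutatorElement_def]; group]
      exact Ambient.lcs_conj hr3 (inv_mem hxS)
    have hc4 : x⁻¹ * (w * x * w⁻¹) ∉ S.lowerCentralSeries 4 := fun hh => hr4 (by
      have h2 := Ambient.lcs_conj hh hxS
      rwa [show x * (x⁻¹ * (w * x * w⁻¹)) * x⁻¹ = ⁅w, x⁆ by rw [commutatorElement_def]; group] at h2)
    refine line_invariant (E := E) (hs.exp x hxE) hxS hPS (inf_le_right : T ≤ Zj S 6 3) hZP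
      (fun g hg v hv => Ambient.lcs_conj hv hg) (fun q hq => (mem_PK hxS).mp hq) hs.normalized ?_ hEgen ?_ ?_ hα
      (hinvT α hα)
    · rw [hs.card_normalizer h.isPGroup (card_ne h (by omega)), h.card]
      exact Nat.pow_lt_pow_right hp.out.one_lt (by omega)
    · rw [hs.card]; exact (card_Zj h (j := 3) (by omega)).symm
    · intro v hv
      obtain ⟨a, v', hv', rfl⟩ := Ambient.split h (g := v) (i := 2) (by omega) (by omega) hy hy' hv
      obtain ⟨m, hm⟩ := zpow_natCast_mod h (j := 3) (by omega) (by omega) hc3 hc4 hv'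
      obtain ⟨t, ht, he⟩ := cover_iter (g := w) (K := S.lowerCentralSeries 3) (X := T) hc3
        (fun z hz => by
          rw [(commute_one_three h hw hz).eq, mul_inv_cancel_right, inv_mul_cancel]; exact one_mem _)
        (fun z hz => hTn w hwTS z hz) m
      refine ⟨w ^ m, pow_mem hwS m, fun z hz => hTn _ (pow_mem hwTS m) z hz, ?_⟩
      set c := x⁻¹ * (w * x * w⁻¹) with hc
      rw [he, show (x * (y ^ a * v'))⁻¹ * (x * c ^ m * t) = ((c ^ m)⁻¹ * (y ^ a * v'))⁻¹ * t by group]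
      refine mul_mem (inv_mem ?_) ht
      have hcy : Commute (c ^ m) (y ^ a) :=
        commute_two h (pow_mem (Ambient.lcs_anti (by omega) hc3) m) (zpow_mem hy a)
      rw [← mul_assoc, hcy.inv_left.eq, mul_assoc]
      exact mul_mem (⟨zpow_mem hyE a, zpow_mem hy a⟩ : y ^ a ∈ T) (hL4T hm)
  have hnormP : normalizerIn S P = Ambient.TS S 1 := by rw [← hN]; exact hNN
  have hfn : F.IsFullyNormalized P := by
    refine ⟨hPS, fun R hR => ?_⟩
    obtain ⟨g, hg, rfl⟩ := isConj_iff.mp hR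
    have hPcard : Nat.card P = p ^ 4 := by rw [← hN, hs.card_normalizer h.isPGroup (card_ne h (by omega))]
    obtain ⟨hs', hle'⟩ := hs.img_small h.isPGroup hg hEP hPcard hN.ge
    haveI := finite_of_le (normalizerIn_le (S := S) (P := img g E))
    have heq : img g P = normalizerIn S (img g E) := by
      refine Subgroup.eq_of_le_of_card_ge hle' ?_
      rw [hs'.card_normalizer h.isPGroup (card_ne h (by omega)), hg.card_img le_rfl, hPcard]
    rw [heq, hnormP, card_TS h le_rfl (by omega)]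
    exact normalizer_normalizer_le h le_rfl hs'
  -- the series
  let c : Fin 5 → Subgroup Ω := fun i =>
    if (i : ℕ) = 0 then ⊥ else if (i : ℕ) = 1 then S.lowerCentralSeries 4 else
      if (i : ℕ) = 2 then T else if (i : ℕ) = 3 then S.lowerCentralSeries 2 else P
  have hcle : ∀ i, c i ≤ P := by
    intro i
    show (if (i : ℕ) = 0 then ⊥ else if (i : ℕ) = 1 then S.lowerCentralSeries 4 else
      if (i : ℕ) = 2 then T else if (i : ℕ) = 3 then S.lowerCentralSeries 2 else P) ≤ P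
    split_ifs
    · exact bot_le
    · exact (hL4T.trans inf_le_left).trans hEP
    · exact inf_le_left.trans hEP
    · exact hZP
    · exact le_rfl
  have hcinv : ∀ α ∈ F.autGroup P, ∀ i, ∀ z ∈ c i, autFun α z ∈ c i := by
    intro α hα i z hz
    change z ∈ (if (i : ℕ) = 0 then ⊥ else if (i : ℕ) = 1 then S.lowerCentralSeries 4 else
      if (i : ℕ) = 2 then T else if (i : ℕ) = 3 then S.lowerCentralSeries 2 else P) at hz
    show autFun α z ∈ (if (i : ℕ) = 0 then ⊥ else if (i : ℕ) = 1 then S.lowerCentralSeries 4 else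
      if (i : ℕ) = 2 then T else if (i : ℕ) = 3 then S.lowerCentralSeries 2 else P)
    split_ifs at hz ⊢
    · rw [Subgroup.mem_bot.mp hz, (mapTo_of_mem_autGroup hPS hα).map_one]; exact one_mem _
    · exact hinv4 α hα z hz
    · exact hinvT α hα z hz
    · exact hinv2 α hα z hz
    · exact autFun_mem α hz
  have hccen : ∀ g ∈ normalizerIn S P, ∀ i : Fin 4, ∀ z ∈ c i.succ, z⁻¹ * (g * z * g⁻¹) ∈ c i.castSucc := by
    intro g hg i z hz
    have hg1 : g ∈ Ambient.TS S 1 := hnormP ▸ hg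
    have hzS : z ∈ S := (hcle _).trans hPS hz
    have e : z⁻¹ * (g * z * g⁻¹) = z⁻¹ * ⁅g, z⁆ * z⁻¹⁻¹ := by rw [commutatorElement_def]; group
    have hstep : z ∈ S.lowerCentralSeries 2 → z⁻¹ * (g * z * g⁻¹) ∈ S.lowerCentralSeries 4 := fun hz2 => by
      rw [e]
      refine Ambient.lcs_conj ?_ (inv_mem hzS)
      rw [← commutatorElement_inv]
      exact inv_mem (Ambient.TS_comm (hC2.symm ▸ hg1) hz2)
    change z ∈ (if ((i.succ : Fin 5) : ℕ) = 0 then ⊥ else if ((i.succ : Fin 5) : ℕ) = 1 then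
      S.lowerCentralSeries 4 else if ((i.succ : Fin 5) : ℕ) = 2 then T else
        if ((i.succ : Fin 5) : ℕ) = 3 then S.lowerCentralSeries 2 else P) at hz
    show z⁻¹ * (g * z * g⁻¹) ∈ (if ((i.castSucc : Fin 5) : ℕ) = 0 then ⊥ else
      if ((i.castSucc : Fin 5) : ℕ) = 1 then S.lowerCentralSeries 4 else
        if ((i.castSucc : Fin 5) : ℕ) = 2 then T else
          if ((i.castSucc : Fin 5) : ℕ) = 3 then S.lowerCentralSeries 2 else P)
    rw [Fin.val_succ] at hz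
    rw [Fin.val_castSucc]
    have hi := i.isLt
    rcases (show (i : ℕ) = 0 ∨ (i : ℕ) = 1 ∨ (i : ℕ) = 2 ∨ (i : ℕ) = 3 by omega) with hi' | hi' | hi' | hi'
    · rw [if_neg (by omega), if_pos (by omega)] at hz
      rw [if_pos hi', Subgroup.mem_bot, (central_four h hz (Ambient.TS_le 1 hg1)).symm.eq,
        mul_inv_cancel_right, inv_mul_cancel]
    · rw [if_neg (by omega), if_neg (by omega), if_pos (by omega)] at hz
      rw [if_neg (by omega), if_pos hi']
      exact hstep hz.2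
    · rw [if_neg (by omega), if_neg (by omega), if_neg (by omega), if_pos (by omega)] at hz
      rw [if_neg (by omega), if_neg (by omega), if_pos hi']
      exact hL4T (hstep hz)
    · rw [if_neg (by omega), if_neg (by omega), if_neg (by omega), if_neg (by omega)] at hz
      rw [if_neg (by omega), if_neg (by omega), if_neg (by omega), if_pos hi', e]
      exact Ambient.lcs_conj (Ambient.TS_comm_TS h (by omega) hg1 (hP1 hz)) (inv_mem hzS)
  obtain ⟨g, hg, hgf, hgmem⟩ := exists_extension_series h.isPGroup hF hfn c rfl rfl hcle hcinv hccen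
    (autOf_mem hf himg)
  rw [hnormP] at hg hgmem
  exact ⟨g, hg, fun q hq => by rw [hgf q hq, autFun_autOf hf himg hq], hgmem⟩

/-- The exceptional configuration is impossible. -/
theorem false_side (hp5 : 5 ≤ p) (hF : F.IsSaturated p) (hs : IsSmallEss p F E) (hE1 : E ≤ Ambient.TS S 1)
    (hexc : ¬ Ambient.TS S 1 ≤ Ambient.TS S 3) (hEL : ¬ E ≤ S.lowerCentralSeries 1)
    (hT : Nat.card (E ⊓ Zj S 6 3 : Subgroup Ω) = p ^ 2) (hsup : normalizerIn S E = E ⊔ Zj S 6 3) : False := by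
  obtain ⟨x, hxE, hxL, hEgen, hne, y, hyE, hy, hy', f, hf, hfmem, hfx, hfy, hf4⟩ :=
    side_start h hp5 hF hs hE1 hexc hEL hT hsup
  obtain ⟨w, hw, hw', hwy⟩ := Ambient.exceptional_comm h le_rfl hexc hy hy'
  obtain ⟨hr3, hr4, g, hg, hgf, hgmem⟩ :=
    side_extend h hF hs hE1 hsup hxE hxL hEgen hne hyE hy hy' hw hw' hf hfmem
  set m : ℤ := (((p + 1) / 2 : ℕ) : ℤ) with hm
  have hxS := hs.le hxE
  have hx1 := hE1 hxE
  have hx2 : x ∈ Ambient.TS S 2 := (Ambient.TS_eq h (i := 2) (by omega) le_rfl).symm ▸ hx1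
  have hwS := Ambient.lcs_le _ hw
  have hw1 : w ∈ Ambient.TS S 1 := Ambient.lcs_one_le_TS 1 hw
  have hxP : x ∈ PK S 6 x 3 := Subgroup.mem_sup_left (Subgroup.mem_zpowers x)
  have hLP : S.lowerCentralSeries 2 ≤ PK S 6 x 3 := (le_sup_right : Zj S 6 3 ≤ PK S 6 x 3)
  have hgx : g x = x ^ m := by rw [hgf x hxP, hfx]
  have hgy : g y = y := by rw [hgf y (hLP hy), hfy]
  have hy1 : y ∈ Ambient.TS S 1 := Ambient.lcs_one_le_TS 1 (Ambient.lcs_anti (by omega) hy)
  -- the image of `w`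
  obtain ⟨a, v, hv, he⟩ := Ambient.TS_rep h (i := 1) (by omega) hx1 hxL (hgmem w hw1)
  obtain ⟨k, v2, hv2, rfl⟩ := Ambient.split h (g := v) (i := 1) le_rfl (by omega) hw hw' hv
  have hv2S := Ambient.lcs_le _ hv2
  set r := ⁅w, x⁆ with hr
  have hrS := Ambient.lcs_le _ hr3
  have hr2 : r ∈ S.lowerCentralSeries 2 := Ambient.lcs_anti (by omega) hr3
  have hrw : Commute r w := (commute_one_three h hw hr3).symm
  have hrx : ⁅r, x⁆ ∈ S.lowerCentralSeries 4 := Ambient.comm_succ hr3 hxS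
  have hchi : Ambient.chi S 4 (g r) = Ambient.chi S 4 (r ^ (k * m)) := by
    rw [hr, mapTo_map_comm hg hw1 hx1, he, hgx, Ambient.chi_zpow hrS,
      chi_commutator (mul_mem (zpow_mem hxS a) (mul_mem (zpow_mem hwS k) hv2S)) (zpow_mem hxS m),
      Ambient.chi_mul (zpow_mem hxS a) (mul_mem (zpow_mem hwS k) hv2S),
      Ambient.chi_mul (zpow_mem hwS k) hv2S, chi_commutator hwS hxS]
    set X := Ambient.chi S 4 x
    set W := Ambient.chi S 4 w
    set V := Ambient.chi S 4 v2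
    rw [Ambient.chi_zpow hxS, Ambient.chi_zpow hwS, Ambient.chi_zpow hxS]
    have hVX : Commute V X := by
      rw [← commutatorElement_eq_one_iff_commute, ← chi_commutator hv2S hxS]
      exact (Ambient.chi_eq_one_iff (Ambient.lcs_le _ (Ambient.TS_comm hx2 hv2))).mpr (Ambient.TS_comm hx2 hv2)
    have hRX : Commute ⁅W, X⁆ X := by
      rw [← commutatorElement_eq_one_iff_commute, ← chi_commutator hwS hxS, ← chi_commutator hrS hxS]
      exact (Ambient.chi_eq_one_iff (Ambient.lcs_le _ hrx)).mpr hrx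
    have hRW : Commute ⁅W, X⁆ W := by
      rw [← commutatorElement_eq_one_iff_commute, ← chi_commutator hwS hxS, ← chi_commutator hrS hwS,
        commutatorElement_eq_one_iff_commute.mpr hrw]
      exact (Ambient.chi_eq_one_iff (one_mem S)).mpr (one_mem _)
    rw [show ⁅X ^ a * (W ^ k * V), X ^ m⁆ =
        X ^ a * (W ^ k * ⁅V, X ^ m⁆ * (W ^ k)⁻¹ * ⁅W ^ k, X ^ m⁆) * (X ^ a)⁻¹ by
      simp only [commutatorElement_def]; group,
      commutatorElement_eq_one_iff_commute.mpr (hVX.zpow_right m), mul_one, mul_inv_cancel, one_mul,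
      Ambient.comm_zpow_exact hRX hRW, ((hRX.zpow_zpow (k * m) a).symm).eq, mul_inv_cancel_right]
  have hgr : g r ∈ S := hg.mem (hLP.trans (sup_le (Subgroup.zpowers_le.mpr hx1)
    ((Ambient.lcs_anti (show 1 ≤ 2 by omega)).trans (Ambient.lcs_one_le_TS _))) hr2)
  have hz : (r ^ (k * m))⁻¹ * g r ∈ S.lowerCentralSeries 4 :=
    (Ambient.chi_eq_iff (zpow_mem hrS _) hgr).mp hchi.symm
  set z := (r ^ (k * m))⁻¹ * g r with hzdef
  have hr1 : r ∈ Ambient.TS S 1 := Ambient.lcs_one_le_TS 1 (Ambient.lcs_anti (by omega) hr3)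
  have hrxp : ⁅r, x⁆ ^ p = 1 := hs.exp _ (hs.mem_of_comm (Ambient.lcs_le _ hrx)
    fun e he => (central_four h hrx (hs.le he)).symm)
  have hd : g ⁅r, x⁆ = ⁅r, x⁆ ^ (k * m * m) := by
    rw [mapTo_map_comm hg hr1 hx1, hgx, show g r = r ^ (k * m) * z by rw [hzdef, mul_inv_cancel_left],
      show ⁅r ^ (k * m) * z, x ^ m⁆ = r ^ (k * m) * ⁅z, x ^ m⁆ * (r ^ (k * m))⁻¹ * ⁅r ^ (k * m), x ^ m⁆ by
        simp only [commutatorElement_def]; group,
      commutatorElement_eq_one_iff_commute.mpr (central_four h hz (zpow_mem hxS m)), mul_one, mul_inv_cancel,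
      one_mul, Ambient.comm_zpow_exact (central_four h hrx hxS) (central_four h hrx hrS)]
  rw [hgf _ (hLP (Ambient.lcs_anti (by omega) hrx)), hf4 _ hrx] at hd
  have hA := dvd_of_zpow_eq hrxp (hne r hr3 hr4) hd
  -- the commutator with `y`
  have hζ : ⁅w, y⁆ ∈ S.lowerCentralSeries 4 :=
    Ambient.lcs_anti (show 4 ≤ 1 + 2 + 1 by omega) (Ambient.comm_add hw hy)
  have hζp : ⁅w, y⁆ ^ p = 1 := hs.exp _ (hs.mem_of_comm (Ambient.lcs_le _ hζ)
    fun e he => (central_four h hζ (hs.le he)).symm)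
  have hd2 : g ⁅w, y⁆ = ⁅w, y⁆ ^ k := by
    have hc : ⁅w ^ k, y ^ (1 : ℤ)⁆ = ⁅w, y⁆ ^ k := by
      rw [Ambient.comm_zpow_exact (central_four h hζ (Ambient.lcs_le _ hy)) (central_four h hζ hwS), mul_one]
    rw [zpow_one] at hc
    rw [mapTo_map_comm hg hw1 hy1, he, hgy,
      show ⁅x ^ a * (w ^ k * v2), y⁆ =
        x ^ a * (w ^ k * ⁅v2, y⁆ * (w ^ k)⁻¹ * ⁅w ^ k, y⁆) * (x ^ a)⁻¹ * ⁅x ^ a, y⁆ by
          simp only [commutatorElement_def]; group,
      commutatorElement_eq_one_iff_commute.mpr (commute_two h hv2 hy),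
      commutatorElement_eq_one_iff_commute.mpr ((hs.comm x hxE y hyE).zpow_left a), mul_one, mul_one,
      mul_inv_cancel, one_mul, hc, ← ((central_four h hζ (zpow_mem hxS a)).zpow_left k).eq, mul_inv_cancel_right]
  rw [hgf _ (hLP (Ambient.lcs_anti (by omega) hζ)), hf4 _ hζ] at hd2
  have hB := dvd_of_zpow_eq hζp hwy hd2
  have hodd : p % 2 = 1 := (Nat.Prime.eq_two_or_odd hp.out).resolve_left (by omega)
  have hm2 : 2 * m = (p : ℤ) + 1 := by rw [hm]; omega
  have h3 : (p : ℤ) ∣ 3 := by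
    obtain ⟨A, hA⟩ := hA
    obtain ⟨B, hB⟩ := hB
    refine ⟨(p : ℤ) + 2 + 2 * (A - B * m * m), ?_⟩
    linear_combination (2 * m + (p : ℤ) + 1) * hm2 + 2 * hA - 2 * (m * m) * hB
  have := Nat.le_of_dvd (by omega) (Int.natCast_dvd_natCast.mp (show (p : ℤ) ∣ ((3 : ℕ) : ℤ) from h3))
  omega

end Cfsg.Agent.Fusion.MaxSmall
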