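import Cfsg.Agent.Lib.Invol.MaxClassTwo
import Cfsg.Agent.Lib.Fusion.EssentialSmall

/-!
A metacyclic 2-group `G` with a subgroup `P0` and an element `k` normalizing it, with square in
`P0`, nontrivial on the Frattini quotient, and such that the Frattini quotient of `P0` has no
characteristic line: `G` has maximal class.
-/

set_option autoImplicit false

namespace Cfsg.Agent.Fusion

universe u

theorem mul_comm_of_isCyclic' {H : Type*} [Group H] [IsCyclic H] (a b : H) : a * b = b * a := by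
  obtain ⟨g, hg⟩ := IsCyclic.exists_generator (α := H)
  obtain ⟨i, rfl⟩ := hg a
  obtain ⟨j, rfl⟩ := hg b
  show g ^ i * g ^ j = g ^ j * g ^ i
  rw [← zpow_add, ← zpow_add, add_comm]

theorem mem_zpowers_zpow_of_odd {G : Type*} [Group G] [Finite G] (hG : IsPGroup 2 G) (x : G)
    {i : ℤ} (hi : Odd i) : x ∈ Subgroup.zpowers (x ^ i) := by
  obtain ⟨t, ht⟩ := hG x
  obtain ⟨n, rfl⟩ := hi
  have hc : IsCoprime (2 * n + 1) ((2 : ℤ) ^ t) :=
    IsCoprime.pow_right ⟨1, -n, by ring⟩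
  obtain ⟨a, b, hab⟩ := hc
  refine ⟨a, ?_⟩
  show (x ^ (2 * n + 1)) ^ a = x
  rw [← zpow_mul, show (2 * n + 1) * a = 1 + (2 : ℤ) ^ t * (-b) by linarith, zpow_add, zpow_one,
    zpow_mul, show x ^ ((2 : ℤ) ^ t) = 1 by exact_mod_cast ht, one_zpow, mul_one]

theorem mem_zpowers_of_orderOf_dvd {H : Type*} [Group H] [IsCyclic H] [Finite H] {x y : H}
    (h : orderOf x ∣ orderOf y) : x ∈ Subgroup.zpowers y := by
  classical
  haveI := Fintype.ofFinite H
  have h1 : (Finset.univ.filter fun a => a ∈ Subgroup.zpowers y) =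
      Finset.univ.filter fun a : H => a ^ orderOf y = 1 := by
    refine Finset.eq_of_subset_of_card_le ?_ ?_
    · intro a ha
      simp only [Finset.mem_filter, Finset.mem_univ, true_and] at ha ⊢
      obtain ⟨i, rfl⟩ := ha
      show (y ^ i) ^ orderOf y = 1
      rw [← zpow_natCast, ← zpow_mul, mul_comm, zpow_mul, zpow_natCast, pow_orderOf_eq_one, one_zpow]
    · refine (IsCyclic.card_pow_eq_one_le (orderOf_pos y)).trans (le_of_eq ?_)
      rw [← Nat.card_zpowers, Nat.card_eq_fintype_card, Fintype.card_subtype]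
  have h2 : x ∈ Finset.univ.filter fun a : H => a ^ orderOf y = 1 := by
    simp only [Finset.mem_filter, Finset.mem_univ, true_and]
    exact orderOf_dvd_iff_pow_eq_one.mp h
  rw [← h1] at h2
  simpa using h2

variable {G : Type u} [Group G]

/-- A subgroup `P0` of a metacyclic group, normalized by `k`. -/
structure MetaCtx (A P0 : Subgroup G) [A.Normal] (k : G) : Prop where
  pgroup : IsPGroup 2 G
  cyc : IsCyclic A
  quot : IsCyclic (G ⧸ A)
  conj_mem : ∀ x ∈ P0, k * x * k⁻¹ ∈ P0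

namespace MetaCtx

variable {A P0 : Subgroup G} [A.Normal] {k : G}

/-- The Frattini subgroup of a subgroup, in the ambient group. -/
def frat (P0 : Subgroup G) : Subgroup G := (frattini P0).map P0.subtype

theorem frat_le : frat P0 ≤ P0 := by
  rintro _ ⟨x, -, rfl⟩; exact x.2

theorem mem_frat_iff {x : G} (hx : x ∈ P0) : x ∈ frat P0 ↔ (⟨x, hx⟩ : P0) ∈ frattini P0 := by
  refine ⟨?_, fun h => ⟨_, h, rfl⟩⟩
  rintro ⟨z, hz, hzx⟩
  have he : z = (⟨x, hx⟩ : P0) := Subtype.ext hzx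
  rw [← he]; exact hz

variable (h : MetaCtx A P0 k)
include h

theorem commA {a b : G} (ha : a ∈ A) (hb : b ∈ A) : a * b = b * a := by
  haveI := h.cyc
  exact congrArg Subtype.val (mul_comm_of_isCyclic' (⟨a, ha⟩ : A) ⟨b, hb⟩)

theorem comm_mem_A (a b : G) : a * b * a⁻¹ * b⁻¹ ∈ A := by
  haveI := h.quot
  refine (QuotientGroup.eq_one_iff _).mp ?_
  rw [QuotientGroup.mk_mul, QuotientGroup.mk_mul, QuotientGroup.mk_mul,
    mul_comm_of_isCyclic' (a : G ⧸ A) (b : G ⧸ A), QuotientGroup.mk_inv, QuotientGroup.mk_inv,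
    mul_inv_cancel_right, mul_inv_cancel]

theorem w_mem {v : G} (hv : v ∈ P0) : k * v * k⁻¹ * v⁻¹ ∈ A ⊓ P0 :=
  ⟨h.comm_mem_A k v, P0.mul_mem (h.conj_mem v hv) (P0.inv_mem hv)⟩

variable [Finite G]

theorem zpow_even_mem {x : G} (hx : x ∈ P0) {i : ℤ} (hi : Even i) : x ^ i ∈ frat P0 := by
  obtain ⟨l, rfl⟩ := hi
  refine (mem_frat_iff (P0.zpow_mem hx _)).mpr ?_
  have hPp : IsPGroup 2 P0 := h.pgroup.to_subgroup P0
  have h1 := Basics.pow_mem_frattini hPp ((⟨x, hx⟩ : P0) ^ l)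
  have he : ((⟨x, hx⟩ : P0) ^ l) ^ 2 = ⟨x ^ (l + l), P0.zpow_mem hx _⟩ := by
    refine Subtype.ext ?_
    show (x ^ l) ^ 2 = x ^ (l + l)
    rw [pow_two, zpow_add]
  rwa [he] at h1

theorem conjP_frat {r x : G} (hr : r ∈ P0) (hx : x ∈ frat P0) : r * x * r⁻¹ ∈ frat P0 := by
  have h1 := (mem_frat_iff (frat_le hx)).mp hx
  refine (mem_frat_iff (P0.mul_mem (P0.mul_mem hr (frat_le hx)) (P0.inv_mem hr))).mpr ?_
  exact (inferInstance : (frattini P0).Normal).conj_mem _ h1 ⟨r, hr⟩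

theorem mem_normalizer : k ∈ Subgroup.normalizer (P0 : Set G) :=
  Subgroup.mem_normalizer_fintype fun x hx => h.conj_mem x hx

theorem conjk_frat {x : G} (hx : x ∈ frat P0) : k * x * k⁻¹ ∈ frat P0 := by
  have h1 := (mem_frat_iff (frat_le hx)).mp hx
  refine (mem_frat_iff (h.conj_mem x (frat_le hx))).mpr ?_
  exact mem_of_char (frattini P0) (P0.normalizerMonoidHom ⟨k, h.mem_normalizer⟩) h1

theorem exists_gens : ∃ a0 y : G, a0 ∈ A ⊓ P0 ∧ y ∈ P0 ∧
    (∀ x ∈ A ⊓ P0, ∃ i : ℤ, a0 ^ i = x) ∧ ∀ v ∈ P0, ∃ i j : ℤ, v = a0 ^ i * y ^ j := by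
  haveI := h.cyc
  haveI := h.quot
  haveI : IsCyclic (A ⊓ P0 : Subgroup G) :=
    isCyclic_of_injective (Subgroup.inclusion (inf_le_left : A ⊓ P0 ≤ A)) (Subgroup.inclusion_injective _)
  obtain ⟨⟨a0, ha0⟩, hgen⟩ := IsCyclic.exists_generator (α := (A ⊓ P0 : Subgroup G))
  haveI : IsCyclic (P0.map (QuotientGroup.mk' A)) :=
    isCyclic_of_injective (P0.map (QuotientGroup.mk' A)).subtype (Subgroup.subtype_injective _)
  obtain ⟨⟨q, y, hy, rfl⟩, hq⟩ := IsCyclic.exists_generator (α := P0.map (QuotientGroup.mk' A))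
  have hg : ∀ x ∈ A ⊓ P0, ∃ i : ℤ, a0 ^ i = x := fun x hx => by
    obtain ⟨i, hi⟩ := hgen ⟨x, hx⟩
    exact ⟨i, congrArg Subtype.val hi⟩
  refine ⟨a0, y, ha0, hy, hg, fun v hv => ?_⟩
  obtain ⟨j, hj⟩ := hq ⟨QuotientGroup.mk' A v, v, hv, rfl⟩
  have hj' : (QuotientGroup.mk' A y) ^ j = QuotientGroup.mk' A v := congrArg Subtype.val hj
  have h1 : v * (y ^ j)⁻¹ ∈ A ⊓ P0 := by
    refine ⟨(QuotientGroup.eq_one_iff _).mp ?_, P0.mul_mem hv (P0.inv_mem (P0.zpow_mem hy _))⟩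
    show QuotientGroup.mk' A (v * (y ^ j)⁻¹) = 1
    rw [map_mul, map_inv, map_zpow, hj', mul_inv_cancel]
  obtain ⟨i, hi⟩ := hg _ h1
  exact ⟨i, j, by rw [hi, inv_mul_cancel_right]⟩

theorem fixA {a : G} (ha : a ∈ A ⊓ P0) : k * a * k⁻¹ * a⁻¹ ∈ frat P0 := by
  obtain ⟨a0, y, ha0, -, hgen, -⟩ := h.exists_gens
  obtain ⟨n, rfl⟩ := hgen a ha
  obtain ⟨i, hi⟩ := hgen (k * a0 * k⁻¹)
    ⟨(inferInstance : A.Normal).conj_mem _ ha0.1 k, h.conj_mem _ ha0.2⟩
  rw [← conj_zpow, ← hi, ← zpow_mul, ← zpow_neg, ← zpow_add]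
  by_cases hf : a0 ∈ frat P0
  · exact (frat P0).zpow_mem hf _
  rcases Int.even_or_odd i with he | ho
  · refine absurd ?_ hf
    have h1 : k * a0 * k⁻¹ ∈ frat P0 := hi ▸ h.zpow_even_mem ha0.2 he
    obtain ⟨t, ht⟩ := h.pgroup k
    have hinv : ∀ (m : ℕ), ∀ x ∈ frat P0, k ^ m * x * (k ^ m)⁻¹ ∈ frat P0 := by
      intro m
      induction m with
      | zero => intro x hx; simpa using hx
      | succ m ih =>
        intro x hx
        have h2 := h.conjk_frat (ih x hx)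
        rwa [show k ^ (m + 1) * x * (k ^ (m + 1))⁻¹ = k * (k ^ m * x * (k ^ m)⁻¹) * k⁻¹ by
          rw [pow_succ']; group]
    have h3 := hinv (2 ^ t - 1) _ h1
    have hk1 : k ^ (2 ^ t - 1) * k = 1 := by
      rw [← pow_succ, Nat.sub_add_cancel Nat.one_le_two_pow, ht]
    rwa [show k ^ (2 ^ t - 1) * (k * a0 * k⁻¹) * (k ^ (2 ^ t - 1))⁻¹ =
      (k ^ (2 ^ t - 1) * k) * a0 * (k ^ (2 ^ t - 1) * k)⁻¹ by group, hk1, inv_one, mul_one,
      one_mul] at h3
  · refine h.zpow_even_mem ha0.2 ?_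
    obtain ⟨l, rfl⟩ := ho
    exact ⟨l * n, by ring⟩

theorem conj_sq {v : G} (hv : v ∈ P0) : k * k * v * (k * k)⁻¹ * v⁻¹ ∈ frat P0 := by
  have hw := h.w_mem hv
  rw [show k * k * v * (k * k)⁻¹ * v⁻¹ =
    (k * (k * v * k⁻¹ * v⁻¹) * k⁻¹ * (k * v * k⁻¹ * v⁻¹)⁻¹) *
      (k * v * k⁻¹ * v⁻¹) ^ (2 : ℤ) by rw [zpow_two]; group]
  exact Subgroup.mul_mem _ (h.fixA hw) (h.zpow_even_mem hw.2 even_two)

theorem card_quot_le_four : Nat.card (P0 ⧸ frattini P0) ≤ 4 := by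
  obtain ⟨a0, y, ha0, hy, -, hgen⟩ := h.exists_gens
  have hsq : ∀ (x : P0) (i : ℤ), Even i → ((x ^ i : P0) : P0 ⧸ frattini P0) = 1 := fun x i hi =>
    (QuotientGroup.eq_one_iff _).mpr ((mem_frat_iff (P0.zpow_mem x.2 i)).mp (h.zpow_even_mem x.2 hi))
  let a : P0 := ⟨a0, ha0.2⟩
  let b : P0 := ⟨y, hy⟩
  have hred : ∀ (x : P0) (i : ℤ), ∃ c : Bool,
      ((x ^ i : P0) : P0 ⧸ frattini P0) = if c then (x : P0 ⧸ frattini P0) else 1 := by
    intro x i
    rcases Int.even_or_odd i with he | ⟨l, rfl⟩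
    · exact ⟨false, hsq x i he⟩
    · refine ⟨true, ?_⟩
      rw [zpow_add_one, QuotientGroup.mk_mul, hsq x _ (even_two_mul l), one_mul]
      rfl
  have hsurj : Function.Surjective fun c : Bool × Bool =>
      (if c.1 then (a : P0 ⧸ frattini P0) else 1) * (if c.2 then (b : P0 ⧸ frattini P0) else 1) := by
    intro q
    obtain ⟨⟨v, hv⟩, rfl⟩ := QuotientGroup.mk_surjective q
    obtain ⟨i, j, rfl⟩ := hgen v hv
    obtain ⟨c, hc⟩ := hred a i
    obtain ⟨d, hd⟩ := hred b j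
    refine ⟨(c, d), ?_⟩
    show (if c then _ else _) * (if d then _ else _) = _
    rw [← hc, ← hd, ← QuotientGroup.mk_mul]
    rfl
  refine (Nat.card_le_card_of_surjective _ hsurj).trans (le_of_eq ?_)
  simp

/-- The group has maximal class. -/
theorem mcData (hk2 : k * k ∈ P0) (hmove : ∃ v ∈ P0, k * v * k⁻¹ * v⁻¹ ∉ frat P0)
    (hline : ∀ N : Subgroup P0, N.Characteristic → frattini P0 ≤ N → N = frattini P0 ∨ N = ⊤) :
    Nonempty (Invol.MaxClassTwo.MCData G) := by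
  obtain ⟨a0, y, ha0, hy, hgenA, hgen⟩ := h.exists_gens
  have hG := h.pgroup
  haveI := h.quot
  haveI := h.cyc
  -- the element `w`
  set w := k * y * k⁻¹ * y⁻¹ with hwdef
  have hwm : w ∈ A ⊓ P0 := h.w_mem hy
  have hwF : w ∉ frat P0 := by
    intro hw
    obtain ⟨v, hv, hvn⟩ := hmove
    let T : Subgroup G :=
      { carrier := {x | x ∈ P0 ∧ k * x * k⁻¹ * x⁻¹ ∈ frat P0}
        one_mem' := ⟨P0.one_mem, by simp [Subgroup.one_mem]⟩
        mul_mem' := fun {a b} ha hb => ⟨P0.mul_mem ha.1 hb.1, by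
          rw [show k * (a * b) * k⁻¹ * (a * b)⁻¹ =
            (k * a * k⁻¹ * a⁻¹) * (a * (k * b * k⁻¹ * b⁻¹) * a⁻¹) by group]
          exact Subgroup.mul_mem _ ha.2 (h.conjP_frat ha.1 hb.2)⟩
        inv_mem' := fun {a} ha => ⟨P0.inv_mem ha.1, by
          have h1 := h.conjP_frat (P0.inv_mem ha.1) (Subgroup.inv_mem _ ha.2)
          rwa [show a⁻¹ * (k * a * k⁻¹ * a⁻¹)⁻¹ * a⁻¹⁻¹ = k * a⁻¹ * k⁻¹ * a⁻¹⁻¹ by group] at h1⟩ }
    obtain ⟨i, j, rfl⟩ := hgen v hv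
    exact hvn (T.mul_mem (T.zpow_mem ⟨ha0.2, h.fixA ha0⟩ i) (T.zpow_mem ⟨hy, hw⟩ j)).2
  have hw1 : w ≠ 1 := fun h1 => hwF (h1 ▸ Subgroup.one_mem _)
  -- `w` generates `A ⊓ P0`
  have hgenW : ∀ x ∈ A ⊓ P0, x ∈ Subgroup.zpowers w := by
    intro x hx
    obtain ⟨i, hi⟩ := hgenA w hwm
    obtain ⟨n, rfl⟩ := hgenA x hx
    have hodd : Odd i := Int.not_even_iff_odd.mp fun he => hwF (hi ▸ h.zpow_even_mem ha0.2 he)
    exact Subgroup.zpow_mem _ (hi ▸ mem_zpowers_zpow_of_odd hG a0 hodd) n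
  -- `k` is not in `P0`
  have hkP : k ∉ P0 := by
    intro hk
    refine hwF ((mem_frat_iff hwm.2).mpr ?_)
    have h1 : ⁅(⊤ : Subgroup P0), ⊤⁆ ≤ frattini P0 :=
      haveI := (hG.to_subgroup P0).isNilpotent
      Basics.commutator_le_frattini
    have h2 := Subgroup.commutator_mem_commutator (H₁ := (⊤ : Subgroup P0)) (H₂ := ⊤)
      (Subgroup.mem_top (⟨k, hk⟩ : P0)) (Subgroup.mem_top ⟨y, hy⟩)
    exact h1 h2
  -- in the quotient by `A`
  obtain ⟨m, a1, ha1, hkm⟩ : ∃ (m : ℕ) (a1 : G), a1 ∈ A ∧ k = y ^ m * a1 := by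
    have hqp : IsPGroup 2 (G ⧸ A) := hG.to_quotient A
    have hmem : (k : G ⧸ A) ∈ Subgroup.zpowers (y : G ⧸ A) := by
      by_contra hn
      obtain ⟨s, hs⟩ := IsPGroup.iff_orderOf.mp hqp (k : G ⧸ A)
      obtain ⟨t, ht⟩ := IsPGroup.iff_orderOf.mp hqp (y : G ⧸ A)
      have hts : t < s := by
        by_contra hle
        exact hn (mem_zpowers_of_orderOf_dvd (hs ▸ ht ▸ Nat.pow_dvd_pow 2 (not_lt.mp hle)))
      obtain ⟨n, hn'⟩ := mem_zpowers_of_orderOf_dvd (x := (y : G ⧸ A)) (y := (k : G ⧸ A))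
        (hs ▸ ht ▸ Nat.pow_dvd_pow 2 hts.le)
      rcases Int.even_or_odd n with ⟨l, rfl⟩ | ho
      · refine hwF ?_
        have hr : (k * k) ^ l ∈ P0 := P0.zpow_mem hk2 _
        have ha2 : ((k * k) ^ l)⁻¹ * y ∈ A ⊓ P0 := by
          refine ⟨(QuotientGroup.eq_one_iff _).mp ?_, P0.mul_mem (P0.inv_mem hr) hy⟩
          have hn2 : (k : G ⧸ A) ^ (l + l) = (y : G ⧸ A) := hn'
          rw [QuotientGroup.mk_mul, QuotientGroup.mk_inv, QuotientGroup.mk_zpow,
            QuotientGroup.mk_mul, ← hn2, (Commute.refl (k : G ⧸ A)).mul_zpow, zpow_add,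
            inv_mul_cancel]
        have hc : Commute k ((k * k) ^ l) := ((Commute.refl k).mul_right (Commute.refl k)).zpow_right l
        rw [hwdef, show k * y * k⁻¹ * y⁻¹ = (k * ((k * k) ^ l) * k⁻¹) *
          (k * (((k * k) ^ l)⁻¹ * y) * k⁻¹ * (((k * k) ^ l)⁻¹ * y)⁻¹) * ((k * k) ^ l)⁻¹ by group,
          hc.eq, mul_inv_cancel_right]
        exact h.conjP_frat hr (h.fixA ha2)
      · apply hn
        rw [← hn']
        exact mem_zpowers_zpow_of_odd hqp _ ho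
    obtain ⟨m, hm⟩ := mem_powers_iff_mem_zpowers.mpr hmem
    refine ⟨m, (y ^ m)⁻¹ * k, (QuotientGroup.eq_one_iff _).mp ?_, by rw [mul_inv_cancel_left]⟩
    rw [QuotientGroup.mk_mul, QuotientGroup.mk_inv, QuotientGroup.mk_pow]
    exact inv_mul_eq_one.mpr hm
  have ha1P : a1 ∉ P0 := fun hh => hkP (hkm ▸ P0.mul_mem (P0.pow_mem hy m) hh)
  -- the generator of `A`
  obtain ⟨⟨g, hgA⟩, hg⟩ := IsCyclic.exists_generator (α := A)
  have hgz : ∀ x ∈ A, ∃ i : ℤ, g ^ i = x := fun x hx => by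
    obtain ⟨i, hi⟩ := hg ⟨x, hx⟩
    exact ⟨i, congrArg Subtype.val hi⟩
  obtain ⟨j, hj⟩ := hgz a1 ha1
  obtain ⟨v, hv⟩ := hgz (y⁻¹ * g * y) (by
    simpa using (inferInstance : A.Normal).conj_mem g hgA y⁻¹)
  have hconj : ∀ (n : ℕ) (i : ℤ), (y ^ n)⁻¹ * g ^ i * y ^ n = g ^ (v ^ n * i) := by
    intro n
    induction n with
    | zero => intro i; simp
    | succ n ih =>
      intro i
      rw [show (y ^ (n + 1))⁻¹ * g ^ i * y ^ (n + 1) = y⁻¹ * ((y ^ n)⁻¹ * g ^ i * y ^ n) * y⁻¹⁻¹ by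
        rw [pow_succ]; group, ih, ← conj_zpow, inv_inv, ← hv, ← zpow_mul]
      congr 1; ring
  have he : y⁻¹ * a1 * y * a1⁻¹ = g ^ ((v - 1) * j) := by
    have h1 := hconj 1 j
    simp only [pow_one] at h1
    rw [← hj, h1, ← zpow_neg, ← zpow_add]
    congr 1; ring
  have hwe : w = y ^ (m + 1) * g ^ ((v - 1) * j) * (y ^ (m + 1))⁻¹ := by
    rw [← he, hwdef, hkm, pow_succ]; group
  have hvodd : Odd v := by
    by_contra hev
    rw [Int.not_odd_iff_even] at hev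
    obtain ⟨u, hu⟩ := hgz (y * g * y⁻¹) ((inferInstance : A.Normal).conj_mem g hgA y)
    have h1 : g ^ (v * u - 1) = 1 := by
      have h2 : y⁻¹ * (g ^ u) * y⁻¹⁻¹ = g := by rw [hu]; group
      rw [← conj_zpow, inv_inv, ← hv, ← zpow_mul] at h2
      rw [zpow_sub_one, h2, mul_inv_cancel]
    have hg1 : g = 1 := by
      have h3 := mem_zpowers_zpow_of_odd hG g (i := v * u - 1)
        (Even.sub_odd (hev.mul_right u) odd_one)
      rw [h1, Subgroup.zpowers_one_eq_bot, Subgroup.mem_bot] at h3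
      exact h3
    exact hw1 (by rw [hwe, hg1]; simp)
  have hf : g ^ ((v ^ m + 1) * j) ∈ A ⊓ P0 := by
    refine ⟨A.zpow_mem hgA _, ?_⟩
    have h1 : k * k = y ^ m * y ^ m * (((y ^ m)⁻¹ * a1 * y ^ m) * a1) := by rw [hkm]; group
    rw [← hj, hconj m j, ← zpow_add] at h1
    have h2 : g ^ (v ^ m * j + j) = (y ^ m * y ^ m)⁻¹ * (k * k) := by rw [h1]; group
    rw [show (v ^ m + 1) * j = v ^ m * j + j by ring, h2]
    exact P0.mul_mem (P0.inv_mem (P0.mul_mem (P0.pow_mem hy m) (P0.pow_mem hy m))) hk2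
  -- `A ⊓ P0` is generated by the conjugate `g ^ ((v - 1) * j)` of `w`
  have hem : g ^ ((v - 1) * j) ∈ A ⊓ P0 := by
    refine ⟨A.zpow_mem hgA _, ?_⟩
    rw [show g ^ ((v - 1) * j) = (y ^ (m + 1))⁻¹ * w * y ^ (m + 1) by rw [hwe]; group]
    exact P0.mul_mem (P0.mul_mem (P0.inv_mem (P0.pow_mem hy _)) hwm.2) (P0.pow_mem hy _)
  have hgenE : ∀ x ∈ A ⊓ P0, x ∈ Subgroup.zpowers (g ^ ((v - 1) * j)) := by
    intro x hx
    have hx' : y ^ (m + 1) * x * (y ^ (m + 1))⁻¹ ∈ A ⊓ P0 :=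
      ⟨(inferInstance : A.Normal).conj_mem x hx.1 _,
        P0.mul_mem (P0.mul_mem (P0.pow_mem hy _) hx.2) (P0.inv_mem (P0.pow_mem hy _))⟩
    obtain ⟨i, hi⟩ := hgenW _ hx'
    refine ⟨i, ?_⟩
    show (g ^ ((v - 1) * j)) ^ i = x
    have hi' : w ^ i = y ^ (m + 1) * x * (y ^ (m + 1))⁻¹ := hi
    rw [hwe, conj_zpow] at hi'
    exact mul_left_cancel (mul_right_cancel hi')
  have hv4 : v % 4 = 3 := by
    by_contra h3
    have hv1 : v % 4 = 1 := by
      obtain ⟨t, rfl⟩ := hvodd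
      omega
    have hV : v ^ m % 4 = 1 := by
      have h1 : Int.ModEq 4 v 1 := hv1
      simpa using (h1.pow m).eq
    obtain ⟨t, ht⟩ := hgenE _ hf
    have ht' : g ^ ((v - 1) * j * t) = g ^ ((v ^ m + 1) * j) := by rw [zpow_mul]; exact ht
    obtain ⟨c, hc⟩ : ∃ c, v - 1 = 4 * c := ⟨v / 4, by omega⟩
    obtain ⟨d, hd⟩ : ∃ d, v ^ m + 1 = 4 * d + 2 := ⟨v ^ m / 4, by omega⟩
    have h2 : (g ^ (2 * j)) ^ (2 * (c * t - d) - 1) = 1 := by
      rw [← zpow_mul, show 2 * j * (2 * (c * t - d) - 1) =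
        (v - 1) * j * t - (v ^ m + 1) * j by rw [hc, hd]; ring, zpow_sub, ht', mul_inv_cancel]
    have h3' : g ^ (2 * j) = 1 := by
      have := mem_zpowers_zpow_of_odd hG (g ^ (2 * j)) (i := 2 * (c * t - d) - 1)
        ⟨c * t - d - 1, by ring⟩
      rw [h2, Subgroup.zpowers_one_eq_bot, Subgroup.mem_bot] at this
      exact this
    refine hw1 ?_
    rw [hwe, show (v - 1) * j = 2 * j * (2 * c) by rw [hc]; ring, zpow_mul, h3', one_zpow]
    group
  obtain ⟨c, hc⟩ : ∃ c, v - 1 = 4 * c + 2 := ⟨v / 4, by omega⟩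
  have hsq : g ^ (2 * j) ∈ A ⊓ P0 := by
    have h1 := mem_zpowers_zpow_of_odd hG (g ^ (2 * j)) (i := 2 * c + 1) ⟨c, rfl⟩
    rw [← zpow_mul, show 2 * j * (2 * c + 1) = (v - 1) * j by rw [hc]; ring] at h1
    exact (Subgroup.zpowers_le.mpr hem) h1
  have hsq1 : g ^ (2 * j) ≠ 1 := by
    intro h1
    refine hw1 ?_
    rw [hwe, show (v - 1) * j = 2 * j * (2 * c + 1) by rw [hc]; ring, zpow_mul, h1, one_zpow]
    group
  -- `y * y` lies in the commutator subgroup of `P0`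
  have hyy : y * y ∈ A := by
    set C := commutator P0 with hC
    let b : P0 := ⟨y, hy⟩
    let a : P0 := ⟨g ^ (2 * j), hsq.2⟩
    suffices hb2 : b * b ∈ C by
      have hle : C ≤ A.subgroupOf P0 := by
        rw [hC, commutator_def, Subgroup.commutator_le]
        intro p _ q _
        exact Subgroup.mem_subgroupOf.mpr (h.comm_mem_A (p : G) (q : G))
      exact hle hb2
    by_contra hb2
    have haC : a * a ∈ C := by
      have h1 : a * a ∈ Subgroup.zpowers (b⁻¹ * a * b⁻¹⁻¹ * a⁻¹) := by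
        have h2 := mem_zpowers_zpow_of_odd hG (g ^ (4 * j)) (i := 2 * c + 1) ⟨c, rfl⟩
        obtain ⟨n, hn⟩ := h2
        refine ⟨n, Subtype.ext ?_⟩
        show (y⁻¹ * g ^ (2 * j) * y⁻¹⁻¹ * (g ^ (2 * j))⁻¹) ^ n = g ^ (2 * j) * g ^ (2 * j)
        have h3 := hconj 1 (2 * j)
        simp only [pow_one] at h3
        rw [inv_inv, h3, ← zpow_neg, ← zpow_add, ← zpow_add,
          show v * (2 * j) + -(2 * j) = 4 * j * (2 * c + 1) by linear_combination (2 * j) * hc,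
          show 2 * j + 2 * j = 4 * j by ring]
        rw [zpow_mul]
        exact hn
      refine (Subgroup.zpowers_le.mpr ?_) h1
      rw [hC, commutator_def]
      exact Subgroup.commutator_mem_commutator (Subgroup.mem_top _) (Subgroup.mem_top _)
    set π : P0 →* Abelianization P0 := Abelianization.of with hπ
    have hker : ∀ x : P0, π x = 1 ↔ x ∈ C := fun x => by
      rw [hC, ← Abelianization.ker_of P0]; exact MonoidHom.mem_ker.symm
    obtain ⟨s, hs⟩ := IsPGroup.iff_orderOf.mp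
      ((hG.to_subgroup P0).of_surjective π QuotientGroup.mk_surjective) (π b)
    obtain ⟨s, rfl⟩ : ∃ s', s = s' + 2 := by
      refine ⟨s - 2, (Nat.sub_add_cancel ?_).symm⟩
      by_contra hlt
      refine hb2 ((hker _).mp ?_)
      rw [map_mul, ← pow_two]
      refine orderOf_dvd_iff_pow_eq_one.mp (hs ▸ ?_)
      exact (Nat.pow_dvd_pow 2 (show s ≤ 1 by omega)).trans (by norm_num)
    set N : Subgroup P0 := ((powMonoidHom (2 ^ (s + 1))).comp π).ker with hNdef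
    have hNmem : ∀ x : P0, x ∈ N ↔ x ^ 2 ^ (s + 1) ∈ C := fun x => by
      rw [← hker, map_pow]; exact MonoidHom.mem_ker
    have hNc : N.Characteristic := Subgroup.characteristic_iff_le_comap.mpr fun φ x hx => by
      rw [Subgroup.mem_comap, hNmem]
      have h1 := mem_of_char C φ ((hNmem x).mp hx)
      rwa [map_pow] at h1
    have haN : a ∈ N := by
      rw [hNmem, pow_succ', pow_mul, pow_two]
      exact C.pow_mem haC _
    have hexp : ∀ x : P0, π x ^ 2 ^ (s + 2) = 1 := by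
      rintro ⟨x, hx⟩
      obtain ⟨i, i', rfl⟩ := hgen x hx
      obtain ⟨n, hn⟩ : a0 ∈ Subgroup.zpowers (g ^ (2 * j)) := by
        have h1 := hgenE a0 ha0
        rw [show (v - 1) * j = 2 * j * (2 * c + 1) by rw [hc]; ring, zpow_mul] at h1
        exact (Subgroup.zpowers_le.mpr (Subgroup.zpow_mem_zpowers _ _)) h1
      have he : (⟨a0 ^ i * y ^ i', hx⟩ : P0) = (a ^ n) ^ i * b ^ i' := Subtype.ext (by
        show a0 ^ i * y ^ i' = ((g ^ (2 * j)) ^ n) ^ i * y ^ i'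
        rw [show (g ^ (2 * j)) ^ n = a0 from hn])
      rw [he, map_mul, map_zpow, map_zpow, map_zpow, mul_pow, ← zpow_natCast (((π a) ^ n) ^ i),
        ← zpow_natCast ((π b) ^ i'), ← zpow_mul, ← zpow_mul, ← zpow_mul, mul_comm i',
        zpow_mul (π b), zpow_natCast (π b), ← hs, pow_orderOf_eq_one, one_zpow, mul_one]
      have h2 : π a ^ (2 : ℤ) = 1 := by rw [zpow_two, ← map_mul]; exact (hker _).mpr haC
      rw [show n * (i * ((orderOf (π b) : ℕ) : ℤ)) = 2 * (n * i * 2 ^ (s + 1)) by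
        rw [hs]; push_cast; ring, zpow_mul, h2, one_zpow]
    have hΦN : frattini P0 ≤ N := by
      refine (LocalEvenA.frattini_le_commutator_sup_pow (p := 2) (Q := P0)).trans
        (sup_le (fun x hx => (hNmem x).mpr (C.pow_mem hx _)) ?_)
      rw [Subgroup.closure_le]
      rintro _ ⟨x, rfl⟩
      rw [SetLike.mem_coe, hNmem, ← pow_mul, ← pow_succ', ← hker, map_pow]
      exact hexp x
    rcases hline N hNc hΦN with h1 | h1
    · refine hwF ?_
      have ha : g ^ (2 * j) ∈ frat P0 := ⟨a, h1 ▸ haN, rfl⟩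
      rw [hwe, show (v - 1) * j = 2 * j * (2 * c + 1) by rw [hc]; ring, zpow_mul]
      exact h.conjP_frat (P0.pow_mem hy _) (Subgroup.zpow_mem _ ha _)
    · have hbN : b ∈ N := h1 ▸ Subgroup.mem_top b
      rw [hNmem, ← hker, map_pow, ← orderOf_dvd_iff_pow_eq_one, hs,
        Nat.pow_dvd_pow_iff_le_right one_lt_two] at hbN
      omega
  -- the index of `A`
  have hyA : y ∉ A := by
    intro hyA
    refine hw1 ?_
    rw [hwe, ← he, show y⁻¹ * a1 * y = a1 by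
      rw [mul_assoc, h.commA ha1 hyA, inv_mul_cancel_left], mul_inv_cancel]
    group
  have hgen' : ∀ x : G ⧸ A, x ∈ Subgroup.zpowers (y : G ⧸ A) := by
    obtain ⟨q, hq⟩ := IsCyclic.exists_generator (α := G ⧸ A)
    obtain ⟨i, hi⟩ := hq (y : G ⧸ A)
    rcases Int.even_or_odd i with ⟨l, rfl⟩ | ho
    · exfalso
      obtain ⟨q', rfl⟩ := QuotientGroup.mk_surjective q
      obtain ⟨d, hd⟩ := hgz (q' ^ (-l) * g * (q' ^ (-l))⁻¹)
        ((inferInstance : A.Normal).conj_mem g hgA _)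
      have ha : (q' ^ l * q' ^ l)⁻¹ * y ∈ A := by
        refine (QuotientGroup.eq_one_iff _).mp ?_
        rw [QuotientGroup.mk_mul, QuotientGroup.mk_inv, QuotientGroup.mk_mul,
          QuotientGroup.mk_zpow]
        have hi2 : (q' : G ⧸ A) ^ (l + l) = (y : G ⧸ A) := hi
        rw [← hi2, zpow_add, inv_mul_cancel]
      have h1 : g ^ v = g ^ (d * d) := by
        have hB : (q' ^ l * q' ^ l)⁻¹ * g * (q' ^ l * q' ^ l) = g ^ (d * d) := by
          rw [zpow_mul, hd, conj_zpow, hd]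
          group
        calc g ^ v = y⁻¹ * g * y := hv
          _ = ((q' ^ l * q' ^ l)⁻¹ * y)⁻¹ * (((q' ^ l * q' ^ l)⁻¹ * g * (q' ^ l * q' ^ l)) *
              ((q' ^ l * q' ^ l)⁻¹ * y)) := by group
          _ = g ^ (d * d) := by
            rw [hB, h.commA (A.zpow_mem hgA (d * d)) ha, inv_mul_cancel_left]
      have h2 : (4 : ℤ) ∣ v - d * d := by
        refine dvd_trans ?_ (orderOf_dvd_sub_iff_zpow_eq_zpow.mpr h1)
        have hg4 : ¬ orderOf g ∣ 2 := fun hh => hsq1 (by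
          rw [zpow_mul, show g ^ (2 : ℤ) = 1 by
            rw [zpow_two, ← pow_two]; exact orderOf_dvd_iff_pow_eq_one.mp hh, one_zpow])
        obtain ⟨t, ht⟩ := IsPGroup.iff_orderOf.mp hG g
        have ht2 : 2 ≤ t := by
          by_contra hlt
          exact hg4 (ht ▸ (Nat.pow_dvd_pow 2 (show t ≤ 1 by omega)).trans (by norm_num))
        rw [ht]; exact_mod_cast (Nat.pow_dvd_pow 2 ht2)
      obtain ⟨r, hr⟩ := h2
      rcases Int.even_or_odd d with ⟨b, rfl⟩ | ⟨b, rfl⟩ <;> ring_nf at hr <;> omega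
    · intro x
      obtain ⟨n, rfl⟩ := hq x
      refine Subgroup.zpow_mem _ ?_ n
      exact hi ▸ mem_zpowers_zpow_of_odd (hG.to_quotient A) q ho
  have hAidx : A.index = 2 := by
    rw [Subgroup.index, ← Subgroup.card_top,
      ← (show Subgroup.zpowers (y : G ⧸ A) = ⊤ from eq_top_iff.mpr fun x _ => hgen' x),
      Nat.card_zpowers]
    exact orderOf_eq_prime (by rw [pow_two, ← QuotientGroup.mk_mul]; exact (QuotientGroup.eq_one_iff _).mpr hyy)
      (fun h1 => hyA ((QuotientGroup.eq_one_iff _).mp h1))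
  obtain ⟨e, hoe⟩ := IsPGroup.iff_orderOf.mp hG g
  have hAz : Subgroup.zpowers g = A :=
    le_antisymm (Subgroup.zpowers_le.mpr hgA) fun x hx => hgz x hx
  have hcard : Nat.card G = 2 ^ (e + 1) := by
    rw [← A.card_mul_index, hAidx, ← hAz, Nat.card_zpowers, hoe, pow_succ]
  have he2 : 2 ≤ e := by
    by_contra hlt
    refine hsq1 ?_
    rw [zpow_mul, show g ^ (2 : ℤ) = 1 by
      rw [zpow_two, ← pow_two]
      exact orderOf_dvd_iff_pow_eq_one.mp (hoe ▸ (Nat.pow_dvd_pow 2 (show e ≤ 1 by omega)).trans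
        (by norm_num)), one_zpow]
  have hdvd : ∀ {p q : ℤ}, g ^ p = g ^ q → (2 : ℤ) ^ e ∣ p - q := fun {p q} hh => by
    have h1 := orderOf_dvd_sub_iff_zpow_eq_zpow.mpr hh
    rw [hoe] at h1; exact_mod_cast h1
  have hzero : ∀ {p : ℤ}, (2 : ℤ) ^ e ∣ p → g ^ p = 1 := fun {p} hh => by
    rw [← orderOf_dvd_iff_zpow_eq_one, hoe]; exact_mod_cast hh
  have hu : y * g * y⁻¹ = g ^ v := by
    rw [hv]
    calc y * g * y⁻¹ = y⁻¹ * ((y * y) * g) * y⁻¹ := by group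
      _ = y⁻¹ * (g * (y * y)) * y⁻¹ := by rw [h.commA hyy hgA]
      _ = y⁻¹ * g * y := by group
  have hvv : (2 : ℤ) ^ e ∣ v * v - 1 := by
    refine hdvd ?_
    rw [zpow_one, zpow_mul, ← hu, conj_zpow, ← hu]
    calc y * (y * g * y⁻¹) * y⁻¹ = (y * y) * g * (y * y)⁻¹ := by group
      _ = g := by rw [h.commA hyy hgA, mul_inv_cancel_right]
  obtain ⟨b, hb⟩ : ∃ b, v = 4 * b + 3 := ⟨v / 4, by omega⟩
  have hcop : IsCoprime ((2 : ℤ) ^ e) (2 * b + 1) := IsCoprime.pow_left ⟨-b, 1, by ring⟩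
  have hv1 : (2 : ℤ) ^ e ∣ 2 * (v + 1) := by
    refine hcop.dvd_of_dvd_mul_right ?_
    rw [show 2 * (v + 1) * (2 * b + 1) = v * v - 1 by rw [hb]; ring]
    exact hvv
  have hinv2 : ∀ x ∈ A, x * x = 1 → x = 1 ∨ x = g ^ 2 ^ (e - 1) := by
    intro x hx hxx
    obtain ⟨i, rfl⟩ := hgz x hx
    rw [← zpow_add, ← orderOf_dvd_iff_zpow_eq_one, hoe] at hxx
    obtain ⟨t, ht⟩ := hxx
    have hi : i = 2 ^ (e - 1) * t := by
      have h1 : ((2 ^ e : ℕ) : ℤ) = 2 * 2 ^ (e - 1) := by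
        push_cast; rw [← pow_succ', Nat.sub_add_cancel (by omega)]
      rw [h1] at ht
      linarith
    have h2e : (2 : ℤ) * 2 ^ (e - 1) = 2 ^ e := by rw [← pow_succ', Nat.sub_add_cancel (by omega)]
    rcases Int.even_or_odd t with ⟨d, rfl⟩ | ⟨d, rfl⟩
    · left
      exact hzero ⟨d, by rw [hi, ← h2e]; ring⟩
    · right
      rw [hi, show (2 : ℤ) ^ (e - 1) * (2 * d + 1) = 2 ^ e * d + ((2 ^ (e - 1) : ℕ) : ℤ) by
        push_cast; rw [← h2e]; ring, zpow_add, hzero (dvd_mul_right _ _), one_mul, zpow_natCast]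
  have hy4 : y * y * (y * y) = 1 := by
    obtain ⟨r, hr⟩ := hgz _ hyy
    have h1 : g ^ (v * r) = g ^ r := by
      rw [zpow_mul, ← hu, conj_zpow, hr]; group
    have h2 : (2 : ℤ) ^ e ∣ 2 * r := by
      refine hcop.dvd_of_dvd_mul_right ?_
      rw [show 2 * r * (2 * b + 1) = v * r - r by rw [hb]; ring]
      exact hdvd h1
    rw [← hr, ← zpow_add, ← two_mul]
    exact hzero h2
  have hyz : y ∉ Subgroup.zpowers g := hAz.symm ▸ hyA
  rcases hinv2 (g ^ (v + 1)) (A.zpow_mem hgA _) (by rw [← zpow_add, ← two_mul]; exact hzero hv1)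
    with h1 | h1
  · have hinv : y * g * y⁻¹ = g⁻¹ := by
      rw [hu, eq_inv_iff_mul_eq_one, ← zpow_add_one]; exact h1
    rcases hinv2 _ hyy hy4 with h2 | h2
    · exact ⟨⟨e, he2, g, y, hcard, hoe, hyz, Or.inl ⟨h2, hinv⟩⟩⟩
    · exact ⟨⟨e, he2, g, y, hcard, hoe, hyz, Or.inr (Or.inl ⟨h2, hinv⟩)⟩⟩
  · have he3 : 3 ≤ e := by
      by_contra hlt
      obtain rfl : e = 2 := by omega
      have h3 : g ^ (v + 1) = 1 := hzero ⟨b + 1, by rw [hb]; ring⟩
      rw [h3] at h1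
      have h4 : orderOf g ∣ 2 ^ (2 - 1) := orderOf_dvd_of_pow_eq_one h1.symm
      rw [hoe] at h4
      norm_num at h4
    have hle : 1 ≤ 2 ^ (e - 1) := Nat.one_le_two_pow
    have hrel : y * g * y⁻¹ = g ^ (2 ^ (e - 1) - 1) := by
      rw [hu, show v = (v + 1) - 1 by ring, zpow_sub_one, h1, pow_sub g hle, pow_one]
    rcases hinv2 _ hyy hy4 with h2 | h2
    · exact ⟨⟨e, he2, g, y, hcard, hoe, hyz, Or.inr (Or.inr ⟨he3, h2, hrel⟩)⟩⟩
    · refine ⟨⟨e, he2, g, y * g, hcard, hoe, fun hh => hyz ?_, Or.inr (Or.inr ⟨he3, ?_, ?_⟩)⟩⟩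
      · simpa using mul_mem hh (inv_mem (Subgroup.mem_zpowers g))
      · calc y * g * (y * g) = (y * g * y⁻¹) * (y * y) * g := by group
          _ = g ^ (2 ^ (e - 1) - 1) * g ^ 2 ^ (e - 1) * g := by rw [hrel, h2]
          _ = g ^ 2 ^ e := by
              rw [← pow_add, ← pow_succ]
              congr 1
              have : 2 ^ e = 2 * 2 ^ (e - 1) := by rw [← pow_succ', Nat.sub_add_cancel (by omega)]
              omega
          _ = 1 := by rw [← hoe, pow_orderOf_eq_one]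
      · rw [show y * g * g * (y * g)⁻¹ = y * g * y⁻¹ by group]
        exact hrel

end MetaCtx

end Cfsg.Agent.Fusion
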