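import Cfsg.Agent.Lib.Fusion.Transfer
import Cfsg.Agent.Lib.Fusion.NormalCriteria
import Mathlib.GroupTheory.GroupAction.Basic

/-!
The group attached to a biset and a normal centric subgroup `Q`: pairs `(β, e)` with `β ∈ Aut_F(Q)`
and `e` a permutation of the biset commuting with the right action and twisting the left action
of `Q` by `β`, modulo the kernel of the product-of-coordinates map onto `Z(Q)`.
-/

set_option autoImplicit false

namespace Cfsg.Agent.Fusion

open Cfsg.FusionSystem (centralizerIn normalizerIn)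

universe u v

variable {Ω : Type u} [Group Ω] {S : Subgroup Ω} {F : FusionSystem S} {Q : Subgroup Ω} {p : ℕ}

/-- Hypotheses on the data: `Q` is normal and centric, `X` is a biset of the system. -/
structure ModelData (F : FusionSystem S) (p : ℕ) (Q : Subgroup Ω) (X : Type v)
    [MulAction (S × S) X] : Prop where
  normal : F.IsNormal Q
  centric : F.IsCentric Q
  free : ∀ (b : S) (x : X), ((1, b) : S × S) • x = x → b = 1
  graph : ∀ x : X, ∃ (P : Subgroup Ω) (f : Ω → Ω), MapTo F P f ∧
    ∀ a b : S, ((a, b) : S × S) • x = x → (a : Ω) ∈ P ∧ f a = b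
  translate : ∀ (P : Subgroup Ω) (f : Ω → Ω) (hf : MapTo F P f), Q ≤ P →
    ∃ e : X ≃ X, (∀ x (b : S), e (rm x b) = rm (e x) b) ∧
      ∀ (a : Ω) (ha : a ∈ P) x,
        e (lm (⟨a, hf.le ha⟩ : S) x) = lm (⟨f a, hf.mem ha⟩ : S) (e x)
  deg : ∃ n : ℕ, ¬ p ∣ n ∧ Nat.card X ≡ n * Nat.card S [MOD p * Nat.card S]

variable {X : Type v} [MulAction (S × S) X]

namespace ModelData

variable (D : ModelData F p Q X)
include D

theorem le : Q ≤ S := D.normal.1

/-- Inclusion of `Q` in `S`. -/
abbrev inc : Q →* S := Subgroup.inclusion D.le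

theorem img_eq {P : Subgroup Ω} {f : Ω → Ω} [Finite S] (hf : MapTo F P f) (h : Q ≤ P) :
    img f Q = Q :=
  StronglyClosed.img_eq (IsNormal.stronglyClosed D.normal) hf h

theorem centralizes {s : S} (h : ∀ w : Q, s * D.inc w = D.inc w * s) :
    ∃ z : Subgroup.center Q, s = D.inc z := by
  have hs : (s : Ω) ∈ Q := centralizerIn_le_of_isCentric D.centric
    (mem_centralizerIn.mpr ⟨s.2, fun y hy => (congrArg Subtype.val (h ⟨y, hy⟩)).symm⟩)
  refine ⟨⟨⟨s, hs⟩, Subgroup.mem_center_iff.mpr fun w => Subtype.ext ?_⟩, rfl⟩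
  exact (congrArg Subtype.val (h w)).symm

/-- The type of a point whose orbit is fixed by `Q`. -/
def HasType (x : X) (α : MulAut Q) : Prop :=
  α ∈ F.autGroup Q ∧ ∀ (w : Q) (b : S),
    ((D.inc w, b) : S × S) • x = x ↔ b = D.inc (α w)

theorem hasType_of_fixed [Finite S] {x : X}
    (h : ∀ w : Q, ∃ b : S, ((D.inc w, b) : S × S) • x = x) :
    ∃ α, D.HasType x α := by
  obtain ⟨P, f, hf, hfix⟩ := D.graph x
  have hQP : Q ≤ P := fun y hy => (hfix _ _ (h ⟨y, hy⟩).choose_spec).1
  have himg := D.img_eq hf hQP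
  refine ⟨autOf (hf.restrict hQP) himg, autOf_mem _ _, fun w b => ⟨fun hb => ?_, ?_⟩⟩
  · exact Subtype.ext ((hfix _ _ hb).2.symm)
  · rintro rfl
    obtain ⟨b, hb⟩ := h w
    rw [show D.inc (autOf (hf.restrict hQP) himg w) = b from Subtype.ext (hfix _ _ hb).2]
    exact hb

theorem hasType_unique {x : X} {α β : MulAut Q} (hα : D.HasType x α) (hβ : D.HasType x β) :
    α = β :=
  MulEquiv.ext fun w => Subgroup.inclusion_injective D.le ((hβ.2 w _).mp ((hα.2 w _).mpr rfl))

/-- Conjugation by an element of `S`, on `Q`. -/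
theorem exists_conj (s : S) : ∃ c : MulAut Q, c ∈ autInducedBy S Q ∧ c ∈ F.autGroup Q ∧
    ∀ w : Q, D.inc (c w) = s * D.inc w * s⁻¹ := by
  have hs := IsNormal.le_normalizer D.normal s.2
  have hc : Q.normalizerMonoidHom ⟨s, hs⟩ ∈ autInducedBy S Q :=
    mem_autInducedBy_iff.mpr ⟨s, s.2, fun _ => rfl⟩
  exact ⟨_, hc, autInducedBy_le_autGroup D.le hc, fun w => Subtype.ext rfl⟩

theorem hasType_rm {x : X} {α c : MulAut Q} (hα : D.HasType x α) (t : S) (hc : c ∈ F.autGroup Q)
    (hct : ∀ w : Q, D.inc (c w) = t⁻¹ * D.inc w * t) : D.HasType (rm x t) (c * α) := by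
  refine ⟨Subgroup.mul_mem _ hc hα.1, fun w b => ?_⟩
  have h1 : ((D.inc w, b) : S × S) • rm x t =
      ((1, t⁻¹) : S × S) • ((D.inc w, t * b * t⁻¹) : S × S) • x := by
    simp [rm, smul_smul, mul_assoc]
  rw [h1, rm, smul_left_cancel_iff, hα.2 w, MulAut.mul_apply, hct]
  constructor
  · intro h; rw [← h]; group
  · intro h; rw [h]; group

theorem hasType_rm_center {x : X} {α : MulAut Q} (hα : D.HasType x α) (z : Subgroup.center Q) :
    D.HasType (rm x (D.inc z)) α := by
  have h := D.hasType_rm (c := 1) hα (D.inc z) (Subgroup.one_mem _) fun w => by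
    rw [MulAut.one_apply, ← _root_.map_inv, ← _root_.map_mul, ← _root_.map_mul, mul_assoc,
      Subgroup.mem_center_iff.mp z.2 w, inv_mul_cancel_left]
  rwa [one_mul] at h

/-- A pair `(β, e)`: `e` commutes with the right action and twists the left action of `Q` by `β`. -/
def Twist (β : MulAut Q) (e : Equiv.Perm X) : Prop :=
  β ∈ F.autGroup Q ∧ (∀ (x : X) (b : S), e (rm x b) = rm (e x) b) ∧
    ∀ (w : Q) (x : X), e (lm (D.inc w) x) = lm (D.inc (β w)) (e x)

theorem hasType_twist {x : X} {α β : MulAut Q} {e : Equiv.Perm X} (hα : D.HasType x α)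
    (h : D.Twist β e) : D.HasType (e x) (α * β⁻¹) := by
  refine ⟨Subgroup.mul_mem _ hα.1 (Subgroup.inv_mem _ h.1), fun w b => ?_⟩
  have key : ∀ (w : Q) (b : S) (y : X), e (((D.inc w, b) : S × S) • y) =
      ((D.inc (β w), b) : S × S) • e y := by
    intro w b y
    have h2 : ∀ (c : S) (y : X), ((c, b) : S × S) • y = rm (lm c y) b⁻¹ := fun c y => by
      simp [rm, lm, smul_smul]
    rw [h2, h.2.1, h.2.2, ← h2]
  have h3 := key (β⁻¹ w) b x
  rw [MulAut.apply_inv_self] at h3
  rw [← h3, e.injective.eq_iff, hα.2, MulAut.mul_apply]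

/-- The group of twisting pairs. -/
def twistGrp : Subgroup (MulAut Q × Equiv.Perm X) where
  carrier := {g | D.Twist g.1 g.2}
  one_mem' := ⟨Subgroup.one_mem _, fun _ _ => rfl, fun _ _ => rfl⟩
  mul_mem' := by
    rintro ⟨β, e⟩ ⟨γ, d⟩ ⟨h1, h2, h3⟩ ⟨k1, k2, k3⟩
    refine ⟨Subgroup.mul_mem _ h1 k1, fun x b => ?_, fun w x => ?_⟩
    · show e (d (rm x b)) = rm (e (d x)) b
      rw [k2, h2]
    · show e (d (lm (D.inc w) x)) = lm (D.inc (β (γ w))) (e (d x))
      rw [k3, h3]
  inv_mem' := by
    rintro ⟨β, e⟩ ⟨h1, h2, h3⟩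
    refine ⟨Subgroup.inv_mem _ h1, fun x b => e.injective ?_, fun w x => e.injective ?_⟩
    · show e (e.symm (rm x b)) = e (rm (e.symm x) b)
      rw [h2, Equiv.apply_symm_apply, Equiv.apply_symm_apply]
    · show e (e.symm (lm (D.inc w) x)) = e (lm (D.inc (β⁻¹ w)) (e.symm x))
      rw [h3, MulAut.apply_inv_self, Equiv.apply_symm_apply, Equiv.apply_symm_apply]

/-- The kernel of the projection onto `Aut(Q)`. -/
def kerTwist : Subgroup D.twistGrp :=
  ((MonoidHom.fst _ _).comp D.twistGrp.subtype).ker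

theorem mem_kerTwist {g : D.twistGrp} : g ∈ D.kerTwist ↔ (g : MulAut Q × Equiv.Perm X).1 = 1 :=
  Iff.rfl

instance : D.kerTwist.Normal := MonoidHom.normal_ker _

/-- Left translation by `s`, as a twisting pair. -/
theorem lm_mem (s : S) : ∃ g : D.twistGrp, (g : MulAut Q × Equiv.Perm X).2 = MulAction.toPerm
    ((s, 1) : S × S) ∧ ∀ w : Q, D.inc ((g : MulAut Q × Equiv.Perm X).1 w) = s * D.inc w * s⁻¹ := by
  obtain ⟨c, -, hc, hcw⟩ := D.exists_conj s
  refine ⟨⟨(c, MulAction.toPerm ((s, 1) : S × S)), hc, fun x b => lm_rm s x b, fun w x => ?_⟩,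
    rfl, hcw⟩
  show lm s (lm (D.inc w) x) = lm (D.inc (c w)) (lm s x)
  rw [lm_lm, lm_lm, hcw, inv_mul_cancel_right]

end ModelData

/-! ### The product of coordinates -/

theorem fixed_modEq [Finite S] [Finite X] [Fact p.Prime] (hS : IsPGroup p S)
    (D : ModelData F p Q X) :
    Nat.card {x : X // ∀ w : Q, ∃ b : S, ((D.inc w, b) : S × S) • x = x} ≡ Nat.card X
      [MOD p * Nat.card S] := by
  classical
  let rel : Setoid X :=
    { r := fun x y => ∃ b : S, rm x b = y
      iseqv := ⟨fun x => ⟨1, rm_one x⟩,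
        fun {x y} ⟨b, h⟩ => ⟨b⁻¹, by rw [← h, rm_rm, mul_inv_cancel, rm_one]⟩,
        fun {x y z} ⟨b, h⟩ ⟨c, h'⟩ => ⟨b * c, by rw [← rm_rm, h, h']⟩⟩ }
  let I := Quotient rel
  let act : MulAction Q I :=
    { smul := fun w => Quotient.map (lm (D.inc w))
        fun x y ⟨b, h⟩ => ⟨b, by rw [← lm_rm, h]⟩
      one_smul := fun i => by
        obtain ⟨x, rfl⟩ := Quotient.mk_surjective i
        show Quotient.mk rel (lm (D.inc 1) x) = _
        rw [_root_.map_one]
        exact congrArg _ (one_smul (S × S) x)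
      mul_smul := fun a b i => by
        obtain ⟨x, rfl⟩ := Quotient.mk_surjective i
        show Quotient.mk rel (lm (D.inc (a * b)) x) =
          Quotient.mk rel (lm (D.inc a) (lm (D.inc b) x))
        rw [lm_lm, _root_.map_mul] }
  have hfix : ∀ x : X, Quotient.mk rel x ∈ MulAction.fixedPoints Q I ↔
      ∀ w : Q, ∃ b : S, ((D.inc w, b) : S × S) • x = x := by
    intro x
    refine forall_congr' fun w => ⟨fun h => ?_, fun ⟨b, hb⟩ => ?_⟩
    · obtain ⟨b, hb⟩ := Quotient.exact (show Quotient.mk rel (lm (D.inc w) x) = Quotient.mk rel x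
        from h)
      refine ⟨b⁻¹, ?_⟩
      rw [← show rm (lm (D.inc w) x) b = ((D.inc w, b⁻¹) : S × S) • x by simp [rm, lm, smul_smul]]
      exact hb
    · refine Quotient.sound ⟨b⁻¹, ?_⟩
      simp [rm, lm, smul_smul, hb]
  -- the fibre over any family of orbits is free
  have hcount : ∀ J : Set I,
      Nat.card {x : X // Quotient.mk rel x ∈ J} = Nat.card J * Nat.card S := by
    intro J
    rw [← Nat.card_prod]
    refine (Nat.card_eq_of_bijective (fun z : J × S =>
      (⟨rm (z.1.1.out) z.2, by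
        rw [← show z.1.1 = Quotient.mk rel (rm z.1.1.out z.2) from
          (Quotient.out_eq z.1.1).symm.trans (Quotient.sound ⟨z.2, rfl⟩)]
        exact z.1.2⟩ : {x : X // Quotient.mk rel x ∈ J})) ⟨?_, ?_⟩).symm
    · rintro ⟨i, a⟩ ⟨j, b⟩ h
      have h' : rm i.1.out a = rm j.1.out b := congrArg Subtype.val h
      have hij : i = j := Subtype.ext <| by
        rw [← Quotient.out_eq i.1, ← Quotient.out_eq j.1]
        refine Quotient.sound ⟨a * b⁻¹, ?_⟩
        rw [← rm_rm, h', rm_rm, mul_inv_cancel, rm_one]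
      subst hij
      exact Prod.ext rfl (rm_inj D.free h')
    · rintro ⟨x, hx⟩
      obtain ⟨b, hb⟩ := Quotient.exact (Quotient.out_eq (Quotient.mk rel x))
      exact ⟨(⟨_, hx⟩, b), Subtype.ext hb⟩
  have h1 := hcount (MulAction.fixedPoints Q I)
  rw [Nat.card_congr (Equiv.subtypeEquivRight hfix)] at h1
  have h2 := hcount Set.univ
  rw [Nat.card_congr (Equiv.subtypeUnivEquiv fun _ => Set.mem_univ _), Nat.card_univ] at h2
  rw [h1, h2]
  exact ((hS.to_le D.le).card_modEq_card_fixedPoints I).symm.mul_right' _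

/-- The homomorphism onto `Z(Q)` and its two properties. -/
theorem exists_coordHom [Finite S] [Finite X] [Fact p.Prime] (hS : IsPGroup p S)
    (D : ModelData F p Q X) :
    ∃ (τ : D.kerTwist →* Subgroup.center Q) (n : ℕ), ¬ p ∣ n ∧
      (∀ (z : Subgroup.center Q) (g : D.kerTwist),
        ((g : D.twistGrp) : MulAut Q × Equiv.Perm X).2 = MulAction.toPerm
          ((D.inc z, 1) : S × S) → τ g = z ^ n) ∧
      ∀ (u : D.twistGrp) (g g' : D.kerTwist), (g' : D.twistGrp) = u * g * u⁻¹ →
        ((τ g' : Subgroup.center Q) : Q) = (u : MulAut Q × Equiv.Perm X).1 (τ g) := by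
  classical
  let : CommGroup (Subgroup.center Q) := { (inferInstance : Group (Subgroup.center Q)) with
    mul_comm := fun a b => Subtype.ext (Subgroup.mem_center_iff.mp b.2 a) }
  -- standard type in each class
  let B := autInducedBy S Q
  let std : MulAut Q ⧸ B → MulAut Q := fun κ => κ.out⁻¹
  let Y0 := {x : X // ∃ α, D.HasType x α ∧ std (QuotientGroup.mk α⁻¹) = α}
  have hstd : ∀ {x : X} {α : MulAut Q}, D.HasType x α → ∃ t : S, ∃ y : Y0, y.1 = rm x t := by
    intro x α hα
    set κ : MulAut Q ⧸ B := QuotientGroup.mk α⁻¹ with hκ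
    obtain ⟨t, ht, htw⟩ := mem_autInducedBy_iff.mp
      (Subgroup.inv_mem B (QuotientGroup.eq.mp (κ.out_eq.trans hκ) : κ.out⁻¹ * α⁻¹ ∈ B))
    obtain ⟨c, hcB, hc, hcw⟩ := D.exists_conj ((⟨t, ht⟩ : S)⁻¹)
    have hct : ∀ w, D.inc (c w) = (⟨t, ht⟩ : S)⁻¹ * D.inc w * ⟨t, ht⟩ := fun w => by
      rw [hcw, inv_inv]
    have h1 := D.hasType_rm hα _ hc hct
    have hc' : c = κ.out⁻¹ * α⁻¹ := by
      refine MulEquiv.ext fun w => Subgroup.inclusion_injective D.le ?_
      rw [hct]
      refine Subtype.ext ?_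
      have h2 := htw ((κ.out⁻¹ * α⁻¹) w)
      rw [show (κ.out⁻¹ * α⁻¹)⁻¹ ((κ.out⁻¹ * α⁻¹) w) = w from MulAut.inv_apply_self _ _ _] at h2
      show t⁻¹ * (w : Ω) * t = _
      rw [h2]
      group
      rfl
    refine ⟨⟨t, ht⟩, ⟨_, c * α, h1, ?_⟩, rfl⟩
    have h3 : c * α = κ.out⁻¹ := by rw [hc', inv_mul_cancel_right]
    rw [h3, inv_inv]
    show (QuotientGroup.mk κ.out : MulAut Q ⧸ B).out⁻¹ = κ.out⁻¹
    rw [QuotientGroup.out_eq']
  have hY0type : ∀ y : Y0, ∃ α, D.HasType y.1 α ∧ std (QuotientGroup.mk α⁻¹) = α := fun y => y.2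
  choose typ htyp htstd using hY0type
  have hsame : ∀ (y y' : Y0) (b : S), rm y.1 b = y'.1 →
      ∃ z : Subgroup.center Q, b = D.inc z ∧ typ y' = typ y := by
    intro y y' b hb
    obtain ⟨c, hcB, hc, hcw⟩ := D.exists_conj b⁻¹
    have hct : ∀ w, D.inc (c w) = b⁻¹ * D.inc w * b := fun w => by rw [hcw, inv_inv]
    have h1 := D.hasType_rm (htyp y) b hc hct
    rw [hb] at h1
    have he := D.hasType_unique (htyp y') h1
    have hκ : (QuotientGroup.mk (typ y')⁻¹ : MulAut Q ⧸ B) = QuotientGroup.mk (typ y)⁻¹ := by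
      rw [he, mul_inv_rev, QuotientGroup.eq]
      simpa using hcB
    have hty : typ y' = typ y := by rw [← htstd y', ← htstd y, hκ]
    rw [hty, eq_comm, mul_eq_right] at he
    obtain ⟨z, hz⟩ := D.centralizes (s := b) fun w => by
      have h2 := hct w
      rw [he, MulAut.one_apply] at h2
      conv_lhs => rw [h2]
      group
    exact ⟨z, hz, hty⟩
  let rel : Setoid Y0 :=
    { r := fun y y' => ∃ b : S, rm y.1 b = y'.1
      iseqv := ⟨fun x => ⟨1, rm_one _⟩,
        fun {x y} ⟨b, h⟩ => ⟨b⁻¹, by rw [← h, rm_rm, mul_inv_cancel, rm_one]⟩,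
        fun {x y z} ⟨b, h⟩ ⟨c, h'⟩ => ⟨b * c, by rw [← rm_rm, h, h']⟩⟩ }
  let I := Quotient rel
  have : Fintype I := Fintype.ofFinite I
  -- coordinates
  have hcoord : ∀ y : Y0, ∃ z : Subgroup.center Q,
      rm ((Quotient.mk rel y).out).1 (D.inc (typ y z)) = y.1 ∧
        typ (Quotient.mk rel y).out = typ y := by
    intro y
    obtain ⟨b, hb⟩ := Quotient.exact (Quotient.out_eq (Quotient.mk rel y))
    obtain ⟨z, hz, hty⟩ := hsame _ _ b hb
    refine ⟨⟨(typ y)⁻¹ z, ?_⟩, ?_, hty.symm⟩
    · rw [Subgroup.mem_center_iff]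
      intro w
      refine (typ y).injective ?_
      rw [_root_.map_mul, _root_.map_mul, MulAut.apply_inv_self]
      exact Subgroup.mem_center_iff.mp z.2 _
    · rw [MulAut.apply_inv_self, ← hz]
      exact hb
  choose ell hell helltyp using hcoord
  have hellu : ∀ (y y' : Y0) (z : Subgroup.center Q), rm y.1 (D.inc (typ y z)) = y'.1 →
      ell y' = ell y * z := by
    intro y y' z h
    obtain ⟨-, -, hty⟩ := hsame y y' _ h
    have hq : Quotient.mk rel y' = Quotient.mk rel y := (Quotient.sound (show rel.r y y' from ⟨_, h⟩)).symm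
    have h1 := hell y'
    rw [hq, ← h] at h1
    conv_rhs at h1 => rw [← hell y, rm_rm]
    have h2 := rm_inj D.free h1
    rw [← _root_.map_mul, ← hty, ← _root_.map_mul] at h2
    exact Subtype.ext ((typ y').injective (Subgroup.inclusion_injective D.le h2))
  -- action of twisting pairs of the kernel on `Y0`
  have hmove : ∀ (g : D.kerTwist) (y : Y0),
      D.HasType (((g : D.twistGrp) : MulAut Q × Equiv.Perm X).2 y.1) (typ y) := by
    intro g y
    have h := D.hasType_twist (htyp y) (g : D.twistGrp).2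
    rwa [show ((g : D.twistGrp) : MulAut Q × Equiv.Perm X).1 = 1 from g.2, inv_one, mul_one] at h
  let mv : D.kerTwist → Y0 → Y0 := fun g y =>
    ⟨((g : D.twistGrp) : MulAut Q × Equiv.Perm X).2 y.1, typ y, hmove g y, htstd y⟩
  have hmvtyp : ∀ g y, typ (mv g y) = typ y := fun g y =>
    D.hasType_unique (htyp _) (hmove g y)
  let d : D.kerTwist → Y0 → Subgroup.center Q := fun g y => ell (mv g y) * (ell y)⁻¹
  have hdconst : ∀ g y y', rel.r y y' → d g y = d g y' := by
    rintro g y y' ⟨b, hb⟩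
    obtain ⟨z, hz, hty⟩ := hsame y y' b hb
    obtain ⟨z', hz'⟩ : ∃ z' : Subgroup.center Q, typ y z' = z :=
      ⟨⟨(typ y)⁻¹ z, Subgroup.mem_center_iff.mpr fun w => (typ y).injective (by
        rw [_root_.map_mul, _root_.map_mul, MulAut.apply_inv_self]
        exact Subgroup.mem_center_iff.mp z.2 _)⟩, MulAut.apply_inv_self _ _ _⟩
    have h1 := hellu y y' z' (by rw [hz', ← hz]; exact hb)
    have h2 := hellu (mv g y) (mv g y') z' (by
      rw [hmvtyp, hz', ← hz]
      exact ((g : D.twistGrp).2.2.1 y.1 b).symm.trans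
        (congrArg ((g : D.twistGrp) : MulAut Q × Equiv.Perm X).2 hb))
    show ell (mv g y) * (ell y)⁻¹ = ell (mv g y') * (ell y')⁻¹
    rw [h1, h2, mul_inv_rev, mul_assoc, mul_inv_cancel_left]
  let perm : D.kerTwist → I ≃ I := fun g => Quotient.congr
    { toFun := mv g
      invFun := mv g⁻¹
      left_inv := fun y => Subtype.ext
        (((g : D.twistGrp) : MulAut Q × Equiv.Perm X).2.symm_apply_apply y.1)
      right_inv := fun y => Subtype.ext
        (((g : D.twistGrp) : MulAut Q × Equiv.Perm X).2.apply_symm_apply y.1) }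
    fun a b => ⟨fun ⟨t, ht⟩ => ⟨t, ((g : D.twistGrp).2.2.1 a.1 t).symm.trans (congrArg _ ht)⟩,
      fun ⟨t, ht⟩ => ⟨t, ((g : D.twistGrp) : MulAut Q × Equiv.Perm X).2.injective
        (((g : D.twistGrp).2.2.1 a.1 t).trans ht)⟩⟩
  -- the sum of coordinates over a system of representatives
  let τf : D.kerTwist → Subgroup.center Q := fun g => ∏ i : I, d g i.out
  have hτreps : ∀ (g : D.kerTwist) (r : I → Y0), Function.Bijective (fun i => Quotient.mk rel (r i)) →
      τf g = ∏ i : I, d g (r i) := by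
    intro g r hr
    refine (Fintype.prod_equiv (Equiv.ofBijective _ hr) (fun i => d g (r i))
      (fun i => d g i.out) fun i => ?_).symm
    exact hdconst g _ _ (Quotient.exact (Quotient.out_eq _).symm)
  have hbij1 : Function.Bijective (fun i : I => Quotient.mk rel i.out) := by
    rw [show (fun i : I => Quotient.mk rel i.out) = id from funext Quotient.out_eq]
    exact Function.bijective_id
  have hτmul : ∀ g g', τf (g * g') = τf g * τf g' := by
    intro g g'
    have hr : Function.Bijective (fun i : I => Quotient.mk rel (mv g' i.out)) := by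
      rw [show (fun i : I => Quotient.mk rel (mv g' i.out)) = perm g' from funext fun i => by
        conv_rhs => rw [← Quotient.out_eq i]
        rfl]
      exact (perm g').bijective
    rw [hτreps g _ hr, ← Finset.prod_mul_distrib]
    refine Finset.prod_congr rfl fun i _ => ?_
    show ell (mv (g * g') i.out) * (ell i.out)⁻¹ =
      ell (mv g (mv g' i.out)) * (ell (mv g' i.out))⁻¹ * (ell (mv g' i.out) * (ell i.out)⁻¹)
    rw [mul_assoc, inv_mul_cancel_left]
    rfl
  obtain ⟨m, hm, hcard⟩ := D.deg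
  refine ⟨MonoidHom.mk' τf hτmul, Fintype.card I, ?_, ?_, ?_⟩
  · intro hdvd
    have hY : Nat.card {x : X // ∀ w : Q, ∃ b : S, ((D.inc w, b) : S × S) • x = x} =
        Nat.card I * Nat.card S := by
      rw [← Nat.card_prod]
      refine (Nat.card_eq_of_bijective (fun z : I × S =>
        (⟨rm z.1.out.1 z.2, fun w => by
          obtain ⟨c, -, hc, hcw⟩ := D.exists_conj z.2⁻¹
          exact ⟨_, ((D.hasType_rm (htyp z.1.out) z.2 hc
            fun w => by rw [hcw, inv_inv]).2 w _).mpr rfl⟩⟩ :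
          {x : X // ∀ w : Q, ∃ b : S, ((D.inc w, b) : S × S) • x = x})) ⟨?_, ?_⟩).symm
      · rintro ⟨i, a⟩ ⟨j, b⟩ h
        have h' : rm i.out.1 a = rm j.out.1 b := congrArg Subtype.val h
        have hij : i = j := by
          rw [← Quotient.out_eq i, ← Quotient.out_eq j]
          refine Quotient.sound ⟨a * b⁻¹, ?_⟩
          rw [← rm_rm, h', rm_rm, mul_inv_cancel, rm_one]
        subst hij
        exact Prod.ext rfl (rm_inj D.free h')
      · rintro ⟨x, hx⟩
        obtain ⟨α, hα⟩ := D.hasType_of_fixed hx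
        obtain ⟨t, y, hy⟩ := hstd hα
        obtain ⟨b, hb⟩ := Quotient.exact (Quotient.out_eq (Quotient.mk rel y))
        refine ⟨(Quotient.mk rel y, b * t⁻¹), Subtype.ext ?_⟩
        show rm _ (b * t⁻¹) = x
        rw [← rm_rm, hb, hy, rm_rm, mul_inv_cancel, rm_one]
    have h1 := (fixed_modEq hS D).trans hcard
    rw [hY, Nat.card_eq_fintype_card (α := I)] at h1
    exact hm (Nat.modEq_zero_iff_dvd.mp ((Nat.ModEq.mul_right_cancel' Nat.card_pos.ne' h1).symm.trans
      (Nat.modEq_zero_iff_dvd.mpr hdvd)))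
  · intro z g hg
    show τf g = _
    rw [← Finset.card_univ, ← Finset.prod_const]
    refine Finset.prod_congr rfl fun i _ => ?_
    show ell (mv g i.out) * (ell i.out)⁻¹ = z
    rw [hellu i.out (mv g i.out) z ?_, mul_inv_cancel_comm]
    show _ = ((g : D.twistGrp) : MulAut Q × Equiv.Perm X).2 i.out.1
    rw [hg]
    have h1 := ((htyp i.out).2 z _).mpr rfl
    show rm i.out.1 _ = lm (D.inc z) i.out.1
    conv_lhs => rw [← h1]
    simp [rm, lm, smul_smul]
  · intro u g g' hgg
    show ((τf g' : Subgroup.center Q) : Q) = _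
    set β := (u : MulAut Q × Equiv.Perm X).1 with hβ
    set eu := (u : MulAut Q × Equiv.Perm X).2 with heu
    have hu := u.2
    have hβc : ∀ z : Q, z ∈ Subgroup.center Q → β z ∈ Subgroup.center Q := fun z hz =>
      Subgroup.mem_center_iff.mpr fun w => β.symm.injective (by
        rw [_root_.map_mul, _root_.map_mul, MulEquiv.symm_apply_apply]
        exact Subgroup.mem_center_iff.mp hz _)
    have hpush : ∀ α : MulAut Q, ∃ t : S, ∀ x : X, D.HasType x α → ∃ y : Y0, y.1 = rm (eu x) t := by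
      intro α
      by_cases hex : ∃ x, D.HasType x α
      · obtain ⟨x, hx⟩ := hex
        obtain ⟨t, y, hy⟩ := hstd (D.hasType_twist hx hu)
        refine ⟨t, fun x' hx' => ?_⟩
        obtain ⟨c, -, hc, hcw⟩ := D.exists_conj t⁻¹
        have hct : ∀ w, D.inc (c w) = t⁻¹ * D.inc w * t := fun w => by rw [hcw, inv_inv]
        have h1 := D.hasType_rm (D.hasType_twist hx hu) t hc hct
        rw [← hy] at h1
        refine ⟨⟨_, typ y, ?_, htstd y⟩, rfl⟩
        rw [D.hasType_unique (htyp y) h1]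
        exact D.hasType_rm (D.hasType_twist hx' hu) t hc hct
      · exact ⟨1, fun x hx => absurd ⟨x, hx⟩ hex⟩
    choose kk hkk using hpush
    choose R hR using fun y : Y0 => hkk (typ y) y.1 (htyp y)
    let β' : Subgroup.center Q →* Subgroup.center Q := MonoidHom.mk'
      (fun z => ⟨β z, hβc z z.2⟩) fun a b => Subtype.ext (_root_.map_mul β (a : Q) b)
    have hRrm : ∀ (y y' : Y0) (z : Subgroup.center Q), rm y.1 (D.inc (typ y z)) = y'.1 →
        ell (R y') = ell (R y) * β' z := by
      intro y y' z h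
      obtain ⟨-, -, hty⟩ := hsame y y' _ h
      refine hellu (R y) (R y') (β' z) ?_
      obtain ⟨c, -, hc, hcw⟩ := D.exists_conj (kk (typ y))⁻¹
      have hct : ∀ w, D.inc (c w) = (kk (typ y))⁻¹ * D.inc w * kk (typ y) := fun w => by
        rw [hcw, inv_inv]
      have h1 := D.hasType_rm (D.hasType_twist (htyp y) hu) (kk (typ y)) hc hct
      rw [← hR y] at h1
      rw [hR y', hty, ← h, hu.2.1, D.hasType_unique (htyp (R y)) h1, hR y, rm_rm, rm_rm]
      congr 1
      show kk (typ y) * D.inc (c (typ y (β⁻¹ (β z)))) = _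
      rw [MulAut.inv_apply_self, hct]
      group
    have hell1 : ∀ i : I, ell i.out = 1 := by
      intro i
      have h1 := hell i.out
      rw [Quotient.out_eq i] at h1
      have h2 : D.inc (typ i.out (ell i.out : Q)) = 1 := by
        refine rm_inj D.free (x := i.out.1) ?_
        rw [rm_one]; exact h1
      exact Subtype.ext ((typ i.out).injective ((Subgroup.inclusion_injective D.le
        (h2.trans (_root_.map_one D.inc).symm)).trans (_root_.map_one (typ i.out)).symm))
    have hbijR : Function.Bijective (fun i : I => Quotient.mk rel (R i.out)) := by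
      refine Finite.injective_iff_bijective.mp fun i j hij => ?_
      obtain ⟨b, hb⟩ := Quotient.exact hij
      rw [hR, hR, rm_rm, ← hu.2.1, ← hu.2.1] at hb
      have h1 := eu.injective hb
      rw [← Quotient.out_eq i, ← Quotient.out_eq j]
      refine Quotient.sound ⟨kk (typ i.out) * b * (kk (typ j.out))⁻¹, ?_⟩
      rw [← rm_rm, h1, rm_rm, mul_inv_cancel, rm_one]
    have hd : ∀ i : I, d g' (R i.out) =
        ell (R (perm g i).out) * (ell (R i.out))⁻¹ * β' (d g i.out) := by
      intro i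
      have hmv : mv g' (R i.out) = R (mv g i.out) := by
        refine Subtype.ext ?_
        rw [hR (mv g i.out), hmvtyp]
        show ((g' : D.twistGrp) : MulAut Q × Equiv.Perm X).2 (R i.out).1 = _
        rw [hR, hgg]
        show eu (((g : D.twistGrp) : MulAut Q × Equiv.Perm X).2 (eu.symm (rm (eu i.out.1) _))) = _
        rw [← hu.2.1, Equiv.symm_apply_apply, (g : D.twistGrp).2.2.1, hu.2.1]
      have hq : Quotient.mk rel (mv g i.out) = perm g i := by
        conv_rhs => rw [← Quotient.out_eq i]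
        rfl
      have h1 := hRrm (perm g i).out (mv g i.out) (ell (mv g i.out)) (by
        rw [← hq, helltyp]
        exact hell _)
      show ell (mv g' (R i.out)) * (ell (R i.out))⁻¹ = _
      rw [hmv, h1]
      show _ = _ * β' (ell (mv g i.out) * (ell i.out)⁻¹)
      rw [hell1, inv_one, mul_one, mul_right_comm]
    have hfin : τf g' = β' (τf g) := by
      rw [hτreps g' _ hbijR, Finset.prod_congr rfl fun i _ => hd i, Finset.prod_mul_distrib,
        Finset.prod_mul_distrib, Finset.prod_inv_distrib,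
        Fintype.prod_equiv (perm g) (fun i => ell (R (perm g i).out)) (fun i => ell (R i.out))
          fun i => rfl, mul_inv_cancel, one_mul, map_prod]
    rw [hfin]
    rfl

end Cfsg.Agent.Fusion
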