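import Cfsg.Agent.Lib.Fusion.ModelBasic
import Mathlib.Algebra.BigOperators.Group.Finset.Basic
import Mathlib.Data.Fintype.BigOperators

/-!
Automorphisms of a model fixing the image of `S` are conjugations by central elements.
-/

set_option autoImplicit false

namespace Cfsg.Agent.Fusion

universe u v

/-- An automorphism fixing `T` pointwise and moving every element inside an abelian normal
subgroup `A` of order prime to the index of `T` is a conjugation by an element of `A`. -/
theorem exists_eq_conj_of_cocycle {G : Type v} [Group G] [Finite G] (T A : Subgroup G) [A.Normal]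
    (hcomm : ∀ a ∈ A, ∀ b ∈ A, a * b = b * a) (hcop : Nat.Coprime T.index (Nat.card A))
    (ψ : G ≃* G) (hT : ∀ t ∈ T, ψ t = t) (hA : ∀ g, ψ g * g⁻¹ ∈ A) :
    ∃ w ∈ A, ∀ g, ψ g = w * g * w⁻¹ := by
  classical
  let : CommGroup A := { (inferInstance : Group A) with
    mul_comm := fun a b => Subtype.ext (hcomm _ a.2 _ b.2) }
  let d : G → A := fun g => ⟨ψ g * g⁻¹, hA g⟩
  let cA : G → A ≃* A := fun g => MulAut.conjNormal g
  have hcA : ∀ g (a : A), (cA g a : G) = g * a * g⁻¹ := fun g a => MulAut.conjNormal_apply g a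
  have hd : ∀ g g', d (g * g') = d g * cA g (d g') := fun g g' => Subtype.ext (by
    rw [Subgroup.coe_mul, hcA]
    show ψ (g * g') * (g * g')⁻¹ = ψ g * g⁻¹ * (g * (ψ g' * g'⁻¹) * g⁻¹)
    rw [_root_.map_mul]; group)
  have hd1 : ∀ g, ∀ t ∈ T, d (g * t) = d g := fun g t ht => Subtype.ext (by
    show ψ (g * t) * (g * t)⁻¹ = ψ g * g⁻¹
    rw [_root_.map_mul, hT t ht]; group)
  let D : G ⧸ T → A := Quotient.lift d fun a b hab => by
    rw [← hd1 a _ (QuotientGroup.leftRel_apply.mp hab), mul_inv_cancel_left]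
  have : Fintype (G ⧸ T) := Fintype.ofFinite _
  let z : A := ∏ q : G ⧸ T, D q
  have key : ∀ g, d g ^ T.index * cA g z = z := by
    intro g
    rw [show T.index = Fintype.card (G ⧸ T) from Nat.card_eq_fintype_card, ← Finset.card_univ,
      ← Finset.prod_const, _root_.map_prod (cA g), ← Finset.prod_mul_distrib]
    refine Fintype.prod_equiv (MulAction.toPerm g) _ _ fun q => ?_
    induction q using QuotientGroup.induction_on with
    | H x => exact (hd g x).symm
  have hcop' : (Nat.card A).Coprime T.index := hcop.symm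
  obtain ⟨y, hy⟩ := (powCoprime hcop').surjective z
  have hy' : y ^ T.index = z := hy
  refine ⟨(y : G), y.2, fun g => ?_⟩
  have h1 : d g * cA g y = y := (powCoprime hcop').injective <| by
    show (d g * cA g y) ^ T.index = y ^ T.index
    rw [mul_pow, ← _root_.map_pow, hy', key g]
  have h2 := congrArg Subtype.val h1
  rw [Subgroup.coe_mul, hcA] at h2
  calc ψ g = ψ g * g⁻¹ * (g * (y : G) * g⁻¹) * g * (y : G)⁻¹ := by group
    _ = _ := by rw [h2]

variable {Ω : Type u} [Group Ω] {S : Subgroup Ω} {F : FusionSystem S}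
variable {G : Type v} [Group G] {ι : S →* G} {p : ℕ} [Fact p.Prime]

/-- Rigidity of models. -/
theorem IsModel.exists_eq_conj [Finite S] (h : F.IsModel p G ι) (ψ : G ≃* G)
    (hψ : ∀ x : S, ψ (ι x) = ι x) :
    ∃ z : S, z ∈ Subgroup.center S ∧ ∀ g : G, ψ g = ι z * g * (ι z)⁻¹ := by
  have := h.1
  have := normal_pCore p G
  set A := pCore p G ⊓ Subgroup.centralizer ((pCore p G : Subgroup G) : Set G) with hA
  have hfix : ∀ g ∈ pCore p G, ψ g = g := fun g hg => by
    obtain ⟨s, rfl⟩ := IsModel.pCore_le_range h hg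
    exact hψ s
  obtain ⟨T, hT⟩ := h.2.2.1
  have hcop : Nat.Coprime (T : Subgroup G).index (Nat.card A) := by
    obtain ⟨k, hk⟩ := ((isPGroup_pCore p G).to_le (inf_le_left : A ≤ _)).exists_card_eq
    rw [hk]
    exact (((Fact.out : p.Prime).coprime_iff_not_dvd).mpr T.not_dvd_index).symm.pow_right k
  have hmem : ∀ g, ψ g * g⁻¹ ∈ A := by
    intro g
    have hc : ψ g * g⁻¹ ∈ Subgroup.centralizer ((pCore p G : Subgroup G) : Set G) := by
      refine Subgroup.mem_centralizer_iff.mpr fun o ho => ?_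
      have h1 := hfix _ ((normal_pCore p G).conj_mem o ho g⁻¹)
      rw [inv_inv, _root_.map_mul, _root_.map_mul, _root_.map_inv, hfix o ho] at h1
      calc o * (ψ g * g⁻¹) = ψ g * ((ψ g)⁻¹ * o * ψ g) * g⁻¹ := by group
        _ = _ := by rw [h1]; group
    exact ⟨h.2.2.2 hc, hc⟩
  obtain ⟨w, hw, hconj⟩ := exists_eq_conj_of_cocycle (T : Subgroup G) A
    (fun a ha b hb => (Subgroup.mem_centralizer_iff.mp ha.2 b hb.1).symm) hcop ψ
    (fun t ht => by obtain ⟨s, rfl⟩ := hT.le ht; exact hψ s) hmem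
  obtain ⟨z, rfl⟩ := IsModel.pCore_le_range h hw.1
  refine ⟨z, Subgroup.mem_center_iff.mpr fun s => h.2.1.1 ?_, hconj⟩
  have h1 := hconj (ι s)
  rw [hψ, eq_mul_inv_iff_mul_eq] at h1
  rw [_root_.map_mul, _root_.map_mul, h1]

end Cfsg.Agent.Fusion
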