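import Cfsg.Agent.Lib.Fusion.NormalCriteria
import Cfsg.Agent.Lib.Fusion.OmegaCriteria
import Cfsg.Agent.Lib.Coprime23.Omega

/-!
For odd `p`, a strongly closed subgroup is normal as soon as its elements of order `p` lie in a
series of strongly closed subgroups which it centralizes step by step.
-/

set_option autoImplicit false

namespace Cfsg.Agent.Fusion

open Cfsg.FusionSystem (centralizerIn normalizerIn)

universe u

variable {Ω : Type u} [Group Ω] {S : Subgroup Ω} {F : FusionSystem S} {P R : Subgroup Ω} {p : ℕ}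

/-- The automorphisms in the system acting trivially on a family of invariant sections. -/
def sectionStab (F : FusionSystem S) {ι : Type*} (A B : ι → Subgroup Ω) (hle : ∀ j, A j ≤ R)
    (hA : ∀ j, ∀ α ∈ F.autGroup R, ∀ x ∈ A j, autFun α x ∈ A j) : Subgroup (MulAut R) where
  carrier := {α | α ∈ F.autGroup R ∧ ∀ j, ∀ x ∈ A j, x⁻¹ * autFun α x ∈ B j}
  one_mem' := ⟨Subgroup.one_mem _, fun j x hx => by
    rw [autFun_one (hle _ hx), inv_mul_cancel]; exact Subgroup.one_mem _⟩
  mul_mem' := by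
    rintro a b ⟨ha, ha'⟩ ⟨hb, hb'⟩
    refine ⟨Subgroup.mul_mem _ ha hb, fun j x hx => ?_⟩
    rw [autFun_mul _ _ (hle _ hx), show x⁻¹ * autFun a (autFun b x) =
      (x⁻¹ * autFun b x) * ((autFun b x)⁻¹ * autFun a (autFun b x)) by group]
    exact Subgroup.mul_mem _ (hb' j x hx) (ha' j _ (hA _ b hb x hx))
  inv_mem' := by
    rintro a ⟨ha, ha'⟩
    refine ⟨Subgroup.inv_mem _ ha, fun j x hx => ?_⟩
    have := ha' j _ (hA _ _ (Subgroup.inv_mem _ ha) x hx)
    rw [autFun_autFun_inv a (hle _ hx)] at this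
    simpa using Subgroup.inv_mem _ this

theorem sectionStab_normal (hR : R ≤ S) {ι : Type*} (A B : ι → Subgroup Ω) (hle : ∀ j, A j ≤ R)
    (hA : ∀ j, ∀ α ∈ F.autGroup R, ∀ x ∈ A j, autFun α x ∈ A j)
    (hB : ∀ j, ∀ α ∈ F.autGroup R, ∀ x ∈ B j, x ∈ R → autFun α x ∈ B j) :
    ((sectionStab F A B hle hA).subgroupOf (F.autGroup R)).Normal := by
  refine ⟨fun β hβ α => ⟨Subgroup.mul_mem _ (Subgroup.mul_mem _ α.2 hβ.1) (Subgroup.inv_mem _ α.2),
    fun j x hx => ?_⟩⟩
  show x⁻¹ * autFun ((α : MulAut R) * (β : MulAut R) * (α : MulAut R)⁻¹) x ∈ _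
  have hz := hA _ _ (Subgroup.inv_mem _ α.2) x hx
  set z := autFun (α : MulAut R)⁻¹ x with hzdef
  have hzR := hle _ hz
  have hw := hB _ _ α.2 _ (hβ.2 j z hz) (R.mul_mem (R.inv_mem hzR) (autFun_mem _ hzR))
  rw [autFun_mul _ _ (hle _ hx), autFun_mul _ _ (autFun_mem _ (hle _ hx))]
  convert hw using 1
  have hm := mapTo_of_mem_autGroup hR α.2
  show x⁻¹ * autFun (α : MulAut R) (autFun (β : MulAut R) z) = _
  rw [hm.map_mul (R.inv_mem hzR) (autFun_mem _ hzR), hm.map_inv hzR, hzdef,
    autFun_autFun_inv _ (hle _ hx)]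
  rfl

variable [Finite S] [Fact p.Prime]

/-- For odd `p`: the criterion for normality through the elements of order `p`. -/
theorem isNormal_of_omega_series (hS : IsPGroup p S) (hF : F.IsSaturated p) (hp : p ≠ 2)
    (hP : F.StronglyClosed P) {n : ℕ} (Q : Fin (n + 1) → Subgroup Ω) (h0 : Q 0 = ⊥)
    (hlast : ∀ x ∈ P, x ^ p = 1 → x ∈ Q (Fin.last n)) (hsc : ∀ i, F.StronglyClosed (Q i))
    (hcomm : ∀ i : Fin n, ∀ x ∈ Q i.succ, ∀ k ∈ P, x⁻¹ * (k * x * k⁻¹) ∈ Q i.castSucc) :
    F.IsNormal P := by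
  refine isNormal_of_stronglyClosed hS hF hP fun R hR => ?_
  have hRS : R ≤ S := hR.1.1
  have := finite_of_le hRS
  have := finite_mulAut R
  by_contra hPR
  obtain ⟨k, hkP, hkR, hkN⟩ :=
    exists_mem_normalizer_not_mem hS hRS hP.1 (hRS.trans (StronglyClosed.le_normalizer hP)) hPR
  let A : Option (Fin n) → Subgroup Ω := fun j => j.elim R fun i => R ⊓ Q i.succ
  let B : Option (Fin n) → Subgroup Ω := fun j => j.elim P fun i => Q i.castSucc
  have hle : ∀ j, A j ≤ R := by
    rintro (_ | i)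
    · exact le_rfl
    · exact inf_le_left
  have hA : ∀ j, ∀ α ∈ F.autGroup R, ∀ x ∈ A j, autFun α x ∈ A j := by
    rintro (_ | i) α hα x hx
    · exact autFun_mem α hx
    · exact ⟨autFun_mem α hx.1,
        StronglyClosed.map_mem (hsc _) (mapTo_of_mem_autGroup hRS hα) hx.1 hx.2⟩
  have hB : ∀ j, ∀ α ∈ F.autGroup R, ∀ x ∈ B j, x ∈ R → autFun α x ∈ B j := by
    rintro (_ | i) α hα x hx hxR
    · exact StronglyClosed.map_mem hP (mapTo_of_mem_autGroup hRS hα) hxR hx
    · exact StronglyClosed.map_mem (hsc _) (mapTo_of_mem_autGroup hRS hα) hxR hx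
  set K := sectionStab F A B hle hA with hK
  have hKle : K ≤ F.autGroup R := fun α hα => hα.1
  have hKp : IsPGroup p K := by
    refine isPGroup_of_coprime_eq_one K fun α hα hcop => ?_
    have hRp := hS.to_le hRS
    have hm := mapTo_of_mem_autGroup hRS hα.1
    have hfixQ : ∀ i : Fin (n + 1), ∀ x : R, (x : Ω) ∈ Q i → α x = x := by
      intro i
      induction i using Fin.induction with
      | zero =>
        intro x hx
        rw [h0, Subgroup.mem_bot] at hx
        rw [show x = 1 from Subtype.ext hx, map_one]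
      | succ i ih =>
        intro x hx
        refine Coprime23.eq_of_commutator_fixed hRp α hcop (ih _ ?_)
        have := hα.2 (some i) x ⟨x.2, hx⟩
        rw [autFun_coe] at this
        exact this
    have hT : ∀ x ∈ P.subgroupOf R, α x ∈ P.subgroupOf R := fun x hx => by
      have h1 := StronglyClosed.map_mem hP hm x.2 hx
      rw [autFun_coe] at h1
      exact h1
    set β := Coprime23.restrictAut α (P.subgroupOf R) hT
    have hn : ∀ (m : ℕ) (u : P.subgroupOf R), ((β ^ m) u : R) = (α ^ m) u := by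
      intro m
      induction m with
      | zero => intro u; rfl
      | succ m ih =>
        intro u
        rw [pow_succ', pow_succ', MulAut.mul_apply, MulAut.mul_apply, Coprime23.restrictAut_apply,
          ih]
    have hβc : (orderOf β).Coprime p := hcop.coprime_dvd_left (orderOf_dvd_of_pow_eq_one
      (MulEquiv.ext fun u => Subtype.ext (by rw [hn, pow_orderOf_eq_one]; rfl)))
    have hfixT : ∀ u : R, (u : Ω) ∈ P → α u = u := by
      intro u hu
      have := Coprime23.fix_of_fix_omega (hRp.to_subgroup _) hp β hβc (fun v hv => Subtype.ext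
        (hfixQ (Fin.last n) v (hlast _ v.2 (by
          have h1 := congrArg (fun w : P.subgroupOf R => ((w : R) : Ω)) hv
          simpa using h1)))) ⟨u, hu⟩
      exact congrArg Subtype.val this
    refine MulEquiv.ext fun x => Coprime23.eq_of_commutator_fixed hRp α hcop (hfixT _ ?_)
    have := hα.2 none x x.2
    rw [autFun_coe] at this
    exact this
  have hnorm := sectionStab_normal hRS A B hle hA hB
  obtain ⟨γ, hγ⟩ := exists_conjAut hkN.2
  have hγA : γ ∈ autInducedBy S R := mem_autInducedBy_iff_cj.mpr ⟨k, hkN.1, hγ⟩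
  have hγK : γ ∈ K := by
    refine ⟨autInducedBy_le_autGroup hRS hγA, ?_⟩
    rintro (_ | i) x hx
    · rw [hγ x hx]
      show x⁻¹ * (k * x * k⁻¹) ∈ P
      rw [show x⁻¹ * (k * x * k⁻¹) = (x⁻¹ * k * x) * k⁻¹ by group]
      refine P.mul_mem ?_ (P.inv_mem hkP)
      simpa using StronglyClosed.conj_mem hP (S.inv_mem (hRS hx)) hkP
    · rw [hγ x hx.1]
      exact hcomm i x hx.2 k hkP
  refine hkR (mem_of_cj_mem_inn (centralizerIn_le_of_isCentric hR.1) hkN.1 hγ ?_ hRS)
  rw [← (isRadical_of_isEssential hS hR).2]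
  exact ⟨⟨γ, hKle hγK⟩, le_pCore hnorm
    (hKp.comap_of_injective _ (Subgroup.subtype_injective _)) hγK, rfl⟩

end Cfsg.Agent.Fusion
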