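import Cfsg.Agent.Lib.Fusion.OmegaSevenSylow
import Mathlib

/-!
The monomial Sylow 2-subgroup of `Ω₇(q)` has no proper nontrivial strongly closed subgroup.
-/

set_option autoImplicit false
set_option linter.unusedSectionVars false

namespace Cfsg.Agent.Fusion.OmegaSeven

open Cfsg.Agent.FormsLib Cfsg.Agent.OrthSylowTwo Equiv

variable {F : Type*} [Field F] [Fintype F]

theorem exists_even_map {i j k l : Fin 7} (hij : i ≠ j) (hkl : k ≠ l) :
    ∃ π : Perm (Fin 7), Perm.sign π = 1 ∧ π i = k ∧ π j = l := by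
  obtain ⟨π₁, hi, hj⟩ : ∃ π : Perm (Fin 7), π i = k ∧ π j = l := by
    refine ⟨swap (swap i k j) l * swap i k, ?_, ?_⟩
    · rw [Perm.mul_apply, swap_apply_left]
      refine swap_apply_of_ne_of_ne (fun h => hij ?_) hkl
      have := congrArg (swap i k) h
      rwa [swap_apply_self, swap_apply_right] at this
    · rw [Perm.mul_apply, swap_apply_left]
  rcases Int.units_eq_one_or (Perm.sign π₁) with h | h
  · exact ⟨π₁, h, hi, hj⟩
  · have hw : ∀ k l : Fin 7, ∃ a b : Fin 7, a ≠ b ∧ a ≠ k ∧ a ≠ l ∧ b ≠ k ∧ b ≠ l := by decide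
    obtain ⟨a, b, hab, hak, hal, hbk, hbl⟩ := hw k l
    refine ⟨swap a b * π₁, ?_, ?_, ?_⟩
    · rw [map_mul, Perm.sign_swap hab, h]; rfl
    · rw [Perm.mul_apply, hi, swap_apply_of_ne_of_ne hak.symm hbk.symm]
    · rw [Perm.mul_apply, hj, swap_apply_of_ne_of_ne hal.symm hbl.symm]

theorem pr_comp (π : Perm (Fin 7)) (i j : Fin 7) : pr i j ∘ π.symm = pr (π i) (π j) := by
  funext k
  simp only [Function.comp_apply, pr_apply, Equiv.symm_apply_eq]

theorem exists_pair_split {e : Sgn} (he : ∏ i, e i = 1) (h1 : e ≠ 1) :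
    ∃ (π : Perm (Fin 7)) (i j : Fin 7), Perm.sign π = 1 ∧ i ≠ j ∧ e * (e ∘ π.symm) = pr i j := by
  obtain ⟨i, hi⟩ : ∃ i, e i = -1 := by
    by_contra h
    exact h1 (funext fun i => (Int.units_eq_one_or (e i)).resolve_right fun h' => h ⟨i, h'⟩)
  obtain ⟨j, hj⟩ : ∃ j, e j = 1 := by
    by_contra h
    have he' : e = fun _ => -1 := funext fun j => (Int.units_eq_one_or (e j)).resolve_left fun h' => h ⟨j, h'⟩
    rw [he'] at he
    exact absurd he (by decide)
  have hij : i ≠ j := fun h => by rw [h, hj] at hi; exact absurd hi (by decide)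
  obtain ⟨a, b, hab, hai, haj, hbi, hbj, heq⟩ : ∃ a b : Fin 7, a ≠ b ∧ a ≠ i ∧ a ≠ j ∧ b ≠ i ∧ b ≠ j ∧
      e a = e b := by
    have h3 : ∀ i j : Fin 7, ∃ a b c : Fin 7, a ≠ b ∧ a ≠ c ∧ b ≠ c ∧ a ≠ i ∧ a ≠ j ∧ b ≠ i ∧ b ≠ j ∧
        c ≠ i ∧ c ≠ j := by decide
    obtain ⟨a, b, c, hab, hac, hbc, hai, haj, hbi, hbj, hci, hcj⟩ := h3 i j
    by_cases h : e a = e b
    · exact ⟨a, b, hab, hai, haj, hbi, hbj, h⟩
    by_cases h' : e a = e c
    · exact ⟨a, c, hac, hai, haj, hci, hcj, h'⟩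
    refine ⟨b, c, hbc, hbi, hbj, hci, hcj, ?_⟩
    rcases Int.units_eq_one_or (e a) with x | x <;> rcases Int.units_eq_one_or (e b) with y | y <;>
      rcases Int.units_eq_one_or (e c) with z | z <;> simp_all
  refine ⟨swap i j * swap a b, i, j, by rw [map_mul, Perm.sign_swap hij, Perm.sign_swap hab]; rfl, hij,
    funext fun k => ?_⟩
  rw [Pi.mul_apply, Function.comp_apply, pr_apply,
    show (swap i j * swap a b).symm k = swap a b (swap i j k) from rfl]
  have hab' : ∀ m, e (swap a b m) = e m := fun m => by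
    by_cases h : m = a
    · rw [h, swap_apply_left, heq]
    by_cases h' : m = b
    · rw [h', swap_apply_right, heq]
    rw [swap_apply_of_ne_of_ne h h']
  rw [hab']
  by_cases hk : k = i
  · subst hk; rw [swap_apply_left, hi, hj, if_pos rfl, if_neg hij]
  by_cases hk' : k = j
  · subst hk'; rw [swap_apply_right, hi, hj, if_neg hij.symm, if_pos rfl]
  rw [swap_apply_of_ne_of_ne hk hk', if_neg hk, if_neg hk', Int.units_mul_self, one_mul]

theorem dg_mul_pm_comm (e : Sgn) (σ : Perm (Fin 7)) (c : Sgn) :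
    dg F c * (dg F e * pm F σ) * (dg F c)⁻¹ * (dg F e * pm F σ)⁻¹ = dg F (c * (c⁻¹ ∘ σ.symm)) := by
  rw [map_mul (dg F) c, ← pm_dg_conj, map_inv]
  have : dg F c * dg F e = dg F e * dg F c := by rw [← map_mul, ← map_mul, mul_comm]
  have h' : ∀ z : oGroup (Q7 F), dg F c * (dg F e * z) = dg F e * (dg F c * z) := fun z => by
    rw [← mul_assoc, this, mul_assoc]
  have hx : pm F σ * (dg F c)⁻¹ * (pm F σ)⁻¹ = dg F (c⁻¹ ∘ σ.symm) := by rw [← map_inv, pm_dg_conj]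
  have hy : dg F (c⁻¹ ∘ σ.symm) * (dg F e)⁻¹ = (dg F e)⁻¹ * dg F (c⁻¹ ∘ σ.symm) := by
    rw [← map_inv, ← map_mul, ← map_mul, mul_comm]
  calc dg F c * (dg F e * pm F σ) * (dg F c)⁻¹ * (dg F e * pm F σ)⁻¹
      = dg F e * (dg F c * (dg F (c⁻¹ ∘ σ.symm) * (dg F e)⁻¹)) := by
        rw [h', ← hx]; group
    _ = _ := by rw [hy, hx, ← h']; group

/-- The double transposition `(01)(23)` is conjugate in `Ω` to a sign change. -/
theorem exists_fuse (h2 : (2 : F) ≠ 0) :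
    ∃ g : oGroup (Q7 F), chi7 h2 g = 1 ∧ g * pm F pa * g⁻¹ = dg F (pr 0 1) := by
  classical
  set u : Fin 7 → F := ![-1, -1, 0, 0, 0, 0, 0] with hu
  set b : Fin 7 → F := Pi.single 2 1 - Pi.single 3 1 with hb
  set a : Fin 7 → F := Pi.single 0 1 - Pi.single 1 1 with ha
  have h23 : (2 : Fin 7) ≠ 3 := by decide
  have h01 : (0 : Fin 7) ≠ 1 := by decide
  have hQb : Q7 F b = 2 := Q7_diff h23
  have hQa : Q7 F a ≠ 0 := by rw [ha, Q7_diff h01]; exact h2
  have hQu : Q7 F u = 2 := by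
    rw [Q7_apply, Fin.sum_univ_seven]; simp [hu]; norm_num
  have hQw : Q7 F (b - u) = 4 := by
    rw [Q7_apply, Fin.sum_univ_seven]; simp [hu, hb]; norm_num
  have hw0 : Q7 F (b - u) ≠ 0 := by
    rw [hQw, show (4 : F) = 2 * 2 by norm_num]; exact mul_ne_zero h2 h2
  set r := oRefl (Q7 F) (b - u) hw0 with hr
  have hra : r.1 a = a := by
    refine refl_fix (Q7 F) hw0 ?_
    rw [Q7_polar, Fin.sum_univ_seven]; simp [hu, hb, ha]
  have hrb : r.1 b = u := refl_sub_apply (Q7 F) (hQb.trans hQu.symm) hw0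
  set D₀ := dg F (Pi.mulSingle 0 (-1))
  have hD0 : D₀.1 a = u := funext fun k => by
    show sc ((Pi.mulSingle 0 (-1) : Sgn) k) * a k = u k
    fin_cases k <;> simp [sc, hu, ha]
  set D₁ := dg F (Pi.mulSingle 6 (-1))
  refine ⟨D₁ * r, ?_, ?_⟩
  · rw [map_mul, chi_dg, hr, chi7, chi_refl, if_pos ⟨2, by rw [hQw]; norm_num⟩]
    simp
  have hrefl_a : pm F (swap 0 1) = oRefl (Q7 F) a hQa := pm_swap h2 h01
  have hrefl_b : pm F (swap 2 3) = oRefl (Q7 F) b (by rw [hQb]; exact h2) := pm_swap h2 h23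
  have e1 : r * pm F (swap 0 1) * r⁻¹ = pm F (swap 0 1) := by
    rw [hrefl_a, oRefl_conj]; exact oRefl_congr _ _ hra
  have e2 : r * pm F (swap 2 3) * r⁻¹ = D₀ * pm F (swap 0 1) * D₀⁻¹ := by
    rw [hrefl_a, hrefl_b, oRefl_conj, oRefl_conj]
    exact oRefl_congr _ _ (hrb.trans hD0.symm)
  have e3 : pm F (swap 0 1) * (D₀ * pm F (swap 0 1) * D₀⁻¹) = dg F (pr 0 1) := by
    have hc : pm F (swap 0 1) * D₀ * (pm F (swap 0 1))⁻¹ = dg F (Pi.mulSingle 1 (-1)) := by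
      rw [pm_dg_conj]
      refine congrArg _ (funext fun k => ?_)
      fin_cases k <;> simp [Pi.mulSingle_apply, Equiv.swap_apply_of_ne_of_ne]
    have hs : (pm F (swap 0 1))⁻¹ = pm F (swap 0 1) := by rw [← map_inv, swap_inv]
    rw [hs] at hc
    calc pm F (swap 0 1) * (D₀ * pm F (swap 0 1) * D₀⁻¹)
        = (pm F (swap 0 1) * D₀ * pm F (swap 0 1)) * D₀⁻¹ := by group
      _ = _ := by
        rw [hc, ← map_inv, ← map_mul, pr, mul_comm,
          show ((Pi.mulSingle 0 (-1) : Sgn))⁻¹ = Pi.mulSingle 0 (-1) from funext fun k => Int.units_inv_eq_self _]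
  calc D₁ * r * pm F pa * (D₁ * r)⁻¹
      = D₁ * ((r * pm F (swap 0 1) * r⁻¹) * (r * pm F (swap 2 3) * r⁻¹)) * D₁⁻¹ := by
        rw [pa_eq, map_mul]; group
    _ = dg F (pr 0 1) := by
        rw [e1, e2, e3, ← map_mul, mul_comm (Pi.mulSingle 6 (-1) : Sgn), map_mul, mul_inv_cancel_right]

/-- No proper nontrivial subgroup is closed under conjugation inside `Ω`. -/
theorem le_of_closed (h2 : (2 : F) ≠ 0) (hns : ¬ IsSquare (2 : F)) {T : Subgroup (oGroup (Q7 F))}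
    (hT : T ≤ S7 F) (hne : T ≠ ⊥)
    (hcl : ∀ g, chi7 h2 g = 1 → ∀ x ∈ T, g * x * g⁻¹ ∈ S7 F → g * x * g⁻¹ ∈ T) : S7 F ≤ T := by
  classical
  have hS : ∀ {g}, g ∈ S7 F → chi7 h2 g = 1 := fun {g} hg => by
    rw [← MonoidHom.mem_ker, chi_ker h2 (Q7_nondeg h2)]; exact S7_le_omega h2 hns hg
  have hconjP : ∀ {π : Perm (Fin 7)}, Perm.sign π = 1 → ∀ {e : Sgn}, (∏ i, e i = 1) → dg F e ∈ T →
      dg F (e ∘ π.symm) ∈ T := by
    intro π hπ e he hd
    have h := hcl (pm F π) (by rw [chi_pm h2 hns, hπ]; rfl) _ hd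
    rw [pm_dg_conj] at h
    exact h (dg_mem (by rw [prod_comp, he]))
  obtain ⟨e, he, he1, hd⟩ : ∃ e, (∏ i, e i = 1) ∧ e ≠ 1 ∧ dg F e ∈ T := by
    obtain ⟨t, ht, ht1⟩ := (Subgroup.ne_bot_iff_exists_ne_one.1 hne).elim fun t ht => (⟨t.1, t.2, fun h => ht (Subtype.ext h)⟩ : ∃ x, x ∈ T ∧ x ≠ 1)
    obtain ⟨e, σ, he, hσ, rfl⟩ := hT ht
    by_cases hσ1 : σ = 1
    · subst hσ1
      rw [map_one, mul_one] at ht ht1
      exact ⟨e, he, fun h => ht1 (by rw [h, map_one]), ht⟩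
    obtain ⟨k, hk⟩ : ∃ k, σ k ≠ k := by
      by_contra h
      exact hσ1 (Equiv.ext fun k => by_contra fun h' => h ⟨k, h'⟩)
    have hl : ∀ a b : Fin 7, ∃ l, l ≠ a ∧ l ≠ b := by decide
    obtain ⟨l, hlk, hls⟩ := hl k (σ k)
    have hm := mul_mem (hcl _ (hS (dg_mem (pr_prod k l))) _ ht
      (mul_mem (mul_mem (dg_mem (pr_prod k l)) (hT ht)) (inv_mem (dg_mem (pr_prod k l))))) (inv_mem ht)
    rw [dg_mul_pm_comm] at hm
    refine ⟨_, ?_, fun h => ?_, hm⟩
    · simp [Finset.prod_mul_distrib, pr_prod, Equiv.prod_comp σ.symm (pr k l)]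
    · have h' := congrFun h (σ k)
      simp only [Pi.mul_apply, Function.comp_apply, Equiv.symm_apply_apply, Pi.one_apply, Pi.inv_apply] at h'
      rw [mul_inv_eq_one, pr_apply, pr_apply, if_neg hk, if_neg hls.symm, if_pos rfl, if_neg hlk.symm] at h'
      exact absurd h' (by decide)
  obtain ⟨π, i, j, hπ, hij, hpr⟩ := exists_pair_split he he1
  have hp : dg F (pr i j) ∈ T := by
    rw [← hpr, map_mul]; exact mul_mem hd (hconjP hπ he hd)
  have hall : ∀ k l, k ≠ l → dg F (pr k l) ∈ T := fun k l hkl => by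
    obtain ⟨π', hs, hi, hj⟩ := exists_even_map hij hkl
    have := hconjP hs (pr_prod i j) hp
    rwa [pr_comp, hi, hj] at this
  let ψ : Sgn →* oGroup (Q7 F) :=
    { toFun := fun c => dg F (c * Pi.mulSingle 6 (∏ i, c i))
      map_one' := by simp
      map_mul' := fun c d => by
        rw [← map_mul]
        refine congrArg _ ?_
        rw [show ∏ i, (c * d) i = (∏ i, c i) * ∏ i, d i from Finset.prod_mul_distrib, Pi.mulSingle_mul]
        exact mul_mul_mul_comm .. }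
  have hψ : ∀ c, ψ c ∈ T := fun c => by
    refine Subgroup.pi_mem_of_mulSingle_mem (H := T.comap ψ) c fun k => ?_
    show dg F (Pi.mulSingle k (c k) * Pi.mulSingle 6 (∏ i, (Pi.mulSingle k (c k) : Sgn) i)) ∈ T
    rw [Fintype.prod_pi_mulSingle']
    rcases Int.units_eq_one_or (c k) with h | h <;> rw [h]
    · rw [Pi.mulSingle_one, Pi.mulSingle_one, mul_one, map_one]; exact one_mem T
    by_cases hk : k = 6
    · rw [hk, show (Pi.mulSingle 6 (-1) : Sgn) * Pi.mulSingle 6 (-1) = 1 from funext fun m => Int.units_mul_self _,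
        map_one]
      exact one_mem T
    · exact hall k 6 hk
  have hE : ∀ c, (∏ i, c i = 1) → dg F c ∈ T := fun c hc => by
    have := hψ c
    change dg F (c * Pi.mulSingle 6 (∏ i, c i)) ∈ T at this
    rwa [hc, Pi.mulSingle_one, mul_one] at this
  obtain ⟨g, hg, hgpa⟩ := exists_fuse (F := F) h2
  have hpa : pm F pa ∈ T := by
    have h := hcl g⁻¹ (by rw [map_inv, hg, inv_one]) _ (hE _ (pr_prod 0 1))
    rw [← hgpa, show g⁻¹ * (g * pm F pa * g⁻¹) * g⁻¹⁻¹ = pm F pa by group] at h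
    exact h (pm_mem pa_mem)
  have hperm : ∀ π : Perm (Fin 7), Perm.sign π = 1 → π * pa * π⁻¹ ∈ d8 → pm F (π * pa * π⁻¹) ∈ T := fun π hπ h => by
    have h' := hcl (pm F π) (by rw [chi_pm h2 hns, hπ]; rfl) _ hpa
    rw [← map_inv, ← map_mul, ← map_mul] at h'
    exact h' (pm_mem h)
  have hpb : pm F pb ∈ T := by
    have e : (swap 1 2 * swap 4 5 : Perm (Fin 7)) * pa * (swap 1 2 * swap 4 5)⁻¹ = pb :=
      Equiv.ext (feq_iff.1 (by decide +kernel))
    have := hperm (swap 1 2 * swap 4 5) (by rw [map_mul, Perm.sign_swap (by decide), Perm.sign_swap (by decide)]; rfl)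
      (by rw [e]; exact pb_mem)
    rwa [e] at this
  have hpc : pm F pc ∈ T := by
    have e : (swap 2 4 * swap 3 5 : Perm (Fin 7)) * pa * (swap 2 4 * swap 3 5)⁻¹ = pc :=
      Equiv.ext (feq_iff.1 (by decide +kernel))
    have := hperm (swap 2 4 * swap 3 5) (by rw [map_mul, Perm.sign_swap (by decide), Perm.sign_swap (by decide)]; rfl)
      (by rw [e]; exact pc_mem)
    rwa [e] at this
  rintro _ ⟨c, σ, hc, hσ, rfl⟩
  exact mul_mem (hE c hc) (d8_le (H := T.comap (pm F)) hpa hpb hpc hσ)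

end Cfsg.Agent.Fusion.OmegaSeven
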