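import Mathlib

/-!
The permutation and sign data for the monomial Sylow 2-subgroup of `Ω₇(q)`.
-/

set_option autoImplicit false

namespace Cfsg.Agent.Fusion.OmegaSeven

open Equiv

/-- The signs. -/
abbrev Sgn : Type := Fin 7 → ℤˣ

/-- `(01)(23)`. -/
def pa : Perm (Fin 7) :=
  ⟨![1, 0, 3, 2, 4, 5, 6], ![1, 0, 3, 2, 4, 5, 6], by decide, by decide⟩

/-- `(02)(13)`. -/
def pb : Perm (Fin 7) :=
  ⟨![2, 3, 0, 1, 4, 5, 6], ![2, 3, 0, 1, 4, 5, 6], by decide, by decide⟩

/-- `(01)(45)`. -/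
def pc : Perm (Fin 7) :=
  ⟨![1, 0, 2, 3, 5, 4, 6], ![1, 0, 2, 3, 5, 4, 6], by decide, by decide⟩

/-- The dihedral group of order 8 as a list. -/
def d8List : List (Perm (Fin 7)) :=
  [1, pa, pb, pa * pb, pc, pa * pc, pb * pc, pa * pb * pc]

/-- Boolean equality of functions on seven points. -/
def feq (f g : Fin 7 → Fin 7) : Bool :=
  ([0, 1, 2, 3, 4, 5, 6] : List (Fin 7)).all fun i => Nat.beq (f i).val (g i).val

theorem feq_iff {f g : Fin 7 → Fin 7} : feq f g = true ↔ ∀ i, f i = g i := by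
  simp only [feq, List.all_eq_true, Nat.beq_eq, ← Fin.ext_iff]
  exact ⟨fun h i => h i (by fin_cases i <;> simp), fun h i _ => h i⟩

theorem d8List_nodup : d8List.Nodup :=
  List.Nodup.of_map (fun σ : Perm (Fin 7) => [(σ 0).val, (σ 2).val, (σ 4).val]) (by decide +kernel)

theorem d8List_mul : ∀ a ∈ d8List, ∀ b ∈ d8List, a * b ∈ d8List := by
  have h : (d8List.all fun a => d8List.all fun b => d8List.any fun c => feq (a ∘ b) c) = true := by
    decide +kernel
  simp only [List.all_eq_true, List.any_eq_true, feq_iff] at h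
  intro a ha b hb
  obtain ⟨c, hc, h'⟩ := h a ha b hb
  rwa [show a * b = c from Equiv.ext h']

theorem d8List_inv : ∀ a ∈ d8List, a⁻¹ ∈ d8List := by
  have h : (d8List.all fun a => d8List.any fun c => feq (a ∘ c) id) = true := by decide +kernel
  simp only [List.all_eq_true, List.any_eq_true, feq_iff] at h
  intro a ha
  obtain ⟨c, hc, h'⟩ := h a ha
  rwa [inv_eq_of_mul_eq_one_right (show a * c = 1 from Equiv.ext h')]

/-- The dihedral group of order 8. -/
def d8 : Subgroup (Perm (Fin 7)) where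
  carrier := {σ | σ ∈ d8List}
  one_mem' := List.mem_cons_self
  mul_mem' {a b} ha hb := d8List_mul a ha b hb
  inv_mem' {a} ha := d8List_inv a ha

theorem mem_d8 {σ : Perm (Fin 7)} : σ ∈ d8 ↔ σ ∈ d8List := Iff.rfl

theorem pa_eq : pa = swap 0 1 * swap 2 3 := Equiv.ext (feq_iff.1 (by decide +kernel))

theorem pb_eq : pb = swap 0 2 * swap 1 3 := Equiv.ext (feq_iff.1 (by decide +kernel))

theorem pc_eq : pc = swap 0 1 * swap 4 5 := Equiv.ext (feq_iff.1 (by decide +kernel))

theorem pa_mem : pa ∈ d8 := by simp [mem_d8, d8List]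

theorem pb_mem : pb ∈ d8 := by simp [mem_d8, d8List]

theorem pc_mem : pc ∈ d8 := by simp [mem_d8, d8List]

theorem d8_le {H : Subgroup (Perm (Fin 7))} (ha : pa ∈ H) (hb : pb ∈ H) (hc : pc ∈ H) : d8 ≤ H := by
  intro σ hσ
  simp only [mem_d8, d8List, List.mem_cons, List.not_mem_nil, or_false] at hσ
  rcases hσ with rfl | rfl | rfl | rfl | rfl | rfl | rfl | rfl
  · exact one_mem H
  · exact ha
  · exact hb
  · exact mul_mem ha hb
  · exact hc
  · exact mul_mem ha hc
  · exact mul_mem hb hc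
  · exact mul_mem (mul_mem ha hb) hc

theorem d8_sign {σ : Perm (Fin 7)} (h : σ ∈ d8) : Perm.sign σ = 1 := by
  have hswap : ∀ a b c d : Fin 7, a ≠ b → c ≠ d → Perm.sign (swap a b * swap c d) = 1 :=
    fun a b c d hab hcd => by rw [map_mul, Perm.sign_swap hab, Perm.sign_swap hcd]; rfl
  refine MonoidHom.mem_ker.1 (d8_le (H := (Perm.sign : Perm (Fin 7) →* ℤˣ).ker) ?_ ?_ ?_ h) <;>
    rw [MonoidHom.mem_ker]
  · rw [pa_eq]; exact hswap _ _ _ _ (by decide) (by decide)
  · rw [pb_eq]; exact hswap _ _ _ _ (by decide) (by decide)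
  · rw [pc_eq]; exact hswap _ _ _ _ (by decide) (by decide)

theorem d8_fix_six (σ : Perm (Fin 7)) (h : σ ∈ d8) : σ 6 = 6 := by
  have h' : (d8List.all fun σ => Nat.beq (σ 6).val 6) = true := by decide +kernel
  simp only [List.all_eq_true, Nat.beq_eq] at h'
  exact Fin.ext (h' σ h)

theorem d8_center_six (k : Fin 7) (h : ∀ σ ∈ d8, σ k = k) : k = 6 := by
  have h' : (([0, 1, 2, 3, 4, 5, 6] : List (Fin 7)).all fun k =>
      Nat.beq k.val 6 || !(d8List.all fun σ => Nat.beq (σ k).val k.val)) = true := by decide +kernel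
  simp only [List.all_eq_true, Bool.or_eq_true, Nat.beq_eq, Bool.not_eq_true'] at h'
  rcases h' k (by fin_cases k <;> simp) with h1 | h1
  · exact Fin.ext h1
  · rw [← Bool.not_eq_true] at h1
    refine absurd ?_ h1
    simp only [List.all_eq_true, Nat.beq_eq]
    exact fun σ hσ => congrArg Fin.val (h σ hσ)

theorem d8_center {σ : Perm (Fin 7)} (hσ : σ ∈ d8) (h : ∀ τ ∈ d8, σ * τ = τ * σ) : σ = 1 ∨ σ = pa := by
  have h' : (d8List.all fun σ => feq σ id || feq σ pa ||
      !(d8List.all fun τ => feq (σ ∘ τ) (τ ∘ σ))) = true := by decide +kernel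
  simp only [List.all_eq_true, Bool.or_eq_true, feq_iff, Bool.not_eq_true'] at h'
  rcases h' σ hσ with (h1 | h1) | h1
  · exact Or.inl (Equiv.ext h1)
  · exact Or.inr (Equiv.ext h1)
  · rw [← Bool.not_eq_true] at h1
    refine absurd ?_ h1
    simp only [List.all_eq_true, feq_iff]
    exact fun τ hτ i => congrArg (fun e : Perm (Fin 7) => e i) (h τ hτ)

theorem pa_comm {τ : Perm (Fin 7)} (hτ : τ ∈ d8) : pa * τ = τ * pa := by
  have h' : (d8List.all fun τ => feq (pa ∘ τ) (τ ∘ pa)) = true := by decide +kernel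
  simp only [List.all_eq_true, feq_iff] at h'
  exact Equiv.ext (h' τ hτ)

/-- The first Klein subgroup. -/
def kleinOne : List (Perm (Fin 7)) := [1, pa, pb, pa * pb]

/-- The second Klein subgroup. -/
def kleinTwo : List (Perm (Fin 7)) := [1, pa, pc, pa * pc]

/-- Boolean membership. -/
def fmem (σ : Perm (Fin 7)) (L : List (Perm (Fin 7))) : Bool := L.any fun c => feq σ c

theorem fmem_iff {σ : Perm (Fin 7)} {L : List (Perm (Fin 7))} : fmem σ L = true ↔ σ ∈ L := by
  simp only [fmem, List.any_eq_true, feq_iff]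
  exact ⟨fun ⟨c, hc, h⟩ => (Equiv.ext h : σ = c) ▸ hc, fun h => ⟨σ, h, fun _ => rfl⟩⟩

theorem commuting_cases {σ τ : Perm (Fin 7)} (hσ : σ ∈ d8) (hτ : τ ∈ d8) (h1 : σ * σ = 1)
    (h2 : τ * τ = 1) (h3 : σ * τ = τ * σ) :
    (σ ∈ kleinOne ∧ τ ∈ kleinOne) ∨ (σ ∈ kleinTwo ∧ τ ∈ kleinTwo) := by
  have h' : (d8List.all fun σ => d8List.all fun τ =>
      !(feq (σ ∘ σ) id && feq (τ ∘ τ) id && feq (σ ∘ τ) (τ ∘ σ)) ||
      ((fmem σ kleinOne && fmem τ kleinOne) || (fmem σ kleinTwo && fmem τ kleinTwo))) = true := by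
    decide +kernel
  simp only [List.all_eq_true, Bool.or_eq_true, Bool.and_eq_true, fmem_iff, Bool.not_eq_true'] at h'
  rcases h' σ hσ τ hτ with h | h
  · rw [← Bool.not_eq_true] at h
    refine absurd ?_ h
    simp only [Bool.and_eq_true, feq_iff]
    exact ⟨⟨fun i => congrArg (fun e : Perm (Fin 7) => e i) h1,
      fun i => congrArg (fun e : Perm (Fin 7) => e i) h2⟩,
      fun i => congrArg (fun e : Perm (Fin 7) => e i) h3⟩
  · exact h

theorem centralizer_table (a b c d : Fin 7) (ha : a.val < 4) (hb : b.val < 4) (hba : b ≠ a) (hbp : b ≠ pa a)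
    (hc : c = 4 ∨ c = 5) (hd : d = 4 ∨ d = 5) (hdc : d ≠ c) :
    ∃ σ ∈ d8List, (∀ i, σ i = ![a, pa a, b, pa b, c, d, 6] i) ∨
      ∀ i, σ (swap 4 5 i) = ![a, pa a, b, pa b, c, d, 6] i := by
  have h' : (([0, 1, 2, 3] : List (Fin 7)).all fun a => ([0, 1, 2, 3] : List (Fin 7)).all fun b =>
      ([4, 5] : List (Fin 7)).all fun c => ([4, 5] : List (Fin 7)).all fun d =>
        Nat.beq b.val a.val || Nat.beq b.val (pa a).val || Nat.beq d.val c.val ||
          d8List.any fun σ => feq σ ![a, pa a, b, pa b, c, d, 6] ||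
            feq (σ ∘ swap 4 5) ![a, pa a, b, pa b, c, d, 6]) = true := by
    decide +kernel
  have m4 : ∀ x : Fin 7, x.val < 4 → x ∈ ([0, 1, 2, 3] : List (Fin 7)) := fun x hx => by
    fin_cases x <;> simp at hx ⊢
  simp only [List.all_eq_true, Bool.or_eq_true, List.any_eq_true, feq_iff, Nat.beq_eq, ← Fin.ext_iff] at h'
  rcases h' a (m4 a ha) b (m4 b hb) c (by simpa using hc) d (by simpa using hd) with ((h | h) | h) | h
  · exact absurd h hba
  · exact absurd h hbp
  · exact absurd h hdc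
  · exact h

end Cfsg.Agent.Fusion.OmegaSeven
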