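import Cfsg.Agent.Lib.Fusion.OmegaSevenModel
import Cfsg.Agent.Lib.OrthSylowTwo.Forms
import Cfsg.Agent.Lib.Forms.OddInvol
import Mathlib

/-!
The group of the sum of seven squares and the group of `x₀² + x₁y₁ + x₂y₂ + x₃y₃`.
-/

set_option autoImplicit false

namespace Cfsg.Agent.Fusion.OmegaSeven

open Cfsg.Agent.FormsLib Cfsg.Agent.OrthSylowTwo Cfsg.Agent.TwoRank Cfsg.Agent.FGS.SqC

variable {F : Type*} [Field F] [Fintype F]

theorem nondeg_of_isOrth {ι : Type} [Fintype ι] [DecidableEq ι] {κ : Type*} [Fintype κ]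
    {Q : QuadraticForm F (ι → F)} {v : κ → ι → F} (h2 : (2 : F) ≠ 0) (hv : IsOrth Q v) :
    (QuadraticMap.polarBilin Q).Nondegenerate := by
  classical
  refine LinearMap.BilinForm.nondegenerate_of_det_ne_zero _ (hv.basis h2) ?_
  rw [hv.toMatrix h2, Matrix.det_diagonal]
  exact Finset.prod_ne_zero_iff.2 fun i _ => mul_ne_zero h2 (hv.ne i)

/-- A multiple of a seven dimensional form is a sum of seven squares in suitable coordinates. -/
theorem exists_squares {ι : Type} [Fintype ι] [DecidableEq ι] (h2 : (2 : F) ≠ 0) (hι : Fintype.card ι = 7)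
    (Q : QuadraticForm F (ι → F)) (hQ : (QuadraticMap.polarBilin Q).Nondegenerate) :
    ∃ (d : F) (L : (Fin 7 → F) ≃ₗ[F] (ι → F)), d ≠ 0 ∧ ∀ x, Q (L x) = d * Q7 F x := by
  classical
  obtain ⟨v, hv, hv1⟩ := exists_diag_basis h2 hQ (k := 6) hι
  set c := Q (v (Fin.last 6)) with hcdef
  have hc0 : c ≠ 0 := hv.ne _
  have hsmul : ∀ x, (c • Q) x = c * Q x := fun x => rfl
  have hpol : ∀ x y, QuadraticMap.polar (⇑(c • Q)) x y = c * QuadraticMap.polar Q x y := fun x y => by
    simp only [QuadraticMap.polar, hsmul]; ring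
  have hv' : IsOrth (c • Q) v := ⟨fun i j hij => by rw [hpol, hv.orth i j hij, mul_zero],
    fun i => by rw [hsmul]; exact mul_ne_zero hc0 (hv.ne i), hv.span⟩
  obtain ⟨w, hw, hw1⟩ := exists_diag_basis h2 (nondeg_of_isOrth h2 hv') (k := 6) hι
  have hdisc := disc_eq h2 hv' hw
  rw [Fin.prod_univ_castSucc (f := fun i => (c • Q) (w i)),
    Finset.prod_eq_one (fun i _ => hw1 _ (Fin.castSucc_lt_last i).ne), one_mul,
    Finset.prod_congr rfl (fun i _ => hsmul (v i)), Finset.prod_mul_distrib,
    Fin.prod_univ_castSucc (f := fun i => Q (v i)),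
    Finset.prod_eq_one (fun i _ => hv1 _ (Fin.castSucc_lt_last i).ne), one_mul, Finset.prod_const,
    Finset.card_univ, Fintype.card_fin, ← pow_succ, cls_eq_one.2 ⟨c ^ 4, by ring⟩, eq_comm, cls_eq_one] at hdisc
  obtain ⟨z, hz⟩ := hdisc
  have hz0 : z ≠ 0 := fun e => hw.ne _ (by rw [hz, e, mul_zero])
  let a : Fin 7 → F := Function.update 1 (Fin.last 6) z⁻¹
  have ha : ∀ i, a i ≠ 0 := fun i => by
    by_cases hi : i = Fin.last 6 <;> simp only [a, hi, Function.update_self, ne_eq, not_false_eq_true,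
      Function.update_of_ne] <;> simp [hz0]
  let B := (hw.basis h2).equivFun.symm
  let D : (Fin 7 → F) ≃ₗ[F] (Fin 7 → F) := LinearEquiv.piCongrRight fun i =>
    LinearEquiv.smulOfUnit (Units.mk0 (a i) (ha i))
  refine ⟨c⁻¹, D.trans B, inv_ne_zero hc0, fun x => ?_⟩
  have : Invertible (2 : F) := invertibleOfNonzero h2
  have key : ∀ y, (c • Q) (B y) = ∑ s, (c • Q) (w s) * (y s * y s) := by
    intro y
    have h := DFunLike.congr_fun (QuadraticMap.basisRepr_eq_of_iIsOrtho (Q := c • Q) (hw.basis h2) (fun s t hst => by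
      show QuadraticMap.associated (c • Q) (hw.basis h2 s) (hw.basis h2 t) = 0
      rw [hw.basis_apply h2, hw.basis_apply h2, QuadraticMap.associated_apply]
      have := hw.orth s t hst
      simp only [QuadraticMap.polar] at this
      rw [this, smul_zero])) y
    rw [QuadraticMap.basisRepr_apply] at h
    show (c • Q) ((hw.basis h2).equivFun.symm y) = _
    rw [Module.Basis.equivFun_symm_apply, h, QuadraticMap.weightedSumSquares_apply]
    exact Finset.sum_congr rfl fun s _ => by rw [hw.basis_apply h2, smul_eq_mul]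
  have h1 : c * Q (B (D x)) = Q7 F x := by
    rw [← hsmul, key, Q7_apply]
    refine Finset.sum_congr rfl fun s _ => ?_
    show (c • Q) (w s) * (a s * x s * (a s * x s)) = x s * x s
    by_cases hs : s = Fin.last 6
    · subst hs
      simp only [a, Function.update_self, hz]
      field_simp
    · rw [show a s = 1 from Function.update_of_ne hs _ _, hw1 s hs]
      ring
  show Q (B (D x)) = c⁻¹ * Q7 F x
  rw [← h1]
  field_simp

theorem qOdd_nondeg (h2 : (2 : F) ≠ 0) :
    (QuadraticMap.polarBilin (qOdd 3 F)).Nondegenerate := by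
  refine OrthOrder.nondegenerate_iff.2 fun x hx => funext fun k => ?_
  rcases k with ⟨⟩ | (k | k)
  · have h := hx (Pi.single (.inl ()) 1)
    simp [qOdd_polar, h2] at h
    exact h
  · have h := hx (Pi.single (.inr (.inr k)) 1)
    simpa [qOdd_polar, Pi.single_apply, Finset.sum_add_distrib] using h
  · have h := hx (Pi.single (.inr (.inl k)) 1)
    simpa [qOdd_polar, Pi.single_apply, Finset.sum_add_distrib] using h

/-- The isomorphism with the matrix group. -/
theorem exists_iso [DecidableEq F] (h2 : (2 : F) ≠ 0) :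
    Nonempty (oGroup (Q7 F) ≃* Cfsg.isometryGroup F (Cfsg.quadFormOdd 3 F)) := by
  classical
  obtain ⟨d, L, hd, hL⟩ := exists_squares h2 (by simp) (qOdd 3 F) (qOdd_nondeg h2)
  let e0 : oGroup (Q7 F) ≃* oGroup (qOdd 3 F) :=
    { toFun := fun g => ⟨L.symm.trans (g.1.trans L), fun v => by
        show qOdd 3 F (L (g.1 (L.symm v))) = qOdd 3 F v
        rw [hL, g.2, ← hL, LinearEquiv.apply_symm_apply]⟩
      invFun := fun g => ⟨L.trans (g.1.trans L.symm), fun v => by
        refine mul_left_cancel₀ hd ?_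
        show d * Q7 F (L.symm (g.1 (L v))) = d * Q7 F v
        rw [← hL, LinearEquiv.apply_symm_apply, g.2, hL]⟩
      left_inv := fun g => Subtype.ext (LinearEquiv.ext fun v => by simp)
      right_inv := fun g => Subtype.ext (LinearEquiv.ext fun v => by simp)
      map_mul' := fun g h => Subtype.ext (LinearEquiv.ext fun v => by simp) }
  rw [← coe_qOdd (m := 3) (F := F)]
  exact ⟨e0.trans (oEquiv (qOdd 3 F)).symm⟩

end Cfsg.Agent.Fusion.OmegaSeven
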