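import Cfsg.Agent.Lib.Fusion.SimpleGroupSystem
import Mathlib

/-!
Fusion systems on self-normalizing Sylow subgroups without proper strongly closed subgroups.
-/

set_option autoImplicit false

namespace Cfsg.Agent.Fusion

universe u v

/-- No subgroup of `P` other than `⊥` and `P` is closed under conjugation into `P`. -/
def NoClosedSub {G : Type u} [Group G] (P : Subgroup G) : Prop :=
  ∀ T : Subgroup G, T ≤ P → T ≠ ⊥ → (∀ g : G, ∀ x ∈ T, g * x * g⁻¹ ∈ P → g * x * g⁻¹ ∈ T) → P ≤ T

theorem noClosedSub_map {G : Type u} [Group G] {H : Type v} [Group H] (e : G ≃* H) {P : Subgroup G}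
    (h : NoClosedSub P) : NoClosedSub (P.map e.toMonoidHom) := by
  intro T hT hne hcl
  have hPe : ∀ {x}, x ∈ T → e.symm x ∈ P := fun {x} hx => by
    obtain ⟨y, hy, rfl⟩ := hT hx
    simpa using hy
  have := h (T.comap e.toMonoidHom) (fun x hx => by simpa using hPe (show e x ∈ T from hx))
    (fun he => hne ?_) fun g x hx hgx => ?_
  · rintro _ ⟨y, hy, rfl⟩
    exact this hy
  · rw [← Subgroup.map_comap_eq_self_of_surjective e.surjective T (f := e.toMonoidHom), he, Subgroup.map_bot]
  · show e (g * x * g⁻¹) ∈ T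
    have h1 := hcl (e g) (e x) hx ⟨g * x * g⁻¹, hgx, by simp⟩
    simpa using h1

theorem selfNorm_map {G : Type u} [Group G] {H : Type v} [Group H] (e : G ≃* H) {P : Subgroup G}
    (h : Subgroup.normalizer (P : Set G) ≤ P) :
    Subgroup.normalizer ((P.map e.toMonoidHom : Subgroup H) : Set H) ≤ P.map e.toMonoidHom := by
  intro x hx
  refine ⟨e.symm x, h (Subgroup.mem_normalizer_iff.2 fun y => ?_), by simp⟩
  have hy : ∀ z, e z ∈ P.map e.toMonoidHom ↔ z ∈ P := fun z =>
    ⟨fun ⟨w, hw, hwz⟩ => e.injective hwz ▸ hw, fun hz => ⟨z, hz, rfl⟩⟩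
  have hz := Subgroup.mem_normalizer_iff.1 hx (e y)
  rw [hy, show x * e y * x⁻¹ = e (e.symm x * y * (e.symm x)⁻¹) by simp, hy] at hz
  exact hz

/-- The three conclusions, from the two properties at one Sylow subgroup of an isomorphic group. -/
theorem selfNorm_simple {G : Type u} [Group G] {H : Type v} [Group H] [Finite H] {p : ℕ} [Fact p.Prime]
    (e : G ≃* H) (P : Sylow p G) (hP : (P : Subgroup G) ≠ ⊥)
    (hN : Subgroup.normalizer ((P : Subgroup G) : Set G) ≤ P) (hsc : NoClosedSub (P : Subgroup G))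
    (S : Sylow p H) :
    (Cfsg.groupFusionSystem (S : Subgroup H)).autGroup (S : Subgroup H) = Cfsg.Inn ↥(S : Subgroup H) ∧
      (∀ T : Subgroup H, (Cfsg.groupFusionSystem (S : Subgroup H)).StronglyClosed T →
        T = ⊥ ∨ T = (S : Subgroup H)) ∧
      (Cfsg.groupFusionSystem (S : Subgroup H)).IsSimple p := by
  have : Finite G := Finite.of_equiv H e.symm.toEquiv
  let S₁ : Sylow p H := P.mapSurjective (f := e.toMonoidHom) e.surjective
  obtain ⟨y, hy⟩ := MulAction.exists_smul_eq H S₁ S
  let f : G ≃* H := e.trans (MulAut.conj y)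
  have hS : (S : Subgroup H) = (P : Subgroup G).map f.toMonoidHom := by
    rw [← hy]
    exact (Subgroup.map_map _ _ _)
  have hS1 : (S : Subgroup H) ≠ ⊥ := fun h => hP (by
    rw [hS] at h
    exact (Subgroup.map_eq_bot_iff_of_injective _ f.injective).1 h)
  have hN' : Subgroup.normalizer ((S : Subgroup H) : Set H) ≤ S := by rw [hS]; exact selfNorm_map f hN
  have hsc' : NoClosedSub (S : Subgroup H) := by rw [hS]; exact noClosedSub_map f hsc
  refine ⟨?_, fun T hT => ?_, isSimple_gfs_self S hS1 hsc' (hN'.trans fun x hx => Subgroup.subset_closure (Or.inl hx))⟩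
  · ext α
    rw [autGroup_gfs le_rfl, mem_autInducedBy_iff_cj]
    constructor
    · rintro ⟨k, -, hk⟩
      have hkS : k ∈ (S : Subgroup H) := hN' (mem_normalizer_of_forall fun z hz => by
        show cj k z ∈ (S : Subgroup H)
        rw [← hk z hz]
        exact autFun_mem α hz)
      exact ⟨⟨k, hkS⟩, autFun_ext fun z hz => by rw [hk z hz, autFun_apply _ hz]; rfl⟩
    · rintro ⟨k, rfl⟩
      exact ⟨k, Subgroup.mem_top _, fun z hz => by rw [autFun_apply _ hz]; rfl⟩
  · by_cases h : T = ⊥
    · exact Or.inl h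
    refine Or.inr (le_antisymm hT.1 (hsc' T hT.1 h fun g x hx hgx => ?_))
    have hm : MapTo (Cfsg.groupFusionSystem (S : Subgroup H)) (Subgroup.zpowers x) (cj g) :=
      mapTo_gfs_cj (Subgroup.zpowers_le.mpr (hT.1 hx)) fun z hz => by
        obtain ⟨k, rfl⟩ := Subgroup.mem_zpowers_iff.mp hz
        rw [← conj_zpow]
        exact Subgroup.zpow_mem _ hgx k
    exact (stronglyClosed_iff.mp hT).2 _ _ (Subgroup.zpowers_le.mpr hx) hm x (Subgroup.mem_zpowers x)

end Cfsg.Agent.Fusion
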