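import Cfsg.Agent.Lib.Fusion.OmegaSevenClosed
import Cfsg.Agent.Lib.Fusion.OmegaSevenTransport
import Cfsg.Agent.Lib.Fusion.SelfNormSimple
import Cfsg.Agent.S0286
import Mathlib

/-!
The Sylow 2-subgroup of `Ω₇(q)`, `q ≡ ±3 (mod 8)`, with its two properties.
-/

set_option autoImplicit false

namespace Cfsg.Agent.Fusion.OmegaSeven

open Cfsg.Agent.FormsLib Cfsg.Agent.OrthSylowTwo

variable {F : Type*} [Field F] [Fintype F]

theorem val_sq_sub_one {q : ℕ} (hq : q % 8 = 3 ∨ q % 8 = 5) : padicValNat 2 (q ^ 2 - 1) = 3 := by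
  have key : ∀ x k, x % 2 ^ (k + 1) = 2 ^ k → padicValNat 2 x = k := fun x k hx => by
    obtain ⟨t, ht⟩ : ∃ t, x = 2 ^ k * (2 * t + 1) := ⟨x / 2 ^ (k + 1), by
      conv_lhs => rw [← Nat.div_add_mod x (2 ^ (k + 1)), hx]
      ring⟩
    rw [ht, padicValNat.mul (by positivity) (by omega), padicValNat.prime_pow,
      padicValNat.eq_zero_of_not_dvd (by omega), add_zero]
  have hsplit := val_split (q := q) (by omega) (by rw [Nat.odd_iff]; omega)
  rcases hq with h | h
  · have h1 := key (q - 1) 1 (by norm_num; omega)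
    have h2 := key (q + 1) 2 (by norm_num; omega)
    omega
  · have h1 := key (q - 1) 2 (by norm_num; omega)
    have h2 := key (q + 1) 1 (by norm_num; omega)
    omega

theorem exists_sylow [DecidableEq F] {q : ℕ} (hF : Fintype.card F = q) (hq : q % 8 = 3 ∨ q % 8 = 5)
    (h2 : (2 : F) ≠ 0) (hns : ¬ IsSquare (2 : F)) :
    ∃ P : Sylow 2 (commutator (oGroup (Q7 F))), (P : Subgroup (commutator (oGroup (Q7 F)))) ≠ ⊥ ∧
      Subgroup.normalizer ((P : Subgroup (commutator (oGroup (Q7 F)))) : Set (commutator (oGroup (Q7 F)))) ≤ P ∧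
      NoClosedSub (P : Subgroup (commutator (oGroup (Q7 F)))) := by
  classical
  set S0 : Subgroup (commutator (oGroup (Q7 F))) := (S7 F).subgroupOf (commutator (oGroup (Q7 F))) with hS0
  have hcard : Nat.card S0 = 2 ^ 9 := by
    rw [hS0, Nat.card_congr (Subgroup.subgroupOfEquivOfLe (S7_le_omega h2 hns)).toEquiv, card_S7 h2]
  have hsurj : Function.Surjective (chi7 (F := F) h2) := by
    rintro ⟨a, b⟩
    refine ⟨dg F (Pi.mulSingle 0 (a * b)) * pm F (if b = 1 then 1 else Equiv.swap 0 1), ?_⟩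
    rw [chi_mono h2 hns, Fintype.prod_pi_mulSingle']
    rcases Int.units_eq_one_or a with rfl | rfl <;> rcases Int.units_eq_one_or b with rfl | rfl <;> simp
  obtain ⟨e⟩ := exists_iso (F := F) h2
  have hval : padicValNat 2 (Nat.card (commutator (oGroup (Q7 F)))) = 9 := by
    have h1 := Subgroup.card_mul_index (chi7 (F := F) h2).ker
    rw [Subgroup.index_ker, MonoidHom.range_eq_top.2 hsurj, Subgroup.card_top, chi7, chi_ker h2 (Q7_nondeg h2),
      Nat.card_congr e.toEquiv,
      Cfsg.Agent.S0286.result hF (by rw [Nat.odd_iff]; omega) 3] at h1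
    have h4 : Nat.card (ℤˣ × ℤˣ) = 2 ^ 2 := by simp
    have h2' := congrArg (padicValNat 2) h1
    rw [h4, padicValNat.mul Nat.card_pos.ne' (by norm_num), padicValNat.prime_pow,
      val_order_odd (by omega) (by rw [Nat.odd_iff]; omega), val_sq_sub_one hq, val_fac (by norm_num)] at h2'
    have h3 : padicValNat 2 3 = 0 := padicValNat.eq_zero_of_not_dvd (by norm_num)
    have h2'' : padicValNat 2 (3 - 1).factorial = 1 := by simp
    omega
  refine ⟨Sylow.ofCard S0 (by rw [hcard, Nat.factorization_def _ Nat.prime_two, hval]), ?_, ?_, ?_⟩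
  all_goals rw [Sylow.coe_ofCard]
  · intro h
    rw [h, Subgroup.card_bot] at hcard
    norm_num at hcard
  · intro g hg
    have hχ : chi7 h2 g.1 = 1 := by
      rw [← MonoidHom.mem_ker, chi7, chi_ker h2 (Q7_nondeg h2)]; exact g.2
    refine mem_of_normalizes h2 hns hχ (fun x hx => ?_) fun x hx => ?_
    · have := (Subgroup.mem_normalizer_iff.1 hg ⟨x, S7_le_omega h2 hns hx⟩).1 hx
      exact this
    · have := (Subgroup.mem_normalizer_iff.1 (inv_mem hg) ⟨x, S7_le_omega h2 hns hx⟩).1 hx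
      rwa [inv_inv] at this
  · intro T hT hne hcl x hx
    have h := le_of_closed h2 hns (T := T.map (commutator (oGroup (Q7 F))).subtype)
      (by rintro _ ⟨y, hy, rfl⟩; exact hT hy)
      (fun h => hne ((Subgroup.map_eq_bot_iff_of_injective _ Subtype.val_injective).1 h))
      (by
        rintro g hg _ ⟨y, hy, rfl⟩ hgy
        have hgΩ : g ∈ commutator (oGroup (Q7 F)) := by
          rw [← chi_ker h2 (Q7_nondeg h2), MonoidHom.mem_ker]; exact hg
        exact ⟨_, hcl ⟨g, hgΩ⟩ y hy hgy, rfl⟩) hx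
    obtain ⟨y, hy, hyx⟩ := h
    rwa [← Subtype.ext hyx]

end Cfsg.Agent.Fusion.OmegaSeven
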