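import Cfsg.Agent.Lib.Fusion.OmegaSevenData
import Cfsg.Agent.Lib.OrthSylowTwo.Monomial
import Mathlib

/-!
Monomial isometries of the sum of seven squares.
-/

set_option autoImplicit false
set_option linter.unusedSectionVars false

namespace Cfsg.Agent.Fusion.OmegaSeven

open Cfsg.Agent.FormsLib Cfsg.Agent.OrthSylowTwo Equiv

variable (F : Type*) [Field F] [Fintype F]

/-- The sum of seven squares. -/
noncomputable def Q7 : QuadraticForm F (Fin 7 → F) :=
  QuadraticMap.weightedSumSquares F (fun _ : Fin 7 => (1 : F))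

variable {F}

theorem Q7_apply (x : Fin 7 → F) : Q7 F x = ∑ i, x i * x i := by
  simp [Q7, QuadraticMap.weightedSumSquares_apply]

theorem Q7_polar (x y : Fin 7 → F) : QuadraticMap.polar (⇑(Q7 F)) x y = ∑ i, 2 * (x i * y i) := by
  simp only [QuadraticMap.polar, Q7_apply, Pi.add_apply, ← Finset.sum_sub_distrib]
  exact Finset.sum_congr rfl fun i _ => by ring

theorem Q7_nondeg (h2 : (2 : F) ≠ 0) : (QuadraticMap.polarBilin (Q7 F)).Nondegenerate :=
  nondeg_wss h2 fun _ => one_ne_zero

theorem Q7_single (i : Fin 7) (a : F) : Q7 F (Pi.single i a) = a * a := by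
  rw [Q7_apply, Finset.sum_eq_single i (fun b _ hb => by simp [Pi.single_eq_of_ne hb]) (by simp),
    Pi.single_eq_same]

/-- A sign as a scalar. -/
abbrev sc (s : ℤˣ) : F := ((s : ℤ) : F)

theorem sc_mul (s t : ℤˣ) : sc (F := F) (s * t) = sc s * sc t := by simp [sc]

theorem sc_sq (s : ℤˣ) : sc (F := F) s * sc s = 1 := by
  rw [← sc_mul, Int.units_mul_self]; simp [sc]

theorem sc_ne_zero (s : ℤˣ) : sc (F := F) s ≠ 0 := left_ne_zero_of_mul_eq_one (sc_sq s)

theorem sc_inj (h2 : (2 : F) ≠ 0) {s t : ℤˣ} (h : sc (F := F) s = sc t) : s = t := by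
  rcases Int.units_eq_one_or s with rfl | rfl <;> rcases Int.units_eq_one_or t with rfl | rfl <;>
    first
    | rfl
    | exact absurd (show (2 : F) = 0 by simp [sc] at h; linear_combination h) h2
    | exact absurd (show (2 : F) = 0 by simp [sc] at h; linear_combination -h) h2

variable (F) in
/-- Diagonal sign changes. -/
noncomputable def dg : Sgn →* oGroup (Q7 F) where
  toFun e := ⟨LinearEquiv.piCongrRight fun i => sgnE (e i), fun x => by
    rw [Q7_apply, Q7_apply]
    refine Finset.sum_congr rfl fun i _ => ?_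
    show sc (e i) * x i * (sc (e i) * x i) = _
    linear_combination (x i * x i) * sc_sq (F := F) (e i)⟩
  map_one' := Subtype.ext (LinearEquiv.ext fun x => funext fun i => by
    show sc (1 : ℤˣ) * x i = x i
    simp [sc])
  map_mul' e e' := Subtype.ext (LinearEquiv.ext fun x => funext fun i => by
    show sc (e i * e' i) * x i = sc (e i) * (sc (e' i) * x i)
    rw [sc_mul, mul_assoc])

theorem dg_apply (e : Sgn) (x : Fin 7 → F) (i : Fin 7) : (dg F e).1 x i = sc (e i) * x i := rfl

variable (F) in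
/-- Coordinate permutations. -/
noncomputable def pm : Perm (Fin 7) →* oGroup (Q7 F) where
  toFun σ := ⟨LinearEquiv.funCongrLeft F F σ.symm, fun x => by
    rw [Q7_apply, Q7_apply]
    exact Equiv.sum_comp σ.symm fun k => x k * x k⟩
  map_one' := Subtype.ext (LinearEquiv.ext fun x => rfl)
  map_mul' σ τ := Subtype.ext (LinearEquiv.ext fun x => rfl)

theorem pm_apply (σ : Perm (Fin 7)) (x : Fin 7 → F) (i : Fin 7) : (pm F σ).1 x i = x (σ.symm i) := rfl

theorem pm_dg (σ : Perm (Fin 7)) (e : Sgn) : pm F σ * dg F e = dg F (e ∘ σ.symm) * pm F σ :=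
  Subtype.ext (LinearEquiv.ext fun _ => rfl)

theorem pm_dg_conj (σ : Perm (Fin 7)) (e : Sgn) :
    pm F σ * dg F e * (pm F σ)⁻¹ = dg F (e ∘ σ.symm) := by
  rw [pm_dg, mul_inv_cancel_right]

theorem mono_single (e : Sgn) (σ : Perm (Fin 7)) (i : Fin 7) (a : F) :
    (dg F e * pm F σ).1 (Pi.single i a) = Pi.single (σ i) (sc (e (σ i)) * a) := by
  funext k
  show sc (e k) * (Pi.single i a : Fin 7 → F) (σ.symm k) = _
  by_cases h : k = σ i
  · subst h; simp
  · rw [Pi.single_eq_of_ne h, Pi.single_eq_of_ne (fun e' => h ?_), mul_zero]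
    rw [← e', σ.apply_symm_apply]

theorem mono_injective (h2 : (2 : F) ≠ 0) {e e' : Sgn} {σ σ' : Perm (Fin 7)}
    (h : dg F e * pm F σ = dg F e' * pm F σ') : e = e' ∧ σ = σ' := by
  have hi : ∀ i, (Pi.single (σ i) (sc (e (σ i))) : Fin 7 → F) = Pi.single (σ' i) (sc (e' (σ' i))) := fun i => by
    have := congrArg (fun g : oGroup (Q7 F) => g.1 (Pi.single i (1 : F))) h
    simpa only [mono_single, mul_one] using this
  have hσ : σ = σ' := Equiv.ext fun i => by
    by_contra hne
    have := congrFun (hi i) (σ i)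
    rw [Pi.single_eq_same, Pi.single_eq_of_ne hne] at this
    exact sc_ne_zero _ this
  subst hσ
  refine ⟨funext fun k => sc_inj h2 ?_, rfl⟩
  have := congrFun (hi (σ.symm k)) k
  rwa [σ.apply_symm_apply, Pi.single_eq_same, Pi.single_eq_same] at this

theorem dg_eq_refl (i : Fin 7) (hv : Q7 F (Pi.single i 1) ≠ 0) :
    dg F (Pi.mulSingle i (-1)) = oRefl (Q7 F) (Pi.single i 1) hv := by
  refine Subtype.ext (LinearEquiv.ext fun x => funext fun k => ?_)
  show sc ((Pi.mulSingle i (-1) : Sgn) k) * x k = (refl (Q7 F) (Pi.single i 1) hv x) k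
  rw [FormsLib.refl_apply, Q7_single, Q7_polar, Finset.sum_eq_single i (fun b _ hb => by simp [Pi.single_eq_of_ne hb]) (by simp),
    Pi.single_eq_same, Pi.sub_apply, Pi.smul_apply, smul_eq_mul]
  by_cases hk : k = i
  · subst hk; simp [sc]; ring
  · simp [sc, Pi.mulSingle_eq_of_ne hk, Pi.single_eq_of_ne hk]

theorem Q7_diff {i j : Fin 7} (hij : i ≠ j) : Q7 F (Pi.single i 1 - Pi.single j 1) = 2 := by
  rw [Q7_apply, Finset.sum_eq_add i j hij (fun b _ hb => by
    simp [Pi.single_eq_of_ne hb.1, Pi.single_eq_of_ne hb.2]) (by simp) (by simp)]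
  simp [Pi.single_eq_of_ne hij, Pi.single_eq_of_ne hij.symm]
  norm_num

theorem pm_swap (h2 : (2 : F) ≠ 0) {i j : Fin 7} (hij : i ≠ j) :
    pm F (swap i j) = oRefl (Q7 F) (Pi.single i 1 - Pi.single j 1) (by rw [Q7_diff hij]; exact h2) := by
  refine Subtype.ext (LinearEquiv.ext fun x => funext fun k => ?_)
  have hQ : Q7 F (Pi.single i 1 - Pi.single j 1) ≠ 0 := by rw [Q7_diff hij]; exact h2
  show x ((swap i j).symm k) = (refl (Q7 F) (Pi.single i 1 - Pi.single j 1) hQ x) k
  rw [FormsLib.refl_apply, Q7_diff hij, Q7_polar, Finset.sum_eq_add i j hij (fun b _ hb => by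
    simp [Pi.single_eq_of_ne hb.1, Pi.single_eq_of_ne hb.2]) (by simp) (by simp)]
  rw [Equiv.symm_swap, Pi.sub_apply, Pi.smul_apply, smul_eq_mul, Pi.sub_apply]
  by_cases hki : k = i
  · subst hki
    simp [Pi.single_eq_of_ne hij, Pi.single_eq_of_ne hij.symm]
    field_simp
    ring
  · by_cases hkj : k = j
    · subst hkj
      simp [Pi.single_eq_of_ne hij, Pi.single_eq_of_ne hij.symm]
      field_simp
      ring
    · simp [Pi.single_eq_of_ne hki, Pi.single_eq_of_ne hkj, Equiv.swap_apply_of_ne_of_ne hki hkj]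

/-- Weight two sign vectors. -/
def pr (i j : Fin 7) : Sgn := Pi.mulSingle i (-1) * Pi.mulSingle j (-1)

theorem pr_prod (i j : Fin 7) : ∏ k, pr i j k = 1 := by
  simp [pr, Finset.prod_mul_distrib]

section Chi

variable (h2 : (2 : F) ≠ 0) (hns : ¬ IsSquare (2 : F))

/-- The two characters of the orthogonal group of seven squares. -/
noncomputable abbrev chi7 : oGroup (Q7 F) →* ℤˣ × ℤˣ := chi h2 (Q7_nondeg h2)

theorem chi_dg (e : Sgn) : chi7 h2 (dg F e) = (∏ i, e i, 1) := by
  have h : ∀ i : Fin 7, ∀ s : ℤˣ, chi7 h2 (dg F (Pi.mulSingle i s)) = (s, 1) := by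
    intro i s
    rcases Int.units_eq_one_or s with rfl | rfl
    · rw [Pi.mulSingle_one, map_one, map_one]; rfl
    · rw [dg_eq_refl i (by rw [Q7_single]; simp), chi7, chi_refl, if_pos]
      rw [Q7_single, mul_one]
      exact IsSquare.one
  conv_lhs => rw [← Finset.univ_prod_mulSingle e]
  rw [← MonoidHom.comp_apply, map_prod, Finset.prod_congr rfl fun i _ => by
    rw [MonoidHom.comp_apply, h i (e i)]]
  exact Prod.ext (by simp [Prod.fst_prod]) (by simp [Prod.snd_prod])


end Chi

end Cfsg.Agent.Fusion.OmegaSeven
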