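import Cfsg.Agent.Lib.Fusion.OmegaSevenData
import Mathlib

/-!
The normalizer of the dihedral permutation group and the fixed sign vectors of its Klein subgroups.
-/

set_option autoImplicit false

namespace Cfsg.Agent.Fusion.OmegaSeven

open Equiv

theorem mem_d8_of_normalizes {π : Perm (Fin 7)} (hs : Perm.sign π = 1)
    (h1 : ∀ σ ∈ d8, π * σ * π⁻¹ ∈ d8) (h2 : ∀ σ ∈ d8, π⁻¹ * σ * π ∈ d8) : π ∈ d8 := by
  have h6 : π 6 = 6 := d8_center_six _ fun σ hσ => by
    have := d8_fix_six _ (h2 σ hσ)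
    simp only [Perm.mul_apply] at this
    simpa using congrArg (fun k => π k) this
  have hpa : π * pa * π⁻¹ = pa := by
    refine ((d8_center (h1 pa pa_mem) fun τ hτ => ?_).resolve_left fun e => ?_)
    · have := congrArg (fun x => π * x * π⁻¹) (pa_comm (h2 τ hτ))
      simpa [mul_assoc] using this
    · have h0 : pa = 1 := conj_eq_one_iff.1 e
      exact absurd (congrArg (fun e : Perm (Fin 7) => e 0) h0) (by decide)
  have hcomm : ∀ i, π (pa i) = pa (π i) := fun i =>
    congrArg (fun e : Perm (Fin 7) => e i) (mul_inv_eq_iff_eq_mul.1 hpa)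
  have hfix : ∀ k : Fin 7, pa k = k ↔ 4 ≤ k.val := by decide
  have hmov : ∀ i : Fin 7, i.val < 4 → (π i).val < 4 := fun i hi => by
    by_contra h
    have := (hfix _).2 (not_lt.1 h)
    rw [← hcomm, π.injective.eq_iff, hfix] at this
    omega
  have h45 : ∀ i : Fin 7, i = 4 ∨ i = 5 → π i = 4 ∨ π i = 5 := fun i hi => by
    have h4 : 4 ≤ (π i).val := (hfix _).1 (by rw [← hcomm, (hfix i).2 (by rcases hi with rfl | rfl <;> decide)])
    have hne : π i ≠ 6 := fun e => by
      rw [← h6, π.injective.eq_iff] at e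
      rcases hi with rfl | rfl <;> exact absurd e (by decide)
    have : ∀ k : Fin 7, 4 ≤ k.val → k ≠ 6 → k = 4 ∨ k = 5 := by decide
    exact this _ h4 hne
  obtain ⟨σ, hσ, h | h⟩ := centralizer_table (π 0) (π 2) (π 4) (π 5) (hmov 0 (by decide)) (hmov 2 (by decide))
    (π.injective.ne (by decide)) (by rw [← hcomm]; exact π.injective.ne (by decide)) (h45 4 (Or.inl rfl))
    (h45 5 (Or.inr rfl)) (π.injective.ne (by decide))
  · have : π = σ := Equiv.ext fun i => by
      rw [h i]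
      fin_cases i <;> first | rfl | exact h6 | exact hcomm 0 | exact hcomm 2
    exact this ▸ hσ
  · exfalso
    have : π = σ * swap 4 5 := Equiv.ext fun i => by
      rw [Perm.mul_apply, h i]
      fin_cases i <;> first | rfl | exact h6 | exact hcomm 0 | exact hcomm 2
    rw [this, map_mul, d8_sign hσ, one_mul, Perm.sign_swap (by decide)] at hs
    exact absurd hs (by decide)

/-- The stabilizer of a sign vector. -/
def fixer (e : Sgn) : Subgroup (Perm (Fin 7)) where
  carrier := {σ | ∀ i, e (σ i) = e i}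
  one_mem' _ := rfl
  mul_mem' {a b} ha hb i := (ha (b i)).trans (hb i)
  inv_mem' {a} ha i := by
    have := ha (a⁻¹ i)
    rw [show a (a⁻¹ i) = i from a.apply_symm_apply i] at this
    exact this.symm

theorem mem_fixer {e : Sgn} {σ : Perm (Fin 7)} : σ ∈ fixer e ↔ ∀ i, e (σ i) = e i := Iff.rfl

/-- Even sign vectors fixed by a set of permutations. -/
def fixEven (I : Finset (Perm (Fin 7))) : Finset Sgn :=
  Finset.univ.filter fun e => ∏ i, e i = 1 ∧ ∀ σ ∈ I, ∀ i, e (σ i) = e i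

theorem eq_of_six {e e' : Sgn} (he : ∏ i, e i = 1) (he' : ∏ i, e' i = 1) (j : Fin 7)
    (h : ∀ k, k ≠ j → e k = e' k) : e = e' := by
  funext k
  by_cases hk : k = j
  · subst hk
    rw [← Finset.mul_prod_erase Finset.univ _ (Finset.mem_univ k)] at he he'
    rw [Finset.prod_congr rfl fun i hi => h i (Finset.ne_of_mem_erase hi)] at he
    exact mul_right_cancel (he.trans he'.symm)
  · exact h k hk

theorem fix_card (I : Finset (Perm (Fin 7))) {r : ℕ} (R : Fin r → Fin 7) (j : Fin 7) (φ : Fin 7 → Fin r)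
    (h : ∀ e ∈ fixEven I, ∀ k, k ≠ j → e k = e (R (φ k))) : (fixEven I).card ≤ 2 ^ r := by
  refine le_trans (Finset.card_le_card_of_injOn (fun e => e ∘ R) (t := Finset.univ) (fun _ _ => Finset.mem_univ _)
    fun e he e' he' heq => ?_) (le_of_eq (by simp))
  simp only [Finset.mem_coe] at he he'
  refine eq_of_six (Finset.mem_filter.1 he).2.1 (Finset.mem_filter.1 he').2.1 j fun k hk => ?_
  rw [h e he k hk, h e' he' k hk]
  exact congrFun heq (φ k)

theorem fix_card_one {I : Finset (Perm (Fin 7))} {σ : Perm (Fin 7)} (hσI : σ ∈ I) (hσ : σ ∈ d8)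
    (h2 : σ * σ = 1) (h1 : σ ≠ 1) : (fixEven I).card ≤ 16 := by
  have hf : ∀ e ∈ fixEven I, ∀ i, e (σ i) = e i := fun e he => (Finset.mem_filter.1 he).2.2 σ hσI
  have hmem : σ ∈ kleinOne ∨ σ ∈ kleinTwo := (commuting_cases hσ hσ h2 h2 rfl).imp And.left And.left
  simp only [kleinOne, kleinTwo, List.mem_cons, List.not_mem_nil, or_false] at hmem
  rcases hmem with (rfl | rfl | rfl | rfl) | (rfl | rfl | rfl | rfl)
  · exact absurd rfl h1
  · exact fix_card I ![0, 2, 4, 5] 6 ![0, 0, 1, 1, 2, 3, 0] fun e he k hk => by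
      fin_cases k <;> first | rfl | exact absurd rfl hk | exact hf e he 0 | exact hf e he 2
  · exact fix_card I ![0, 1, 4, 5] 6 ![0, 1, 0, 1, 2, 3, 0] fun e he k hk => by
      fin_cases k <;> first | rfl | exact absurd rfl hk | exact hf e he 0 | exact hf e he 1
  · exact fix_card I ![0, 1, 4, 5] 6 ![0, 1, 1, 0, 2, 3, 0] fun e he k hk => by
      fin_cases k <;> first | rfl | exact absurd rfl hk | exact hf e he 0 | exact hf e he 1
  · exact absurd rfl h1
  · exact fix_card I ![0, 2, 4, 5] 6 ![0, 0, 1, 1, 2, 3, 0] fun e he k hk => by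
      fin_cases k <;> first | rfl | exact absurd rfl hk | exact hf e he 0 | exact hf e he 2
  · exact fix_card I ![0, 2, 3, 4] 6 ![0, 0, 1, 2, 3, 3, 0] fun e he k hk => by
      fin_cases k <;> first | rfl | exact absurd rfl hk | exact hf e he 0 | exact hf e he 4
  · exact fix_card I ![0, 1, 2, 4] 6 ![0, 1, 2, 2, 3, 3, 0] fun e he k hk => by
      fin_cases k <;> first | rfl | exact absurd rfl hk | exact hf e he 2 | exact hf e he 4

theorem klein_span (K : List (Perm (Fin 7))) (hK : K = kleinOne ∨ K = kleinTwo) {σ τ : Perm (Fin 7)}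
    (hσ : σ ∈ K) (hτ : τ ∈ K) (h1 : σ ≠ 1) (h2 : τ ≠ 1) (hne : σ ≠ τ) :
    ∀ x ∈ K, x ∈ [1, σ, τ, σ * τ] := by
  have h' : ([kleinOne, kleinTwo].all fun K => K.all fun σ => K.all fun τ =>
      feq σ id || feq τ id || feq σ τ || K.all fun x => fmem x [1, σ, τ, σ * τ]) = true := by decide +kernel
  simp only [List.all_eq_true, Bool.or_eq_true, feq_iff, fmem_iff] at h'
  rcases h' K (by simpa using hK) σ hσ τ hτ with ((h | h) | h) | h
  · exact absurd (Equiv.ext h) h1
  · exact absurd (Equiv.ext h) h2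
  · exact absurd (Equiv.ext h) hne
  · exact h

theorem commuting_bound (I : Finset (Perm (Fin 7))) (hI : ∀ σ ∈ I, σ ∈ d8)
    (hcomm : ∀ σ ∈ I, ∀ τ ∈ I, σ * τ = τ * σ ∧ σ * σ = 1) {σ₀ : Perm (Fin 7)} (h₀ : σ₀ ∈ I) (h₁ : σ₀ ≠ 1) :
    I.card * (fixEven I).card ≤ 32 := by
  have hcc : ∀ σ ∈ I, ∀ τ ∈ I, (σ ∈ kleinOne ∧ τ ∈ kleinOne) ∨ (σ ∈ kleinTwo ∧ τ ∈ kleinTwo) :=
    fun σ hσ τ hτ => commuting_cases (hI σ hσ) (hI τ hτ) (hcomm σ hσ σ hσ).2 (hcomm τ hτ τ hτ).2
      (hcomm σ hσ τ hτ).1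
  by_cases h2 : I.card ≤ 2
  · exact le_trans (Nat.mul_le_mul h2 (fix_card_one h₀ (hI _ h₀) (hcomm _ h₀ _ h₀).2 h₁)) (by norm_num)
  obtain ⟨K, hK, hIK⟩ : ∃ K, (K = kleinOne ∨ K = kleinTwo) ∧ ∀ x ∈ I, x ∈ K := by
    by_cases hb : ∃ x ∈ I, x ∉ kleinTwo
    · obtain ⟨x, hx, hx'⟩ := hb
      exact ⟨kleinOne, Or.inl rfl, fun y hy => ((hcc x hx y hy).resolve_right fun h => hx' h.1).2⟩
    · exact ⟨kleinTwo, Or.inr rfl, fun x hx => by_contra fun h => hb ⟨x, hx, h⟩⟩
  have hcard : I.card ≤ 4 := by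
    refine le_trans (Finset.card_le_card (t := K.toFinset) fun x hx => List.mem_toFinset.2 (hIK x hx))
      ((List.toFinset_card_le K).trans ?_)
    rcases hK with rfl | rfl <;> rfl
  obtain ⟨τ, hτ, hτ'⟩ : ∃ τ ∈ I, τ ≠ 1 ∧ τ ≠ σ₀ := by
    by_contra h
    refine h2 (le_trans (Finset.card_le_card (t := {1, σ₀}) fun x hx => ?_) Finset.card_le_two)
    by_contra hx'
    simp only [Finset.mem_insert, Finset.mem_singleton, not_or] at hx'
    exact h ⟨x, hx, hx'⟩
  have hspan := klein_span K hK (hIK _ h₀) (hIK _ hτ) h₁ hτ'.1 (Ne.symm hτ'.2)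
  have hf : ∀ e ∈ fixEven I, ∀ x ∈ K, ∀ i, e (x i) = e i := fun e he x hx => by
    have hσ : σ₀ ∈ fixer e := (Finset.mem_filter.1 he).2.2 σ₀ h₀
    have hτe : τ ∈ fixer e := (Finset.mem_filter.1 he).2.2 τ hτ
    have hx' := hspan x hx
    simp only [List.mem_cons, List.not_mem_nil, or_false] at hx'
    refine mem_fixer.1 ?_
    rcases hx' with rfl | rfl | rfl | rfl
    · exact one_mem _
    · exact hσ
    · exact hτe
    · exact mul_mem hσ hτe
  refine le_trans (Nat.mul_le_mul hcard (?_ : (fixEven I).card ≤ 8)) (by norm_num)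
  rcases hK with rfl | rfl
  · exact fix_card I ![0, 4, 5] 6 ![0, 0, 0, 0, 1, 2, 0] fun e he k hk => by
      fin_cases k <;> first | rfl | exact absurd rfl hk | exact hf e he pa (by simp [kleinOne]) 0 |
        exact hf e he pb (by simp [kleinOne]) 0 | exact hf e he (pa * pb) (by simp [kleinOne]) 0
  · exact fix_card I ![0, 2, 4] 6 ![0, 0, 1, 1, 2, 2, 0] fun e he k hk => by
      fin_cases k <;> first | rfl | exact absurd rfl hk | exact hf e he pa (by simp [kleinTwo]) 0 |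
        exact hf e he pa (by simp [kleinTwo]) 2 | exact hf e he pc (by simp [kleinTwo]) 4

end Cfsg.Agent.Fusion.OmegaSeven
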