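import Cfsg.Agent.Lib.Fusion.OmegaSevenModel
import Cfsg.Agent.Lib.Fusion.OmegaSevenPerm
import Mathlib

/-!
The monomial Sylow 2-subgroup of `Ω₇(q)`, `q ≡ ±3 (mod 8)`, is self-normalizing.
-/

set_option autoImplicit false
set_option linter.unusedSectionVars false

namespace Cfsg.Agent.Fusion.OmegaSeven

open Cfsg.Agent.FormsLib Cfsg.Agent.OrthSylowTwo Equiv

variable {F : Type*} [Field F] [Fintype F]

theorem chi_pm (h2 : (2 : F) ≠ 0) (hns : ¬ IsSquare (2 : F)) (σ : Perm (Fin 7)) :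
    chi7 h2 (pm F σ) = (Perm.sign σ, Perm.sign σ) := by
  refine DFunLike.congr_fun (MonoidHom.eq_of_eqOn_dense Perm.closure_isSwap
    (f := (chi7 h2).comp (pm F)) (g := (Perm.sign : Perm (Fin 7) →* ℤˣ).prod Perm.sign) ?_) σ
  rintro _ ⟨i, j, hij, rfl⟩
  show chi7 h2 (pm F (swap i j)) = (Perm.sign (swap i j), Perm.sign (swap i j))
  rw [pm_swap h2 hij, chi7, chi_refl, Perm.sign_swap hij, if_neg (by rwa [Q7_diff hij])]

theorem chi_mono (h2 : (2 : F) ≠ 0) (hns : ¬ IsSquare (2 : F)) (e : Sgn) (σ : Perm (Fin 7)) :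
    chi7 h2 (dg F e * pm F σ) = ((∏ i, e i) * Perm.sign σ, Perm.sign σ) := by
  rw [map_mul, chi_dg, chi_pm h2 hns, Prod.mk_mul_mk, one_mul]

theorem prod_comp (e : Sgn) (σ : Perm (Fin 7)) : ∏ i, (e ∘ σ.symm) i = ∏ i, e i :=
  Equiv.prod_comp σ.symm e

theorem mono_mul (e e' : Sgn) (σ σ' : Perm (Fin 7)) :
    dg F e * pm F σ * (dg F e' * pm F σ') = dg F (e * (e' ∘ σ.symm)) * pm F (σ * σ') := by
  rw [map_mul, map_mul]
  calc dg F e * pm F σ * (dg F e' * pm F σ') = dg F e * (pm F σ * dg F e') * pm F σ' := by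
        simp only [mul_assoc]
    _ = _ := by rw [pm_dg]; simp only [mul_assoc]

variable (F) in
/-- The monomial Sylow 2-subgroup. -/
noncomputable def S7 : Subgroup (oGroup (Q7 F)) where
  carrier := {g | ∃ e σ, (∏ i, e i = 1) ∧ σ ∈ d8 ∧ g = dg F e * pm F σ}
  one_mem' := ⟨1, 1, by simp, one_mem _, by rw [map_one, map_one, one_mul]⟩
  mul_mem' := by
    rintro _ _ ⟨e, σ, he, hσ, rfl⟩ ⟨e', σ', he', hσ', rfl⟩
    refine ⟨e * (e' ∘ σ.symm), σ * σ', ?_, mul_mem hσ hσ', mono_mul e e' σ σ'⟩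
    simp only [Pi.mul_apply, Finset.prod_mul_distrib, prod_comp, he, he', mul_one]
  inv_mem' := by
    rintro _ ⟨e, σ, he, hσ, rfl⟩
    refine ⟨e⁻¹ ∘ σ, σ⁻¹, ?_, inv_mem hσ, inv_eq_of_mul_eq_one_right ?_⟩
    · rw [show ∏ i, (e⁻¹ ∘ σ) i = ∏ i, e⁻¹ i from Equiv.prod_comp σ _]
      simp [Finset.prod_inv_distrib, he]
    · rw [mono_mul, mul_inv_cancel, map_one, mul_one, show e * ((e⁻¹ ∘ σ) ∘ σ.symm) = 1 from funext fun i => by
        simp, map_one]

theorem mem_S7 {g : oGroup (Q7 F)} :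
    g ∈ S7 F ↔ ∃ e σ, (∏ i, e i = 1) ∧ σ ∈ d8 ∧ g = dg F e * pm F σ := Iff.rfl

theorem mono_mem_iff (h2 : (2 : F) ≠ 0) {e : Sgn} {σ : Perm (Fin 7)} :
    dg F e * pm F σ ∈ S7 F ↔ (∏ i, e i = 1) ∧ σ ∈ d8 := by
  refine ⟨fun ⟨e', σ', he', hσ', h⟩ => ?_, fun h => ⟨e, σ, h.1, h.2, rfl⟩⟩
  obtain ⟨rfl, rfl⟩ := mono_injective h2 h
  exact ⟨he', hσ'⟩

theorem dg_mem {e : Sgn} (he : ∏ i, e i = 1) : dg F e ∈ S7 F :=
  ⟨e, 1, he, one_mem _, by rw [map_one, mul_one]⟩

theorem pm_mem {σ : Perm (Fin 7)} (hσ : σ ∈ d8) : pm F σ ∈ S7 F :=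
  ⟨1, σ, by simp, hσ, by rw [map_one, one_mul]⟩

theorem S7_le_omega (h2 : (2 : F) ≠ 0) (hns : ¬ IsSquare (2 : F)) : S7 F ≤ commutator (oGroup (Q7 F)) := by
  rintro _ ⟨e, σ, he, hσ, rfl⟩
  rw [← chi_ker h2 (Q7_nondeg h2), MonoidHom.mem_ker, chi_mono h2 hns, he, d8_sign hσ]
  rfl

/-- Even sign vectors are free on six coordinates. -/
def evenEquiv : {e : Sgn // ∏ i, e i = 1} ≃ (Fin 6 → ℤˣ) where
  toFun e i := e.1 i.castSucc
  invFun f := ⟨Fin.snoc f (∏ i, f i), by
    rw [Fin.prod_univ_castSucc]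
    simp only [Fin.snoc_castSucc, Fin.snoc_last, Int.units_mul_self]⟩
  left_inv e := by
    refine Subtype.ext (funext fun k => ?_)
    refine Fin.lastCases ?_ (fun i => ?_) k
    · show (Fin.snoc (fun i : Fin 6 => e.1 i.castSucc) (∏ i : Fin 6, e.1 i.castSucc) : Sgn) (Fin.last 6) = _
      rw [Fin.snoc_last]
      have h := e.2
      rw [Fin.prod_univ_castSucc] at h
      rw [eq_inv_of_mul_eq_one_left h, Int.units_inv_eq_self]
    · show (Fin.snoc (fun i : Fin 6 => e.1 i.castSucc) (∏ i : Fin 6, e.1 i.castSucc) : Sgn) i.castSucc = _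
      rw [Fin.snoc_castSucc]
  right_inv f := funext fun i => by
    show (Fin.snoc f (∏ i, f i) : Sgn) i.castSucc = f i
    rw [Fin.snoc_castSucc]

theorem card_even : Nat.card {e : Sgn // ∏ i, e i = 1} = 64 := by
  rw [Nat.card_congr evenEquiv, Nat.card_eq_fintype_card]
  simp

theorem card_d8 : Nat.card d8 = 8 := by
  rw [Nat.card_congr (Equiv.subtypeEquivRight (p := fun σ => σ ∈ d8) (q := fun σ => σ ∈ d8List.toFinset)
    fun σ => by rw [List.mem_toFinset, mem_d8]), Nat.card_eq_finsetCard,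
    List.toFinset_card_of_nodup d8List_nodup]
  rfl

theorem card_S7 (h2 : (2 : F) ≠ 0) : Nat.card (S7 F) = 2 ^ 9 := by
  let f : {e : Sgn // ∏ i, e i = 1} × d8 → S7 F :=
    fun x => ⟨dg F x.1.1 * pm F x.2.1, x.1.1, x.2.1, x.1.2, x.2.2, rfl⟩
  have hf : Function.Bijective f := by
    constructor
    · rintro ⟨⟨e, he⟩, ⟨σ, hσ⟩⟩ ⟨⟨e', he'⟩, ⟨σ', hσ'⟩⟩ h
      obtain ⟨rfl, rfl⟩ := mono_injective h2 (congrArg Subtype.val h)
      rfl
    · rintro ⟨_, e, σ, he, hσ, rfl⟩
      exact ⟨(⟨e, he⟩, ⟨σ, hσ⟩), rfl⟩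
  rw [← Nat.card_eq_of_bijective f hf, Nat.card_prod, card_even, card_d8]
  rfl

theorem pr_apply {i j : Fin 7} (k : Fin 7) :
    pr i j k = (if k = i then -1 else 1) * if k = j then -1 else 1 := by
  simp [pr, Pi.mulSingle_apply]

/-- An element conjugating the monomial subgroup into itself maps even sign changes to sign changes. -/
theorem conj_dg (h2 : (2 : F) ≠ 0) {g : oGroup (Q7 F)} (hg : ∀ x ∈ S7 F, g * x * g⁻¹ ∈ S7 F) {e : Sgn}
    (he : ∏ i, e i = 1) : ∃ e', (∏ i, e' i = 1) ∧ g * dg F e * g⁻¹ = dg F e' := by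
  classical
  have key : ∀ c : Sgn, ∃ e' σ, ((∏ i, c i = 1) → (∏ i, e' i = 1) ∧ σ ∈ d8 ∧
      g * dg F c * g⁻¹ = dg F e' * pm F σ) := fun c => by
    by_cases hc : ∏ i, c i = 1
    · obtain ⟨e', σ, h⟩ := hg _ (dg_mem hc)
      exact ⟨e', σ, fun _ => h⟩
    · exact ⟨1, 1, fun h => absurd h hc⟩
  choose E P hEP using key
  suffices h : P e = 1 by
    refine ⟨E e, (hEP e he).1, ?_⟩
    rw [(hEP e he).2.2, h, map_one, mul_one]
  by_contra hne
  set A : Finset Sgn := Finset.univ.filter fun c => ∏ i, c i = 1 with hA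
  have hmem : ∀ {c : Sgn}, c ∈ A ↔ ∏ i, c i = 1 := fun {c} => by simp [hA]
  have hmul : ∀ c d : Sgn, (∏ i, c i = 1) → (∏ i, d i = 1) →
      E (c * d) = E c * (E d ∘ (P c).symm) ∧ P (c * d) = P c * P d := fun c d hc hd => by
    have hcd : ∏ i, (c * d) i = 1 := by simp only [Pi.mul_apply, Finset.prod_mul_distrib, hc, hd, mul_one]
    refine mono_injective (F := F) h2 ?_
    rw [← (hEP _ hcd).2.2, ← mono_mul, ← (hEP c hc).2.2, ← (hEP d hd).2.2, map_mul]
    group
  have h1 : P 1 = 1 := by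
    have := (hmul 1 1 (by simp) (by simp)).2
    rwa [mul_one, left_eq_mul] at this
  set I := A.image P with hI
  have hbound := commuting_bound I (fun σ hσ => by
      obtain ⟨c, hc, rfl⟩ := Finset.mem_image.1 hσ
      exact (hEP c (hmem.1 hc)).2.1)
    (fun σ hσ τ hτ => by
      obtain ⟨c, hc, rfl⟩ := Finset.mem_image.1 hσ
      obtain ⟨d, hd, rfl⟩ := Finset.mem_image.1 hτ
      rw [← (hmul c d (hmem.1 hc) (hmem.1 hd)).2, ← (hmul d c (hmem.1 hd) (hmem.1 hc)).2,
        ← (hmul c c (hmem.1 hc) (hmem.1 hc)).2, mul_comm d c, show c * c = 1 from funext fun i => Int.units_mul_self _]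
      exact ⟨rfl, h1⟩)
    (Finset.mem_image_of_mem P (hmem.2 he)) hne
  have hfib : ∀ σ ∈ I, (A.filter fun c => P c = σ).card ≤ (fixEven I).card := by
    intro σ hσ
    obtain ⟨c₀, hc₀, hPc₀⟩ := Finset.mem_image.1 hσ
    refine Finset.card_le_card_of_injOn (fun c => E (c * c₀)) (fun c hc => ?_) fun c hc d hd heq => ?_
    · simp only [Finset.mem_coe, Finset.mem_filter] at hc
      obtain ⟨hcA, hPc⟩ := hc
      have hk := hmul c c₀ (hmem.1 hcA) (hmem.1 hc₀)
      have hk1 : P (c * c₀) = 1 := by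
        rw [hk.2, hPc, ← hPc₀, ← (hmul c₀ c₀ (hmem.1 hc₀) (hmem.1 hc₀)).2,
          show c₀ * c₀ = 1 from funext fun i => Int.units_mul_self _, h1]
      have hkA : ∏ i, (c * c₀) i = 1 := by
        simp only [Pi.mul_apply, Finset.prod_mul_distrib, hmem.1 hcA, hmem.1 hc₀, mul_one]
      simp only [Finset.mem_coe, fixEven, Finset.mem_filter, Finset.mem_univ, true_and]
      refine ⟨(hEP _ hkA).1, fun τ hτ i => ?_⟩
      obtain ⟨d, hd, rfl⟩ := Finset.mem_image.1 hτ
      have ha := (hmul d (c * c₀) (hmem.1 hd) hkA).1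
      rw [mul_comm d, (hmul (c * c₀) d hkA (hmem.1 hd)).1, hk1] at ha
      have hb := congrFun ha (P d i)
      simp only [Pi.mul_apply, Function.comp_apply, Equiv.symm_apply_apply, Perm.one_def, Equiv.refl_symm,
        Equiv.refl_apply] at hb
      rw [mul_comm] at hb
      exact mul_left_cancel hb
    · simp only [Finset.mem_coe, Finset.mem_filter] at hc hd
      have heq : E (c * c₀) = E (d * c₀) := heq
      have hprod : ∀ x : Sgn, x ∈ A → ∏ i, (x * c₀) i = 1 := fun x hx => by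
        simp only [Pi.mul_apply, Finset.prod_mul_distrib, hmem.1 hx, hmem.1 hc₀, mul_one]
      have heq' : dg F (c * c₀) = dg F (d * c₀) := by
        refine mul_left_cancel (a := g) (mul_right_cancel (b := g⁻¹) ?_)
        rw [(hEP _ (hprod c hc.1)).2.2, (hEP _ (hprod d hd.1)).2.2, heq,
          (hmul c c₀ (hmem.1 hc.1) (hmem.1 hc₀)).2, (hmul d c₀ (hmem.1 hd.1) (hmem.1 hc₀)).2, hc.2, hd.2]
      exact mul_right_cancel (mono_injective (F := F) h2 (σ := 1) (σ' := 1) (by rw [heq'])).1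
  have hcard : A.card ≤ (fixEven I).card * I.card := Finset.card_le_mul_card_image A _ hfib
  have : A.card = 64 := by
    rw [← card_even, hA, ← Fintype.card_subtype, Nat.card_eq_fintype_card]
  rw [mul_comm] at hbound
  omega

/-- An element normalizing the monomial Sylow subgroup inside `Ω` lies in it. -/
theorem mem_of_normalizes (h2 : (2 : F) ≠ 0) (hns : ¬ IsSquare (2 : F)) {g : oGroup (Q7 F)}
    (hχ : chi7 h2 g = 1) (hg : ∀ x ∈ S7 F, g * x * g⁻¹ ∈ S7 F) (hg' : ∀ x ∈ S7 F, g⁻¹ * x * g ∈ S7 F) :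
    g ∈ S7 F := by
  classical
  have heig : ∀ (i : Fin 7) (j k : Fin 7), g.1 (Pi.single i 1) j ≠ 0 → g.1 (Pi.single i 1) k ≠ 0 → j = k := by
    intro i j k hj hk
    by_contra hjk
    have hl : ∀ a b : Fin 7, ∃ l, l ≠ a ∧ l ≠ b := by decide
    obtain ⟨l, hlj, hlk⟩ := hl j k
    obtain ⟨e', -, he'⟩ := conj_dg h2 (g := g⁻¹) (fun x hx => by simpa using hg' x hx) (pr_prod j l)
    rw [inv_inv] at he'
    have hv : (dg F (pr j l)).1 (g.1 (Pi.single i 1)) = g.1 ((dg F e').1 (Pi.single i 1)) := by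
      have : dg F (pr j l) * g = g * dg F e' := by rw [← he']; group
      exact congrArg (fun x : oGroup (Q7 F) => x.1 (Pi.single i 1)) this
    rw [show (dg F e').1 (Pi.single i 1) = (sc (e' i) : F) • (Pi.single i 1 : Fin 7 → F) from funext fun m => by
      rw [dg_apply, Pi.smul_apply, smul_eq_mul]
      by_cases h : m = i
      · rw [h]
      · rw [Pi.single_eq_of_ne h, mul_zero, mul_zero], map_smul] at hv
    have a := congrFun hv j
    have b := congrFun hv k
    rw [dg_apply, Pi.smul_apply, smul_eq_mul] at a b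
    have hs := (mul_right_cancel₀ hj a).trans (mul_right_cancel₀ hk b).symm
    have := sc_inj h2 hs
    rw [pr_apply, pr_apply, if_pos rfl, if_neg hlj.symm, if_neg (Ne.symm hjk), if_neg hlk.symm] at this
    exact absurd this (by decide)
  have hex : ∀ i, ∃ j, g.1 (Pi.single i 1) j ≠ 0 := fun i => by
    by_contra h
    simp only [not_exists, not_not] at h
    have h0 : g.1 (Pi.single i 1) = 0 := funext h
    have := g.2 (Pi.single i 1)
    rw [h0, map_zero, Q7_single, mul_one] at this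
    exact zero_ne_one this
  choose p hp using hex
  set c : Fin 7 → F := fun i => g.1 (Pi.single i 1) (p i) with hc
  have hval : ∀ i, g.1 (Pi.single i 1) = Pi.single (p i) (c i) := fun i => funext fun j => by
    by_cases h : j = p i
    · rw [h, Pi.single_eq_same]
    · rw [Pi.single_eq_of_ne h]
      by_contra hj
      exact h (heig i j (p i) hj (hp i))
  have hc1 : ∀ i, c i * c i = 1 := fun i => by
    have := g.2 (Pi.single i 1)
    rwa [hval, Q7_single, Q7_single, mul_one] at this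
  have hinj : Function.Injective p := fun i i' h => by
    by_contra hne
    have e : g.1 (c i' • Pi.single i 1) = g.1 (c i • Pi.single i' 1) := by
      rw [map_smul, map_smul, hval, hval, h, ← Pi.single_smul, ← Pi.single_smul, smul_eq_mul, smul_eq_mul, mul_comm]
    have := congrFun (g.1.injective e) i
    simp [Pi.single_eq_of_ne hne] at this
    exact mul_ne_zero_iff.1 (by rw [hc1 i']; exact one_ne_zero) |>.1 this
  let π : Perm (Fin 7) := Equiv.ofBijective p ⟨hinj, Finite.surjective_of_injective hinj⟩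
  let e : Sgn := fun k => if c (π.symm k) = 1 then 1 else -1
  have he : ∀ i, sc (e (π i)) = c i := fun i => by
    simp only [e, Equiv.symm_apply_apply]
    rcases mul_self_eq_one_iff.1 (hc1 i) with h | h
    · rw [if_pos h, h]; simp [sc]
    · rw [if_neg (by rw [h]; exact fun h' => h2 (by linear_combination -h')), h]; simp [sc]
  have hgm : g = dg F e * pm F π := Subtype.ext (LinearEquiv.toLinearMap_injective (LinearMap.pi_ext fun i a => by
    show g.1 (Pi.single i a) = (dg F e * pm F π).1 (Pi.single i a)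
    rw [mono_single, he, show (Pi.single i a : Fin 7 → F) = a • Pi.single i 1 by
      rw [← Pi.single_smul, smul_eq_mul, mul_one], map_smul, hval, ← Pi.single_smul, smul_eq_mul, mul_comm]
    rfl))
  rw [hgm] at hχ hg hg' ⊢
  rw [chi_mono h2 hns, Prod.mk_eq_one] at hχ
  obtain ⟨hp1, hs⟩ := hχ
  rw [hs, mul_one] at hp1
  refine (mono_mem_iff h2).2 ⟨hp1, mem_d8_of_normalizes hs (fun σ hσ => ?_) fun σ hσ => ?_⟩
  · have h := hg _ (pm_mem hσ)
    have h' : pm F (π * σ * π⁻¹) ∈ S7 F := by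
      have := mul_mem (mul_mem (inv_mem (dg_mem (F := F) hp1)) h) (dg_mem (F := F) hp1)
      convert this using 1
      rw [map_mul, map_mul, map_inv]
      group
    rw [← one_mul (pm F _), ← map_one (dg F)] at h'
    exact ((mono_mem_iff h2).1 h').2
  · have hm : dg F e * pm F σ * (dg F e)⁻¹ ∈ S7 F :=
      mul_mem (mul_mem (dg_mem hp1) (pm_mem hσ)) (inv_mem (dg_mem hp1))
    have h := hg' _ hm
    have h' : pm F (π⁻¹ * σ * π) ∈ S7 F := by
      convert h using 1
      rw [map_mul, map_mul, map_inv]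
      group
    rw [← one_mul (pm F _), ← map_one (dg F)] at h'
    exact ((mono_mem_iff h2).1 h').2

end Cfsg.Agent.Fusion.OmegaSeven
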