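import Cfsg.Agent.Lib.Fusion.BisetTransfer
import Mathlib

/-!
The transfer to `ZMod p` along a right free biset, as a sum over the orbit space.
-/

set_option autoImplicit false
set_option linter.style.haveILetI false

namespace Cfsg.Agent.Fusion

universe w

variable {p : ℕ} [hp : Fact p.Prime] {G : Type*} [Group G] {X : Type w} [MulAction (G × G) X]

/-- The orbit space of a biset, with its cocycle; the sum of the cocycle is invariant under fusion. -/
theorem exists_orbit_transfer [Finite G] [Finite X]
    (hfree : ∀ (b : G) (x : X), ((1, b) : G × G) • x = x → b = 1)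
    {m : ℕ} (hm : ¬ p ∣ m) (hcard : Nat.card X ≡ m * Nat.card G [MOD p * Nat.card G])
    (lam : G → ZMod p) (hlam : ∀ a b, lam (a * b) = lam a + lam b) :
    ∃ (I : Type w) (_ : Fintype I) (_ : MulAction G I) (r : I → X) (ell : G → I → ZMod p),
      ((Fintype.card I : ℕ) : ZMod p) ≠ 0 ∧
      (∀ a i, ∃ b : G, rm (r (a • i)) b = lm a (r i) ∧ ell a i = lam b) ∧
      (∀ a b i, ell (a * b) i = ell a (b • i) + ell b i) ∧
      (∀ (u : G), u ∈ Subgroup.closure {y | ∃ (a a' : G) (e : X ≃ X),
        (∀ x (b : G), e (rm x b) = rm (e x) b) ∧ (∀ x, e (lm a x) = lm a' (e x)) ∧ y = a⁻¹ * a'} →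
          ∑ i, ell u i = 0) := by
  classical
  let rel : Setoid X :=
    { r := fun x y => ∃ b : G, rm x b = y
      iseqv := ⟨fun x => ⟨1, rm_one x⟩,
        fun {x y} ⟨b, h⟩ => ⟨b⁻¹, by rw [← h, rm_rm, mul_inv_cancel, rm_one]⟩,
        fun {x y z} ⟨b, h⟩ ⟨c, h'⟩ => ⟨b * c, by rw [← rm_rm, h, h']⟩⟩ }
  let I := Quotient rel
  haveI : Fintype I := Fintype.ofFinite I
  let r : I → X := Quotient.out
  have hr : ∀ i : I, Quotient.mk rel (r i) = i := Quotient.out_eq
  letI : MulAction G I :=
    { smul := fun a => Quotient.map (lm a) fun x y ⟨b, h⟩ => ⟨b, by rw [← lm_rm, h]⟩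
      one_smul := fun i => by
        induction i using Quotient.inductionOn with
        | h x => exact congrArg (Quotient.mk rel) (by simp [lm, Prod.mk_one_one])
      mul_smul := fun a b i => by
        induction i using Quotient.inductionOn with
        | h x => exact congrArg (Quotient.mk rel) (lm_lm a b x).symm }
  have hsmul : ∀ (a : G) (x : X), a • Quotient.mk rel x = Quotient.mk rel (lm a x) := fun _ _ => rfl
  have hex : ∀ (a : G) (i : I), ∃ b : G, rm (r (a • i)) b = lm a (r i) := by
    intro a i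
    refine Quotient.exact (s := rel) ?_
    rw [hr, ← hsmul, hr]
  choose c hc using hex
  let ell : G → I → ZMod p := fun a i => lam (c a i)
  have hinj : ∀ {x : X} {a b : G}, rm x a = rm x b → a = b := fun h => rm_inj hfree h
  have hcoc : ∀ a b i, c (a * b) i = c a (b • i) * c b i := by
    intro a b i
    refine hinj (x := r ((a * b) • i)) ?_
    rw [hc, ← rm_rm, mul_smul, hc, ← lm_rm, hc, lm_lm]
  have hell : ∀ a b i, ell (a * b) i = ell a (b • i) + ell b i := fun a b i => by
    show lam _ = _
    rw [hcoc, hlam]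
  -- the cardinality of the orbit space
  have hqX : Nat.card X = Fintype.card I * Nat.card G := by
    rw [← Nat.card_eq_fintype_card, ← Nat.card_prod]
    refine (Nat.card_eq_of_bijective (fun x : I × G => rm (r x.1) x.2) ⟨?_, ?_⟩).symm
    · rintro ⟨i, a⟩ ⟨j, b⟩ h
      have hij : i = j := by
        rw [← hr i, ← hr j]
        exact Quotient.sound ⟨a * b⁻¹, by
          have h' : rm (r i) a = rm (r j) b := h
          rw [← rm_rm, h', rm_rm, mul_inv_cancel, rm_one]⟩
      subst hij
      exact congrArg (Prod.mk i) (hinj h)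
    · intro x
      obtain ⟨b, hb⟩ := Quotient.exact (s := rel) (hr (Quotient.mk rel x))
      exact ⟨(Quotient.mk rel x, b), hb⟩
  have hq : ((Fintype.card I : ℕ) : ZMod p) ≠ 0 := by
    rw [Ne, ZMod.natCast_eq_zero_iff]
    intro hd
    rw [hqX] at hcard
    exact hm (Nat.modEq_zero_iff_dvd.mp ((Nat.ModEq.mul_right_cancel' Nat.card_pos.ne' hcard).symm.trans
      (Nat.modEq_zero_iff_dvd.mpr hd)))
  -- the transfer
  let T : G → ZMod p := fun a => ∑ i, ell a i
  have hT : ∀ a b, T (a * b) = T a + T b := fun a b => by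
    show ∑ i, ell (a * b) i = _
    simp only [hell, Finset.sum_add_distrib]
    exact congrArg (· + T b) (Equiv.sum_comp (MulAction.toPerm b) fun i => ell a i)
  have hTe : ∀ {a a' : G} (e : X ≃ X), (∀ x (b : G), e (rm x b) = rm (e x) b) →
      (∀ x, e (lm a x) = lm a' (e x)) → T a = T a' := by
    intro a a' e he1 he2
    let σ : I → I := fun i => Quotient.mk rel (e (r i))
    have hd : ∀ i, ∃ d : G, rm (r (σ i)) d = e (r i) := fun i => Quotient.exact (s := rel) (hr (σ i))
    choose d hd using hd
    have hσ : ∀ i, σ (a • i) = a' • σ i := by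
      intro i
      have h1 : e (rm (r (a • i)) (c a i)) = lm a' (e (r i)) := by rw [hc, he2]
      rw [he1] at h1
      show Quotient.mk rel (e (r (a • i))) = a' • Quotient.mk rel (e (r i))
      rw [hsmul]
      exact Quotient.sound ⟨c a i, h1⟩
    have hσbij : Function.Bijective σ := by
      refine (Finite.injective_iff_bijective).mp fun i j h => ?_
      obtain ⟨b, hb⟩ := Quotient.exact (s := rel) h
      rw [← hr i, ← hr j]
      exact Quotient.sound ⟨b, e.injective (by rw [he1, hb])⟩
    have hrel : ∀ i, c a' (σ i) * d i = d (a • i) * c a i := by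
      intro i
      refine hinj (x := r (a' • σ i)) ?_
      rw [← rm_rm, hc, ← rm_rm, ← hσ, hd, ← he1, hc, ← lm_rm, hd, he2]
    have hrel' : ∀ i, ell a' (σ i) + lam (d i) = lam (d (a • i)) + ell a i := fun i => by
      show lam _ + _ = _ + lam _
      rw [← hlam, ← hlam, hrel]
    have h1 : T a' = ∑ i, ell a' (σ i) := (Fintype.sum_bijective σ hσbij _ _ fun _ => rfl).symm
    have h2 : ∑ i, (ell a' (σ i) + lam (d i)) = ∑ i, (lam (d (a • i)) + ell a i) :=
      Finset.sum_congr rfl fun i _ => hrel' i
    rw [Finset.sum_add_distrib, Finset.sum_add_distrib, ← h1,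
      show ∑ i, lam (d (a • i)) = ∑ i, lam (d i) from
        Equiv.sum_comp (MulAction.toPerm a) fun i => lam (d i)] at h2
    rw [add_comm] at h2
    exact (add_left_cancel h2).symm
  have hT1 : T 1 = 0 := by
    have := hT 1 1
    rwa [one_mul, left_eq_add] at this
  refine ⟨I, inferInstance, inferInstance, r, ell, hq, fun a i => ⟨c a i, hc a i, rfl⟩, hell,
    fun u hu => ?_⟩
  show T u = 0
  induction hu using Subgroup.closure_induction with
  | mem y hy =>
    obtain ⟨a, a', e, he1, he2, rfl⟩ := hy
    have h1 := hT a⁻¹ a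
    rw [inv_mul_cancel, hT1] at h1
    rw [hT, eq_neg_of_add_eq_zero_left h1.symm, hTe e he1 he2, neg_add_cancel]
  | one => exact hT1
  | mul a b _ _ ha hb => rw [hT, ha, hb, add_zero]
  | inv a _ ha =>
    have h1 := hT a⁻¹ a
    rw [inv_mul_cancel, hT1, ha, add_zero] at h1
    exact h1.symm

end Cfsg.Agent.Fusion
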