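import Cfsg.Agent.Lib.Fusion.PPowerIndex
import Cfsg.Agent.Lib.Fusion.GroupHyperfocal
import Cfsg.Agent.Lib.Fusion.NormalSubgroupSystem

/-!
`O^p` of the fusion system of a group.
-/

set_option autoImplicit false

namespace Cfsg.Agent.Fusion

variable {G : Type*} [Group G] [Finite G] {p : ℕ} [Fact p.Prime]

theorem oP_le_fsSub (S : Sylow p G) {Q : Subgroup G}
    (hQ : Q ≤ (S : Subgroup G) ⊓ pResidual p G) :
    oP (groupFusionSystem (S : Subgroup G)) p Q ≤
      (fusionSystemOfSubgroup (pResidual p G) ((S : Subgroup G) ⊓ pResidual p G)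
        inf_le_right).autGroup Q := by
  have hQS : Q ≤ (S : Subgroup G) := hQ.trans inf_le_left
  intro α hα
  refine oP_induction (C := fun b => b ∈ (fusionSystemOfSubgroup (pResidual p G)
    ((S : Subgroup G) ⊓ pResidual p G) inf_le_right).autGroup Q) (Subgroup.one_mem _)
    (fun a b _ _ => Subgroup.mul_mem _) (fun a _ => Subgroup.inv_mem _) ?_ α hα
  intro a ha hcop
  rw [autGroup_gfs hQS] at ha
  obtain ⟨g, -, hg⟩ := mem_autInducedBy_iff_cj.mp ha
  obtain ⟨k, hk, hkcop⟩ := exists_pow_coprime (p := p) g hcop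
  have hak : a ^ k = a := by
    conv_rhs => rw [← pow_one a]
    exact pow_eq_pow_iff_modEq.mpr hk
  have hpow : ∀ n : ℕ, ∀ y ∈ Q, autFun (a ^ n) y = g ^ n * y * (g ^ n)⁻¹ := by
    intro n
    induction n with
    | zero => intro y hy; simp [autFun_one hy]
    | succ n ih =>
      intro y hy
      rw [pow_succ' a, autFun_mul _ _ hy, hg _ (autFun_mem _ hy), ih y hy, cj_apply, pow_succ']
      group
  refine (mem_autGroup_iff hQ).mpr (mapTo_fsSub_iff.mpr ⟨hQ, g ^ k,
    Cfsg.Agent.Transfer.mem_pResidual_of_coprime hkcop, fun x hx => ?_⟩)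
  have h1 := hpow k x hx
  rw [hak] at h1
  exact ⟨h1, h1 ▸ hQ (autFun_mem a hx)⟩

end Cfsg.Agent.Fusion
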