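import Cfsg.Agent.Lib.Fusion.SimpleGroupSystem
import Cfsg.Agent.Lib.AutPSL.Sylow
import Cfsg.Agent.Lib.AutPSL.Basic

/-!
The fusion system of `PSL_n` in the defining characteristic is simple for `n ≥ 3`.
-/

set_option autoImplicit false
set_option linter.unusedSectionVars false

namespace Cfsg.Agent.Fusion.PSLSimple

open Cfsg.Agent.AutPSL
open Cfsg.FusionSystem (centralizerIn normalizerIn)
open scoped MatrixGroups

universe u

variable {n : ℕ} {F : Type u} [Field F]

local notation "SLn" => Matrix.SpecialLinearGroup (Fin n) F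
local notation "PSLn" => Matrix.ProjectiveSpecialLinearGroup (Fin n) F
local notation "Mat" => Matrix (Fin n) (Fin n) F

theorem uni_mul_simple {u v : SLn} (hu : u ∈ upperU n F) (hv : v ∈ upperU n F) (i j : Fin n)
    (hij : j.val = i.val + 1) :
    ((u * v : SLn) : Mat) i j = (u : Mat) i j + (v : Mat) i j := by
  have hne : i ≠ j := fun e => by subst e; omega
  rw [Matrix.SpecialLinearGroup.coe_mul, Matrix.mul_apply,
    ← Finset.add_sum_erase _ _ (Finset.mem_univ i), Finset.sum_eq_single j]
  · rw [(mem_upperU.mp hu).2, (mem_upperU.mp hv).2, one_mul, mul_one, add_comm]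
  · intro k hk hkj
    rw [Finset.mem_erase] at hk
    have h1 : k.val ≠ i.val := fun e => hk.1 (Fin.ext e)
    have h2 : k.val ≠ j.val := fun e => hkj (Fin.ext e)
    rcases lt_or_gt_of_ne h1 with h | h
    · rw [(mem_upperU.mp hu).1 i k (Fin.lt_def.mpr h), zero_mul]
    · rw [(mem_upperU.mp hv).1 k j (Fin.lt_def.mpr (by omega)), mul_zero]
  · intro h
    exact absurd (Finset.mem_erase.mpr ⟨hne.symm, Finset.mem_univ _⟩) h

theorem simpleKer_conj_upper (i j : Fin n) (hij : j.val = i.val + 1) {u k : SLn}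
    (hu : u ∈ upperU n F) (hk : k ∈ simpleKer i j hij) : u * k * u⁻¹ ∈ simpleKer i j hij := by
  refine ⟨mul_mem (mul_mem hu hk.1) (inv_mem hu), ?_⟩
  have h1 := uni_mul_simple (mul_mem (mul_mem hu hk.1) (inv_mem hu)) hu i j hij
  rw [inv_mul_cancel_right, uni_mul_simple hu hk.1 i j hij, hk.2, add_zero] at h1
  exact right_eq_add.mp h1

theorem simpleKer_conj_swap (i j : Fin n) (hij : j.val = i.val + 1) (hne : i ≠ j) {k : SLn}
    (hk : k ∈ simpleKer i j hij) :
    (swapElt i j hne)⁻¹ * k * swapElt i j hne ∈ simpleKer i j hij := by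
  refine ⟨simpleKer_conj i j hij hne k hk, ?_⟩
  set s := swapElt (F := F) i j hne with hs
  set w := s⁻¹ * k * s with hw
  have h1 : ((s : Mat) * (w : Mat)) j j = ((k : Mat) * (s : Mat)) j j := by
    rw [← Matrix.SpecialLinearGroup.coe_mul, ← Matrix.SpecialLinearGroup.coe_mul, hw,
      mul_assoc s⁻¹ k s, mul_inv_cancel_left]
  rw [Matrix.mul_apply, Matrix.mul_apply, Finset.sum_eq_single i, Finset.sum_eq_single i] at h1
  · have hlt : i < j := Fin.lt_def.mpr (by omega)
    rw [(mem_upperU.mp hk.1).1 j i hlt, zero_mul, hs, swapElt_coe] at h1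
    simpa [Matrix.one_apply, Matrix.single_apply, hne, hne.symm] using h1
  all_goals first
    | exact fun h => absurd (Finset.mem_univ _) h
    | intro b _ hb
      rw [hs, swapElt_coe]
      by_cases hbj : b = j
      · subst hbj; simp [Matrix.one_apply, Matrix.single_apply, hne, hne.symm]
      · simp [Matrix.one_apply, Matrix.single_apply, hne, hne.symm, hb, Ne.symm hb, hbj,
          Ne.symm hbj]

theorem swap_mul_tv_col {i j l : Fin n} (hij : i ≠ j) (hil : i ≠ l) (hjl : j ≠ l) (a : F) :
    swapElt j l hjl * tv i j hij a = tv i l hil (-a) * swapElt j l hjl := by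
  apply Subtype.ext
  rw [Matrix.SpecialLinearGroup.coe_mul, Matrix.SpecialLinearGroup.coe_mul, tv_coe, tv_coe,
    swapElt_coe]
  simp only [add_mul, mul_add, sub_mul, mul_sub, one_mul, mul_one,
    Matrix.single_mul_single_same, Matrix.single_mul_single_of_ne, ne_eq, hij, hij.symm, hil,
    hil.symm, hjl, hjl.symm, not_false_eq_true, mul_zero, zero_mul, sub_zero, add_zero,
    zero_sub, mul_neg, neg_mul, neg_neg, ← Matrix.single_neg, zero_add]
  abel

theorem swap_mul_tv_row {i j k : Fin n} (hij : i ≠ j) (hkj : k ≠ j) (hik : i ≠ k) (a : F) :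
    swapElt i k hik * tv i j hij a = tv k j hkj (-a) * swapElt i k hik := by
  apply Subtype.ext
  rw [Matrix.SpecialLinearGroup.coe_mul, Matrix.SpecialLinearGroup.coe_mul, tv_coe, tv_coe,
    swapElt_coe]
  simp only [add_mul, mul_add, sub_mul, mul_sub, one_mul, mul_one,
    Matrix.single_mul_single_same, Matrix.single_mul_single_of_ne, ne_eq, hij, hij.symm, hkj,
    hkj.symm, hik, hik.symm, not_false_eq_true, mul_zero, zero_mul, sub_zero, add_zero,
    zero_sub, mul_neg, neg_mul, neg_neg, ← Matrix.single_neg, zero_add]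
  abel

theorem swap_mul_tv_self {i j : Fin n} (hij : i ≠ j) (a : F) :
    swapElt i j hij * tv j i hij.symm a = tv i j hij (-a) * swapElt i j hij := by
  apply Subtype.ext
  rw [Matrix.SpecialLinearGroup.coe_mul, Matrix.SpecialLinearGroup.coe_mul, tv_coe, tv_coe,
    swapElt_coe]
  simp only [add_mul, mul_add, sub_mul, mul_sub, one_mul, mul_one,
    Matrix.single_mul_single_same, Matrix.single_mul_single_of_ne, ne_eq, hij, hij.symm,
    not_false_eq_true, mul_zero, zero_mul, sub_zero, add_zero,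
    zero_sub, mul_neg, neg_mul, neg_neg, ← Matrix.single_neg, zero_add]
  abel

theorem tv_commutator {i k j : Fin n} (hik : i ≠ k) (hkj : k ≠ j) (hij : i ≠ j) (a b : F) :
    tv i k hik a * tv k j hkj b * (tv i k hik a)⁻¹ * (tv k j hkj b)⁻¹ = tv i j hij (a * b) := by
  rw [mul_inv_eq_iff_eq_mul, mul_inv_eq_iff_eq_mul]
  apply Subtype.ext
  simp only [Matrix.SpecialLinearGroup.coe_mul, tv_coe, add_mul, mul_add, one_mul, mul_one,
    Matrix.single_mul_single_same, Matrix.single_mul_single_of_ne, ne_eq, hik, hik.symm, hkj,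
    hkj.symm, hij, hij.symm, not_false_eq_true, add_zero, zero_mul, zero_add]
  abel

/-- Unipotent upper triangular matrices are products of root elements. -/
theorem upperU_le {H : Subgroup SLn} (h : ∀ i j : Fin n, ∀ hij : i < j, ∀ a : F,
    tv i j hij.ne a ∈ H) : upperU n F ≤ H := by
  classical
  intro u
  induction hk : ((Finset.univ : Finset (Fin n × Fin n)).filter
      fun x => x.1 < x.2 ∧ (u : Mat) x.1 x.2 ≠ 0).card using Nat.strong_induction_on
    generalizing u with
  | h k ih =>
  intro hu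
  by_cases hex : ∃ a, ∃ b, a < b ∧ (u : Mat) a b ≠ 0
  swap
  · push Not at hex
    have : u = 1 := by
      apply Subtype.ext
      ext a b
      rw [Matrix.SpecialLinearGroup.coe_one]
      rcases lt_trichotomy a b with hab | rfl | hab
      · rw [hex a b hab, Matrix.one_apply_ne hab.ne]
      · rw [(mem_upperU.mp hu).2, Matrix.one_apply_eq]
      · rw [(mem_upperU.mp hu).1 a b hab, Matrix.one_apply_ne hab.ne']
    rw [this]
    exact one_mem H
  have hfin : ((Finset.univ : Finset (Fin n)).filter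
      fun a => ∃ b, a < b ∧ (u : Mat) a b ≠ 0).Nonempty := by
    obtain ⟨a, ha⟩ := hex
    exact ⟨a, Finset.mem_filter.mpr ⟨Finset.mem_univ _, ha⟩⟩
  obtain ⟨a, ha, hmax⟩ := Finset.exists_max_image _ (fun x : Fin n => x) hfin
  obtain ⟨b, hab, hne⟩ := (Finset.mem_filter.mp ha).2
  have hlow : ∀ r l, a < r → (u : Mat) r l = (1 : Mat) r l := by
    intro r l har
    rcases lt_trichotomy r l with hrl | rfl | hrl
    · rw [Matrix.one_apply_ne hrl.ne]
      by_contra hz
      exact absurd (hmax r (Finset.mem_filter.mpr ⟨Finset.mem_univ _, l, hrl, hz⟩)) (not_le.mpr har)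
    · rw [(mem_upperU.mp hu).2, Matrix.one_apply_eq]
    · rw [(mem_upperU.mp hu).1 r l hrl, Matrix.one_apply_ne hrl.ne']
  set v := tv a b hab.ne (-((u : Mat) a b)) * u with hv
  have hvm : ∀ r l, (v : Mat) r l =
      if r = a ∧ l = b then 0 else (u : Mat) r l := by
    intro r l
    rw [hv, Matrix.SpecialLinearGroup.coe_mul, tv_coe, add_mul, one_mul, Matrix.add_apply]
    by_cases hr : r = a
    · subst hr
      rw [Matrix.single_mul_apply_same, hlow b l hab]
      by_cases hl : l = b
      · subst hl; simp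
      · simp [Matrix.one_apply_ne (Ne.symm hl), hl]
    · rw [Matrix.single_mul_apply_of_ne _ _ _ _ _ hr, if_neg fun e => hr e.1, add_zero]
  have hvU : v ∈ upperU n F := mul_mem (tv_mem_upperU a b hab _) hu
  have hvH : v ∈ H := by
    refine ih _ ?_ rfl hvU
    rw [← hk]
    refine Finset.card_lt_card ⟨fun x hx => ?_, fun hsub => ?_⟩
    · simp only [Finset.mem_filter, Finset.mem_univ, true_and, hvm] at hx ⊢
      split_ifs at hx with hc
      · exact absurd rfl hx.2
      · exact hx
    · have h1 := hsub (show (a, b) ∈ _ from Finset.mem_filter.mpr ⟨Finset.mem_univ _, hab, hne⟩)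
      simp [hvm] at h1
  rw [show u = (tv a b hab.ne (-((u : Mat) a b)))⁻¹ * v by rw [hv, inv_mul_cancel_left]]
  exact mul_mem (inv_mem (h a b hab _)) hvH

theorem eq_zero_of_commute_col {u : SLn} {a b : Fin n} (hab : a ≠ b) {p q : Fin n}
    (h : u * tv a b hab 1 = tv a b hab 1 * u) (hq : q = b) (hp : p ≠ a) : (u : Mat) p a = 0 := by
  subst hq
  have h1 := congrFun (congrFun (congrArg Subtype.val h) p) q
  rw [Matrix.SpecialLinearGroup.coe_mul, Matrix.SpecialLinearGroup.coe_mul, tv_coe, mul_add,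
    add_mul, mul_one, one_mul, Matrix.add_apply, Matrix.add_apply, Matrix.mul_single_apply_same,
    Matrix.single_mul_apply_of_ne _ _ _ _ _ hp, add_zero, mul_one] at h1
  exact add_eq_left.mp h1

theorem eq_zero_of_commute_row {u : SLn} {a b : Fin n} (hab : a ≠ b) {q : Fin n}
    (h : u * tv a b hab 1 = tv a b hab 1 * u) (hq : q ≠ b) : (u : Mat) b q = 0 := by
  have h1 := congrFun (congrFun (congrArg Subtype.val h) a) q
  rw [Matrix.SpecialLinearGroup.coe_mul, Matrix.SpecialLinearGroup.coe_mul, tv_coe, mul_add,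
    add_mul, mul_one, one_mul, Matrix.add_apply, Matrix.add_apply,
    Matrix.mul_single_apply_of_ne _ _ _ _ _ hq,
    Matrix.single_mul_apply_same, add_zero, one_mul] at h1
  exact left_eq_add.mp h1

/-- The diagonal element with `a`, `a⁻¹` at two places, as a product of root elements. -/
def torusElt (i j : Fin n) (h : i ≠ j) (a : F) : SLn :=
  tv i j h a * tv j i h.symm (-a⁻¹) * tv i j h a * (tv i j h (-1) * tv j i h.symm 1 * tv i j h (-1))

theorem torusElt_apply (i j : Fin n) (h : i ≠ j) {a : F} (ha : a ≠ 0) (r l : Fin n) :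
    (torusElt i j h a : Mat) r l =
      if r = l then (if r = i then a else if r = j then a⁻¹ else 1) else 0 := by
  have hw : ∀ c : F, c ≠ 0 → (tv i j h c : Mat) * (tv j i h.symm (-c⁻¹) : Mat) * (tv i j h c : Mat) =
      1 - Matrix.single i i 1 - Matrix.single j j 1 + Matrix.single i j c
        - Matrix.single j i c⁻¹ := by
    intro c hc
    simp only [tv_coe, add_mul, mul_add, one_mul, mul_one, Matrix.single_mul_single_same,
      Matrix.single_mul_single_of_ne, ne_eq, h, h.symm, not_false_eq_true, zero_mul, add_zero,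
      zero_add, mul_neg, neg_mul, inv_mul_cancel₀ hc, mul_inv_cancel₀ hc, ← Matrix.single_neg]
    abel
  have h1 := hw a ha
  have h2 := hw (-1) (neg_ne_zero.mpr one_ne_zero)
  rw [show -((-1 : F))⁻¹ = 1 by norm_num] at h2
  rw [torusElt, Matrix.SpecialLinearGroup.coe_mul, Matrix.SpecialLinearGroup.coe_mul,
    Matrix.SpecialLinearGroup.coe_mul, h1, Matrix.SpecialLinearGroup.coe_mul,
    Matrix.SpecialLinearGroup.coe_mul, h2]
  simp only [add_mul, mul_add, sub_mul, mul_sub, one_mul, mul_one, Matrix.single_mul_single_same,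
    Matrix.single_mul_single_of_ne, ne_eq, h, h.symm, not_false_eq_true,
    zero_mul, mul_zero, sub_zero, add_zero, zero_sub, mul_neg, neg_mul, inv_neg, inv_one, neg_neg,
    ← Matrix.single_neg, zero_add]
  simp only [Matrix.sub_apply, Matrix.add_apply, Matrix.neg_apply, Matrix.one_apply,
    Matrix.single_apply]
  by_cases hrl : r = l
  · subst hrl
    by_cases hri : r = i
    · subst hri; simp [h, h.symm]
    · by_cases hrj : r = j
      · subst hrj; simp [h, h.symm]
      · simp [hri, hrj, Ne.symm hri, Ne.symm hrj]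
  · rw [if_neg hrl, if_neg hrl]
    have e1 : ∀ k : Fin n, ¬ (k = r ∧ k = l) := fun k e => hrl (e.1.symm.trans e.2)
    simp [e1]

variable (p : ℕ) [Fact p.Prime] [CharP F p] [Finite F]

include p

theorem mem_projU_iff {x : SLn} (hx : ∃ k, x ^ p ^ k = 1) :
    proj n F x ∈ projU n F ↔ x ∈ upperU n F := by
  refine ⟨fun ⟨u, hu, he⟩ => ?_, fun h => ⟨x, h, rfl⟩⟩
  obtain ⟨k, hk⟩ := hx
  rw [← eq_of_proj_eq p (upperU_pow p hu) hk he]
  exact hu

theorem commute_of_proj {u v : SLn} (hu : u ∈ upperU n F) (hv : v ∈ upperU n F)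
    (h : proj n F u * proj n F v = proj n F v * proj n F u) : u * v = v * u :=
  eq_of_proj_eq p (upperU_pow p (mul_mem hu hv)) (upperU_pow p (mul_mem hv hu))
    (by rw [map_mul, map_mul, h])

theorem eq_tv_of_central (hn : 2 ≤ n) {x : SLn} (hx : x ∈ upperU n F)
    (hc : ∀ u ∈ upperU n F, x * u = u * x) :
    x = tv ⟨0, by omega⟩ ⟨n - 1, by omega⟩ (Fin.ne_of_val_ne (by show (0 : ℕ) ≠ n - 1; omega))
      ((x : Mat) ⟨0, by omega⟩ ⟨n - 1, by omega⟩) := by
  apply Subtype.ext
  ext a b
  rw [tv_coe, Matrix.add_apply]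
  rcases lt_trichotomy a b with hab | rfl | hab
  · rw [Matrix.one_apply_ne hab.ne, zero_add, Matrix.single_apply]
    by_cases hb : b.val < n - 1
    · have hne : b < (⟨n - 1, by omega⟩ : Fin n) := Fin.lt_def.mpr hb
      rw [if_neg fun e => by rw [← e.2] at hb; simp at hb]
      exact eq_zero_of_commute_col hne.ne (hc _ (tv_mem_upperU _ _ hne 1)) rfl hab.ne
    by_cases ha : a.val = 0
    · have hb' : b = ⟨n - 1, by omega⟩ := Fin.ext (by have := b.2; simp only; omega)
      have ha' : a = ⟨0, by omega⟩ := Fin.ext ha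
      rw [hb', ha', if_pos ⟨rfl, rfl⟩]
    · have hne : (⟨0, by omega⟩ : Fin n) < a := Fin.lt_def.mpr (Nat.pos_of_ne_zero ha)
      rw [if_neg fun e => ha (by rw [← e.1])]
      exact eq_zero_of_commute_row hne.ne (hc _ (tv_mem_upperU _ _ hne 1)) hab.ne'
  · rw [(mem_upperU.mp hx).2, Matrix.one_apply_eq, Matrix.single_apply, if_neg, add_zero]
    intro e
    have := congrArg Fin.val (e.1.trans e.2.symm)
    simp at this
    omega
  · rw [(mem_upperU.mp hx).1 a b hab, Matrix.one_apply_ne hab.ne', Matrix.single_apply, if_neg,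
      add_zero]
    intro e
    have := Fin.lt_def.mp hab
    rw [← e.1, ← e.2] at this
    simp at this

theorem stronglyClosed_top (hn : 3 ≤ n) (T : Subgroup PSLn) (hTU : T ≤ projU n F) (hT : T ≠ ⊥)
    (hcl : ∀ g : PSLn, ∀ x ∈ T, g * x * g⁻¹ ∈ projU n F → g * x * g⁻¹ ∈ T) :
    projU n F ≤ T := by
  classical
  haveI : Finite (projU n F) := inferInstance
  have hN : projU n F ≤ Subgroup.normalizer (T : Set PSLn) := fun g hg =>
    mem_normalizer_of_forall fun y hy =>
      hcl g y hy (mul_mem (mul_mem hg (hTU hy)) (inv_mem hg))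
  have hnt : Nontrivial (T ⊓ Subgroup.centralizer (projU n F : Set PSLn) : Subgroup PSLn) :=
    (Subgroup.nontrivial_iff_ne_bot _).mpr
      (inf_centralizer_ne_bot (isPGroup_projU p) hTU hN hT)
  obtain ⟨⟨z, hz⟩, hz1⟩ := exists_ne (1 : (T ⊓ Subgroup.centralizer (projU n F : Set PSLn) :
    Subgroup PSLn))
  obtain ⟨x, hx, rfl⟩ := hTU hz.1
  have hxc : ∀ u ∈ upperU n F, x * u = u * x := fun u hu => commute_of_proj p hx hu
    (Subgroup.mem_centralizer_iff.mp hz.2 _ ⟨u, hu, rfl⟩).symm
  set i0 : Fin n := ⟨0, by omega⟩ with hi0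
  set i1 : Fin n := ⟨1, by omega⟩ with hi1
  set i2 : Fin n := ⟨2, by omega⟩ with hi2
  set il : Fin n := ⟨n - 1, by omega⟩ with hil
  have hne0l : i0 ≠ il := Fin.ne_of_val_ne (by show (0 : ℕ) ≠ n - 1; omega)
  have h01 : i0 < i1 := Fin.lt_def.mpr (by show 0 < 1; omega)
  have h12 : i1 < i2 := Fin.lt_def.mpr (by show 1 < 2; omega)
  have h02 : i0 < i2 := h01.trans h12
  set a := (x : Mat) i0 il
  have hxa : x = tv i0 il hne0l a := eq_tv_of_central p (by omega) hx hxc
  have ha : a ≠ 0 := fun h => hz1 (Subtype.ext (by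
    show proj n F x = 1
    rw [hxa, h, tv_zero, map_one]))
  have hmove : ∀ (g s t : SLn), g * s = t * g → t ∈ upperU n F → proj n F s ∈ T →
      proj n F t ∈ T := by
    intro g s t hgst ht hs
    have h1 : proj n F g * proj n F s * (proj n F g)⁻¹ = proj n F t := by
      rw [← map_mul, hgst, map_mul, mul_inv_cancel_right]
    rw [← h1]
    exact hcl _ _ hs (h1 ▸ ⟨t, ht, rfl⟩)
  have hcol : ∀ {i j l : Fin n} (hij : i < j) (hil : i < l) (c : F),
      proj n F (tv i j hij.ne c) ∈ T → j ≠ l → proj n F (tv i l hil.ne (-c)) ∈ T :=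
    fun hij hil c h hjl => hmove _ _ _ (swap_mul_tv_col hij.ne hil.ne hjl c)
      (tv_mem_upperU _ _ hil _) h
  have hrow : ∀ {i j k : Fin n} (hij : i < j) (hkj : k < j) (c : F),
      proj n F (tv i j hij.ne c) ∈ T → i ≠ k → proj n F (tv k j hkj.ne (-c)) ∈ T :=
    fun hij hkj c h hik => hmove _ _ _ (swap_mul_tv_row hij.ne hkj.ne hik c)
      (tv_mem_upperU _ _ hkj _) h
  have h12m : ∃ c : F, c ≠ 0 ∧ proj n F (tv i1 i2 h12.ne c) ∈ T := by
    have h0 : proj n F (tv i0 il hne0l a) ∈ T := hxa ▸ hz.1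
    by_cases hl : il = i2
    · refine ⟨-a, neg_ne_zero.mpr ha, hrow h02 h12 a ?_ h01.ne⟩
      simp only [hl] at h0
      exact h0
    · exact ⟨- -a, neg_ne_zero.mpr (neg_ne_zero.mpr ha),
        hrow h02 h12 (-a) (hcol (lt_of_le_of_ne (Fin.le_def.mpr (Nat.zero_le _)) hne0l) h02 a h0 hl)
          h01.ne⟩
  obtain ⟨c, hc, hcT⟩ := h12m
  have h02all : ∀ b : F, proj n F (tv i0 i2 h02.ne b) ∈ T := by
    intro b
    have hu : proj n F (tv i0 i1 h01.ne (b / c)) ∈ projU n F :=
      ⟨_, tv_mem_upperU _ _ h01 _, rfl⟩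
    have h1 := (Subgroup.mem_normalizer_iff.mp (hN hu) _).mp hcT
    have h2 := mul_mem h1 (inv_mem hcT)
    rw [← map_inv, ← map_inv, ← map_mul, ← map_mul, ← map_mul, tv_commutator h01.ne h12.ne h02.ne,
      div_mul_cancel₀ b hc] at h2
    exact h2
  have hall : ∀ i j : Fin n, ∀ hij : i < j, ∀ b : F, proj n F (tv i j hij.ne b) ∈ T := by
    intro i j hij b
    have h0j : i0 < j := lt_of_le_of_lt (Fin.le_def.mpr (Nat.zero_le _)) hij
    have hj : ∀ b, proj n F (tv i0 j h0j.ne b) ∈ T := fun b => by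
      by_cases hj2 : i2 = j
      · subst hj2; exact h02all b
      · have := hcol h02 h0j (-b) (h02all _) hj2
        rwa [neg_neg] at this
    by_cases hi : i0 = i
    · subst hi; exact hj b
    · have := hrow h0j hij (-b) (hj _) hi
      rwa [neg_neg] at this
  rintro _ ⟨u, hu, rfl⟩
  exact upperU_le (H := T.comap (proj n F)) (fun i j hij b => hall i j hij b) hu

theorem centralizerIn_projK (hn : 3 ≤ n) (i j : Fin n) (hij : j.val = i.val + 1) :
    centralizerIn (projU n F) (projK i j hij) ≤ projK i j hij := by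
  intro z hz
  obtain ⟨hzU, hzc⟩ := mem_centralizerIn.mp hz
  obtain ⟨u, hu, rfl⟩ := hzU
  have hlt : i < j := Fin.lt_def.mpr (by omega)
  have hc : ∀ k ∈ simpleKer i j hij, u * k = k * u := fun k hk =>
    commute_of_proj p hu hk.1 (hzc _ ⟨k, hk, rfl⟩).symm
  refine ⟨u, ⟨hu, ?_⟩, rfl⟩
  by_cases hj : j.val + 1 < n
  · have hne : j < (⟨j.val + 1, hj⟩ : Fin n) := Fin.lt_def.mpr (Nat.lt_succ_self _)
    refine eq_zero_of_commute_col hne.ne (hc _ ⟨tv_mem_upperU _ _ hne 1, ?_⟩) rfl hlt.ne
    simp [tv_coe, hlt.ne, hlt.ne', Matrix.single_apply]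
  · have hi : 1 ≤ i.val := by have := j.2; omega
    have hne : (⟨i.val - 1, by omega⟩ : Fin n) < i := Fin.lt_def.mpr (by show i.val - 1 < i.val; omega)
    refine eq_zero_of_commute_row hne.ne (hc _ ⟨tv_mem_upperU _ _ hne 1, ?_⟩) hlt.ne'
    simp [tv_coe, hlt.ne, hlt.ne', Matrix.single_apply]

theorem torusElt_localGen (hn : 3 ≤ n) (i j : Fin n) (hij : j.val = i.val + 1) (hne : i ≠ j)
    {a : F} (ha : a ≠ 0) : proj n F (torusElt i j hne a) ∈ localGen p (projU n F) := by
  classical
  have hlt : i < j := Fin.lt_def.mpr (by omega)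
  refine Or.inr ⟨?_, projK i j hij, projK_le i j hij, centralizerIn_projK p hn i j hij, ?_, ?_⟩
  · refine mem_normalizer_of_forall ?_
    rintro _ ⟨u, hu, rfl⟩
    rw [← map_inv, ← map_mul, ← map_mul]
    refine ⟨_, normalizes_of_upper _ (fun k l hlk => ?_) hu, rfl⟩
    rw [torusElt_apply i j hne ha, if_neg hlk.ne']
  · rintro _ ⟨u, hu, rfl⟩
    refine mem_normalizer_of_forall ?_
    rintro _ ⟨k, hk, rfl⟩
    exact ⟨_, simpleKer_conj_upper i j hij hu hk, by rw [map_mul, map_mul, map_inv]⟩
  · set N := Subgroup.normalizer (projK (F := F) i j hij : Set PSLn)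
    have hup : ∀ c : F, proj n F (tv i j hne c) ∈ N := fun c => by
      refine mem_normalizer_of_forall ?_
      rintro _ ⟨k, hk, rfl⟩
      exact ⟨_, simpleKer_conj_upper i j hij (tv_mem_upperU i j hlt c) hk,
        by rw [map_mul, map_mul, map_inv]⟩
    have hs : (proj n F (swapElt i j hne))⁻¹ ∈ N := by
      refine mem_normalizer_of_forall ?_
      rintro _ ⟨k, hk, rfl⟩
      exact ⟨_, simpleKer_conj_swap i j hij hne hk, by rw [map_mul, map_mul, map_inv, inv_inv]⟩
    have hdown : ∀ c : F, proj n F (tv j i hne.symm c) ∈ N := fun c => by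
      have h1 : tv j i hne.symm c = (swapElt i j hne)⁻¹ * tv i j hne (-c) * swapElt i j hne := by
        rw [mul_assoc, ← swap_mul_tv_self hne c, inv_mul_cancel_left]
      rw [h1, map_mul, map_mul, map_inv]
      exact mul_mem (mul_mem hs (hup _)) (by simpa using inv_mem hs)
    have hpe : ∀ (k l : Fin n) (h : k ≠ l) (c : F), proj n F (tv k l h c) ^ p ^ 1 = 1 :=
      fun k l h c => by rw [pow_one, ← map_pow, tv_pow p k l h c, map_one]
    have h1 : ∀ c : F, proj n F (tv i j hne c) ∈ Subgroup.closure (pElts p N) := fun c =>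
      Subgroup.subset_closure ⟨hup c, 1, hpe _ _ _ _⟩
    have h2 : ∀ c : F, proj n F (tv j i hne.symm c) ∈ Subgroup.closure (pElts p N) := fun c =>
      Subgroup.subset_closure ⟨hdown c, 1, hpe _ _ _ _⟩
    simp only [torusElt, map_mul]
    exact mul_mem (mul_mem (mul_mem (h1 _) (h2 _)) (h1 _)) (mul_mem (mul_mem (h1 _) (h2 _)) (h1 _))

theorem diag_mem (hn : 3 ≤ n) : ∀ (k : ℕ), k ≤ n - 1 → ∀ d : SLn,
    (∀ r l : Fin n, r ≠ l → (d : Mat) r l = 0) →
    (∀ r : Fin n, r.val < n - 1 - k → (d : Mat) r r = 1) →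
    proj n F d ∈ Subgroup.closure (localGen p (projU n F)) := by
  intro k
  induction k with
  | zero =>
    intro _ d hoff hd
    have hdiag : (d : Mat) = Matrix.diagonal fun r => (d : Mat) r r := by
      ext r l
      by_cases h : r = l
      · subst h; simp
      · rw [hoff r l h, Matrix.diagonal_apply_ne _ h]
    have hdet : (d : Mat) ⟨n - 1, by omega⟩ ⟨n - 1, by omega⟩ = 1 := by
      have h1 := d.2
      rw [hdiag, Matrix.det_diagonal, Finset.prod_eq_single (⟨n - 1, by omega⟩ : Fin n)] at h1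
      · exact h1
      · intro b _ hb
        exact hd b (by have := b.2; have : b.val ≠ n - 1 := fun e => hb (Fin.ext e); omega)
      · simp
    have : d = 1 := by
      apply Subtype.ext
      ext r l
      rw [Matrix.SpecialLinearGroup.coe_one]
      by_cases h : r = l
      · subst h
        rw [Matrix.one_apply_eq]
        by_cases hr : r.val < n - 1
        · exact hd r (by omega)
        · rw [show r = (⟨n - 1, by omega⟩ : Fin n) from Fin.ext (by have := r.2; simp only; omega)]
          exact hdet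
      · rw [hoff r l h, Matrix.one_apply_ne h]
    rw [this, map_one]
    exact one_mem _
  | succ k ih =>
    intro hk d hoff hd
    set i : Fin n := ⟨n - 1 - (k + 1), by omega⟩ with hi
    set j : Fin n := ⟨n - 1 - k, by omega⟩ with hj
    have hij : j.val = i.val + 1 := by simp only [hi, hj]; omega
    have hne : i ≠ j := fun e => by rw [e] at hij; omega
    have hdiag : (d : Mat) = Matrix.diagonal fun r => (d : Mat) r r := by
      ext r l
      by_cases h : r = l
      · subst h; simp
      · rw [hoff r l h, Matrix.diagonal_apply_ne _ h]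
    set c := (d : Mat) i i with hc
    have hc0 : c ≠ 0 := fun e => by
      have h1 := d.2
      rw [hdiag, Matrix.det_diagonal] at h1
      exact zero_ne_one ((Finset.prod_eq_zero (f := fun r => (d : Mat) r r) (Finset.mem_univ i) e).symm.trans h1)
    set t := torusElt i j hne c⁻¹ with ht
    have htd : ∀ r l, ((t * d : SLn) : Mat) r l =
        (if r = i then c⁻¹ else if r = j then c else 1) * (d : Mat) r l := by
      intro r l
      rw [Matrix.SpecialLinearGroup.coe_mul, Matrix.mul_apply, Finset.sum_eq_single r]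
      · rw [ht, torusElt_apply i j hne (inv_ne_zero hc0), if_pos rfl, inv_inv]
      · intro b _ hb
        rw [ht, torusElt_apply i j hne (inv_ne_zero hc0), if_neg (Ne.symm hb), zero_mul]
      · simp
    have h1 := ih (by omega) (t * d) (fun r l hrl => by rw [htd, hoff r l hrl, mul_zero])
      fun r hr => by
        rw [htd]
        by_cases hri : r = i
        · rw [if_pos hri, hri]; exact inv_mul_cancel₀ hc0
        · have : r ≠ j := fun e => by rw [e] at hr; simp only [hj] at hr; omega
          rw [if_neg hri, if_neg this, one_mul]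
          exact hd r (by
            have : r.val ≠ n - 1 - (k + 1) := fun e => hri (Fin.ext e)
            omega)
    have h2 := mul_mem (inv_mem (Subgroup.subset_closure
      (torusElt_localGen p hn i j hij hne (inv_ne_zero hc0)))) h1
    rwa [← map_inv, ← map_mul, ← ht, inv_mul_cancel_left] at h2

theorem normalizer_le (hn : 3 ≤ n) : Subgroup.normalizer (projU n F : Set PSLn) ≤
    Subgroup.closure (localGen p (projU n F)) := by
  classical
  intro y hy
  obtain ⟨g, rfl⟩ := proj_surjective y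
  have hT : ∀ k l : Fin n, l < k → (g : Mat) k l = 0 := by
    refine upper_of_normalizes g fun u hu => mem_conj_iff p hu ?_
    refine ⟨(proj n F g)⁻¹ * proj n F u * proj n F g, ?_, ?_⟩
    · have := (Subgroup.mem_normalizer_iff.mp (inv_mem hy) (proj n F u)).mp ⟨u, hu, rfl⟩
      simpa using this
    · simp [mul_assoc]
  have hdet : (Matrix.diagonal fun r => (g : Mat) r r).det = 1 := by
    rw [Matrix.det_diagonal, ← Matrix.det_of_isUpperTriangular (fun a b h => hT a b h)]
    exact g.2
  set d : SLn := ⟨_, hdet⟩ with hd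
  have hg0 : ∀ r, (g : Mat) r r ≠ 0 := fun r e => by
    have h1 := hdet
    rw [Matrix.det_diagonal] at h1
    exact zero_ne_one ((Finset.prod_eq_zero (f := fun r => (g : Mat) r r) (Finset.mem_univ r) e).symm.trans h1)
  have hdg : d ∈ Subgroup.comap (proj n F) (Subgroup.closure (localGen p (projU n F))) :=
    diag_mem p hn (n - 1) le_rfl d (fun r l h => Matrix.diagonal_apply_ne _ h)
      (fun r h => by omega)
  set v := d⁻¹ * g with hv
  have hgv : (g : Mat) = (d : Mat) * (v : Mat) := by
    rw [← Matrix.SpecialLinearGroup.coe_mul, hv, mul_inv_cancel_left]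
  have hent : ∀ r l, (g : Mat) r l = (g : Mat) r r * (v : Mat) r l := by
    intro r l
    conv_lhs => rw [hgv, show (d : Mat) = Matrix.diagonal fun r => (g : Mat) r r from rfl,
      Matrix.diagonal_mul]
  have hvU : v ∈ upperU n F := by
    refine ⟨fun r l hlr => ?_, fun r => ?_⟩
    · exact (mul_eq_zero.mp ((hent r l).symm.trans (hT r l hlr))).resolve_left (hg0 r)
    · exact (mul_eq_left₀ (hg0 r)).mp (hent r r).symm
  have hvM : proj n F v ∈ Subgroup.closure (localGen p (projU n F)) :=
    Subgroup.subset_closure (Or.inl ⟨v, hvU, rfl⟩)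
  have h2 := Subgroup.mul_mem _ (Subgroup.mem_comap.mp hdg) hvM
  rw [← map_mul, hv, mul_inv_cancel_left] at h2
  exact h2

theorem projU_ne_bot (hn : 3 ≤ n) : projU n F ≠ ⊥ := by
  intro h
  have h01 : (⟨0, by omega⟩ : Fin n) < ⟨1, by omega⟩ := Fin.lt_def.mpr (by show 0 < 1; omega)
  have h1 : proj n F (tv _ _ h01.ne (1 : F)) = proj n F 1 := by
    rw [map_one, ← Subgroup.mem_bot, ← h]
    exact ⟨_, tv_mem_upperU _ _ h01 1, rfl⟩
  have h2 := eq_of_proj_eq p (upperU_pow p (tv_mem_upperU _ _ h01 1))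
    (one_pow (p ^ 0) : (1 : SLn) ^ p ^ 0 = 1) h1
  rw [← tv_zero _ _ h01.ne] at h2
  exact one_ne_zero (tv_inj _ _ h01.ne h2)

theorem isSimple (hn : 3 ≤ n) (S : Sylow p PSLn) :
    (groupFusionSystem (S : Subgroup PSLn)).IsSimple p :=
  isSimple_gfs (sylU p) S (projU_ne_bot p hn) (stronglyClosed_top p hn) (normalizer_le p hn)

end Cfsg.Agent.Fusion.PSLSimple
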