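import Cfsg.Agent.Lib.Fusion.RankTwoSimple
import Cfsg.Agent.Lib.SL2.Psl
import Cfsg.Agent.Lib.SL2.Tori
import Cfsg.Agent.Lib.Invol.Dihedral
import Cfsg.Agent.Lib.Invol.SylowGL2
import Cfsg.Agent.Lib.LinearGroups.PSL

/-!
The 2-fusion system of `PSL(2, q)`, `q² ≡ 1 (mod 16)`, is simple.
-/

set_option autoImplicit false
set_option linter.style.haveILetI false

namespace Cfsg.Agent.Fusion

open Cfsg.Agent.SL2
open scoped MatrixGroups

universe u

/-- A nonabelian-order simple group has no subgroup of index two. -/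
theorem index_ne_two_of_simple {G : Type u} [Group G] [Finite G] [IsSimpleGroup G]
    (h4 : 4 ∣ Nat.card G) (H : Subgroup G) : H.index ≠ 2 := by
  intro h
  have := Subgroup.normal_of_index_eq_two h
  rcases IsSimpleGroup.eq_bot_or_eq_top_of_normal H inferInstance with rfl | rfl
  · rw [Subgroup.index_bot] at h; omega
  · rw [Subgroup.index_top] at h; omega

variable {F : Type u} [Field F] [Fintype F]

local notation "SL2F" => Matrix.SpecialLinearGroup (Fin 2) F
local notation "PSF" => Matrix.ProjectiveSpecialLinearGroup (Fin 2) F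

theorem eq_one_or_neg_one_of_sq (hodd : Odd (Fintype.card F)) {x : SL2F} (h : x * x = 1) :
    x = 1 ∨ x = -1 := by
  have h2 := two_ne_zero' hodd
  have e := congrArg Subtype.val h
  rw [Matrix.SpecialLinearGroup.coe_mul, mul_self, Matrix.SpecialLinearGroup.coe_one,
    sub_eq_iff_eq_add] at e
  have e01 := congrFun (congrFun e 0) 1
  have e10 := congrFun (congrFun e 1) 0
  have e00 := congrFun (congrFun e 0) 0
  have e11 := congrFun (congrFun e 1) 1
  simp at e01 e10 e00 e11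
  have ht : tr x ≠ 0 := fun ht => by
    rw [ht, zero_mul] at e00
    exact h2 (by linear_combination -e00)
  exact (scal_iff x).mp ⟨e01.resolve_left ht, e10.resolve_left ht,
    mul_left_cancel₀ ht (e00.trans e11.symm)⟩

/-- A Sylow 2-subgroup of `PSL(2, q)` is dihedral. -/
theorem exists_dihData_psl_two (hodd : Fintype.card F % 2 = 1)
    (h16 : 16 ∣ Fintype.card F ^ 2 - 1) (S : Sylow 2 PSF) :
    Nonempty (Cfsg.Agent.Invol.DihData (S : Subgroup PSF)) ∧ 4 ∣ Nat.card PSF := by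
  haveI : Fact (Nat.Prime 2) := ⟨Nat.prime_two⟩
  set q := Fintype.card F with hq
  have hodd' : Odd q := Nat.odd_iff.mpr hodd
  have hq3 : 3 ≤ q := by have := two_le_q (F := F); omega
  -- the torus
  classical
  obtain ⟨g, ht, N', hcard, hN4, hN'⟩ : ∃ g : SL2F, tr g ^ 2 ≠ 4 ∧ ∃ N' : ℕ,
      (Nat.card (cent g) * N' = (q - 1) * (q + 1)) ∧ 4 ∣ Nat.card (cent g) ∧ N' % 4 = 2 := by
    rcases (show q % 4 = 1 ∨ q % 4 = 3 by omega) with h | h
    · obtain ⟨a, ha⟩ := IsCyclic.exists_generator (α := Fˣ)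
      have ha2 : (a : F) ^ 2 ≠ 1 := by
        intro e
        have e' : a ^ 2 = 1 := Units.ext (by simpa using e)
        have h1 := orderOf_dvd_of_pow_eq_one e'
        rw [orderOf_eq_card_of_forall_mem_zpowers ha, Nat.card_eq_fintype_card,
          Fintype.card_units, ← hq] at h1
        have := Nat.le_of_dvd two_pos h1
        omega
      obtain ⟨hc, -⟩ := card_cent_split (tr_sq_dd ha2) (a := (a : F)) (by simp)
      exact ⟨dd a, tr_sq_dd ha2, q + 1, by rw [hc], by rw [hc]; omega, by omega⟩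
    · obtain ⟨g, hg⟩ := exists_noEig (F := F)
      obtain ⟨hc, -⟩ := card_cent_noEig hg
      exact ⟨g, hg.tr_sq, q - 1, by rw [hc, ← hq, mul_comm], by rw [hc]; omega, by omega⟩
  set N := Nat.card (cent g) with hN
  obtain ⟨k, m, hm, hNk⟩ := Nat.exists_eq_pow_mul_and_not_dvd (n := N) Nat.card_pos.ne' 2
    (by norm_num)
  obtain ⟨m', hm'⟩ : ∃ m', N' = 2 * m' := ⟨N' / 2, by omega⟩
  have hqq : q ^ 2 - 1 = (q - 1) * (q + 1) := by
    rw [← one_pow 2, Nat.sq_sub_sq, one_pow, mul_comm]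
  have hk3 : 3 ≤ k := by
    by_contra hlt
    rw [hqq, ← hcard, hNk, hm', show 2 ^ k * m * (2 * m') = 2 ^ k * (2 * (m * m')) by ring] at h16
    have hmm : ¬ 2 ∣ m * m' := fun h => (Nat.prime_two.dvd_mul.mp h).elim hm (by omega)
    interval_cases k <;> omega
  have := isCyclic_cent ht
  obtain ⟨c₀, hc₀⟩ := IsCyclic.exists_ofOrder_eq_natCard (α := cent g)
  have hcord : orderOf ((c₀ ^ m : cent g) : SL2F) = 2 ^ k := by
    rw [Subgroup.orderOf_coe, orderOf_pow, hc₀, ← hN, hNk,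
      Nat.gcd_eq_right (dvd_mul_left m (2 ^ k)), Nat.mul_div_cancel _ (Nat.pos_of_ne_zero ?_)]
    rintro rfl
    exact hm (dvd_zero 2)
  set c : SL2F := ((c₀ ^ m : cent g) : SL2F)
  have hcg : c ∈ cent g := (c₀ ^ m : cent g).2
  have hker : ∀ x : SL2F, π x = 1 ↔ x = 1 ∨ x = -1 := fun x => π_eq_one.trans (scal_iff x)
  have hne : (-1 : SL2F) ≠ 1 := neg_ne_self (two_ne_zero' hodd') 1
  obtain ⟨j, rfl⟩ : ∃ j, k = j + 1 := ⟨k - 1, by omega⟩
  have hcb : orderOf (π c) = 2 ^ j := by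
    obtain ⟨i, rfl⟩ : ∃ i, j = i + 1 := ⟨j - 1, by omega⟩
    refine orderOf_eq_prime_pow (fun h => ?_) ?_
    · rw [← map_pow, hker] at h
      have h2 : c ^ 2 ^ (i + 1) = 1 := by
        rcases h with h | h
        · rw [pow_succ, pow_mul, h, one_pow]
        · rw [pow_succ, pow_mul, h, neg_one_sq]
      have h3 := orderOf_dvd_of_pow_eq_one h2
      rw [hcord] at h3
      have := (Nat.pow_dvd_pow_iff_le_right (by norm_num : 1 < 2)).mp h3
      omega
    · rw [← map_pow, hker]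
      refine eq_one_or_neg_one_of_sq hodd' ?_
      rw [← pow_add, ← two_mul, ← pow_succ', ← hcord]
      exact pow_orderOf_eq_one c
  obtain ⟨x, hx⟩ := exists_invert ht
  have hxN : x ∈ Subgroup.normalizer (cent g : Set SL2F) := (mem_normalizer_cent ht).2 (Or.inr hx)
  have hxc : x ∉ cent g := fun h => ne_inv ht (by
    rw [← hx, mul_inv_eq_iff_eq_mul.2 (mem_cent.1 h).symm])
  obtain ⟨-, hxx⟩ := sq_of_mem_normalizer ht hxN hxc
  obtain ⟨-, hinv⟩ := (normalizer_act ht hxN).resolve_left fun h => hxc h.1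
  have hw2 : π x * π x = 1 := by
    rw [← map_mul, hker]; exact Or.inr hxx
  have hwi : π x * π c * (π x)⁻¹ = (π c)⁻¹ := by
    rw [← map_inv, ← map_mul, ← map_mul, hinv c hcg, map_inv]
  have hwn : π x ∉ Subgroup.zpowers (π c) := by
    intro h
    obtain ⟨i, hi⟩ := Subgroup.mem_zpowers_iff.mp h
    rw [← map_zpow, π_eq_iff] at hi
    have hci : c ^ i ∈ cent g := zpow_mem hcg i
    have hm1 : (-1 : SL2F) ∈ cent g := mem_cent.mpr (by simp)
    rcases hi with hi | hi
    · exact hxc (hi ▸ hci)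
    · refine hxc ?_
      rw [hi, show -c ^ i = (-1 : SL2F) * c ^ i by simp]
      exact mul_mem hm1 hci
  obtain ⟨e⟩ := Cfsg.Agent.Invol.nonempty_dihedralEquiv hw2 hwi hwn
  rw [hcb] at e
  -- the 2-part of the order
  have hcentre : Nat.card SL2F = 2 * Nat.card PSF := by
    have h1 := Subgroup.card_eq_card_quotient_mul_card_subgroup
      (π (F := F)).ker
    have h2 : Nat.card (SL2F ⧸ (π (F := F)).ker) = Nat.card PSF :=
      Nat.card_congr (QuotientGroup.quotientKerEquivOfSurjective π π_surjective).toEquiv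
    have h3 : Nat.card (π (F := F)).ker = 2 := by
      rw [Nat.card_eq_two_iff]
      refine ⟨⟨1, map_one π⟩, ⟨-1, (hker _).mpr (Or.inr rfl)⟩,
        fun h => hne (congrArg Subtype.val h).symm, ?_⟩
      ext ⟨y, hy⟩
      simpa [Subtype.ext_iff] using (hker y).mp hy
    rw [h1, h2, h3, mul_comm]
  have hPS : Nat.card PSF = 2 ^ (j + 1) * (q * (m * m')) := by
    have h1 := card_G (F := F)
    rw [hcentre, ← hq, ← hcard, hNk, hm'] at h1
    exact Nat.eq_of_mul_eq_mul_left two_pos (h1.trans (by ring))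
  have hmodd : Odd (q * (m * m')) := by
    refine hodd'.mul (Odd.mul (Nat.odd_iff.mpr ?_) (Nat.odd_iff.mpr ?_)) <;> omega
  have hS0 : Nat.card (Subgroup.closure ({π x, π c} : Set PSF)) = 2 ^ (j + 1) := by
    rw [← Nat.card_congr e.toEquiv, DihedralGroup.nat_card, pow_succ, mul_comm]
  obtain ⟨eS⟩ := Cfsg.Agent.Invol.SylowGL2.nonempty_equiv_sylow _ _ _ hPS hmodd hS0 S
  refine ⟨Cfsg.Agent.Invol.dih_exists (m := 2 ^ j) ?_ (eS.symm.trans e.symm) ?_, ?_⟩
  · calc 2 ≤ 2 ^ 1 := le_rfl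
      _ ≤ 2 ^ j := Nat.pow_le_pow_right two_pos (by omega)
  · rw [← Nat.card_congr eS.toEquiv, hS0]
    have : 2 ^ 3 ≤ 2 ^ (j + 1) := Nat.pow_le_pow_right two_pos hk3
    omega
  · rw [hPS]
    exact Dvd.dvd.mul_right ((show 4 = 2 ^ 2 by norm_num) ▸ pow_dvd_pow 2 (by omega)) _

theorem isSimple_psl_two (hodd : Fintype.card F % 2 = 1) (h16 : 16 ∣ Fintype.card F ^ 2 - 1)
    (S : Sylow 2 PSF) : (groupFusionSystem (S : Subgroup PSF)).IsSimple 2 := by
  obtain ⟨⟨D⟩, h4⟩ := exists_dihData_psl_two hodd h16 S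
  have hq4 : 4 ≤ Nat.card F := by
    rw [Nat.card_eq_fintype_card]
    by_contra h
    have h3 : Fintype.card F = 3 := by
      have := two_le_q (F := F)
      omega
    rw [h3] at h16
    norm_num at h16
  haveI := Cfsg.Agent.LinGrp.isSimpleGroup_PSL_fin (F := F) 2 le_rfl fun _ => hq4
  exact isSimple_dihedral D (index_ne_two_of_simple h4)

end Cfsg.Agent.Fusion
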