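import Cfsg.Agent.Lib.AutPSU.Pair
import Cfsg.Agent.Lib.Fusion.CoverSimple

/-!
A Sylow subgroup of `SU_n` in the defining characteristic, as the group attached to a flag of
totally isotropic subspaces.
-/

set_option autoImplicit false
set_option linter.unusedSectionVars false
set_option linter.style.haveILetI false

namespace Cfsg.Agent.Fusion.PSUSimple

open Matrix Cfsg.Agent.AutPSU

universe u

variable {F : Type u} [Field F] {q : ℕ} [hQ : QField F q] {n m : ℕ}

local notation "σ" => qb (F := F) q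
local notation "V" => Fin n → F
set_option quotPrecheck false in
local notation "SUn" => ↥(Cfsg.SU n F q)
local notation "H" => Cfsg.hermForm n F q

/-- A frame: a maximal family of orthogonal hyperbolic pairs. -/
structure Frame (q : ℕ) [QField F q] (e f : Fin m → Fin n → F) : Prop where
  ee : ∀ j k, Cfsg.hermForm n F q (e j) (e k) = 0
  ff : ∀ j k, Cfsg.hermForm n F q (f j) (f k) = 0
  fe : ∀ j k, Cfsg.hermForm n F q (f j) (e k) = if j = k then 1 else 0
  aniso : ∀ v, (∀ j, Cfsg.hermForm n F q v (e j) = 0) → (∀ j, Cfsg.hermForm n F q v (f j) = 0) →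
    Cfsg.hermForm n F q v v = 0 → v = 0
  top : ∀ g : ↥(Cfsg.SU n F q), (∀ j, app g (e j) = e j) → (∀ j, app g (f j) = f j) → g = 1

include hQ

theorem Frame.ef {e f : Fin m → V} (hF : Frame q e f) (j k : Fin m) :
    H (e j) (f k) = if j = k then 1 else 0 := by
  rw [← H_flip (f k) (e j), hF.fe]
  by_cases h : j = k
  · rw [if_pos h, if_pos h.symm, map_one]
  · rw [if_neg h, if_neg (Ne.symm h), map_zero]

theorem Frame.e_ne {e f : Fin m → V} (hF : Frame q e f) (j : Fin m) : e j ≠ 0 := fun h =>
  one_ne_zero (α := F) (by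
    have := hF.fe j j
    rwa [if_pos rfl, h, H_zero_right, eq_comm] at this)

variable (q) in
/-- The orthogonal space of the first `i` hyperbolic pairs. -/
def W (e f : Fin m → Fin n → F) (i : ℕ) : Submodule F (Fin n → F) where
  carrier := {v | ∀ l : Fin m, l.val < i →
    Cfsg.hermForm n F q v (e l) = 0 ∧ Cfsg.hermForm n F q v (f l) = 0}
  add_mem' := fun {u v} hu hv l hl => by
    simp [(hu l hl).1, (hu l hl).2, (hv l hl).1, (hv l hl).2]
  zero_mem' := fun l _ => by simp
  smul_mem' := fun c v hv l hl => by simp [(hv l hl).1, (hv l hl).2]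

variable (q) in
/-- The pointwise stabiliser of the first `i` hyperbolic pairs. -/
def Gs (e f : Fin m → Fin n → F) (i : ℕ) : Subgroup ↥(Cfsg.SU n F q) where
  carrier := {g | ∀ l : Fin m, l.val < i → app g (e l) = e l ∧ app g (f l) = f l}
  mul_mem' := fun {a b} ha hb l hl => by
    constructor <;> simp [app_mul, (ha l hl).1, (ha l hl).2, (hb l hl).1, (hb l hl).2]
  one_mem' := fun l _ => by simp [app_one]
  inv_mem' := fun {a} ha l hl => by
    constructor
    · conv_lhs => rw [← (ha l hl).1]
      rw [app_inv]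
    · conv_lhs => rw [← (ha l hl).2]
      rw [app_inv]

omit hQ in
/-- The span of the first vectors of the flag. -/
def low (e : Fin m → Fin n → F) (i : ℕ) : Submodule F (Fin n → F) :=
  Submodule.span F (e '' {l | l.val < i})

omit hQ in
theorem e_mem_low (e : Fin m → Fin n → F) {l : Fin m} {i : ℕ} (h : l.val < i) :
    e l ∈ low e i :=
  Submodule.subset_span ⟨l, h, rfl⟩

omit hQ in
theorem low_mono (e : Fin m → Fin n → F) {i j : ℕ} (h : i ≤ j) : low e i ≤ low e j :=
  Submodule.span_mono (Set.image_mono fun _ hl => Nat.lt_of_lt_of_le hl h)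

theorem map_low (e : Fin m → Fin n → F) {g : SUn} {i : ℕ}
    (hg : ∀ l : Fin m, l.val < i → app g (e l) ∈ low e i) {v : V} (hv : v ∈ low e i) :
    app g v ∈ low e i := by
  have h : low e i ≤ (low e i).comap
      (Matrix.mulVecLin ((g : Matrix.SpecialLinearGroup (Fin n) F) : Matrix (Fin n) (Fin n) F)) :=
    Submodule.span_le.2 (Set.image_subset_iff.2 fun l hl => hg l hl)
  exact h hv

theorem map_low_of_flag (e : Fin m → Fin n → F) {g : SUn} {i : ℕ}
    (hg : ∀ l : Fin m, l.val < i → app g (e l) - e l ∈ low e l.val) {v : V}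
    (hv : v ∈ low e i) : app g v ∈ low e i :=
  map_low e (fun l hl => by
    rw [show app g (e l) = (app g (e l) - e l) + e l by abel]
    exact add_mem (low_mono e hl.le (hg l hl)) (e_mem_low e hl)) hv

variable (q) in
/-- The unipotent stabiliser of the flag. -/
def U (e : Fin m → Fin n → F) : Subgroup ↥(Cfsg.SU n F q) where
  carrier := {g | ∀ j : Fin m, app g (e j) - e j ∈ low e j.val}
  mul_mem' := fun {a b} ha hb j => by
    show app (a * b) (e j) - e j ∈ low e j.val
    rw [app_mul, show app a (app b (e j)) - e j =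
      app a (app b (e j) - e j) + (app a (e j) - e j) by rw [app_sub]; abel]
    exact add_mem (map_low_of_flag e (fun l _ => ha l) (hb j)) (ha j)
  one_mem' := fun j => by simp [app_one]
  inv_mem' := fun {a} ha => by
    intro j
    induction hk : j.val using Nat.strong_induction_on generalizing j with
    | h k ih =>
      subst hk
      show app a⁻¹ (e j) - e j ∈ low e j.val
      rw [show app a⁻¹ (e j) - e j = -(app a⁻¹ (app a (e j) - e j)) by
        rw [app_sub, app_inv]; abel]
      exact neg_mem (map_low_of_flag e (fun l hl => ih l.val hl l rfl) (ha j))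

variable {e f : Fin m → Fin n → F} (hF : Frame q e f)

include hF

theorem ext_of_frame {g g' : SUn} (he : ∀ j, app g (e j) = app g' (e j))
    (hf : ∀ j, app g (f j) = app g' (f j)) : g = g' :=
  inv_mul_eq_one.1 (hF.top (g⁻¹ * g') (fun j => by rw [app_mul, ← he, app_inv])
    fun j => by rw [app_mul, ← hf, app_inv])

theorem eq_one_of_top {i : ℕ} (hi : m ≤ i) {g : SUn} (hg : g ∈ Gs q e f i) : g = 1 :=
  hF.top g (fun j => (hg j (j.2.trans_le hi)).1) fun j => (hg j (j.2.trans_le hi)).2

theorem e_mem_W {i : ℕ} {j : Fin m} (h : i ≤ j.val) : e j ∈ W q e f i := fun l hl =>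
  ⟨hF.ee j l, by rw [hF.ef, if_neg]; rintro rfl; omega⟩

theorem f_mem_W {i : ℕ} {j : Fin m} (h : i ≤ j.val) : f j ∈ W q e f i := fun l hl =>
  ⟨by rw [hF.fe, if_neg]; rintro rfl; omega, hF.ff j l⟩

theorem map_W {i : ℕ} {g : SUn} (hg : g ∈ Gs q e f i) {v : V} (hv : v ∈ W q e f i) :
    app g v ∈ W q e f i := fun l hl => by
  constructor
  · nth_rewrite 1 [← (hg l hl).1]
    rw [app_H]
    exact (hv l hl).1
  · nth_rewrite 1 [← (hg l hl).2]
    rw [app_H]
    exact (hv l hl).2

theorem low_orth {i : ℕ} {v : V} (hv : v ∈ low e i) :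
    (∀ j, H v (e j) = 0) ∧ (∀ j : Fin m, i ≤ j.val → H v (f j) = 0) ∧ H v v = 0 := by
  have h0 : ∀ j, H v (e j) = 0 := fun j => by
    have h : low e i ≤ LinearMap.ker (Hl (q := q) (e j)) :=
      Submodule.span_le.2 (Set.image_subset_iff.2 fun l _ => hF.ee l j)
    exact h hv
  refine ⟨h0, fun j hj => ?_, ?_⟩
  · have h : low e i ≤ LinearMap.ker (Hl (q := q) (f j)) :=
      Submodule.span_le.2 (Set.image_subset_iff.2 fun l hl => by
        show H (e l) (f j) = 0
        rw [hF.ef, if_neg]
        rintro rfl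
        exact absurd (show l.val < i from hl) (not_lt.2 hj))
    exact h hv
  · have h : low e i ≤ LinearMap.ker (Hl (q := q) v) :=
      Submodule.span_le.2 (Set.image_subset_iff.2 fun l _ => H_eq_zero_comm.1 (h0 l))
    exact h hv

theorem fix_e (i : Fin m) {g : SUn} (hgU : g ∈ U q e) (hg : g ∈ Gs q e f i.val) :
    app g (e i) = e i := by
  have hlow := low_orth hF (hgU i)
  refine sub_eq_zero.1 (hF.aniso _ hlow.1 (fun j => ?_) hlow.2.2)
  by_cases hj : j.val < i.val
  · exact ((sub_mem (map_W hF hg (e_mem_W hF le_rfl)) (e_mem_W hF le_rfl)) j hj).2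
  · exact hlow.2.1 j (not_lt.1 hj)

theorem qE_mem (i : Fin m) {a : V} {t : F} (haW : a ∈ W q e f i.val) (h : IsQ q (e i) a t) :
    qE (e i) a t h ∈ U q e ⊓ Gs q e f i.val := by
  refine ⟨fun j => ?_, fun l hl => ⟨?_, ?_⟩⟩
  · rw [qE_apply, hF.ee j i]
    simp only [zero_smul, mul_zero, add_zero]
    rcases lt_trichotomy j.val i.val with hj | hj | hj
    · rw [H_eq_zero_comm.1 (haW j hj).1, zero_smul, sub_zero, sub_self]
      exact zero_mem _
    · rw [Fin.ext hj, H_eq_zero_comm.1 h.2.1, zero_smul, sub_zero, sub_self]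
      exact zero_mem _
    · rw [sub_sub_cancel_left]
      exact neg_mem (Submodule.smul_mem _ _ (e_mem_low e hj))
  · rw [qE_apply, hF.ee l i, H_eq_zero_comm.1 (haW l hl).1]
    simp
  · rw [qE_apply, hF.fe, if_neg (fun h => by subst h; omega), H_eq_zero_comm.1 (haW l hl).2]
    simp

theorem tr_mem (i : Fin m) {c : F} (h : IsT q (e i) c) :
    tr (e i) c h ∈ U q e ⊓ Gs q e f i.val :=
  qE_mem hF i (zero_mem _) _

/-- Peel off one unipotent radical. -/
theorem exists_q (i : Fin m) {r : SUn} (hr : r ∈ Gs q e f i.val) (he : app r (e i) = e i) :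
    ∃ (a : V) (t : F) (h : IsQ q (e i) a t), a ∈ W q e f i.val ∧
      (qE (e i) a t h)⁻¹ * r ∈ Gs q e f (i.val + 1) := by
  have haW : app r (f i) - f i ∈ W q e f i.val :=
    sub_mem (map_W hF hr (f_mem_W hF le_rfl)) (f_mem_W hF le_rfl)
  set a := app r (f i) - f i with hadef
  have ha : H a (e i) = 0 := by
    rw [hadef, H_sub_left]
    nth_rewrite 1 [← he]
    rw [app_H, sub_self]
  have hQa : IsQ q (e i) a (H (f i) a) := by
    refine ⟨hF.ee i i, ha, ?_⟩
    have h1 := app_H r (f i) (f i)
    rw [show app r (f i) = f i + a by rw [hadef]; abel, hF.ff] at h1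
    simp only [H_add_left, H_add_right, hF.ff] at h1
    rw [H_flip]
    linear_combination h1
  refine ⟨a, _, hQa, haW, fun l hl => ?_⟩
  set s := qE (e i) a _ hQa with hs
  have hsG : s ∈ Gs q e f i.val := (qE_mem hF i haW hQa).2
  rcases Nat.lt_succ_iff_lt_or_eq.1 hl with h | h
  · exact mul_mem (inv_mem hsG) hr l h
  · obtain rfl : l = i := Fin.ext h
    have h1 : app s (e l) = e l := by
      rw [hs, qE_apply, hF.ee, H_eq_zero_comm.1 ha]
      simp
    have h2 : app s (f l) = app r (f l) := by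
      rw [hs, qE_apply, hF.fe, if_pos rfl, hadef]
      module
    constructor
    · rw [app_mul, he]
      nth_rewrite 1 [← h1]
      rw [app_inv]
    · rw [app_mul, ← h2, app_inv]

theorem fixed_eq (i : Fin m) {v : V} (hv : v ∈ W q e f i.val)
    (h : ∀ g ∈ U q e ⊓ Gs q e f i.val, app g v = v) : ∃ c : F, v = c • e i := by
  have hvi : H v (e i) = 0 := by
    obtain ⟨k, hk0, hk⟩ := exists_skew (F := F) (q := q)
    have hT : IsT q (e i) k := ⟨hF.ee i i, hk⟩
    have h1 := h _ (qE_mem hF i (zero_mem _) hT.isQ)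
    rw [qE_apply] at h1
    simp only [smul_zero, H_zero_right, zero_smul, sub_zero, add_zero, add_eq_left,
      smul_eq_zero] at h1
    exact (mul_eq_zero.1 (h1.resolve_right (hF.e_ne i))).resolve_left hk0
  have horth : ∀ a ∈ W q e f i.val, H a (e i) = 0 → H v a = 0 := by
    intro a haW ha
    obtain ⟨t, ht⟩ := exists_isQ (q := q) (hF.ee i i) ha
    have h1 := h _ (qE_mem hF i haW ht)
    rw [qE_apply, hvi] at h1
    simp only [zero_smul, mul_zero, add_zero, sub_eq_self, smul_eq_zero] at h1
    exact h1.resolve_right (hF.e_ne i)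
  set c := H v (f i) with hc
  refine ⟨c, sub_eq_zero.1 ?_⟩
  have hde : ∀ j, H (v - c • e i) (e j) = 0 := fun j => by
    simp only [H_sub_left, H_smul_left, hF.ee, mul_zero, sub_zero]
    by_cases hj : j.val < i.val
    · exact (hv j hj).1
    · exact horth _ (e_mem_W hF (not_lt.1 hj)) (hF.ee j i)
  refine hF.aniso _ hde (fun j => ?_) ?_
  · simp only [H_sub_left, H_smul_left, hF.ef]
    by_cases hji : i = j
    · subst hji
      rw [if_pos rfl, hc, mul_one, sub_self]
    rw [if_neg hji, mul_zero, sub_zero]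
    by_cases hj : j.val < i.val
    · exact (hv j hj).2
    · exact horth _ (f_mem_W hF (not_lt.1 hj)) (by rw [hF.fe, if_neg (Ne.symm hji)])
  · have hdW : v - c • e i ∈ W q e f i.val :=
      sub_mem hv (Submodule.smul_mem _ _ (e_mem_W hF le_rfl))
    rw [H_sub_left, H_smul_left, horth _ hdW (hde i), H_eq_zero_comm.1 (hde i), mul_zero,
      sub_zero]

variable (p : ℕ) [Fact p.Prime] [CharP F p]

include p

theorem isPGroup_aux : ∀ k i : ℕ, m ≤ i + k →
    IsPGroup p (U q e ⊓ Gs q e f i : Subgroup SUn) := by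
  haveI := finite_field (F := F) (q := q)
  intro k
  induction k with
  | zero =>
    intro i hi
    have hbot : U q e ⊓ Gs q e f i = ⊥ :=
      (Subgroup.eq_bot_iff_forall _).2 fun g hg => eq_one_of_top hF (by omega) hg.2
    rw [hbot]
    exact IsPGroup.of_bot
  | succ k ih =>
    intro i hi
    by_cases him : m ≤ i
    · exact ih i (by omega)
    set j : Fin m := ⟨i, by omega⟩ with hj
    set K : Subgroup SUn := qSub (e j) (hF.ee j j) ⊓ (U q e ⊓ Gs q e f i) with hK
    set N : Subgroup SUn := U q e ⊓ Gs q e f (i + 1) with hN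
    have hKp : IsPGroup p K := (isPGroup_qSub p (e j) (hF.ee j j)).to_le inf_le_left
    have hNn : N ≤ Subgroup.normalizer (K : Set SUn) := by
      intro u hu
      have hu' : u ∈ U q e ⊓ Gs q e f i := ⟨hu.1, fun l hl => hu.2 l (by omega)⟩
      refine mem_normalizer_of_forall fun y hy => ⟨?_, ?_⟩
      · obtain ⟨a, t, h, rfl⟩ := hy.1
        rw [qE_conj]
        have he : app u (e j) = e j := (hu.2 j (by simp [hj])).1
        refine ⟨app u a, t, ?_, ?_⟩
        · have h1 := h.app u
          rwa [he] at h1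
        · simp only [he]
      · exact Subgroup.mul_mem _ (Subgroup.mul_mem _ hu' hy.2) (Subgroup.inv_mem _ hu')
    refine ((ih (i + 1) (by omega)).to_sup_of_normal_right' hKp hNn).to_le ?_
    intro g hg
    obtain ⟨a, t, h, haW, hr⟩ := exists_q hF j hg.2 (fix_e hF j hg.1 hg.2)
    have hq := qE_mem hF j haW h
    rw [show g = qE (e j) a t h * ((qE (e j) a t h)⁻¹ * g) by rw [mul_inv_cancel_left]]
    refine mul_mem (Subgroup.mem_sup_right ⟨⟨a, t, h, rfl⟩, hq⟩) (Subgroup.mem_sup_left ⟨?_, hr⟩)
    exact Subgroup.mul_mem _ (Subgroup.inv_mem _ hq.1) hg.1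

theorem isPGroup_U : IsPGroup p (U q e) :=
  (isPGroup_aux hF p m 0 (by omega)).to_le fun _ hg => ⟨hg, fun l hl => absurd hl (by omega)⟩

theorem le_U_aux {R : Subgroup SUn} (hR : IsPGroup p R) (hUR : U q e ≤ R) :
    ∀ k i : ℕ, m ≤ i + k → R ⊓ Gs q e f i ≤ U q e := by
  haveI := finite_field (F := F) (q := q)
  intro k
  induction k with
  | zero =>
    intro i hi g hg
    rw [eq_one_of_top hF (by omega) hg.2]
    exact one_mem _
  | succ k ih =>
    intro i hi
    by_cases him : m ≤ i
    · exact ih i (by omega)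
    set j : Fin m := ⟨i, by omega⟩ with hj
    intro r hr
    let P : Subgroup SUn := R ⊓ Gs q e f i
    letI : MulAction P (W q e f i) :=
      { smul := fun g v => ⟨app (g : SUn) (v : V), map_W hF g.2.2 v.2⟩
        one_smul := fun v => Subtype.ext (app_one _)
        mul_smul := fun g h v => Subtype.ext (app_mul _ _ _) }
    have hP : IsPGroup p P := hR.to_le inf_le_left
    have hdvd : p ∣ Nat.card (W q e f i) := by
      have hej : e j ∈ W q e f i := e_mem_W hF (le_of_eq (by simp [hj]))
      have hp0 : p • (⟨e j, hej⟩ : W q e f i) = 0 := by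
        apply Subtype.ext
        show p • e j = 0
        rw [← Nat.cast_smul_eq_nsmul F, CharP.cast_eq_zero, zero_smul]
      have := addOrderOf_eq_prime hp0 (fun h => hF.e_ne j (congrArg Subtype.val h))
      exact this ▸ addOrderOf_dvd_natCard _
    obtain ⟨v, hv, hne⟩ := hP.exists_fixed_point_of_prime_dvd_card_of_fixed_point (W q e f i) hdvd
      (a := (0 : W q e f i)) (fun g => Subtype.ext (app_zero _))
    have hv' : ∀ g ∈ R ⊓ Gs q e f i, app g (v : V) = v := fun g hg =>
      congrArg Subtype.val (hv ⟨g, hg⟩)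
    obtain ⟨c, hc⟩ := fixed_eq hF j v.2 fun g hg => hv' g ⟨hUR hg.1, hg.2⟩
    have hc0 : c ≠ 0 := fun h => hne (Subtype.ext (by rw [hc, h, zero_smul]; rfl)).symm
    have he : app r (e j) = e j := by
      have h1 := hv' r hr
      rw [hc, app_smul] at h1
      exact smul_right_injective _ hc0 h1
    obtain ⟨a, t, h, haW, hr'⟩ := exists_q hF j hr.2 he
    have hq := qE_mem hF j haW h
    rw [show r = qE (e j) a t h * ((qE (e j) a t h)⁻¹ * r) by rw [mul_inv_cancel_left]]
    exact Subgroup.mul_mem _ hq.1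
      (ih (i + 1) (by omega) ⟨Subgroup.mul_mem _ (Subgroup.inv_mem _ (hUR hq.1)) hr.1, hr'⟩)

/-- The unipotent stabiliser of the flag is a Sylow subgroup. -/
theorem exists_sylow : ∃ P : Sylow p SUn, (P : Subgroup SUn) = U q e := by
  haveI := finite_field (F := F) (q := q)
  obtain ⟨P, hP⟩ := (isPGroup_U hF p).exists_le_sylow
  refine ⟨P, le_antisymm (fun g hg => ?_) hP⟩
  exact le_U_aux hF p P.2 hP m 0 (by omega) ⟨hg, fun l hl => absurd hl (by omega)⟩

end Cfsg.Agent.Fusion.PSUSimple
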