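import Cfsg.Agent.Lib.Fusion.PSUFlag

/-!
The fusion system of `PSU_n` in the defining characteristic is simple for `n ≥ 4`.
-/

set_option autoImplicit false
set_option linter.unusedSectionVars false
set_option linter.style.haveILetI false

namespace Cfsg.Agent.Fusion.PSUSimple

open Matrix Cfsg.Agent.AutPSU
open Cfsg.FusionSystem (centralizerIn normalizerIn)

universe u

variable {F : Type u} [Field F] {q : ℕ} [hQ : QField F q] {n m : ℕ}

local notation "σ" => qb (F := F) q
local notation "V" => Fin n → F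
set_option quotPrecheck false in
local notation "SUn" => ↥(Cfsg.SU n F q)
local notation "H" => Cfsg.hermForm n F q

include hQ

theorem qE_congr_point {x y a b : V} {t s : F} {h : IsQ q x a t} {h' : IsQ q y b s} (e₁ : x = y)
    (e₂ : a = b) (e₃ : t = s) : qE x a t h = qE y b s h' := by subst e₁ e₂ e₃; rfl

theorem qE_mem_qSub {x a : V} {t : F} (h : IsQ q x a t) : qE x a t h ∈ qSub x h.1 := ⟨a, t, h, rfl⟩

theorem tr_smul_point' {x : V} {c t : F} (h : IsT q (c • x) t) (h' : IsT q x (c * σ c * t)) :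
    tr (c • x) t h = tr x (c * σ c * t) h' := su_ext fun v => by
  show app _ v = app _ v
  simp only [tr_apply, H_smul_right]
  module

theorem qSub_normalizer {x : V} (hxx : H x x = 0) {g : SUn} (hg : app g x = x) :
    g ∈ Subgroup.normalizer ((qSub x hxx : Subgroup SUn) : Set SUn) := by
  haveI := finite_field (F := F) (q := q)
  refine mem_normalizer_of_forall ?_
  rintro _ ⟨a, t, h, rfl⟩
  rw [qE_conj]
  refine ⟨app g a, t, ?_, ?_⟩
  · have h1 := h.app g
    rwa [hg] at h1
  · simp only [hg]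

/-! ### The parameters met by an invariant subgroup -/

variable (q) in
/-- `a` is the parameter of an element of `T` in the radical of `x`. -/
def InP (T : Subgroup ↥(Cfsg.SU n F q)) (x a : Fin n → F) : Prop :=
  ∃ (t : F) (h : IsQ q x a t), qE x a t h ∈ T

theorem InP.add {T : Subgroup SUn} {x a b : V} (ha : InP q T x a) (hb : InP q T x b) :
    InP q T x (a + b) := by
  obtain ⟨t, h, hm⟩ := ha
  obtain ⟨s, h', hm'⟩ := hb
  exact ⟨_, h.add h', qE_mul h h' ▸ mul_mem hm hm'⟩

theorem InP.neg {T : Subgroup SUn} {x a : V} (ha : InP q T x a) : InP q T x (-a) := by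
  obtain ⟨t, h, hm⟩ := ha
  have h' : IsQ q x (-a) (σ t) := by
    refine ⟨h.1, by simp [h.2.1], ?_⟩
    simp only [qb_qb, H_neg_left, H_neg_right]
    linear_combination h.2.2
  refine ⟨σ t, h', ?_⟩
  have e : qE x a t h * qE x (-a) (σ t) h' = 1 := by
    rw [qE_mul, ← qE_one h.1]
    refine qE_congr (add_neg_cancel a) ?_
    rw [H_neg_left]
    linear_combination h.2.2
  rw [← inv_eq_of_mul_eq_one_right e]
  exact inv_mem hm

theorem InP.orbit {T : Subgroup SUn} {x a v : V}
    (hinv : ∀ g : SUn, app g x = x → ∀ (b : V) (s : F) (h : IsQ q x b s),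
      qE x b s h ∈ T → g * qE x b s h * g⁻¹ ∈ T)
    (ha : InP q T x a) (hvv : H v v = 0) (hvx : H v x = 0) {k : F} (hk : k + σ k = 0) :
    InP q T x ((k * H a v) • v) := by
  obtain ⟨t, h, hm⟩ := ha
  have hT : IsT q v k := ⟨hvv, hk⟩
  set g : SUn := tr v k hT with hg
  have hgx : app g x = x := by
    rw [hg, tr_apply, H_eq_zero_comm.1 hvx, mul_zero, zero_smul, add_zero]
  have hga : app g a = a + (k * H a v) • v := by rw [hg, tr_apply]
  have h1 := hinv g hgx a t h hm
  have h' : IsQ q x (a + (k * H a v) • v) t := by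
    have := h.app g
    rwa [hgx, hga] at this
  rw [qE_conj, qE_congr_point (h' := h') hgx hga rfl] at h1
  have h2 : InP q T x (a + (k * H a v) • v + -a) := InP.add ⟨t, h', h1⟩ (InP.neg ⟨t, h, hm⟩)
  rwa [add_comm a, add_neg_cancel_right] at h2

theorem InP.full {T : Subgroup SUn} {x a : V} (htr : ∀ (s : F) (h : IsT q x s), tr x s h ∈ T)
    (ha : InP q T x a) {t : F} (h : IsQ q x a t) : qE x a t h ∈ T := by
  obtain ⟨t', h', hm⟩ := ha
  have hT : IsT q x (t - t') := ⟨h.1, by
    rw [map_sub]
    linear_combination h.2.2 - h'.2.2⟩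
  have e : qE x a t h = tr x (t - t') hT * qE x a t' h' := by
    rw [tr, qE_mul]
    exact qE_congr (zero_add a).symm (by rw [H_zero_right]; ring)
  rw [e]
  exact mul_mem (htr _ _) hm

/-! ### Elements attached to two pairs -/

variable {e f : Fin m → Fin n → F} (hF : Frame q e f)

include hF

theorem exists_shear {i j : Fin m} (hij : i ≠ j) (c : F) (p : ℕ) [CharP F p] :
    ∃ g : SUn, g ^ p ^ 2 = 1 ∧
      (∀ l, app g (e l) = e l + (if l = j then -c else 0) • e i) ∧
      (∀ l, app g (f l) = f l + (if l = i then σ c else 0) • f j) := by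
  have h : IsQ q (e i) (σ c • f j) 0 :=
    ⟨hF.ee i i, by simp [hF.fe, Ne.symm hij], by simp [hF.ff]⟩
  refine ⟨qE (e i) _ 0 h, qE_pow_sq p h, fun l => ?_, fun l => ?_⟩
  · rw [qE_apply, hF.ee, H_smul_right, qb_qb, hF.ef]
    by_cases hl : l = j <;> simp [hl, sub_eq_add_neg]
  · rw [qE_apply, hF.fe, H_smul_right, hF.ff]
    by_cases hl : l = i <;> simp [hl]

omit hF in
/-- The pointwise stabiliser of the totally isotropic subspace of the frame. -/
def Lfix (e : Fin m → Fin n → F) : Subgroup ↥(Cfsg.SU n F q) where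
  carrier := {g | ∀ j, app g (e j) = e j}
  mul_mem' := fun {a b} ha hb j => by rw [app_mul, hb j, ha j]
  one_mem' := fun j => app_one _
  inv_mem' := fun {a} ha j => by
    conv_lhs => rw [← ha j]
    rw [app_inv]

omit hF in
theorem Lfix_normalizer {g : SUn}
    (h : ∀ j, app g (e j) ∈ Submodule.span F (Set.range e)) :
    g ∈ Subgroup.normalizer ((Lfix e : Subgroup SUn) : Set SUn) := by
  haveI := finite_field (F := F) (q := q)
  rw [← inv_inv g]
  refine inv_mem (mem_normalizer_of_forall fun x hx j => ?_)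
  have h1 : Submodule.span F (Set.range e) ≤ LinearMap.eqLocus (Matrix.mulVecLin
      ((x : Matrix.SpecialLinearGroup (Fin n) F) : Matrix (Fin n) (Fin n) F)) LinearMap.id :=
    Submodule.span_le.2 (by rintro _ ⟨l, rfl⟩; exact hx l)
  rw [inv_inv, app_mul, app_mul, show app x (app g (e j)) = app g (e j) from h1 (h j), app_inv]

theorem mem_normalizer_U {g : SUn} (c : Fin m → F) (h : ∀ j, app g (e j) = c j • e j) :
    g ∈ Subgroup.normalizer (U q e : Set SUn) := by
  haveI := finite_field (F := F) (q := q)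
  have hlow : ∀ {i : ℕ} {v : V}, v ∈ low e i → app g v ∈ low e i := fun hv =>
    map_low e (fun l hl => by rw [h]; exact Submodule.smul_mem _ _ (e_mem_low e hl)) hv
  have hc : ∀ j, c j ≠ 0 := fun j h0 =>
    hF.e_ne j (app_injective g (by rw [h, h0, zero_smul, app_zero]))
  refine mem_normalizer_of_forall fun u hu j => ?_
  have hi : app g⁻¹ (e j) = (c j)⁻¹ • e j := by
    refine app_injective g ?_
    simp only [app_inv', app_smul, h, smul_smul, inv_mul_cancel₀ (hc j), one_smul]
  rw [app_mul, app_mul, hi, app_smul, app_smul,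
    show (c j)⁻¹ • app g (app u (e j)) - e j = (c j)⁻¹ • app g (app u (e j) - e j) by
      rw [app_sub, smul_sub, h, smul_smul, inv_mul_cancel₀ (hc j), one_smul]]
  exact Submodule.smul_mem _ _ (hlow (hu j))

/-- An element taking `e i` to `e j`. -/
theorem exists_swap (i j : Fin m) : ∃ g : SUn, app g (e i) = e j := by
  by_cases hij : i = j
  · exact ⟨1, by rw [app_one, hij]⟩
  obtain ⟨p, hp⟩ := CharP.exists F
  obtain ⟨A, -, hA, -⟩ := exists_shear hF hij 1 p
  obtain ⟨C, -, hC, -⟩ := exists_shear hF (Ne.symm hij) (-1) p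
  refine ⟨A * C * A, ?_⟩
  rw [app_mul, app_mul, hA, if_neg hij, zero_smul, add_zero, hC, if_pos rfl, neg_neg, one_smul,
    app_add, hA, hA, if_neg hij, if_pos rfl]
  module

variable (p : ℕ) [Fact p.Prime] [CharP F p]

include p

/-- The torus element at two pairs. -/
theorem exists_pair {i j : Fin m} (hij : i ≠ j) {a : F} (ha : a ≠ 0) :
    ∃ g : SUn,
      (∀ l, app g (e l) = (if l = i then a else if l = j then a⁻¹ else 1) • e l) ∧
      (∀ l, app g (f l) = (if l = i then σ a⁻¹ else if l = j then σ a else 1) • f l) ∧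
      g ∈ localGen p (U q e) := by
  haveI := finite_field (F := F) (q := q)
  choose A hAp hAe hAf using fun c => exists_shear hF hij c p
  choose C hCp hCe hCf using fun c => exists_shear hF (Ne.symm hij) c p
  set M := A (-a) * C a⁻¹ * A (-a) * (A 1 * C (-1) * A 1) with hM
  have hAE : ∀ c α β : F, app (A c) (α • e i + β • e j) = (α - c * β) • e i + β • e j := by
    intro c α β
    rw [app_add, app_smul, app_smul, hAe, hAe, if_neg hij, if_pos rfl]
    module
  have hCE : ∀ c α β : F, app (C c) (α • e i + β • e j) = α • e i + (β - c * α) • e j := by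
    intro c α β
    rw [app_add, app_smul, app_smul, hCe, hCe, if_pos rfl, if_neg (Ne.symm hij)]
    module
  have hAF : ∀ c α β : F, app (A c) (α • f i + β • f j) = α • f i + (β + σ c * α) • f j := by
    intro c α β
    rw [app_add, app_smul, app_smul, hAf, hAf, if_pos rfl, if_neg (Ne.symm hij)]
    module
  have hCF : ∀ c α β : F, app (C c) (α • f i + β • f j) = (α + σ c * β) • f i + β • f j := by
    intro c α β
    rw [app_add, app_smul, app_smul, hCf, hCf, if_neg hij, if_pos rfl]
    module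
  have hσa : σ a ≠ 0 := (map_ne_zero (qb (F := F) q)).2 ha
  have keyE : ∀ α β : F, app M (α • e i + β • e j) = (a * α) • e i + (a⁻¹ * β) • e j := by
    intro α β
    simp only [hM, app_mul, hAE, hCE]
    congr 2
    · field_simp
      ring
    · field_simp
      ring
  have keyF : ∀ α β : F, app M (α • f i + β • f j) = (σ a⁻¹ * α) • f i + (σ a * β) • f j := by
    intro α β
    simp only [hM, app_mul, hAF, hCF, map_neg, map_one, map_inv₀]
    congr 2
    · field_simp
      ring
    · field_simp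
      ring
  have hMe : ∀ l, app M (e l) = (if l = i then a else if l = j then a⁻¹ else 1) • e l := by
    intro l
    by_cases hl : l = i
    · subst hl
      simpa using keyE 1 0
    by_cases hl1 : l = j
    · subst hl1
      simpa [hl] using keyE 0 1
    simp [hM, app_mul, hAe, hCe, hl, hl1]
  have hMf : ∀ l, app M (f l) = (if l = i then σ a⁻¹ else if l = j then σ a else 1) • f l := by
    intro l
    by_cases hl : l = i
    · subst hl
      simpa using keyF 1 0
    by_cases hl1 : l = j
    · subst hl1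
      simpa [hl] using keyF 0 1
    simp [hM, app_mul, hAf, hCf, hl, hl1]
  refine ⟨M, hMe, hMf, Or.inr ⟨mem_normalizer_U hF _ hMe, Lfix e, fun g hg l => ?_,
    fun s hs l => ?_, fun u hu => ?_, ?_⟩⟩
  · rw [hg l, sub_self]
    exact zero_mem _
  · obtain ⟨hsU, hsc⟩ := mem_centralizerIn.mp hs
    obtain ⟨k, hk0, hk⟩ := exists_skew (F := F) (q := q)
    have hT : IsT q (e l) k := ⟨hF.ee l l, hk⟩
    have hmem : tr (e l) k hT ∈ Lfix e := fun l' => by
      rw [tr_apply, hF.ee, mul_zero, zero_smul, add_zero]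
    have e1 := tr_conj s hT
    have hcomm : s * tr (e l) k hT = tr (e l) k hT * s := by
      first
        | exact hsc _ hmem
        | exact (hsc _ hmem).symm
    rw [hcomm, mul_inv_cancel_right] at e1
    obtain ⟨c, hc⟩ := tr_eq_tr (hF.e_ne l) hk0 e1
    have h2 := (low_orth hF (hsU l)).2.1 l le_rfl
    rw [hc] at h2
    simp [hF.ef] at h2
    rw [hc, show c = 1 by linear_combination h2, one_smul]
  · refine Lfix_normalizer fun l => ?_
    rw [show app u (e l) = (app u (e l) - e l) + e l by abel]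
    exact add_mem (Submodule.span_mono (Set.image_subset_range _ _) (hu l))
      (Submodule.subset_span ⟨l, rfl⟩)
  · have hsp : ∀ l, e l ∈ Submodule.span F (Set.range e) := fun l =>
      Submodule.subset_span ⟨l, rfl⟩
    have hx : ∀ c : F, A c ∈
        Subgroup.closure (pElts p (Subgroup.normalizer ((Lfix e : Subgroup SUn) : Set SUn))) := fun c =>
      Subgroup.subset_closure (show A c ∈ pElts p (Subgroup.normalizer ((Lfix e : Subgroup SUn) : Set SUn)) from
        ⟨Lfix_normalizer fun l => by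
          rw [hAe]; exact add_mem (hsp _) (Submodule.smul_mem _ _ (hsp _)), 2, hAp c⟩)
    have hy : ∀ c : F, C c ∈
        Subgroup.closure (pElts p (Subgroup.normalizer ((Lfix e : Subgroup SUn) : Set SUn))) := fun c =>
      Subgroup.subset_closure (show C c ∈ pElts p (Subgroup.normalizer ((Lfix e : Subgroup SUn) : Set SUn)) from
        ⟨Lfix_normalizer fun l => by
          rw [hCe]; exact add_mem (hsp _) (Submodule.smul_mem _ _ (hsp _)), 2, hCp c⟩)
    exact mul_mem (mul_mem (mul_mem (hx _) (hy _)) (hx _))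
      (mul_mem (mul_mem (hx _) (hy _)) (hx _))

/-! ### Strongly closed subgroups -/

theorem U_le_of_closed (hm : 2 ≤ m) (T : Subgroup SUn) (hTU : T ≤ U q e) (hT1 : T ≠ ⊥)
    (hcl : ∀ g : SUn, ∀ x ∈ T, g * x * g⁻¹ ∈ U q e → g * x * g⁻¹ ∈ T) : U q e ≤ T := by
  classical
  haveI := finite_field (F := F) (q := q)
  set i0 : Fin m := ⟨0, by omega⟩ with hi0
  set i1 : Fin m := ⟨1, by omega⟩ with hi1
  have h01 : i0 ≠ i1 := by simp [hi0, hi1]
  have hW0 : ∀ v, v ∈ W q e f i0.val := fun v l hl => absurd hl (by simp [hi0])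
  have hN : U q e ≤ Subgroup.normalizer (T : Set SUn) := fun g hg =>
    mem_normalizer_of_forall fun y hy => hcl g y hy
      (Subgroup.mul_mem _ (Subgroup.mul_mem _ hg (hTU hy)) (Subgroup.inv_mem _ hg))
  have hQU : ∀ {a : V} {t : F} (h : IsQ q (e i0) a t), qE (e i0) a t h ∈ U q e := fun h =>
    (qE_mem hF i0 (hW0 _) h).1
  have hinv : ∀ g : SUn, app g (e i0) = e i0 → ∀ (b : V) (s : F) (h : IsQ q (e i0) b s),
      qE (e i0) b s h ∈ T → g * qE (e i0) b s h * g⁻¹ ∈ T := by
    intro g hg b s h hm'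
    refine hcl g _ hm' ?_
    have h' : IsQ q (e i0) (app g b) s := by
      have := h.app g
      rwa [hg] at this
    rw [qE_conj, qE_congr_point (h' := h') hg rfl rfl]
    exact hQU h'
  -- a transvection
  have hne := inf_centralizer_ne_bot (isPGroup_U hF p) hTU hN hT1
  obtain ⟨z, hz, hz1⟩ := (Subgroup.bot_or_exists_ne_one _).resolve_left hne
  have hzc : ∀ u ∈ U q e, Commute z u := fun u hu =>
    (Subgroup.mem_centralizer_iff.mp hz.2 u hu).symm
  obtain ⟨t0, ht0, rfl⟩ := eq_tr_of_commute (hF.e_ne i0) (hF.ee i0 i0)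
    (fix_e hF i0 (hTU hz.1) (fun l hl => absurd hl (by simp [hi0])))
    (fun a t h => hzc _ (hQU h))
  have ht00 : t0 ≠ 0 := fun h => by subst h; exact hz1 (tr_zero ht0)
  have htr : ∀ (s : F) (h : IsT q (e i0) s), tr (e i0) s h ∈ T := by
    intro s h
    have hfix : σ (s / t0) = s / t0 := by
      rw [map_div₀, eq_neg_of_add_eq_zero_right h.2, eq_neg_of_add_eq_zero_right ht0.2, neg_div_neg_eq]
    obtain ⟨μ, hμ⟩ := exists_norm (F := F) (q := q) hfix
    by_cases hμ0 : μ = 0
    · have hs0 : s = 0 := by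
        rw [hμ0, zero_mul] at hμ
        exact ((div_eq_zero_iff.1 hμ.symm).resolve_right ht00)
      subst hs0
      rw [tr_zero]
      exact one_mem T
    obtain ⟨g, hge, -, -⟩ := exists_pair hF p h01 hμ0
    have hg0 : app g (e i0) = μ • e i0 := by rw [hge, if_pos rfl]
    have hs : μ * σ μ * t0 = s := by rw [hμ, div_mul_cancel₀ _ ht00]
    have h' : IsT q (μ • e i0) t0 := ht0.smul μ
    have h'' : IsT q (e i0) (μ * σ μ * t0) := by rw [hs]; exact h
    have h1 : g * tr (e i0) t0 ht0 * g⁻¹ = tr (e i0) s h := by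
      rw [tr_conj, tr_congr (h' := h') hg0 rfl, tr_smul_point' h' h'']
      exact tr_congr rfl hs
    rw [← h1]
    refine hcl g _ hz.1 ?_
    rw [h1]
    exact hQU h.isQ
  -- a non-central element
  obtain ⟨k, hk0, hk⟩ := exists_skew (F := F) (q := q)
  have hk' : IsT q (e i1) k := ⟨hF.ee _ _, hk⟩
  have hu : tr (e i1) k hk' ∈ T := by
    obtain ⟨g, hg⟩ := exists_swap hF i0 i1
    have h0 : IsT q (e i0) k := ⟨hF.ee _ _, hk⟩
    have h1 : g * tr (e i0) k h0 * g⁻¹ = tr (e i1) k hk' := by
      rw [tr_conj]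
      exact tr_congr hg rfl
    rw [← h1]
    exact hcl g _ (htr k h0) (h1 ▸ (tr_mem hF i1 hk').1)
  have hP1 : InP q T (e i0) (k • e i1) := by
    have hf1 : IsQ q (e i0) (f i1) 0 :=
      ⟨hF.ee _ _, by rw [hF.fe, if_neg (Ne.symm h01)], by simp [hF.ff]⟩
    have he1 : IsQ q (e i0) (k • e i1) (σ k) :=
      ⟨hF.ee _ _, by simp [hF.ee], by simp [hF.ee]; linear_combination hk⟩
    set s := qE (e i0) (f i1) 0 hf1 with hs
    have hqT : s * (tr (e i1) k hk')⁻¹ * s⁻¹ ∈ T :=
      (Subgroup.mem_normalizer_iff.mp (hN (hQU hf1)) _).1 (inv_mem hu)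
    have hmem := mul_mem hu hqT
    have h2 : qE (e i0) (k • e i1) (σ k) he1 * s =
        tr (e i1) k hk' * s * (tr (e i1) k hk')⁻¹ := by
      rw [hs, qE_conj, qE_mul]
      refine qE_congr_point ?_ ?_ ?_
      · rw [tr_apply, hF.ee, mul_zero, zero_smul, add_zero]
      · rw [tr_apply, hF.fe, if_pos rfl, mul_one, add_comm]
      · rw [H_smul_right, hF.fe, if_pos rfl]; ring
    rw [show tr (e i1) k hk' * (s * (tr (e i1) k hk')⁻¹ * s⁻¹) =
        (tr (e i1) k hk' * s * (tr (e i1) k hk')⁻¹) * s⁻¹ by group, ← h2,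
      mul_inv_cancel_right] at hmem
    exact ⟨_, he1, hmem⟩
  have hfe1 : H (f i1) (e i0) = 0 := by rw [hF.fe, if_neg (Ne.symm h01)]
  have hee1 : H (e i1) (e i0) = 0 := hF.ee _ _
  -- fixed scalars
  have hfix : ∀ (r lam : F), σ r = r → InP q T (e i0) (lam • e i1) →
      InP q T (e i0) ((r * lam) • e i1) := by
    intro r lam hr hl
    have h1 := hl.orbit hinv (hF.ff i1 i1) hfe1 hk
    rw [H_smul_left, hF.ef, if_pos rfl, mul_one] at h1
    have hk2 : r / k + σ (r / k) = 0 := by
      rw [map_div₀, hr, eq_neg_of_add_eq_zero_right hk, div_neg, add_neg_cancel]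
    have h2 := h1.orbit hinv (hF.ee i1 i1) hee1 hk2
    rw [H_smul_left, hF.fe, if_pos rfl, mul_one, ← mul_assoc, div_mul_cancel₀ _ hk0] at h2
    exact h2
  obtain ⟨ζ, hζ, hζ2⟩ := exists_norm_one_pow_ne (F := F) (q := q) (m := 2) two_pos
    (by have := two_le_q (F := F) (q := q); omega)
  set μ := 1 + σ ζ with hμdef
  have hσζ : σ ζ * ζ = 1 := by rw [mul_comm]; exact hζ
  have hμ1 : σ μ = ζ * μ := by
    rw [hμdef, map_add, map_one, qb_qb]
    linear_combination -hζ
  have hμ0 : μ ≠ 0 := fun h => by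
    rw [hμdef] at h
    have : σ ζ = -1 := eq_neg_of_add_eq_zero_right h
    rw [this] at hζ
    exact hζ2 (by linear_combination (1 - ζ) * hζ)
  have hzeta : ∀ lam : F, InP q T (e i0) (lam • e i1) →
      InP q T (e i0) ((ζ * lam) • e i1) := by
    rintro lam ⟨t, h, hm'⟩
    obtain ⟨g, hge, -, -⟩ := exists_pair hF p h01 hμ0
    have hg0 : app g (e i0) = μ • e i0 := by rw [hge, if_pos rfl]
    have hg1 : app g (lam • e i1) = (lam * μ⁻¹) • e i1 := by
      rw [app_smul, hge, if_neg (Ne.symm h01), if_pos rfl, smul_smul]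
    have h' : IsQ q (μ • e i0) ((lam * μ⁻¹) • e i1) t := by
      have := h.app g
      rwa [hg0, hg1] at this
    have h'' : IsQ q (e i0) ((ζ * lam) • e i1) (σ μ * σ (σ μ) * t) :=
      ⟨hF.ee _ _, by simp [hF.ee], by
        have h3 := h.2.2
        simp only [H_smul_left, H_smul_right, hF.ee, mul_zero, add_zero] at h3 ⊢
        simp only [map_mul, qb_qb]
        linear_combination (μ * σ μ) * h3⟩
    refine ⟨_, h'', ?_⟩
    have h1 : g * qE (e i0) (lam • e i1) t h * g⁻¹ = qE (e i0) _ _ h'' := by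
      rw [qE_conj, qE_congr_point (h' := h') hg0 hg1 rfl,
        qE_smul_point (c := μ) (h := by
          refine ⟨hF.ee _ _, ?_, ?_⟩
          · simp [hF.ee]
          · have h3 := h.2.2
            simp only [H_smul_left, H_smul_right, hF.ee, mul_zero, add_zero] at h3 ⊢
            exact h3) h']
      refine qE_congr ?_ rfl
      rw [smul_smul, hμ1]
      congr 1
      field_simp
    rw [← h1]
    exact hcl g _ hm' (h1 ▸ hQU h'')
  have hζne : ζ - σ ζ ≠ 0 := fun h => hζ2 (by
    rw [sub_eq_zero] at h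
    linear_combination hζ + ζ * h)
  have hPe : ∀ c : F, InP q T (e i0) (c • e i1) := by
    intro c
    set c' := c / k
    set β := (c' - σ c') / (ζ - σ ζ) with hβ
    have hβf : σ β = β := by
      rw [hβ, map_div₀, map_sub, map_sub, qb_qb, qb_qb, ← neg_div_neg_eq, neg_sub, neg_sub]
    have hαf : σ (c' - β * ζ) = c' - β * ζ := by
      rw [map_sub, map_mul, hβf]
      have : β * (ζ - σ ζ) = c' - σ c' := by rw [hβ, div_mul_cancel₀ _ hζne]
      linear_combination this
    have h1 := (hfix _ k hαf hP1).add (hzeta _ (hfix β k hβf hP1))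
    rw [← add_smul, show (c' - β * ζ) * k + ζ * (β * k) = c' * k by ring,
      show c' * k = c from div_mul_cancel₀ _ hk0] at h1
    exact h1
  have hPf : ∀ c : F, InP q T (e i0) (c • f i1) := by
    intro c
    have h1 := (hPe (c / k)).orbit hinv (hF.ff i1 i1) hfe1 hk
    rw [H_smul_left, hF.ef, if_pos rfl, mul_one, mul_div_cancel₀ _ hk0] at h1
    exact h1
  have hall : ∀ a : V, H a (e i0) = 0 → InP q T (e i0) a := by
    intro a ha
    set w := a - H a (f i0) • e i0 - H a (f i1) • e i1 - H a (e i1) • f i1 with hw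
    have hwe0 : H w (e i0) = 0 := by simp [hw, ha, hF.ee, hF.fe, Ne.symm h01]
    have hwe1 : H w (e i1) = 0 := by simp [hw, hF.ee, hF.fe]
    have hwf1 : H w (f i1) = 0 := by simp [hw, hF.ef, hF.ff, h01]
    obtain ⟨s, hs⟩ := exists_trace (F := F) (q := q) (c := - H w w)
      (by rw [map_neg, H_self_fixed])
    set v := e i1 + s • f i1 + w with hv
    have hvv : H v v = 0 := by
      simp only [hv, H_add_left, H_add_right, H_smul_left, H_smul_right, hF.ee, hF.ff, hF.ef,
        hF.fe, if_true, hwe1, hwf1, H_eq_zero_comm.1 hwe1, H_eq_zero_comm.1 hwf1]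
      linear_combination hs
    have hvx : H v (e i0) = 0 := by simp [hv, hee1, hfe1, hwe0]
    have h1 := (hPf k⁻¹).orbit hinv hvv hvx hk
    have hHv : H (k⁻¹ • f i1) v = k⁻¹ := by
      simp [hv, hF.fe, hF.ff, H_eq_zero_comm.1 hwf1]
    rw [hHv, mul_inv_cancel₀ hk0, one_smul] at h1
    have h2 := (h1.add (hPe (H a (f i1) - 1))).add (hPf (H a (e i1) - s))
    have h3 : InP q T (e i0) (H a (f i0) • e i0) := by
      have hQ : IsQ q (e i0) (H a (f i0) • e i0) 0 := ⟨hF.ee _ _, by simp [hF.ee], by simp [hF.ee]⟩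
      have hT : IsT q (e i0) (H a (f i0) - σ (H a (f i0))) := isT_smul_sub (hF.ee _ _) _
      refine ⟨0, hQ, ?_⟩
      rw [show qE (e i0) _ 0 hQ = tr (e i0) _ hT from su_ext fun x => by
        show app _ x = app _ x
        simp only [qE_apply, tr_apply, H_smul_right]
        module]
      exact htr _ _
    have h4 := h2.add h3
    rwa [show v + (H a (f i1) - 1) • e i1 + (H a (e i1) - s) • f i1 + H a (f i0) • e i0 = a by
      rw [hv, hw]; module] at h4
  have hroot : ∀ (i : Fin m) (a : V) (t : F) (h : IsQ q (e i) a t), a ∈ W q e f i.val →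
      qE (e i) a t h ∈ T := by
    intro i a t h haW
    obtain ⟨g, hg⟩ := exists_swap hF i0 i
    have hg' : app g⁻¹ (e i) = e i0 := by rw [← hg, app_inv]
    have h' : IsQ q (e i0) (app g⁻¹ a) t := by
      have := h.app g⁻¹
      rwa [hg'] at this
    have h1 : g * qE (e i0) _ t h' * g⁻¹ = qE (e i) a t h := by
      rw [qE_conj]
      exact qE_congr_point hg (app_inv' g a) rfl
    rw [← h1]
    exact hcl g _ ((hall _ h'.2.1).full htr h') (h1 ▸ (qE_mem hF i haW h).1)
  have hrec : ∀ k i : ℕ, m ≤ i + k → U q e ⊓ Gs q e f i ≤ T := by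
    intro k
    induction k with
    | zero =>
      intro i hi g hg
      rw [eq_one_of_top hF (by omega) hg.2]
      exact one_mem _
    | succ k ih =>
      intro i hi
      by_cases him : m ≤ i
      · exact ih i (by omega)
      intro g hg
      obtain ⟨a, t, h, haW, hr⟩ := exists_q hF ⟨i, by omega⟩ hg.2 (fix_e hF _ hg.1 hg.2)
      rw [show g = qE _ a t h * ((qE _ a t h)⁻¹ * g) by rw [mul_inv_cancel_left]]
      exact Subgroup.mul_mem _ (hroot _ a t h haW) (ih (i + 1) (by omega)
        ⟨Subgroup.mul_mem _ (Subgroup.inv_mem _ (qE_mem hF _ haW h).1) hg.1, hr⟩)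
  exact fun g hg => hrec m 0 (by omega) ⟨hg, fun l hl => absurd hl (by omega)⟩

/-! ### The last hyperbolic pair -/

omit p [Fact p.Prime] [CharP F p] in
/-- An element exchanging the two points of a pair. -/
theorem exists_exchange (i : Fin m) {a : V} {t : F} (ht : t ≠ 0) (h : IsQ q (e i) a t)
    (haf : H a (f i) = 0) :
    ∃ (a' a'' : V) (t' : F) (h' : IsQ q (f i) a' t') (h'' : IsQ q (f i) a'' t'),
      app (qE (f i) a'' t' h'' * qE (e i) a t h * qE (f i) a' t' h') (e i) = (σ t)⁻¹ • f i ∧
      app (qE (f i) a'' t' h'' * qE (e i) a t h * qE (f i) a' t' h') (f i) = t • e i ∧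
      (∀ v, H v (e i) = 0 → H v (f i) = 0 → H v a = 0 →
        app (qE (f i) a'' t' h'' * qE (e i) a t h * qE (f i) a' t' h') v = v) ∧
      (∀ v, H v a = 0 → H v a' = 0 ∧ H v a'' = 0) := by
  have hs : σ t ≠ 0 := (map_ne_zero (qb (F := F) q)).2 ht
  have hea : H (e i) a = 0 := H_eq_zero_comm.1 h.2.1
  have hfa : H (f i) a = 0 := H_eq_zero_comm.1 haf
  have haa : H a a = -(t + σ t) := by linear_combination h.2.2
  have hee : H (e i) (e i) = 0 := hF.ee i i
  have hff : H (f i) (f i) = 0 := hF.ff i i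
  have hfe : H (f i) (e i) = 1 := by rw [hF.fe, if_pos rfl]
  have hef : H (e i) (f i) = 1 := by rw [hF.ef, if_pos rfl]
  have h' : IsQ q (f i) ((-(σ t)⁻¹) • a) (σ t)⁻¹ := by
    refine ⟨hff, by simp [haf], ?_⟩
    simp only [map_inv₀, map_neg, qb_qb, H_smul_left, H_smul_right, haa]
    field_simp
    ring
  have h'' : IsQ q (f i) ((-t⁻¹) • a) (σ t)⁻¹ := by
    refine ⟨hff, by simp [haf], ?_⟩
    simp only [map_inv₀, map_neg, qb_qb, H_smul_left, H_smul_right, haa]
    field_simp
    ring
  refine ⟨_, _, _, h', h'', ?_, ?_, fun v hve hvf hva => ?_, fun v hva => ?_⟩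
  · simp only [app_mul, qE_apply, H_add_left, H_sub_left, H_smul_left, H_smul_right, map_neg,
      map_inv₀, qb_qb, hee, hff, hfe, hef, hea, hfa, haf, h.2.1, haa]
    match_scalars <;> field_simp <;> ring
  · simp only [app_mul, qE_apply, H_add_left, H_sub_left, H_smul_left, H_smul_right, map_neg,
      map_inv₀, qb_qb, hee, hff, hfe, hef, hea, hfa, haf, h.2.1, haa]
    match_scalars <;> field_simp <;> ring
  · simp only [app_mul, qE_apply, H_smul_right, hve, hvf, hva, zero_smul, mul_zero, add_zero,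
      sub_zero]
  · exact ⟨by rw [H_smul_right, hva, mul_zero], by rw [H_smul_right, hva, mul_zero]⟩

/-- A torus element at a pair other than the first. -/
theorem exists_torus (hm : 2 ≤ m) (i : Fin m) (hi : i.val ≠ 0) {a : V} {t : F} (ht : t ≠ 0)
    (haW : a ∈ W q e f m) (h : IsQ q (e i) a t) {t0 : F} (ht0 : t0 ≠ 0)
    (ht0s : t0 + σ t0 = 0) :
    ∃ g : SUn, app g (e i) = (t * (σ t0)⁻¹) • e i ∧
      (∀ l, l ≠ i → app g (e l) = e l ∧ app g (f l) = f l) ∧
      g ∈ localGen p (U q e) := by
  haveI := finite_field (F := F) (q := q)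
  set i0 : Fin m := ⟨0, by omega⟩ with hi0
  have hne : i ≠ i0 := fun h' => hi (by rw [h'])
  have h0 : IsQ q (e i) 0 t0 := ⟨hF.ee i i, by simp, by simpa using ht0s⟩
  obtain ⟨a1, a1', t1, h1, h1', he1, hf1, hv1, ho1⟩ :=
    exists_exchange hF i ht h (haW i i.2).2
  obtain ⟨a2, a2', t2, h2, h2', he2, hf2, hv2, ho2⟩ :=
    exists_exchange hF i ht0 h0 (H_zero_left _)
  set N1 := qE (f i) a1' t1 h1' * qE (e i) a t h * qE (f i) a1 t1 h1
  set N2 := qE (f i) a2' t2 h2' * qE (e i) 0 t0 h0 * qE (f i) a2 t2 h2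
  have hge : app (N1 * N2) (e i) = (t * (σ t0)⁻¹) • e i := by
    rw [app_mul, he2, app_smul, hf1, smul_smul, mul_comm]
  have hgl : ∀ l, l ≠ i → app (N1 * N2) (e l) = e l ∧ app (N1 * N2) (f l) = f l := by
    intro l hl
    have hea : H (e l) a = 0 := H_eq_zero_comm.1 (haW l l.2).1
    have hfa : H (f l) a = 0 := H_eq_zero_comm.1 (haW l l.2).2
    constructor
    · rw [app_mul, hv2 _ (hF.ee l i) (by rw [hF.ef, if_neg hl]) (H_zero_right _),
        hv1 _ (hF.ee l i) (by rw [hF.ef, if_neg hl]) hea]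
    · rw [app_mul, hv2 _ (by rw [hF.fe, if_neg hl]) (hF.ff l i) (H_zero_right _),
        hv1 _ (by rw [hF.fe, if_neg hl]) (hF.ff l i) hfa]
  refine ⟨N1 * N2, hge, hgl, Or.inr ⟨?_, qSub (e i0) (hF.ee _ _), ?_, fun s hs => ?_,
    fun u hu => ?_, ?_⟩⟩
  · refine mem_normalizer_U hF (fun l => if l = i then t * (σ t0)⁻¹ else 1) fun l => ?_
    by_cases hl : l = i
    · rw [hl, if_pos rfl, hge]
    · rw [if_neg hl, one_smul, (hgl l hl).1]
  · rintro _ ⟨b, s, hb, rfl⟩
    exact (qE_mem hF i0 (fun l hl => absurd hl (by simp [hi0])) hb).1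
  · obtain ⟨hsU, hsc⟩ := mem_centralizerIn.mp hs
    obtain ⟨r, hr, rfl⟩ := eq_tr_of_commute (hF.e_ne i0) (hF.ee i0 i0)
      (fix_e hF i0 hsU (fun l hl => absurd hl (by simp [hi0])))
      (fun c r hc => by
        first
          | exact (hsc _ (qE_mem_qSub hc))
          | exact (hsc _ (qE_mem_qSub hc)).symm)
    exact qE_mem_qSub hr.isQ
  · exact qSub_normalizer _ (fix_e hF i0 hu (fun l hl => absurd hl (by simp [hi0])))
  · have hfix : ∀ (x b : V) (s : F) (hb : IsQ q x b s), H (e i0) x = 0 → H (e i0) b = 0 →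
        qE x b s hb ∈
          Subgroup.closure (pElts p (Subgroup.normalizer ((qSub (e i0) (hF.ee _ _) : Subgroup SUn) : Set SUn))) :=
      fun x b s hb hx hb' => Subgroup.subset_closure ⟨qSub_normalizer _ (by
        rw [qE_apply, hx, hb', zero_smul, zero_smul, mul_zero, zero_smul, add_zero, sub_zero,
          add_zero]), 2, qE_pow_sq p hb⟩
    have hx0 : H (e i0) (e i) = 0 := hF.ee _ _
    have hy0 : H (e i0) (f i) = 0 := by rw [hF.ef, if_neg (Ne.symm hne)]
    have ha0 : H (e i0) a = 0 := H_eq_zero_comm.1 (haW i0 i0.2).1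
    exact mul_mem
      (mul_mem (mul_mem (hfix _ _ _ h1' hy0 (ho1 _ ha0).2) (hfix _ _ _ h hx0 ha0))
        (hfix _ _ _ h1 hy0 (ho1 _ ha0).1))
      (mul_mem (mul_mem (hfix _ _ _ h2' hy0 (ho2 _ (H_zero_right _)).2)
        (hfix _ _ _ h0 hx0 (H_zero_right _))) (hfix _ _ _ h2 hy0 (ho2 _ (H_zero_right _)).1))

omit p [Fact p.Prime] [CharP F p] in
/-- Without an anisotropic kernel the last eigenvalue lies in the fixed field. -/
theorem fixed_of_no_kernel (i : Fin m) (hi : i.val + 1 = m)
    (h0 : ∀ v ∈ W q e f m, v = 0) {g : SUn} (hg : g ∈ Gs q e f i.val) {c : F} (hc : c ≠ 0)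
    (hge : app g (e i) = c • e i) : σ c = c := by
  have hp : HPair q (e i) (f i) := ⟨hF.ee i i, hF.ff i i, by rw [hF.ef, if_pos rfl]⟩
  have hcs : σ c ≠ 0 := (map_ne_zero (qb (F := F) q)).2 hc
  set f' := σ c • app g (f i) with hf'
  have hf'e : H f' (e i) = 1 := by
    have h1 := app_H g (f i) (e i)
    rw [hge, H_smul_right, hF.fe, if_pos rfl] at h1
    rw [hf', H_smul_left, h1]
  have hf'f : H f' f' = 0 := by rw [hf', H_smul_left, H_smul_right, app_H, hF.ff]; simp
  set a := f' - f i with ha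
  have haW : a ∈ W q e f i.val :=
    sub_mem (Submodule.smul_mem _ _ (map_W hF hg (f_mem_W hF le_rfl))) (f_mem_W hF le_rfl)
  have hQa : IsQ q (e i) a (H (f i) a) := by
    refine ⟨hF.ee i i, by rw [ha, H_sub_left, hf'e, hF.fe, if_pos rfl, sub_self], ?_⟩
    have h1 := hf'f
    rw [show f' = f i + a by rw [ha]; abel] at h1
    simp only [H_add_left, H_add_right, hF.ff] at h1
    rw [H_flip]
    linear_combination h1
  set s := qE (e i) a _ hQa with hs
  have hsG := (qE_mem hF i haW hQa).2
  have hse : app s (e i) = e i := by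
    rw [hs, qE_apply, hF.ee, H_eq_zero_comm.1 hQa.2.1]; simp
  have hsf : app s (f i) = f' := by
    rw [hs, qE_apply, hF.fe, if_pos rfl, ha]
    module
  set r := s⁻¹ * g with hr
  have hre : app r (e i) = c • e i := by
    rw [hr, app_mul, hge, app_smul]
    nth_rewrite 1 [← hse]
    rw [app_inv]
  have hrf : app r (f i) = (σ c)⁻¹ • f i := by
    rw [hr, app_mul, show app g (f i) = (σ c)⁻¹ • f' by
      rw [hf', smul_smul, inv_mul_cancel₀ hcs, one_smul], app_smul, ← hsf, app_inv]
  have hrG : r ∈ Gs q e f i.val := mul_mem (inv_mem hsG) hg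
  have hL : ∀ v, hypLin q (e i) (f i) c v = app r v := by
    intro v
    obtain ⟨w, hw⟩ : ∃ w, app r w = hypLin q (e i) (f i) c v := ⟨_, app_inv' r _⟩
    have hLi : hypLin q (e i) (f i) c (e i) = c • e i := by
      rw [hypLin_apply hp, hp.ef, hp.ee]; module
    have hLf : hypLin q (e i) (f i) c (f i) = (σ c)⁻¹ • f i := by
      rw [hypLin_apply hp, hp.fe, hp.ff]; module
    have hLl : ∀ x, H x (e i) = 0 → H x (f i) = 0 → hypLin q (e i) (f i) c x = x := by
      intro x hx1 hx2
      rw [hypLin_apply hp, hx1, hx2]; simp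
    have hbot : w - v = 0 := h0 _ fun l _ => by
      by_cases hl : l = i
      · subst hl
        constructor
        · rw [H_sub_left, ← app_H r, hw, hre, ← hLi, hypLin_pres hp hc, sub_self]
        · rw [H_sub_left, ← app_H r, hw, hrf, ← hLf, hypLin_pres hp hc, sub_self]
      · have hlt : l.val < i.val := by
          have := l.2
          have : l.val ≠ i.val := fun h => hl (Fin.ext h)
          omega
        constructor
        · rw [H_sub_left, ← app_H r, hw, (hrG l hlt).1,
            ← hLl (e l) (hF.ee l i) (by rw [hF.ef, if_neg hl]), hypLin_pres hp hc,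
            hLl (e l) (hF.ee l i) (by rw [hF.ef, if_neg hl]), sub_self]
        · rw [H_sub_left, ← app_H r, hw, (hrG l hlt).2,
            ← hLl (f l) (by rw [hF.fe, if_neg hl]) (hF.ff l i), hypLin_pres hp hc,
            hLl (f l) (by rw [hF.fe, if_neg hl]) (hF.ff l i), sub_self]
    rw [← hw, sub_eq_zero.1 hbot]
  have hdet := hypLin_det hp c
  rw [show hypLin q (e i) (f i) c =
      Matrix.toLin' ((r : Matrix.SpecialLinearGroup (Fin n) F) : Matrix (Fin n) (Fin n) F) from
    LinearMap.ext fun v => by rw [hL]; simp [app, Matrix.toLin'_apply],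
    LinearMap.det_toLin', (r : Matrix.SpecialLinearGroup (Fin n) F).2] at hdet
  rw [eq_mul_inv_iff_mul_eq₀ hcs, one_mul] at hdet
  exact hdet

/-! ### The normaliser -/

theorem normalizer_le (hm : 2 ≤ m) : Subgroup.normalizer (U q e : Set SUn) ≤
    Subgroup.closure (localGen p (U q e)) := by
  classical
  haveI := finite_field (F := F) (q := q)
  have hall : ∀ k i : ℕ, m ≤ i + k →
      Subgroup.normalizer (U q e : Set SUn) ⊓ Gs q e f i ≤
        Subgroup.closure (localGen p (U q e)) := by
    intro k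
    induction k with
    | zero =>
      intro i hi g hg
      rw [eq_one_of_top hF (by omega) hg.2]
      exact one_mem _
    | succ k ih =>
      intro i hi
      by_cases him : m ≤ i
      · exact ih i (by omega)
      intro g hg
      set j : Fin m := ⟨i, by omega⟩ with hj
      have hfix : ∀ u ∈ U q e ⊓ Gs q e f j.val, app u (app g (e j)) = app g (e j) := by
        intro u hu
        have hmem : g⁻¹ * u * g ∈ U q e := by
          have h1 := (Subgroup.mem_normalizer_iff.mp (inv_mem hg.1) u).1 hu.1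
          rwa [inv_inv] at h1
        have h2 := fix_e hF j hmem (mul_mem (mul_mem (inv_mem hg.2) hu.2) hg.2)
        rw [app_mul, app_mul] at h2
        have h3 := congrArg (app g) h2
        rwa [app_inv'] at h3
      obtain ⟨c, hc⟩ := fixed_eq hF j (map_W hF hg.2 (e_mem_W hF le_rfl)) hfix
      have hc0 : c ≠ 0 := fun h =>
        hF.e_ne j (app_injective g (by rw [hc, h, zero_smul, app_zero]))
      have hh : ∃ h : SUn, app h (e j) = c⁻¹ • e j ∧ h ∈ Gs q e f i ∧
          h ∈ Subgroup.normalizer (U q e : Set SUn) ∧ h ∈ localGen p (U q e) := by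
        by_cases hlast : i + 1 < m
        · set j' : Fin m := ⟨i + 1, hlast⟩ with hj'
          have hne : j ≠ j' := by simp [hj, hj']
          obtain ⟨M, hMe, hMf, hMg⟩ := exists_pair hF p hne (inv_ne_zero hc0)
          refine ⟨M, by rw [hMe, if_pos rfl], fun l hl => ?_, mem_normalizer_U hF _ hMe, hMg⟩
          have h1 : l ≠ j := fun h => by rw [h, hj] at hl; exact lt_irrefl i hl
          have h2 : l ≠ j' := fun h => by rw [h, hj'] at hl; simp only at hl; omega
          constructor
          · rw [hMe, if_neg h1, if_neg h2, one_smul]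
          · rw [hMf, if_neg h1, if_neg h2, one_smul]
        · obtain ⟨t0, ht0, ht0s⟩ := exists_skew (F := F) (q := q)
          set t := c⁻¹ * σ t0 with ht
          have hts : σ t0 ≠ 0 := (map_ne_zero (qb (F := F) q)).2 ht0
          have htne : t ≠ 0 := mul_ne_zero (inv_ne_zero hc0) hts
          have ha : ∃ a : V, a ∈ W q e f m ∧ IsQ q (e j) a t := by
            by_cases hw : ∃ w ∈ W q e f m, w ≠ 0
            · obtain ⟨w, hw, hw0⟩ := hw
              have hww : H w w ≠ 0 := fun h => hw0 (hF.aniso w (fun l => (hw l l.2).1)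
                (fun l => (hw l l.2).2) h)
              obtain ⟨α, hα⟩ := exists_norm (F := F) (q := q) (c := -(t + σ t) / H w w)
                (by rw [map_div₀, map_neg, map_add, qb_qb, H_self_fixed, add_comm])
              refine ⟨α • w, Submodule.smul_mem _ _ hw, hF.ee j j, ?_, ?_⟩
              · rw [H_smul_left, (hw j j.2).1, mul_zero]
              · rw [H_smul_left, H_smul_right, ← mul_assoc, hα, div_mul_cancel₀ _ hww]
                ring
            · push Not at hw
              have hcf := fixed_of_no_kernel hF j (by simp [hj]; omega) hw hg.2 hc0 hc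
              refine ⟨0, zero_mem _, hF.ee j j, H_zero_left _, ?_⟩
              rw [ht, map_mul, map_inv₀, qb_qb, hcf, H_zero_left]
              linear_combination c⁻¹ * ht0s
          obtain ⟨a, haW, hQa⟩ := ha
          obtain ⟨h, he, hl, hgen⟩ :=
            exists_torus hF p hm j (by simp [hj]; omega) htne haW hQa ht0 ht0s
          refine ⟨h, by rw [he, ht, mul_assoc, mul_inv_cancel₀ hts, mul_one], fun l hl' => ?_,
            ?_, hgen⟩
          · exact hl l fun h' => by rw [h', hj] at hl'; exact lt_irrefl i hl'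
          · refine mem_normalizer_U hF (fun l => if l = j then t * (σ t0)⁻¹ else 1) fun l => ?_
            by_cases hlj : l = j
            · rw [hlj, if_pos rfl, he]
            · rw [if_neg hlj, one_smul, (hl l hlj).1]
      obtain ⟨h, he, hhG, hhN, hhgen⟩ := hh
      have hfix' : app (h * g) (e j) = e j := by
        rw [app_mul, hc, app_smul, he, smul_smul, mul_inv_cancel₀ hc0, one_smul]
      obtain ⟨a, t, hQa, haW, hr⟩ := exists_q hF j (mul_mem hhG hg.2) hfix'
      have hq := (qE_mem hF j haW hQa).1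
      rw [show g = h⁻¹ * (qE _ a t hQa * ((qE _ a t hQa)⁻¹ * (h * g))) by group]
      refine mul_mem (inv_mem (Subgroup.subset_closure hhgen))
        (mul_mem (Subgroup.subset_closure (Or.inl hq)) (ih (i + 1) (by omega) ⟨?_, hr⟩))
      exact Subgroup.mul_mem _ (Subgroup.inv_mem _ (Subgroup.le_normalizer hq))
        (Subgroup.mul_mem _ hhN hg.1)
  exact fun g hg => hall m 0 (by omega) ⟨hg, fun l hl => absurd hl (by omega)⟩

omit hF p [Fact p.Prime] [CharP F p] in
theorem exists_frame : ∃ e f : Fin (n / 2) → V, Frame q e f := by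
  classical
  obtain ⟨a, ha⟩ := exists_norm (F := F) (q := q) (c := -1) (by rw [map_neg, map_one])
  obtain ⟨ζ, hζ, hζ1⟩ := exists_norm_one_pow_ne (F := F) (q := q) (m := 1) one_pos
    (by have := two_le_q (F := F) (q := q); omega)
  rw [pow_one] at hζ1
  have hζ' : 1 - ζ ≠ 0 := sub_ne_zero.2 (Ne.symm hζ1)
  have hσζ' : 1 - σ ζ ≠ 0 := fun h => hζ' (by
    have := congrArg σ h
    rwa [map_sub, map_one, qb_qb, map_zero] at this)
  have ha0 : a ≠ 0 := fun h => by rw [h, zero_mul] at ha; exact one_ne_zero (neg_eq_zero.1 ha.symm)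
  have hσa0 : σ a ≠ 0 := (map_ne_zero (qb (F := F) q)).2 ha0
  set d := (1 - ζ)⁻¹ with hd
  let j0 : Fin (n / 2) → Fin n := fun k => ⟨2 * k.val, by have := k.2; omega⟩
  let j1 : Fin (n / 2) → Fin n := fun k => ⟨2 * k.val + 1, by have := k.2; omega⟩
  have h00 : ∀ k l, j0 k = j0 l ↔ k = l := fun k l => by simp [j0, Fin.ext_iff]
  have h11 : ∀ k l, j1 k = j1 l ↔ k = l := fun k l => by simp [j1, Fin.ext_iff]
  have h01 : ∀ k l, j0 k ≠ j1 l := fun k l => by simp [j0, j1, Fin.ext_iff]; omega
  have h10 : ∀ k l, j1 k ≠ j0 l := fun k l => Ne.symm (h01 l k)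
  have hε : ∀ (v : V) (k : Fin n), H v (Pi.single k 1) = v k := fun v k => by
    rw [H_eq, Finset.sum_eq_single k (by intro b _ hb; simp [hb]) (by simp)]
    simp
  set e : Fin (n / 2) → V := fun k => Pi.single (j0 k) 1 + a • Pi.single (j1 k) 1 with he
  set f : Fin (n / 2) → V := fun k => d • (Pi.single (j0 k) 1 + (a * ζ) • Pi.single (j1 k) 1)
    with hf
  have hHe : ∀ v k, H v (e k) = v (j0 k) + σ a * v (j1 k) := fun v k => by
    simp [he, hε]
  have hHf : ∀ v k, H v (f k) = σ d * (v (j0 k) + σ a * σ ζ * v (j1 k)) := fun v k => by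
    simp [hf, hε]
    ring
  have hzero : ∀ v, (∀ k, H v (e k) = 0) → (∀ k, H v (f k) = 0) →
      ∀ l : Fin n, l.val < 2 * (n / 2) → v l = 0 := by
    intro v hve hvf l hl
    have key : ∀ k, v (j0 k) = 0 ∧ v (j1 k) = 0 := by
      intro k
      have e1 := hve k
      have e2 := hvf k
      rw [hHe] at e1
      rw [hHf, mul_eq_zero] at e2
      have e2' := e2.resolve_left ((map_ne_zero (qb (F := F) q)).2 (inv_ne_zero hζ'))
      have h1 : (σ a * (1 - σ ζ)) * v (j1 k) = 0 := by linear_combination e1 - e2'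
      have h2 := (mul_eq_zero.1 h1).resolve_left (mul_ne_zero hσa0 hσζ')
      exact ⟨by rw [h2, mul_zero, add_zero] at e1; exact e1, h2⟩
    obtain ⟨r, hr⟩ | ⟨r, hr⟩ := Nat.even_or_odd' l.val |>.elim fun r hr => hr.imp
      (fun h => (⟨r, h⟩ : ∃ r, l.val = 2 * r)) (fun h => (⟨r, h⟩ : ∃ r, l.val = 2 * r + 1))
    · rw [show l = j0 ⟨r, by omega⟩ from Fin.ext hr]
      exact (key _).1
    · rw [show l = j1 ⟨r, by omega⟩ from Fin.ext hr]
      exact (key _).2
  have huniq : ∀ l l' : Fin n, 2 * (n / 2) ≤ l.val → 2 * (n / 2) ≤ l'.val → l = l' := fun l l' h h' =>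
    Fin.ext (by have := l.2; have := l'.2; omega)
  refine ⟨e, f, ⟨fun j k => ?_, fun j k => ?_, fun j k => ?_, fun v hve hvf hvv => ?_,
    fun g hge hgf => ?_⟩⟩
  · rw [hHe]
    by_cases h : j = k
    · subst h
      simp [he, h00, h11, h01, h10]
      linear_combination ha
    · simp [he, h00, h11, h01, h10, Ne.symm h]
  · rw [hHf]
    by_cases h : j = k
    · subst h
      simp [hf, h00, h11, h01, h10]
      right
      linear_combination d * (ζ * σ ζ) * ha - d * hζ
    · simp [hf, h00, h11, h01, h10, Ne.symm h]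
  · rw [hHe]
    by_cases h : j = k
    · subst h
      simp [hf, h00, h11, h01, h10, hd]
      field_simp
      linear_combination ζ * ha
    · simp [hf, h00, h11, h01, h10, h, Ne.symm h]
  · funext l
    by_cases hl : l.val < 2 * (n / 2)
    · exact hzero v hve hvf l hl
    rw [H_eq, Finset.sum_eq_single l (fun b _ hb => by
      rw [hzero v hve hvf b (by
        by_contra hb'
        exact hb (huniq _ _ (not_lt.1 hb') (not_lt.1 hl))), zero_mul]) (by simp)] at hvv
    rcases mul_eq_zero.1 hvv with h | h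
    · exact h
    · exact (map_eq_zero σ).1 h
  · have hfix : ∀ l : Fin n, l.val < 2 * (n / 2) → app g (Pi.single l 1) = Pi.single l 1 := by
      have key : ∀ k, app g (Pi.single (j0 k) 1) = Pi.single (j0 k) 1 ∧
          app g (Pi.single (j1 k) 1) = Pi.single (j1 k) 1 := by
        intro k
        have h1 : (Pi.single (j1 k) 1 : V) = (a⁻¹ * (1 - ζ)⁻¹) • (e k - (1 - ζ) • f k) := by
          simp only [he, hf, hd]
          match_scalars <;> field_simp <;> ring
        have h2 : (Pi.single (j0 k) 1 : V) = e k - a • Pi.single (j1 k) 1 := by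
          simp only [he]; module
        have h3 : app g (Pi.single (j1 k) 1) = Pi.single (j1 k) 1 := by
          rw [h1, app_smul, app_sub, app_smul, hge, hgf]
        exact ⟨by rw [h2, app_sub, app_smul, hge, h3], h3⟩
      intro l hl
      obtain ⟨r, hr⟩ | ⟨r, hr⟩ := Nat.even_or_odd' l.val |>.elim fun r hr => hr.imp
        (fun h => (⟨r, h⟩ : ∃ r, l.val = 2 * r)) (fun h => (⟨r, h⟩ : ∃ r, l.val = 2 * r + 1))
      · rw [show l = j0 ⟨r, by omega⟩ from Fin.ext hr]
        exact (key _).1
      · rw [show l = j1 ⟨r, by omega⟩ from Fin.ext hr]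
        exact (key _).2
    set M := ((g : Matrix.SpecialLinearGroup (Fin n) F) : Matrix (Fin n) (Fin n) F) with hM
    have hcol : ∀ l i, M i l = (app g (Pi.single l 1)) i := fun l i => by
      simp [app, hM, Matrix.mulVec_single]
    have hoff : ∀ i l, i ≠ l → M i l = 0 := by
      intro i l hil
      rw [hcol]
      by_cases hl : l.val < 2 * (n / 2)
      · rw [hfix l hl, Pi.single_eq_of_ne hil]
      · have hi : i.val < 2 * (n / 2) := by
          by_contra hi
          exact hil (huniq _ _ (not_lt.1 hi) (not_lt.1 hl))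
        rw [← hε (app g (Pi.single l 1)) i, ← hfix i hi, app_H, hε, Pi.single_eq_of_ne hil]
    have hdiag : M = Matrix.diagonal fun i => M i i := by
      ext i l
      by_cases h : i = l
      · subst h; simp
      · rw [hoff i l h, Matrix.diagonal_apply_ne _ h]
    have hlow : ∀ l : Fin n, l.val < 2 * (n / 2) → M l l = 1 := fun l hl => by
      rw [hcol, hfix l hl, Pi.single_eq_same]
    have hall : ∀ l, M l l = 1 := by
      intro l
      by_cases hl : l.val < 2 * (n / 2)
      · exact hlow l hl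
      have h1 : M.det = 1 := (g : Matrix.SpecialLinearGroup (Fin n) F).2
      rw [hdiag, Matrix.det_diagonal, Finset.prod_eq_single l] at h1
      · exact h1
      · intro b _ hb
        exact hlow b (by
          by_contra hb'
          exact hb (huniq _ _ (not_lt.1 hb') (not_lt.1 hl)))
      · simp
    apply Subtype.ext
    apply Subtype.ext
    show M = 1
    rw [hdiag, ← Matrix.diagonal_one]
    exact congrArg Matrix.diagonal (funext hall)

omit hF in
theorem isSimple (hn : 4 ≤ n) (S : Sylow p (Cfsg.PSU n F q)) :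
    (groupFusionSystem (S : Subgroup (Cfsg.PSU n F q))).IsSimple p := by
  haveI := finite_field (F := F) (q := q)
  haveI : Finite (Cfsg.PSU n F q) := Finite.of_surjective _ (proj_surjective (n := n) (F := F) (q := q))
  obtain ⟨e, f, hF⟩ := exists_frame (F := F) (q := q) (n := n)
  obtain ⟨P, hP⟩ := exists_sylow hF p
  refine isSimple_gfs_of_cover (proj n F q) proj_surjective
    (fun s t k l hs ht h => eq_of_proj_eq p (by omega) hs ht h) P S ?_ ?_ ?_
  · rw [hP]
    intro h
    obtain ⟨k, hk0, hk⟩ := exists_skew (F := F) (q := q)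
    have hT : IsT q (e ⟨0, by omega⟩) k := ⟨hF.ee _ _, hk⟩
    have h1 := (tr_mem hF _ hT).1
    rw [h] at h1
    exact tr_ne_one (hF.e_ne _) hT hk0 (Subgroup.mem_bot.1 h1)
  · rw [hP]
    exact U_le_of_closed hF p (by omega)
  · rw [hP]
    exact normalizer_le hF p (by omega)

end Cfsg.Agent.Fusion.PSUSimple
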