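import Cfsg.Agent.Lib.AutPSp.Centre
import Cfsg.Agent.Lib.AutPSp.Geometry
import Cfsg.Agent.Lib.Fusion.CoverSimple

/-!
A Sylow subgroup of `Sp_{2m}` in the defining characteristic, as the group attached to a flag of
isotropic subspaces.
-/

set_option autoImplicit false
set_option linter.unusedSectionVars false
set_option linter.style.haveILetI false

namespace Cfsg.Agent.Fusion.PSpSimple

open Matrix Cfsg.Agent.FormsLib Cfsg.Agent.AutPSp

universe u

variable {m : ℕ} {F : Type u} [Field F]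

local notation "V" => Fin m ⊕ Fin m → F
local notation "Sp" => Matrix.symplecticGroup (Fin m) F
local notation "Mat" => Matrix (Fin m ⊕ Fin m) (Fin m ⊕ Fin m) F
local notation "B" => spB m F

/-- A symplectic frame. -/
structure Frame (e f : Fin m → Fin m ⊕ Fin m → F) : Prop where
  ee : ∀ j k, spB m F (e j) (e k) = 0
  ff : ∀ j k, spB m F (f j) (f k) = 0
  fe : ∀ j k, spB m F (f j) (e k) = if j = k then 1 else 0
  complete : ∀ v, (∀ j, spB m F v (e j) = 0) → (∀ j, spB m F v (f j) = 0) → v = 0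

theorem Frame.ef {e f : Fin m → V} (hF : Frame e f) (j k : Fin m) :
    B (e j) (f k) = if j = k then -1 else 0 := by
  rw [B_swap, hF.fe]
  split_ifs with h1 h2 h2
  · rfl
  · exact absurd h1.symm h2
  · exact absurd h2.symm h1
  · exact neg_zero

theorem Frame.e_ne {e f : Fin m → V} (hF : Frame e f) (j : Fin m) : e j ≠ 0 := fun h =>
  one_ne_zero (α := F) (by
    have := hF.fe j j
    rwa [if_pos rfl, h, map_zero, eq_comm] at this)

/-- The standard frame. -/
theorem frame_bv :
    Frame (fun j : Fin m => (bv (.inl j) : V)) (fun j => bv (.inr j)) := by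
  refine ⟨fun j k => ?_, fun j k => ?_, fun j k => ?_, fun v he hf => ?_⟩
  · rw [B_bv]; simp [bv, sgn]
  · rw [B_bv]; simp [bv, sgn]
  · rw [B_bv]
    simp [bv, sgn, Pi.single_apply, eq_comm]
  · funext i
    rcases i with i | i
    · have := hf i
      rw [B_bv] at this
      simpa [sgn] using this
    · have := he i
      rw [B_bv] at this
      simpa [sgn] using this

variable (e f : Fin m → Fin m ⊕ Fin m → F)

/-- The orthogonal space of the first `i` hyperbolic pairs. -/
def W (i : ℕ) : Submodule F (Fin m ⊕ Fin m → F) where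
  carrier := {v | ∀ l : Fin m, l.val < i → spB m F v (e l) = 0 ∧ spB m F v (f l) = 0}
  add_mem' := fun {u v} hu hv l hl => by
    simp [(hu l hl).1, (hu l hl).2, (hv l hl).1, (hv l hl).2]
  zero_mem' := fun l _ => by simp
  smul_mem' := fun c v hv l hl => by simp [(hv l hl).1, (hv l hl).2]

/-- The pointwise stabiliser of the first `i` hyperbolic pairs. -/
def Gs (i : ℕ) : Subgroup (Matrix.symplecticGroup (Fin m) F) where
  carrier := {g | ∀ l : Fin m, l.val < i →
    (g : Mat) *ᵥ e l = e l ∧ (g : Mat) *ᵥ f l = f l}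
  mul_mem' := fun {a b} ha hb l hl => by
    constructor <;>
      simp [← Matrix.mulVec_mulVec, (ha l hl).1, (ha l hl).2, (hb l hl).1, (hb l hl).2]
  one_mem' := fun l _ => by simp
  inv_mem' := fun {a} ha l hl => by
    constructor
    · conv_lhs => rw [← (ha l hl).1]
      rw [sp_coe_inv_mulVec]
    · conv_lhs => rw [← (ha l hl).2]
      rw [sp_coe_inv_mulVec]

/-- The span of the first vectors of the flag. -/
def low (i : ℕ) : Submodule F (Fin m ⊕ Fin m → F) :=
  Submodule.span F (e '' {l | l.val < i})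

theorem e_mem_low {l : Fin m} {i : ℕ} (h : l.val < i) : e l ∈ low e i :=
  Submodule.subset_span ⟨l, h, rfl⟩

theorem low_mono {i j : ℕ} (h : i ≤ j) : low e i ≤ low e j :=
  Submodule.span_mono (Set.image_mono fun _ hl => Nat.lt_of_lt_of_le hl h)

theorem map_low {g : Sp} {i : ℕ}
    (hg : ∀ l : Fin m, l.val < i → (g : Mat) *ᵥ e l ∈ low e i) {v : V} (hv : v ∈ low e i) :
    (g : Mat) *ᵥ v ∈ low e i := by
  have h : low e i ≤ (low e i).comap (Matrix.mulVecLin (g : Mat)) :=
    Submodule.span_le.2 (Set.image_subset_iff.2 fun l hl => hg l hl)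
  exact h hv

theorem map_low_of_flag {g : Sp} {i : ℕ}
    (hg : ∀ l : Fin m, l.val < i → (g : Mat) *ᵥ e l - e l ∈ low e l.val) {v : V}
    (hv : v ∈ low e i) : (g : Mat) *ᵥ v ∈ low e i :=
  map_low e (fun l hl => by
    rw [show (g : Mat) *ᵥ e l = ((g : Mat) *ᵥ e l - e l) + e l by abel]
    exact add_mem (low_mono e hl.le (hg l hl)) (e_mem_low e hl)) hv

/-- The unipotent stabiliser of the flag. -/
def U : Subgroup (Matrix.symplecticGroup (Fin m) F) where
  carrier := {g | ∀ j : Fin m, (g : Mat) *ᵥ e j - e j ∈ low e j.val}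
  mul_mem' := fun {a b} ha hb j => by
    show ((a * b : Sp) : Mat) *ᵥ e j - e j ∈ low e j.val
    rw [Submonoid.coe_mul, ← Matrix.mulVec_mulVec,
      show (a : Mat) *ᵥ ((b : Mat) *ᵥ e j) - e j =
        (a : Mat) *ᵥ ((b : Mat) *ᵥ e j - e j) + ((a : Mat) *ᵥ e j - e j) by
          rw [Matrix.mulVec_sub]; abel]
    exact add_mem (map_low_of_flag e (fun l _ => ha l) (hb j)) (ha j)
  one_mem' := fun j => by simp
  inv_mem' := fun {a} ha => by
    intro j
    induction hk : j.val using Nat.strong_induction_on generalizing j with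
    | h k ih =>
      subst hk
      show ((a⁻¹ : Sp) : Mat) *ᵥ e j - e j ∈ low e j.val
      rw [show ((a⁻¹ : Sp) : Mat) *ᵥ e j - e j =
          -(((a⁻¹ : Sp) : Mat) *ᵥ ((a : Mat) *ᵥ e j - e j)) by
        rw [Matrix.mulVec_sub, sp_coe_inv_mulVec]; abel]
      exact neg_mem (map_low_of_flag e (fun l hl => ih l.val hl l rfl) (ha j))

variable {e f} (hF : Frame e f)

include hF

theorem ext_of_frame {g g' : Sp} (he : ∀ j, (g : Mat) *ᵥ e j = (g' : Mat) *ᵥ e j)
    (hf : ∀ j, (g : Mat) *ᵥ f j = (g' : Mat) *ᵥ f j) : g = g' := by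
  apply sp_ext
  intro v
  have h : ((g⁻¹ : Sp) : Mat) *ᵥ ((g' : Mat) *ᵥ v) - v = 0 := by
    refine hF.complete _ (fun j => ?_) fun j => ?_
    · rw [map_sub, LinearMap.sub_apply, ← B_sp g, sp_coe_mulVec_inv, he, B_sp, sub_self]
    · rw [map_sub, LinearMap.sub_apply, ← B_sp g, sp_coe_mulVec_inv, hf, B_sp, sub_self]
  have h' := congrArg (fun u => (g : Mat) *ᵥ u) h
  simp only [Matrix.mulVec_sub, sp_coe_mulVec_inv, Matrix.mulVec_zero] at h'
  exact (sub_eq_zero.1 h').symm

theorem eq_one_of_top {i : ℕ} (hi : m ≤ i) {g : Sp} (hg : g ∈ Gs e f i) : g = 1 :=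
  ext_of_frame hF (fun j => by rw [(hg j (j.2.trans_le hi)).1]; simp)
    fun j => by rw [(hg j (j.2.trans_le hi)).2]; simp

theorem e_mem_W {i : ℕ} {j : Fin m} (h : i ≤ j.val) : e j ∈ W e f i := fun l hl =>
  ⟨hF.ee j l, by rw [hF.ef, if_neg]; rintro rfl; omega⟩

theorem f_mem_W {i : ℕ} {j : Fin m} (h : i ≤ j.val) : f j ∈ W e f i := fun l hl =>
  ⟨by rw [hF.fe, if_neg]; rintro rfl; omega, hF.ff j l⟩

theorem map_W {i : ℕ} {g : Sp} (hg : g ∈ Gs e f i) {v : V} (hv : v ∈ W e f i) :
    (g : Mat) *ᵥ v ∈ W e f i := fun l hl => by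
  constructor
  · nth_rewrite 1 [← (hg l hl).1]
    rw [B_sp]
    exact (hv l hl).1
  · nth_rewrite 1 [← (hg l hl).2]
    rw [B_sp]
    exact (hv l hl).2

theorem low_orth {i : ℕ} {v : V} (hv : v ∈ low e i) :
    (∀ j, B v (e j) = 0) ∧ ∀ j : Fin m, i ≤ j.val → B v (f j) = 0 := by
  refine ⟨fun j => ?_, fun j hj => ?_⟩
  · have h : low e i ≤ LinearMap.ker ((spB m F).flip (e j)) :=
      Submodule.span_le.2 (Set.image_subset_iff.2 fun l _ => hF.ee l j)
    exact h hv
  · have h : low e i ≤ LinearMap.ker ((spB m F).flip (f j)) :=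
      Submodule.span_le.2 (Set.image_subset_iff.2 fun l hl => by
        show B (e l) (f j) = 0
        rw [hF.ef, if_neg]
        rintro rfl
        exact absurd (show l.val < i from hl) (not_lt.2 hj))
    exact h hv

theorem fix_e (i : Fin m) {g : Sp} (hgU : g ∈ U e) (hg : g ∈ Gs e f i.val) :
    (g : Mat) *ᵥ e i = e i := by
  have hlow := low_orth hF (hgU i)
  refine sub_eq_zero.1 (hF.complete _ hlow.1 fun j => ?_)
  by_cases hj : j.val < i.val
  · exact ((sub_mem (map_W hF hg (e_mem_W hF le_rfl)) (e_mem_W hF le_rfl)) j hj).2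
  · exact hlow.2 j (not_lt.1 hj)

theorem qE_mem (i : Fin m) {a : V} (haW : a ∈ W e f i.val) (ha : B (e i) a = 0) (t : F) :
    qE (e i) a ha t ∈ U e ⊓ Gs e f i.val := by
  refine ⟨fun j => ?_, fun l hl => ⟨?_, ?_⟩⟩
  · rw [qE_apply, hF.ee j i]
    simp only [zero_smul, mul_zero, add_zero, add_sub_cancel_left]
    rcases lt_trichotomy j.val i.val with h | h | h
    · rw [(B_eq_zero_comm _ _).1 (haW j h).1, zero_smul]
      exact zero_mem _
    · rw [Fin.ext h, ha, zero_smul]
      exact zero_mem _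
    · exact Submodule.smul_mem _ _ (e_mem_low e h)
  · rw [qE_apply, hF.ee l i, (B_eq_zero_comm _ _).1 (haW l hl).1]
    simp
  · rw [qE_apply, hF.fe, if_neg (fun h => by subst h; omega),
      (B_eq_zero_comm _ _).1 (haW l hl).2]
    simp

theorem tr_mem (i : Fin m) (c : F) : tr (e i) c ∈ U e ⊓ Gs e f i.val :=
  qE_mem hF i (zero_mem _) _ c

/-- Peel off one unipotent radical. -/
theorem exists_q (i : Fin m) {r : Sp} (hr : r ∈ Gs e f i.val) (he : (r : Mat) *ᵥ e i = e i) :
    ∃ (a : V) (ha : B (e i) a = 0) (t : F), a ∈ W e f i.val ∧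
      (qE (e i) a ha t)⁻¹ * r ∈ Gs e f (i.val + 1) := by
  have haW : (r : Mat) *ᵥ f i - f i ∈ W e f i.val :=
    sub_mem (map_W hF hr (f_mem_W hF le_rfl)) (f_mem_W hF le_rfl)
  set a := (r : Mat) *ᵥ f i - f i with hadef
  have ha : B (e i) a = 0 := by
    rw [hadef, map_sub]
    nth_rewrite 1 [← he]
    rw [B_sp, sub_self]
  refine ⟨a, ha, -B (f i) a, haW, fun l hl => ?_⟩
  set q := qE (e i) a ha (-B (f i) a) with hq
  have hqG : q ∈ Gs e f i.val := (qE_mem hF i haW ha _).2
  rcases Nat.lt_succ_iff_lt_or_eq.1 hl with h | h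
  · exact mul_mem (inv_mem hqG) hr l h
  · obtain rfl : l = i := Fin.ext h
    have h1 : (q : Mat) *ᵥ e l = e l := by
      rw [hq, qE_apply, B_self, ha]
      simp
    have h2 : (q : Mat) *ᵥ f l = (r : Mat) *ᵥ f l := by
      rw [hq, qE_apply, hF.fe, if_pos rfl, hadef]
      module
    constructor
    · rw [Submonoid.coe_mul, ← Matrix.mulVec_mulVec, he]
      nth_rewrite 1 [← h1]
      rw [sp_coe_inv_mulVec]
    · rw [Submonoid.coe_mul, ← Matrix.mulVec_mulVec, ← h2, sp_coe_inv_mulVec]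

theorem fixed_eq (i : Fin m) {v : V} (hv : v ∈ W e f i.val)
    (h : ∀ g ∈ U e ⊓ Gs e f i.val, (g : Mat) *ᵥ v = v) : ∃ c : F, v = c • e i := by
  have hvi : B v (e i) = 0 := by
    have h1 := h _ (tr_mem hF i 1)
    rw [tr_apply, add_eq_left, one_mul, smul_eq_zero] at h1
    exact h1.resolve_right (hF.e_ne i)
  have horth : ∀ a ∈ W e f i.val, B (e i) a = 0 → B v a = 0 := by
    intro a haW ha
    have h1 := h _ (qE_mem hF i haW ha 0)
    rw [qE_apply, hvi] at h1
    simp only [zero_smul, mul_zero, add_zero, add_eq_left, smul_eq_zero] at h1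
    exact h1.resolve_right (hF.e_ne i)
  refine ⟨B (f i) v, sub_eq_zero.1 (hF.complete _ (fun j => ?_) fun j => ?_)⟩
  · simp only [map_sub, map_smul, LinearMap.sub_apply, LinearMap.smul_apply, hF.ee, smul_zero,
      sub_zero]
    by_cases hj : j.val < i.val
    · exact (hv j hj).1
    · exact horth _ (e_mem_W hF (not_lt.1 hj)) (hF.ee i j)
  · simp only [map_sub, map_smul, LinearMap.sub_apply, LinearMap.smul_apply, hF.ef, smul_eq_mul]
    by_cases hji : i = j
    · subst hji
      rw [if_pos rfl, B_swap v]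
      ring
    rw [if_neg hji, mul_zero, sub_zero]
    by_cases hj : j.val < i.val
    · exact (hv j hj).2
    · exact horth _ (f_mem_W hF (not_lt.1 hj)) (by rw [hF.ef, if_neg hji])

theorem qSub_le_U (i : Fin m) (hi : i.val = 0) : qSub (e i) ≤ U e := by
  rintro _ ⟨a, ha, t, rfl⟩
  exact (qE_mem hF i (fun l hl => absurd hl (by omega)) ha t).1

variable (p : ℕ) [Fact p.Prime] [CharP F p] [Finite F]

include p

theorem isPGroup_aux : ∀ k i : ℕ, m ≤ i + k →
    IsPGroup p (U e ⊓ Gs e f i : Subgroup Sp) := by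
  intro k
  induction k with
  | zero =>
    intro i hi
    have hbot : U e ⊓ Gs e f i = ⊥ :=
      (Subgroup.eq_bot_iff_forall _).2 fun g hg => eq_one_of_top hF (by omega) hg.2
    rw [hbot]
    exact IsPGroup.of_bot
  | succ k ih =>
    intro i hi
    by_cases him : m ≤ i
    · exact ih i (by omega)
    set j : Fin m := ⟨i, by omega⟩ with hj
    set K : Subgroup Sp := qSub (e j) ⊓ (U e ⊓ Gs e f i) with hK
    set H : Subgroup Sp := U e ⊓ Gs e f (i + 1) with hH
    have hKp : IsPGroup p K := (isPGroup_qSub p (e j)).to_le inf_le_left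
    have hHn : H ≤ Subgroup.normalizer (K : Set Sp) := by
      intro u hu
      have hu' : u ∈ U e ⊓ Gs e f i := ⟨hu.1, fun l hl => hu.2 l (by omega)⟩
      refine mem_normalizer_of_forall fun y hy => ⟨?_, ?_⟩
      · obtain ⟨a, ha, t, rfl⟩ := hy.1
        rw [qE_conj]
        have he : (u : Mat) *ᵥ e j = e j := (hu.2 j (by simp [hj])).1
        refine ⟨(u : Mat) *ᵥ a, ?_, t, ?_⟩
        · nth_rewrite 1 [← he]
          rw [B_sp]
          exact ha
        · simp only [he]
      · exact Subgroup.mul_mem _ (Subgroup.mul_mem _ hu' hy.2) (Subgroup.inv_mem _ hu')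
    refine ((ih (i + 1) (by omega)).to_sup_of_normal_right' hKp hHn).to_le ?_
    intro g hg
    obtain ⟨a, ha, t, haW, hr⟩ := exists_q hF j hg.2 (fix_e hF j hg.1 hg.2)
    have hq := qE_mem hF j haW ha t
    rw [show g = qE (e j) a ha t * ((qE (e j) a ha t)⁻¹ * g) by rw [mul_inv_cancel_left]]
    refine mul_mem (Subgroup.mem_sup_right ⟨⟨a, ha, t, rfl⟩, hq⟩) (Subgroup.mem_sup_left ⟨?_, hr⟩)
    exact Subgroup.mul_mem _ (Subgroup.inv_mem _ hq.1) hg.1

theorem isPGroup_U : IsPGroup p (U e) :=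
  (isPGroup_aux hF p m 0 (by omega)).to_le fun _ hg => ⟨hg, fun l hl => absurd hl (by omega)⟩

theorem le_U_aux {R : Subgroup Sp} (hR : IsPGroup p R) (hUR : U e ≤ R) : ∀ k i : ℕ, m ≤ i + k →
    R ⊓ Gs e f i ≤ U e := by
  intro k
  induction k with
  | zero =>
    intro i hi g hg
    rw [eq_one_of_top hF (by omega) hg.2]
    exact one_mem _
  | succ k ih =>
    intro i hi
    by_cases him : m ≤ i
    · exact ih i (by omega)
    set j : Fin m := ⟨i, by omega⟩ with hj
    intro r hr
    let P : Subgroup Sp := R ⊓ Gs e f i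
    letI : MulAction P (W e f i) :=
      { smul := fun g v => ⟨((g : Sp) : Mat) *ᵥ (v : V), map_W hF g.2.2 v.2⟩
        one_smul := fun v => Subtype.ext (Matrix.one_mulVec _)
        mul_smul := fun g h v => Subtype.ext (by
          show (((g * h : P) : Sp) : Mat) *ᵥ (v : V) = _
          rw [Subgroup.coe_mul, Submonoid.coe_mul, ← Matrix.mulVec_mulVec]
          rfl) }
    have hP : IsPGroup p P := hR.to_le inf_le_left
    have hdvd : p ∣ Nat.card (W e f i) := by
      have hej : e j ∈ W e f i := e_mem_W hF (le_of_eq (by simp [hj]))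
      have hp0 : p • (⟨e j, hej⟩ : W e f i) = 0 := by
        apply Subtype.ext
        show p • e j = 0
        rw [← Nat.cast_smul_eq_nsmul F, CharP.cast_eq_zero, zero_smul]
      have := addOrderOf_eq_prime hp0 (fun h => hF.e_ne j (congrArg Subtype.val h))
      exact this ▸ addOrderOf_dvd_natCard _
    obtain ⟨v, hv, hne⟩ := hP.exists_fixed_point_of_prime_dvd_card_of_fixed_point (W e f i) hdvd
      (a := (0 : W e f i)) (fun g => Subtype.ext (show ((g : Sp) : Mat) *ᵥ (0 : V) = 0 from Matrix.mulVec_zero _))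
    have hv' : ∀ g ∈ R ⊓ Gs e f i, (g : Mat) *ᵥ (v : V) = v := fun g hg =>
      congrArg Subtype.val (hv ⟨g, hg⟩)
    obtain ⟨c, hc⟩ := fixed_eq hF j v.2 fun g hg => hv' g ⟨hUR hg.1, hg.2⟩
    have hc0 : c ≠ 0 := fun h => hne (Subtype.ext (by rw [hc, h, zero_smul]; rfl)).symm
    have he : (r : Mat) *ᵥ e j = e j := by
      have h1 := hv' r hr
      rw [hc, Matrix.mulVec_smul] at h1
      exact smul_right_injective _ hc0 h1
    obtain ⟨a, ha, t, haW, hr'⟩ := exists_q hF j hr.2 he
    have hq := qE_mem hF j haW ha t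
    rw [show r = qE (e j) a ha t * ((qE (e j) a ha t)⁻¹ * r) by rw [mul_inv_cancel_left]]
    exact Subgroup.mul_mem _ hq.1 (ih (i + 1) (by omega) ⟨Subgroup.mul_mem _ (Subgroup.inv_mem _ (hUR hq.1)) hr.1, hr'⟩)

/-- The unipotent stabiliser of the flag is a Sylow subgroup. -/
theorem exists_sylow : ∃ P : Sylow p Sp, (P : Subgroup Sp) = U e := by
  obtain ⟨P, hP⟩ := (isPGroup_U hF p).exists_le_sylow
  refine ⟨P, le_antisymm (fun g hg => ?_) hP⟩
  exact le_U_aux hF p P.2 hP m 0 (by omega) ⟨hg, fun l hl => absurd hl (by omega)⟩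

end Cfsg.Agent.Fusion.PSpSimple
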