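import Cfsg.Agent.Lib.Fusion.PSpFlag

/-!
The fusion system of `PSp_{2m}` in the defining characteristic is simple.
-/

set_option autoImplicit false
set_option linter.unusedSectionVars false

namespace Cfsg.Agent.Fusion.PSpSimple

open Matrix Cfsg.Agent.FormsLib Cfsg.Agent.AutPSp
open Cfsg.FusionSystem (centralizerIn normalizerIn)

universe u

variable {m : ℕ} {F : Type u} [Field F]

local notation "V" => Fin m ⊕ Fin m → F
local notation "Sp" => Matrix.symplecticGroup (Fin m) F
local notation "Mat" => Matrix (Fin m ⊕ Fin m) (Fin m ⊕ Fin m) F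
local notation "B" => spB m F

theorem qE_congr_point {x y a b : V} {t s : F} {h : B x a = 0} {h' : B y b = 0} (e₁ : x = y)
    (e₂ : a = b) (e₃ : t = s) : qE x a h t = qE y b h' s := by subst e₁ e₂ e₃; rfl

theorem qE_smul_point (x a : V) (c t : F) (h : B (c • x) a = 0) (h' : B x (c • a) = 0) :
    qE (c • x) a h t = qE x (c • a) h' (c * c * t) := sp_ext fun v => by
  simp only [qE_apply, map_smul, smul_eq_mul]
  module

theorem qE_mem_qSub {x a : V} (h : B x a = 0) (t : F) : qE x a h t ∈ qSub x := ⟨a, h, t, rfl⟩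

theorem tr_eq (x : V) (c : F) : tr x c = qE x 0 (map_zero _) c := rfl

theorem tr_add (x : V) (c d : F) : tr x c * tr x d = tr x (c + d) := by
  rw [tr_eq, tr_eq, tr_eq, qE_mul]
  exact qE_congr (add_zero _) (by simp)

theorem tr_fix {x y : V} (h : B x y = 0) (c : F) : (tr y c : Mat) *ᵥ x = x := by
  rw [tr_apply, h, mul_zero, zero_smul, add_zero]

/-! ### Normal subsets of the radical of a point -/

section Radical

variable {x : Fin m ⊕ Fin m → F} (T : Subgroup (Matrix.symplecticGroup (Fin m) F))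
  (hinv : ∀ g : Matrix.symplecticGroup (Fin m) F,
    (g : Matrix (Fin m ⊕ Fin m) (Fin m ⊕ Fin m) F) *ᵥ x = x →
    ∀ y ∈ T, y ∈ qSub x → g * y * g⁻¹ ∈ T)

include hinv

theorem orbit_mem {a v : V} {t : F} (ha : B x a = 0) (hv : B x v = 0) (hav : B a v ≠ 0)
    (h : qE x a ha t ∈ T) : qE x v hv (-B a v) ∈ T := by
  set g : Sp := tr v (B a v)⁻¹
  have h1 := hinv g (tr_fix hv _) _ h (qE_mem_qSub ha t)
  rw [qE_conj, qE_congr_point (x := (g : Mat) *ᵥ x) (y := x) (b := v + a)
    (h' := by rw [map_add, hv, ha, add_zero]) (tr_fix hv _) (by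
      rw [tr_apply, inv_mul_cancel₀ hav, one_smul, add_comm]) rfl] at h1
  have h2 : qE x v hv (-B a v) * qE x a ha t = qE x (v + a) (by rw [map_add, hv, ha, add_zero]) t :=
    (qE_mul hv ha _ _).trans (qE_congr rfl (by ring))
  rw [← h2] at h1
  exact (Subgroup.mul_mem_cancel_right T h).1 h1

omit hinv in
theorem diff_mem {v w : V} {s r u : F} (hv : B x v = 0) (hw : B x w = 0)
    (h1 : qE x v hv s ∈ T) (h2 : qE x w hw r ∈ T)
    (h3 : qE x (v + w) (by rw [map_add, hv, hw, add_zero]) u ∈ T) :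
    tr x (s + r + B w v - u) ∈ T := by
  have h4 := mul_mem h1 h2
  have h5 : tr x (s + r + B w v - u) * qE x (v + w) (by rw [map_add, hv, hw, add_zero]) u =
      qE x v hv s * qE x w hw r := by
    rw [tr_eq, qE_mul, qE_mul]
    exact qE_congr (zero_add _) (by simp)
  rw [← h5] at h4
  exact (Subgroup.mul_mem_cancel_right T h3).1 h4

/-- A non-central element gives a transvection, if there are enough scalars. -/
theorem tr_mem_of_scalar {a e : V} {t : F} (ha : B x a = 0) (he : B x e = 0) (hae : B a e = 1)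
    {μ : F} (hμ : μ ≠ 0) (hμ' : 1 + μ ≠ 0) (h : qE x a ha t ∈ T) : tr x 1 ∈ T := by
  have hw : B x (μ • e + a) = 0 := by simp [he, ha]
  have hawv : B a (μ • e + a) = μ := by simp [hae, B_self]
  have havw : B a (e + (μ • e + a)) = 1 + μ := by rw [map_add, hae, hawv]
  have h1 := orbit_mem T hinv ha he (by rw [hae]; exact one_ne_zero) h
  have h2 := orbit_mem T hinv ha hw (by rw [hawv]; exact hμ) h
  have h3 := orbit_mem T hinv ha (v := e + (μ • e + a)) (by rw [map_add, he, hw, add_zero])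
    (by rw [havw]; exact hμ') h
  have h4 := diff_mem T he hw h1 h2 h3
  convert h4 using 2
  rw [hawv, havw]
  simp [hae, B_self]

/-- A non-central element gives a transvection, if there are enough dimensions. -/
theorem tr_mem_of_dim {a e w z : V} {t : F} (ha : B x a = 0) (he : B x e = 0) (hw : B x w = 0)
    (hz : B x z = 0) (hae : B a e = 1) (haw : B a w = 0) (hew : B w e = 0) (haz : B a z ≠ 0)
    (hzw : B z w ≠ 0) (h : qE x a ha t ∈ T) : tr x (-B z w) ∈ T := by
  have havw : B a (e + w) = 1 := by rw [map_add, hae, haw, add_zero]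
  have h1 := orbit_mem T hinv ha he (by rw [hae]; exact one_ne_zero) h
  have h2 := orbit_mem T hinv hz hw hzw (orbit_mem T hinv ha hz haz h)
  have h3 := orbit_mem T hinv ha (v := e + w) (by rw [map_add, he, hw, add_zero])
    (by rw [havw]; exact one_ne_zero) h
  have h4 := diff_mem T he hw h1 h2 h3
  convert h4 using 2
  rw [hae, hew, havw]
  ring

/-- A non-central element and all transvections of the point give the whole radical. -/
theorem qSub_le_of_noncentral {a e : V} {t : F} (ha : B x a = 0) (he : B x e = 0)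
    (hae : B a e = 1) (h : qE x a ha t ∈ T) (htr : ∀ c, tr x c ∈ T) : qSub x ≤ T := by
  have h1 : ∀ (v : V) (hv : B x v = 0), B a v ≠ 0 → ∀ s, qE x v hv s ∈ T := by
    intro v hv hav s
    rw [show qE x v hv s = tr x (s + B a v) * qE x v hv (-B a v) by
      rw [tr_eq, qE_mul]
      exact qE_congr (zero_add v).symm (by simp)]
    exact mul_mem (htr _) (orbit_mem T hinv ha hv hav h)
  rintro _ ⟨v, hv, s, rfl⟩
  by_cases hav : B a v = 0
  · have h2 : B x (v - e) = 0 := by rw [map_sub, hv, he, sub_zero]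
    rw [show qE x v hv s = qE x (v - e) h2 (s - B e (v - e)) * qE x e he 0 by
      rw [qE_mul]
      exact qE_congr (sub_add_cancel v e).symm (by ring)]
    exact mul_mem (h1 _ h2 (by rw [map_sub, hav, hae]; simp) _)
      (h1 _ he (by rw [hae]; exact one_ne_zero) _)
  · exact h1 v hv hav s

end Radical

variable (p : ℕ) [Fact p.Prime] [CharP F p] [Finite F]

include p in
/-- The transvections of a point inside an invariant subgroup. -/
theorem tr_mem_all {x : V} (hx : x ≠ 0) {T : Subgroup Sp} {c₀ : F} (hc₀ : c₀ ≠ 0)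
    (hinv : ∀ μ : F, μ ≠ 0 → ∀ c, tr x c ∈ T → tr x (μ * μ * c) ∈ T) (h : tr x c₀ ∈ T) (c : F) :
    tr x c ∈ T := by
  have hsq : ∀ μ : F, tr x (μ * μ * c₀) ∈ T := fun μ => by
    by_cases hμ : μ = 0
    · rw [hμ, zero_mul, zero_mul, tr_zero]
      exact one_mem T
    · exact hinv μ hμ c₀ h
  by_cases h2 : (2 : F) = 0
  · have hp : p = 2 := (Nat.prime_dvd_prime_iff_eq Fact.out Nat.prime_two).1
      ((CharP.cast_eq_zero_iff F p 2).1 (by exact_mod_cast h2))
    obtain ⟨μ, hμ⟩ := FiniteField.isSquare_of_char_two (F := F)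
      (by rw [ringChar.eq F p, hp]) (c / c₀)
    have h1 := hsq μ
    rwa [← hμ, div_mul_cancel₀ _ hc₀] at h1
  · have h4 : (4 : F) ≠ 0 := by
      rw [show (4 : F) = 2 * 2 by norm_num]
      exact mul_ne_zero h2 h2
    set a : F := c / (4 * c₀) with ha
    have h1 := mul_mem (hsq (a + 1)) (inv_mem (hsq (a - 1)))
    have h3 : tr x c * tr x ((a - 1) * (a - 1) * c₀) = tr x ((a + 1) * (a + 1) * c₀) := by
      rw [tr_add]
      congr 1
      rw [ha]
      field_simp
      ring
    rwa [← h3, mul_inv_cancel_right] at h1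

/-! ### Strongly closed subgroups -/

variable {e f : Fin m → Fin m ⊕ Fin m → F} (hF : Frame e f)

include hF p

theorem U_le_of_closed (hm : 2 ≤ m) (hex : (∃ μ : F, μ ≠ 0 ∧ 1 + μ ≠ 0) ∨ 3 ≤ m)
    (T : Subgroup Sp) (hTU : T ≤ U e) (hT1 : T ≠ ⊥)
    (hcl : ∀ g : Sp, ∀ x ∈ T, g * x * g⁻¹ ∈ U e → g * x * g⁻¹ ∈ T) : U e ≤ T := by
  classical
  set i0 : Fin m := ⟨0, by omega⟩ with hi0
  set i1 : Fin m := ⟨1, by omega⟩ with hi1
  have h01 : i0 ≠ i1 := by simp [hi0, hi1]
  have hN : U e ≤ Subgroup.normalizer (T : Set Sp) := fun g hg =>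
    mem_normalizer_of_forall fun y hy => hcl g y hy (mul_mem (mul_mem hg (hTU hy)) (inv_mem hg))
  have hQU : qSub (e i0) ≤ U e := qSub_le_U hF i0 (by simp [hi0])
  have hG1 : ∀ g ∈ Gs e f 1, (g : Mat) *ᵥ e i0 = e i0 ∧ (g : Mat) *ᵥ f i0 = f i0 := fun g hg =>
    hg i0 (by simp [hi0])
  -- invariance under the stabiliser of the point
  have hinv : ∀ g : Sp, (g : Mat) *ᵥ e i0 = e i0 → ∀ y ∈ T, y ∈ qSub (e i0) →
      g * y * g⁻¹ ∈ T := by
    rintro g hg _ hy ⟨a, ha, t, rfl⟩
    refine hcl g _ hy (hQU ?_)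
    rw [qE_conj]
    refine ⟨(g : Mat) *ᵥ a, ?_, t, ?_⟩
    · nth_rewrite 1 [← hg]
      rw [B_sp]
      exact ha
    · simp only [hg]
  -- a non-trivial transvection
  have hc₀ : ∃ c₀ : F, c₀ ≠ 0 ∧ tr (e i0) c₀ ∈ T := by
    have hne := inf_centralizer_ne_bot (isPGroup_U hF p) hTU hN hT1
    obtain ⟨z, hz, hz1⟩ := (Subgroup.bot_or_exists_ne_one _).resolve_left hne
    have hzc : ∀ u ∈ U e, Commute z u := fun u hu =>
      (Subgroup.mem_centralizer_iff.mp hz.2 u hu).symm
    obtain ⟨b, hb, t, rfl, -⟩ := eq_qE_of_commute (hF.e_ne i0)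
      (fix_e hF i0 (hTU hz.1) (fun l hl => absurd hl (by simp [hi0])))
      (fun a ha => hzc _ (hQU (qE_mem_qSub ha 0)))
    have hfix : ∀ g ∈ U e ⊓ Gs e f 1, (g : Mat) *ᵥ b = b := by
      intro g hg
      have e1 := qE_conj g hb t
      rw [← (hzc g hg.1).eq, mul_inv_cancel_right] at e1
      have e2 := congrArg (fun s : Sp => (s : Mat) *ᵥ f i0) e1
      simp only [qE_apply, (hG1 g hg.2).1, hF.fe, if_true] at e2
      have e3 : B (f i0) ((g : Mat) *ᵥ b) = B (f i0) b := by
        nth_rewrite 1 [← (hG1 g hg.2).2]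
        rw [B_sp]
      rw [e3] at e2
      simp only [one_smul, mul_one] at e2
      linear_combination (norm := module) -e2
    set k := B (f i0) b with hk
    have hb' : b - k • e i0 ∈ W e f 1 := by
      intro l hl
      obtain rfl : l = i0 := Fin.ext (by simp [hi0]; omega)
      simp only [map_sub, map_smul, LinearMap.sub_apply, LinearMap.smul_apply, smul_eq_mul,
        hF.ef, hF.ee, if_true, mul_zero, sub_zero]
      exact ⟨(B_eq_zero_comm _ _).1 hb, by rw [hk, B_swap b]; ring⟩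
    obtain ⟨β, hβ⟩ := fixed_eq hF i1 hb' fun g hg => by
      rw [Matrix.mulVec_sub, Matrix.mulVec_smul, hfix g hg, (hG1 g hg.2).1]
    have hb2 : b = β • e i1 + k • e i0 := by rw [← hβ, sub_add_cancel]
    by_cases hβ0 : β = 0
    · have hbk : b = k • e i0 := by rw [hb2, hβ0, zero_smul, zero_add]
      have hz' : qE (e i0) b hb t = tr (e i0) (t + 2 * k) :=
        (qE_congr hbk rfl).trans (qE_smul_self _ k t (by simp [hF.ee]))
      refine ⟨t + 2 * k, fun h => hz1 ?_, hz' ▸ hz.1⟩
      rw [hz', h, tr_zero]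
    set e' := (-β⁻¹) • f i1 with he'
    have he : B (e i0) e' = 0 := by simp [he', hF.ef, h01]
    have hbe : B b e' = 1 := by
      simp [he', hb2, hF.ef, h01, hβ0]
    rcases hex with ⟨μ, hμ, hμ'⟩ | hm3
    · exact ⟨1, one_ne_zero, tr_mem_of_scalar T hinv hb he hbe hμ hμ' hz.1⟩
    set i2 : Fin m := ⟨2, by omega⟩ with hi2
    have h02 : i0 ≠ i2 := by simp [hi0, hi2]
    have h12 : i1 ≠ i2 := by simp [hi1, hi2]
    refine ⟨-B (f i1 + f i2) (e i2), ?_, tr_mem_of_dim T hinv hb he (hF.ee i0 i2) ?_ hbe ?_ ?_ ?_ ?_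
      hz.1⟩
    · simp [hF.fe, h12]
    · simp [hF.ef, h01, h02]
    · simp [hb2, hF.ee]
    · simp [he', hF.ef, h12.symm]
    · simp [hb2, hF.ef, h01, h02, h12, hβ0]
    · simp [hF.fe, h12]
  obtain ⟨c₀, hc₀, hT0⟩ := hc₀
  have htr : ∀ c, tr (e i0) c ∈ T := by
    refine tr_mem_all p (hF.e_ne i0) hc₀ (fun μ hμ c hc => ?_) hT0
    obtain ⟨g, hg⟩ := exists_map_vector (hF.e_ne i0) (smul_ne_zero hμ (hF.e_ne i0))
    have h1 : g * tr (e i0) c * g⁻¹ = tr (e i0) (μ * μ * c) := by rw [tr_conj, hg, tr_smul]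
    rw [← h1]
    exact hcl g _ hc (h1 ▸ (tr_mem hF i0 _).1)
  have hQT : qSub (e i0) ≤ T := by
    have hu : tr (e i1) 1 ∈ T := by
      obtain ⟨g, hg⟩ := exists_map_vector (hF.e_ne i0) (hF.e_ne i1)
      have h1 : g * tr (e i0) 1 * g⁻¹ = tr (e i1) 1 := by rw [tr_conj, hg]
      rw [← h1]
      exact hcl g _ (htr 1) (h1 ▸ (tr_mem hF i1 1).1)
    have hf1 : B (e i0) (f i1) = 0 := by rw [hF.ef, if_neg h01]
    have he1 : B (e i0) (e i1) = 0 := hF.ee _ _
    set q := qE (e i0) (f i1) hf1 0 with hq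
    have hqT : q * (tr (e i1) 1)⁻¹ * q⁻¹ ∈ T :=
      (Subgroup.mem_normalizer_iff.mp (hN (hQU (qE_mem_qSub hf1 0))) _).1 (inv_mem hu)
    have hk := mul_mem hu hqT
    have h2 : qE (e i0) (e i1) he1 (-1) * q = tr (e i1) 1 * q * (tr (e i1) 1)⁻¹ := by
      rw [hq, qE_conj, qE_mul]
      refine qE_congr_point (tr_fix he1 1).symm ?_ ?_
      · rw [tr_apply, hF.fe, if_pos rfl, one_mul, one_smul, add_comm]
      · rw [hF.fe, if_pos rfl]; ring
    rw [show tr (e i1) 1 * (q * (tr (e i1) 1)⁻¹ * q⁻¹) =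
        (tr (e i1) 1 * q * (tr (e i1) 1)⁻¹) * q⁻¹ by group, ← h2, mul_inv_cancel_right] at hk
    refine qSub_le_of_noncentral T hinv (e := -(1 : F) • f i1) he1 ?_ ?_ hk htr
    · rw [map_smul, hf1, smul_zero]
    · rw [map_smul, hF.ef, if_pos rfl]; simp
  have hroot : ∀ (i : Fin m) (a : V) (ha : B (e i) a = 0) (t : F), a ∈ W e f i.val →
      qE (e i) a ha t ∈ T := by
    intro i a ha t haW
    obtain ⟨g, hg⟩ := exists_map_vector (hF.e_ne i0) (hF.e_ne i)
    have ha' : B (e i0) (((g⁻¹ : Sp) : Mat) *ᵥ a) = 0 := by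
      rw [← B_sp g, hg, sp_coe_mulVec_inv]
      exact ha
    have h1 : g * qE (e i0) _ ha' t * g⁻¹ = qE (e i) a ha t := by
      rw [qE_conj]
      exact qE_congr_point hg (sp_coe_mulVec_inv g a) rfl
    rw [← h1]
    exact hcl g _ (hQT (qE_mem_qSub ha' t)) (h1 ▸ (qE_mem hF i haW ha t).1)
  have hall : ∀ k i : ℕ, m ≤ i + k → U e ⊓ Gs e f i ≤ T := by
    intro k
    induction k with
    | zero =>
      intro i hi g hg
      rw [eq_one_of_top hF (by omega) hg.2]
      exact one_mem _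
    | succ k ih =>
      intro i hi
      by_cases him : m ≤ i
      · exact ih i (by omega)
      intro g hg
      obtain ⟨a, ha, t, haW, hr⟩ := exists_q hF ⟨i, by omega⟩ hg.2 (fix_e hF _ hg.1 hg.2)
      rw [show g = qE _ a ha t * ((qE _ a ha t)⁻¹ * g) by rw [mul_inv_cancel_left]]
      exact Subgroup.mul_mem _ (hroot _ a ha t haW) (ih (i + 1) (by omega)
        ⟨Subgroup.mul_mem _ (Subgroup.inv_mem _ (qE_mem hF _ haW ha t).1) hg.1, hr⟩)
  exact fun g hg => hall m 0 (by omega) ⟨hg, fun l hl => absurd hl (by omega)⟩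

/-! ### The normaliser -/

omit hF p [Fact p.Prime] [CharP F p] in
theorem qSub_normalizer {x : V} {g : Sp} (hg : (g : Mat) *ᵥ x = x) :
    g ∈ Subgroup.normalizer ((qSub x : Subgroup Sp) : Set Sp) := by
  refine mem_normalizer_of_forall ?_
  rintro _ ⟨a, ha, t, rfl⟩
  rw [qE_conj]
  refine ⟨(g : Mat) *ᵥ a, ?_, t, ?_⟩
  · nth_rewrite 1 [← hg]
    rw [B_sp]
    exact ha
  · simp only [hg]

omit p [Fact p.Prime] [CharP F p] in
theorem mem_normalizer_U {g : Sp} (c : Fin m → F) (h : ∀ j, (g : Mat) *ᵥ e j = c j • e j) :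
    g ∈ Subgroup.normalizer (U e : Set Sp) := by
  have hlow : ∀ {i : ℕ} {v : V}, v ∈ low e i → (g : Mat) *ᵥ v ∈ low e i := fun hv =>
    map_low e (fun l hl => by rw [h]; exact Submodule.smul_mem _ _ (e_mem_low e hl)) hv
  have hc : ∀ j, c j ≠ 0 := fun j h0 =>
    hF.e_ne j (sp_mulVec_injective g (a₁ := e j) (a₂ := 0) (by simp [h, h0]))
  refine mem_normalizer_of_forall fun u hu j => ?_
  have hi : ((g⁻¹ : Sp) : Mat) *ᵥ e j = (c j)⁻¹ • e j := by
    refine sp_mulVec_injective g ?_
    simp only [sp_coe_mulVec_inv, Matrix.mulVec_smul, h, smul_smul, inv_mul_cancel₀ (hc j),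
      one_smul]
  rw [Submonoid.coe_mul, Submonoid.coe_mul, ← Matrix.mulVec_mulVec, ← Matrix.mulVec_mulVec, hi,
    Matrix.mulVec_smul, Matrix.mulVec_smul,
    show e j = (c j)⁻¹ • ((g : Mat) *ᵥ e j) by rw [h, smul_smul, inv_mul_cancel₀ (hc j), one_smul],
    ← Matrix.mulVec_smul]
  rw [show (c j)⁻¹ • ((g : Mat) *ᵥ e j) = e j by
    rw [h, smul_smul, inv_mul_cancel₀ (hc j), one_smul]]
  rw [Matrix.mulVec_smul, show (c j)⁻¹ • ((g : Mat) *ᵥ ((u : Mat) *ᵥ e j)) - e j =
    (c j)⁻¹ • ((g : Mat) *ᵥ ((u : Mat) *ᵥ e j - e j)) by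
      rw [Matrix.mulVec_sub, smul_sub, h, smul_smul, inv_mul_cancel₀ (hc j), one_smul]]
  exact Submodule.smul_mem _ _ (hlow (hu j))

/-- The torus element at one hyperbolic pair. -/
noncomputable def hT (x y : V) (a : F) : Sp :=
  tr x a * tr y a⁻¹ * tr x a * (tr x (-1) * tr y (-1) * tr x (-1))

omit hF p [Fact p.Prime] [CharP F p] [Finite F] in
theorem hT_apply {x y : V} (hyx : B y x = 1) {a : F} (ha : a ≠ 0) :
    ((hT x y a : Sp) : Mat) *ᵥ x = a • x ∧ ((hT x y a : Sp) : Mat) *ᵥ y = a⁻¹ • y ∧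
      ∀ v : V, B v x = 0 → B v y = 0 → ((hT x y a : Sp) : Mat) *ᵥ v = v := by
  have hxy : B x y = -1 := by rw [B_swap, hyx]
  have h1 : ∀ c α β : F, (tr x c : Mat) *ᵥ (α • x + β • y) = (α + c * β) • x + β • y := by
    intro c α β
    rw [tr_apply]
    simp only [map_add, map_smul, LinearMap.add_apply, LinearMap.smul_apply, smul_eq_mul, hyx,
      B_self]
    module
  have h2 : ∀ d α β : F, (tr y d : Mat) *ᵥ (α • x + β • y) = α • x + (β - d * α) • y := by
    intro d α β
    rw [tr_apply]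
    simp only [map_add, map_smul, LinearMap.add_apply, LinearMap.smul_apply, smul_eq_mul, hxy,
      B_self]
    module
  have key : ∀ α β : F, ((hT x y a : Sp) : Mat) *ᵥ (α • x + β • y) =
      (a * α) • x + (a⁻¹ * β) • y := by
    intro α β
    simp only [hT, Submonoid.coe_mul, ← Matrix.mulVec_mulVec, h1, h2]
    congr 2
    · field_simp
      ring
    · field_simp
      ring
  refine ⟨?_, ?_, fun v hvx hvy => ?_⟩
  · have := key 1 0
    simpa using this
  · have := key 0 1
    simpa using this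
  · simp only [hT, Submonoid.coe_mul, ← Matrix.mulVec_mulVec, tr_fix hvx, tr_fix hvy]

/-- The stabiliser of the maximal totally isotropic subspace of the frame, pointwise. -/
def Lfix (e : Fin m → V) : Subgroup Sp where
  carrier := {g | ∀ j, (g : Mat) *ᵥ e j = e j}
  mul_mem' := fun {a b} ha hb j => by simp [← Matrix.mulVec_mulVec, ha j, hb j]
  one_mem' := fun j => by simp
  inv_mem' := fun {a} ha j => by
    conv_lhs => rw [← ha j]
    rw [sp_coe_inv_mulVec]

omit hF p [Fact p.Prime] [CharP F p] in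
theorem Lfix_normalizer {g : Sp}
    (h : ∀ j, (g : Mat) *ᵥ e j ∈ Submodule.span F (Set.range e)) :
    g ∈ Subgroup.normalizer ((Lfix e : Subgroup Sp) : Set Sp) := by
  rw [← inv_inv g]
  refine inv_mem (mem_normalizer_of_forall fun x hx j => ?_)
  have h1 : Submodule.span F (Set.range e) ≤ LinearMap.eqLocus (Matrix.mulVecLin (x : Mat))
      LinearMap.id :=
    Submodule.span_le.2 (by rintro _ ⟨l, rfl⟩; exact hx l)
  rw [inv_inv, Submonoid.coe_mul, Submonoid.coe_mul, ← Matrix.mulVec_mulVec,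
    ← Matrix.mulVec_mulVec, show (x : Mat) *ᵥ ((g : Mat) *ᵥ e j) = (g : Mat) *ᵥ e j from h1 (h j),
    sp_coe_inv_mulVec]

theorem hT_localGen (i : Fin m) (hi : i.val ≠ 0) {a : F} (ha : a ≠ 0) :
    hT (e i) (f i) a ∈ localGen p (U e) := by
  set i0 : Fin m := ⟨0, by omega⟩ with hi0
  have hne : i ≠ i0 := fun h => hi (by rw [h])
  have hyx : B (f i) (e i) = 1 := by rw [hF.fe, if_pos rfl]
  obtain ⟨h1, -, h3⟩ := hT_apply hyx ha
  refine Or.inr ⟨mem_normalizer_U hF (fun j => if j = i then a else 1) (fun j => ?_),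
    qSub (e i0), qSub_le_U hF i0 rfl, fun s hs => ?_, fun u hu => ?_, ?_⟩
  · by_cases hj : j = i
    · rw [hj, if_pos rfl, h1]
    · rw [if_neg hj, one_smul, h3 _ (hF.ee j i) (by rw [hF.ef, if_neg hj])]
  · obtain ⟨hsU, hsc⟩ := mem_centralizerIn.mp hs
    obtain ⟨b, hb, t, rfl, -⟩ := eq_qE_of_commute (hF.e_ne i0)
      (fix_e hF i0 hsU (fun l hl => absurd hl (by simp [hi0])))
      (fun c hc => by
        first
          | exact (hsc _ (qE_mem_qSub hc 0))
          | exact (hsc _ (qE_mem_qSub hc 0)).symm)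
    exact qE_mem_qSub hb t
  · exact qSub_normalizer (fix_e hF i0 hu (fun l hl => absurd hl (by simp [hi0])))
  · have hx : ∀ c : F, tr (e i) c ∈
        Subgroup.closure (pElts p (Subgroup.normalizer (qSub (e i0) : Set Sp))) := fun c =>
      Subgroup.subset_closure ⟨qSub_normalizer (tr_fix (hF.ee i0 i) c), 1,
        by rw [pow_one]; exact tr_pow_char p _ c⟩
    have hy : ∀ c : F, tr (f i) c ∈
        Subgroup.closure (pElts p (Subgroup.normalizer (qSub (e i0) : Set Sp))) := fun c =>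
      Subgroup.subset_closure ⟨qSub_normalizer (tr_fix (by rw [hF.ef, if_neg hne.symm]) c), 1,
        by rw [pow_one]; exact tr_pow_char p _ c⟩
    exact mul_mem (mul_mem (mul_mem (hx _) (hy _)) (hx _)) (mul_mem (mul_mem (hx _) (hy _)) (hx _))

theorem hT_mem (hm : 2 ≤ m) (i : Fin m) {a : F} (ha : a ≠ 0) :
    hT (e i) (f i) a ∈ Subgroup.closure (localGen p (U e)) := by
  by_cases hi : i.val = 0
  swap
  · exact Subgroup.subset_closure (hT_localGen p hF i hi ha)
  set i1 : Fin m := ⟨1, by omega⟩ with hi1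
  have hne : i ≠ i1 := fun h => by rw [h, hi1] at hi; simp at hi
  have hA : ∀ c : F, B (e i) (c • f i1) = 0 := fun c => by simp [hF.ef, hne]
  have hC : ∀ c : F, B (e i1) (c • f i) = 0 := fun c => by simp [hF.ef, hne.symm]
  let A : F → Sp := fun c => qE (e i) (c • f i1) (hA c) 0
  let C : F → Sp := fun c => qE (e i1) (c • f i) (hC c) 0
  set M := A (-a) * C a⁻¹ * A (-a) * (A 1 * C (-1) * A 1) with hM
  have hAe : ∀ c j, (A c : Mat) *ᵥ e j = e j + (if j = i1 then -c else 0) • e i := by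
    intro c j
    simp only [A, qE_apply, hF.ee, map_smul, smul_eq_mul, hF.ef, zero_smul, mul_zero, add_zero,
      mul_ite, mul_neg, mul_one, zero_mul]
  have hCe : ∀ c j, (C c : Mat) *ᵥ e j = e j + (if j = i then -c else 0) • e i1 := by
    intro c j
    simp only [C, qE_apply, hF.ee, map_smul, smul_eq_mul, hF.ef, zero_smul, mul_zero, add_zero,
      mul_ite, mul_neg, mul_one, zero_mul]
  have hAf : ∀ c j, (A c : Mat) *ᵥ f j = f j + (if j = i then c else 0) • f i1 := by
    intro c j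
    simp only [A, qE_apply, hF.fe, hF.ff, map_smul, smul_eq_mul, mul_zero, zero_smul, add_zero,
      zero_mul, smul_smul]
    by_cases h : j = i <;> simp [h]
  have hCf : ∀ c j, (C c : Mat) *ᵥ f j = f j + (if j = i1 then c else 0) • f i := by
    intro c j
    simp only [C, qE_apply, hF.fe, hF.ff, map_smul, smul_eq_mul, mul_zero, zero_smul, add_zero,
      zero_mul, smul_smul]
    by_cases h : j = i1 <;> simp [h]
  have hAE : ∀ c α β : F, (A c : Mat) *ᵥ (α • e i + β • e i1) = (α - c * β) • e i + β • e i1 := by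
    intro c α β
    rw [Matrix.mulVec_add, Matrix.mulVec_smul, Matrix.mulVec_smul, hAe, hAe, if_neg hne, if_pos rfl]
    module
  have hCE : ∀ c α β : F, (C c : Mat) *ᵥ (α • e i + β • e i1) = α • e i + (β - c * α) • e i1 := by
    intro c α β
    rw [Matrix.mulVec_add, Matrix.mulVec_smul, Matrix.mulVec_smul, hCe, hCe, if_pos rfl,
      if_neg hne.symm]
    module
  have hAF : ∀ c α β : F, (A c : Mat) *ᵥ (α • f i + β • f i1) = α • f i + (β + c * α) • f i1 := by
    intro c α β
    rw [Matrix.mulVec_add, Matrix.mulVec_smul, Matrix.mulVec_smul, hAf, hAf, if_pos rfl,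
      if_neg hne.symm]
    module
  have hCF : ∀ c α β : F, (C c : Mat) *ᵥ (α • f i + β • f i1) = (α + c * β) • f i + β • f i1 := by
    intro c α β
    rw [Matrix.mulVec_add, Matrix.mulVec_smul, Matrix.mulVec_smul, hCf, hCf, if_neg hne,
      if_pos rfl]
    module
  have keyE : ∀ α β : F, (M : Mat) *ᵥ (α • e i + β • e i1) =
      (a * α) • e i + (a⁻¹ * β) • e i1 := by
    intro α β
    simp only [hM, Submonoid.coe_mul, ← Matrix.mulVec_mulVec, hAE, hCE]
    congr 2
    · field_simp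
      ring
    · field_simp
      ring
  have keyF : ∀ α β : F, (M : Mat) *ᵥ (α • f i + β • f i1) =
      (a⁻¹ * α) • f i + (a * β) • f i1 := by
    intro α β
    simp only [hM, Submonoid.coe_mul, ← Matrix.mulVec_mulVec, hAF, hCF]
    congr 2
    · field_simp
      ring
    · field_simp
      ring
  have hMe : ∀ j, (M : Mat) *ᵥ e j = (if j = i then a else if j = i1 then a⁻¹ else 1) • e j := by
    intro j
    by_cases hj : j = i
    · subst hj
      simpa using keyE 1 0
    by_cases hj1 : j = i1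
    · subst hj1
      simpa [hj] using keyE 0 1
    simp [hM, Submonoid.coe_mul, ← Matrix.mulVec_mulVec, hAe, hCe, hj, hj1]
  have hMf : ∀ j, (M : Mat) *ᵥ f j = (if j = i then a⁻¹ else if j = i1 then a else 1) • f j := by
    intro j
    by_cases hj : j = i
    · subst hj
      simpa using keyF 1 0
    by_cases hj1 : j = i1
    · subst hj1
      simpa [hj] using keyF 0 1
    simp [hM, Submonoid.coe_mul, ← Matrix.mulVec_mulVec, hAf, hCf, hj, hj1]
  have hMgen : M ∈ localGen p (U e) := by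
    refine Or.inr ⟨mem_normalizer_U hF _ hMe, Lfix e, fun g hg j => ?_, fun s hs j => ?_,
      fun u hu => ?_, ?_⟩
    · rw [hg j, sub_self]
      exact zero_mem _
    · obtain ⟨hsU, hsc⟩ := mem_centralizerIn.mp hs
      have hmem : tr (e j) 1 ∈ Lfix e := fun l => tr_fix (hF.ee l j) 1
      have e1 := tr_conj s (e j) (1 : F)
      have hcomm : s * tr (e j) 1 = tr (e j) 1 * s := by
        first
          | exact hsc _ hmem
          | exact (hsc _ hmem).symm
      rw [hcomm, mul_inv_cancel_right] at e1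
      obtain ⟨c, hc⟩ := tr_eq_tr (hF.e_ne j) one_ne_zero e1
      have h2 := (low_orth hF (hsU j)).2 j le_rfl
      rw [hc] at h2
      simp [hF.ef] at h2
      rw [hc, show c = 1 by linear_combination -h2, one_smul]
    · refine Lfix_normalizer fun j => ?_
      rw [show (u : Mat) *ᵥ e j = ((u : Mat) *ᵥ e j - e j) + e j by abel]
      exact add_mem (Submodule.span_mono (Set.image_subset_range _ _) (hu j))
        (Submodule.subset_span ⟨j, rfl⟩)
    · have hsp : ∀ l, e l ∈ Submodule.span F (Set.range e) := fun l =>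
        Submodule.subset_span ⟨l, rfl⟩
      have hx : ∀ c : F, A c ∈
          Subgroup.closure (pElts p (Subgroup.normalizer (Lfix e : Set Sp))) := fun c =>
        Subgroup.subset_closure ⟨Lfix_normalizer fun j => by
            rw [hAe]; exact add_mem (hsp _) (Submodule.smul_mem _ _ (hsp _)), 1,
          by rw [pow_one]; exact qE_pow_char p _ _⟩
      have hy : ∀ c : F, C c ∈
          Subgroup.closure (pElts p (Subgroup.normalizer (Lfix e : Set Sp))) := fun c =>
        Subgroup.subset_closure ⟨Lfix_normalizer fun j => by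
            rw [hCe]; exact add_mem (hsp _) (Submodule.smul_mem _ _ (hsp _)), 1,
          by rw [pow_one]; exact qE_pow_char p _ _⟩
      exact mul_mem (mul_mem (mul_mem (hx _) (hy _)) (hx _))
        (mul_mem (mul_mem (hx _) (hy _)) (hx _))
  have h1 := hT_localGen p hF i1 (by simp [hi1]) (inv_ne_zero ha)
  obtain ⟨he0, hf0, h0v⟩ := hT_apply (x := e i) (y := f i) (by rw [hF.fe, if_pos rfl]) ha
  obtain ⟨he1, hf1, h1v⟩ :=
    hT_apply (x := e i1) (y := f i1) (by rw [hF.fe, if_pos rfl]) (inv_ne_zero ha)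
  have hEq : hT (e i) (f i) a * hT (e i1) (f i1) a⁻¹ = M := by
    refine ext_of_frame hF (fun j => ?_) fun j => ?_
    · rw [Submonoid.coe_mul, ← Matrix.mulVec_mulVec, hMe]
      by_cases hj1 : j = i1
      · subst hj1
        rw [he1, Matrix.mulVec_smul, h0v _ (hF.ee _ _) (by rw [hF.ef, if_neg hne.symm]),
          if_neg hne.symm, if_pos rfl]
      rw [h1v _ (hF.ee _ _) (by rw [hF.ef, if_neg hj1])]
      by_cases hj : j = i
      · subst hj
        rw [he0, if_pos rfl]
      rw [h0v _ (hF.ee _ _) (by rw [hF.ef, if_neg hj]), if_neg hj, if_neg hj1, one_smul]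
    · rw [Submonoid.coe_mul, ← Matrix.mulVec_mulVec, hMf]
      by_cases hj1 : j = i1
      · subst hj1
        rw [hf1, inv_inv, Matrix.mulVec_smul,
          h0v _ (by rw [hF.fe, if_neg hne.symm]) (hF.ff _ _), if_neg hne.symm, if_pos rfl]
      rw [h1v _ (by rw [hF.fe, if_neg hj1]) (hF.ff _ _)]
      by_cases hj : j = i
      · subst hj
        rw [hf0, if_pos rfl]
      rw [h0v _ (by rw [hF.fe, if_neg hj]) (hF.ff _ _), if_neg hj, if_neg hj1, one_smul]
  rw [show hT (e i) (f i) a = M * (hT (e i1) (f i1) a⁻¹)⁻¹ by rw [← hEq, mul_inv_cancel_right]]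
  exact mul_mem (Subgroup.subset_closure hMgen) (inv_mem (Subgroup.subset_closure h1))

theorem normalizer_le (hm : 2 ≤ m) : Subgroup.normalizer (U e : Set Sp) ≤
    Subgroup.closure (localGen p (U e)) := by
  have hall : ∀ k i : ℕ, m ≤ i + k →
      Subgroup.normalizer (U e : Set Sp) ⊓ Gs e f i ≤ Subgroup.closure (localGen p (U e)) := by
    intro k
    induction k with
    | zero =>
      intro i hi g hg
      rw [eq_one_of_top hF (by omega) hg.2]
      exact one_mem _
    | succ k ih =>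
      intro i hi
      by_cases him : m ≤ i
      · exact ih i (by omega)
      intro g hg
      set j : Fin m := ⟨i, by omega⟩ with hj
      have hfix : ∀ u ∈ U e ⊓ Gs e f j.val, (u : Mat) *ᵥ ((g : Mat) *ᵥ e j) = (g : Mat) *ᵥ e j := by
        intro u hu
        have hmem : g⁻¹ * u * g ∈ U e := by
          have h1 := (Subgroup.mem_normalizer_iff.mp (inv_mem hg.1) u).1 hu.1
          rwa [inv_inv] at h1
        have h2 := fix_e hF j hmem (mul_mem (mul_mem (inv_mem hg.2) hu.2) hg.2)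
        rw [Submonoid.coe_mul, Submonoid.coe_mul, ← Matrix.mulVec_mulVec,
          ← Matrix.mulVec_mulVec] at h2
        have h3 := congrArg (fun v => (g : Mat) *ᵥ v) h2
        simp only [sp_coe_mulVec_inv] at h3
        exact h3
      obtain ⟨c, hc⟩ := fixed_eq hF j (map_W hF hg.2 (e_mem_W hF le_rfl)) hfix
      have hc0 : c ≠ 0 := fun h =>
        hF.e_ne j (sp_mulVec_injective g (a₁ := e j) (a₂ := 0) (by simp [hc, h]))
      set h := hT (e j) (f j) c⁻¹ with hh
      obtain ⟨he, -, hv⟩ :=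
        hT_apply (x := e j) (y := f j) (by rw [hF.fe, if_pos rfl]) (inv_ne_zero hc0)
      have hhN : h ∈ Subgroup.normalizer (U e : Set Sp) := by
        refine mem_normalizer_U hF (fun l => if l = j then c⁻¹ else 1) fun l => ?_
        by_cases hl : l = j
        · rw [hl, if_pos rfl, hh, he]
        · rw [if_neg hl, one_smul, hh, hv _ (hF.ee _ _) (by rw [hF.ef, if_neg hl])]
      have hhG : h ∈ Gs e f i := fun l hl => by
        have hne : l ≠ j := fun e' => by rw [e', hj] at hl; exact lt_irrefl i hl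
        exact ⟨by rw [hh, hv _ (hF.ee _ _) (by rw [hF.ef, if_neg hne])],
          by rw [hh, hv _ (by rw [hF.fe, if_neg hne]) (hF.ff _ _)]⟩
      have hfix' : ((h * g : Sp) : Mat) *ᵥ e j = e j := by
        rw [Submonoid.coe_mul, ← Matrix.mulVec_mulVec, hc, Matrix.mulVec_smul, hh, he, smul_smul,
          mul_inv_cancel₀ hc0, one_smul]
      obtain ⟨a, ha, t, haW, hr⟩ := exists_q hF j (mul_mem hhG hg.2) hfix'
      have hq := (qE_mem hF j haW ha t).1
      rw [show g = h⁻¹ * (qE _ a ha t * ((qE _ a ha t)⁻¹ * (h * g))) by group]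
      refine mul_mem (inv_mem (hh ▸ hT_mem p hF hm j (inv_ne_zero hc0)))
        (mul_mem (Subgroup.subset_closure (Or.inl hq)) (ih (i + 1) (by omega) ⟨?_, hr⟩))
      exact Subgroup.mul_mem _ (Subgroup.inv_mem _ (Subgroup.le_normalizer hq)) (Subgroup.mul_mem _ hhN hg.1)
  exact fun g hg => hall m 0 (by omega) ⟨hg, fun l hl => absurd hl (by omega)⟩

omit hF in
theorem isSimple (hm : 2 ≤ m) (hex : (∃ μ : F, μ ≠ 0 ∧ 1 + μ ≠ 0) ∨ 3 ≤ m)
    (S : Sylow p (Cfsg.PSp m F)) :
    (groupFusionSystem (S : Subgroup (Cfsg.PSp m F))).IsSimple p := by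
  haveI : Finite (Cfsg.PSp m F) := Finite.of_surjective _ (proj_surjective (m := m) (F := F))
  obtain ⟨P, hP⟩ := exists_sylow (frame_bv (m := m) (F := F)) p
  refine isSimple_gfs_of_cover (proj m F) proj_surjective
    (fun s t k l hs ht h => eq_of_proj_eq p hs ht h) P S ?_ ?_ ?_
  · rw [hP]
    intro h
    have h1 := (tr_mem (frame_bv (m := m) (F := F)) ⟨0, by omega⟩ 1).1
    rw [h] at h1
    replace h1 := Subgroup.mem_bot.1 h1
    exact tr_ne_one (frame_bv.e_ne _) one_ne_zero h1
  · rw [hP]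
    exact U_le_of_closed p frame_bv hm hex
  · rw [hP]
    exact normalizer_le p frame_bv hm

end Cfsg.Agent.Fusion.PSpSimple
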