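import Cfsg.Agent.Lib.AutPSp.Centre
import Cfsg.Agent.Lib.SL2.SylowTwo

/-!
`Sp₄` as a group of `2 × 2` matrices over the `2 × 2` matrices, and the elements
`diag (a, b)`, the exchange of the two planes, and the elements `(1 ± a) / 2`.
-/

set_option autoImplicit false
set_option linter.unusedSectionVars false

namespace Cfsg.Agent.Fusion.PSpTwoSimple

open Matrix Cfsg.Agent.SL2

universe u

variable {F : Type u} [Field F]

local notation "M2" => Matrix (Fin 2) (Fin 2) F
local notation "Mat" => Matrix (Fin 2 ⊕ Fin 2) (Fin 2 ⊕ Fin 2) F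
local notation "Sp" => Matrix.symplecticGroup (Fin 2) F
local notation "G2" => Matrix.SpecialLinearGroup (Fin 2) F

/-- The plane of an index. -/
def pl : Fin 2 ⊕ Fin 2 → Fin 2 := Sum.elim id id

/-- The coordinate in its plane of an index. -/
def co : Fin 2 ⊕ Fin 2 → Fin 2 := Sum.elim (fun _ => 0) (fun _ => 1)

/-- The matrix with the given blocks at the two planes. -/
def blk (A B C D : Matrix (Fin 2) (Fin 2) F) : Matrix (Fin 2 ⊕ Fin 2) (Fin 2 ⊕ Fin 2) F :=
  Matrix.of fun x y => (if pl x = 0 then (if pl y = 0 then A else B)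
    else (if pl y = 0 then C else D)) (co x) (co y)

theorem blk_mul (A B C D A' B' C' D' : M2) : blk A B C D * blk A' B' C' D' =
    blk (A * A' + B * C') (A * B' + B * D') (C * A' + D * C') (C * B' + D * D') := by
  ext x y
  rcases x with x | x <;> rcases y with y | y <;> fin_cases x <;> fin_cases y <;>
    simp [blk, pl, co, Matrix.mul_apply, Fintype.sum_sum_type, Fin.sum_univ_two] <;> ring

theorem blk_one : blk (1 : M2) 0 0 1 = (1 : Mat) := by
  ext x y
  rcases x with x | x <;> rcases y with y | y <;> fin_cases x <;> fin_cases y <;>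
    simp [blk, pl, co, Matrix.one_apply]

theorem blk_neg (A B C D : M2) : -blk A B C D = blk (-A) (-B) (-C) (-D) := by
  ext x y
  rcases x with x | x <;> rcases y with y | y <;> fin_cases x <;> fin_cases y <;>
    simp [blk, pl, co]

theorem blk_injective {A B C D A' B' C' D' : M2} (h : blk A B C D = blk A' B' C' D') :
    A = A' ∧ B = B' ∧ C = C' ∧ D = D' := by
  have h' := fun x y => congrFun (congrFun h x) y
  refine ⟨?_, ?_, ?_, ?_⟩ <;> apply mext
  · simpa [blk, pl, co] using h' (.inl 0) (.inl 0)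
  · simpa [blk, pl, co] using h' (.inl 0) (.inr 0)
  · simpa [blk, pl, co] using h' (.inr 0) (.inl 0)
  · simpa [blk, pl, co] using h' (.inr 0) (.inr 0)
  · simpa [blk, pl, co] using h' (.inl 0) (.inl 1)
  · simpa [blk, pl, co] using h' (.inl 0) (.inr 1)
  · simpa [blk, pl, co] using h' (.inr 0) (.inl 1)
  · simpa [blk, pl, co] using h' (.inr 0) (.inr 1)
  · simpa [blk, pl, co] using h' (.inl 1) (.inl 0)
  · simpa [blk, pl, co] using h' (.inl 1) (.inr 0)
  · simpa [blk, pl, co] using h' (.inr 1) (.inl 0)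
  · simpa [blk, pl, co] using h' (.inr 1) (.inr 0)
  · simpa [blk, pl, co] using h' (.inl 1) (.inl 1)
  · simpa [blk, pl, co] using h' (.inl 1) (.inr 1)
  · simpa [blk, pl, co] using h' (.inr 1) (.inl 1)
  · simpa [blk, pl, co] using h' (.inr 1) (.inr 1)

theorem exists_blk (M : Mat) : ∃ A B C D : M2, M = blk A B C D := by
  refine ⟨!![M (.inl 0) (.inl 0), M (.inl 0) (.inr 0); M (.inr 0) (.inl 0), M (.inr 0) (.inr 0)],
    !![M (.inl 0) (.inl 1), M (.inl 0) (.inr 1); M (.inr 0) (.inl 1), M (.inr 0) (.inr 1)],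
    !![M (.inl 1) (.inl 0), M (.inl 1) (.inr 0); M (.inr 1) (.inl 0), M (.inr 1) (.inr 0)],
    !![M (.inl 1) (.inl 1), M (.inl 1) (.inr 1); M (.inr 1) (.inl 1), M (.inr 1) (.inr 1)], ?_⟩
  ext x y
  rcases x with x | x <;> rcases y with y | y <;> fin_cases x <;> fin_cases y <;>
    simp [blk, pl, co]

theorem blk_transpose (A B C D : M2) : (blk A B C D)ᵀ = blk Aᵀ Cᵀ Bᵀ Dᵀ := by
  ext x y
  rcases x with x | x <;> rcases y with y | y <;> fin_cases x <;> fin_cases y <;>
    simp [blk, pl, co]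

theorem J_eq : Matrix.J (Fin 2) F = blk (!![0, -1; 1, 0]) 0 0 (!![0, -1; 1, 0]) := by
  ext x y
  rcases x with x | x <;> rcases y with y | y <;> fin_cases x <;> fin_cases y <;>
    simp [blk, pl, co, Matrix.J]

theorem mul_j_transpose (A C : M2) :
    A * !![0, -1; 1, 0] * Cᵀ = A * C.adjugate * !![0, -1; 1, 0] := by
  apply mext <;> simp [Matrix.mul_apply, Fin.sum_univ_two, Matrix.adjugate_fin_two] <;> ring

theorem mul_j_transpose_self (A : M2) :
    A * !![0, -1; 1, 0] * Aᵀ = A.det • !![0, -1; 1, 0] := by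
  apply mext <;> simp [Matrix.mul_apply, Fin.sum_univ_two, Matrix.det_fin_two] <;> ring

theorem adj_swap {A B C D : M2} (h : A * C.adjugate + B * D.adjugate = 0) :
    C * A.adjugate + D * B.adjugate = 0 := by
  have h00 := congrFun (congrFun h 0) 0
  have h01 := congrFun (congrFun h 0) 1
  have h10 := congrFun (congrFun h 1) 0
  have h11 := congrFun (congrFun h 1) 1
  simp [Matrix.mul_apply, Fin.sum_univ_two, Matrix.adjugate_fin_two] at h00 h01 h10 h11
  apply mext <;> simp [Matrix.mul_apply, Fin.sum_univ_two, Matrix.adjugate_fin_two]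
  · linear_combination h11
  · linear_combination -h01
  · linear_combination -h10
  · linear_combination h00

theorem blk_mem {A B C D : M2} (h1 : A.det + B.det = 1) (h2 : C.det + D.det = 1)
    (h3 : A * C.adjugate + B * D.adjugate = 0) :
    blk A B C D ∈ Matrix.symplecticGroup (Fin 2) F := by
  rw [SymplecticGroup.mem_iff, J_eq, blk_transpose, blk_mul, blk_mul]
  simp only [mul_zero, add_zero, zero_add]
  rw [mul_j_transpose_self, mul_j_transpose_self, mul_j_transpose_self, mul_j_transpose_self,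
    mul_j_transpose, mul_j_transpose, mul_j_transpose, mul_j_transpose, ← add_smul, ← add_smul,
    ← add_mul, ← add_mul, h1, h2, h3, adj_swap h3, one_smul, zero_mul]

theorem det_of_mem {A B C D : M2} (h : blk A B C D ∈ Matrix.symplecticGroup (Fin 2) F) :
    A.det + B.det = 1 ∧ C.det + D.det = 1 := by
  rw [SymplecticGroup.mem_iff, J_eq, blk_transpose, blk_mul, blk_mul] at h
  simp only [mul_zero, add_zero, zero_add] at h
  rw [mul_j_transpose_self, mul_j_transpose_self, mul_j_transpose_self, mul_j_transpose_self,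
    ← add_smul, ← add_smul] at h
  obtain ⟨ha, -, -, hd⟩ := blk_injective h
  have ea := congrFun (congrFun ha 1) 0
  have ed := congrFun (congrFun hd 1) 0
  simp at ea ed
  exact ⟨ea, ed⟩

theorem sp_ext {s t : Sp} (h : (s : Mat) = (t : Mat)) : s = t := Subtype.ext h

/-- The element acting by `a` and `b` on the two planes. -/
def dg (a b : Matrix.SpecialLinearGroup (Fin 2) F) : Matrix.symplecticGroup (Fin 2) F :=
  ⟨blk (a : M2) 0 0 (b : M2), blk_mem (by simp) (by simp) (by simp)⟩

theorem dg_coe (a b : G2) : ((dg a b : Sp) : Mat) = blk (a : M2) 0 0 (b : M2) := rfl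

theorem dg_mul (a b a' b' : G2) : dg a b * dg a' b' = dg (a * a') (b * b') :=
  sp_ext (by rw [Submonoid.coe_mul, dg_coe, dg_coe, dg_coe, blk_mul]; simp)

theorem dg_one : dg (1 : G2) 1 = 1 := sp_ext (by rw [dg_coe]; simp [blk_one])

theorem dg_inv (a b : G2) : (dg a b)⁻¹ = dg a⁻¹ b⁻¹ :=
  inv_eq_of_mul_eq_one_right (by rw [dg_mul, mul_inv_cancel, mul_inv_cancel, dg_one])

theorem dg_inj {a b a' b' : G2} (h : dg a b = dg a' b') : a = a' ∧ b = b' := by
  obtain ⟨ha, -, -, hb⟩ := blk_injective (congrArg Subtype.val h)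
  exact ⟨Subtype.ext ha, Subtype.ext hb⟩

variable (F) in
/-- The exchange of the two planes. -/
def ws : Matrix.symplecticGroup (Fin 2) F :=
  ⟨blk 0 1 1 0, blk_mem (by simp [Matrix.det_zero]) (by simp [Matrix.det_zero]) (by simp)⟩

theorem ws_coe : ((ws F : Sp) : Mat) = blk 0 1 1 0 := rfl

theorem ws_mul_self : ws F * ws F = 1 :=
  sp_ext (by rw [Submonoid.coe_mul, ws_coe, blk_mul]; simp [blk_one])

theorem ws_inv : (ws F)⁻¹ = ws F := inv_eq_of_mul_eq_one_right ws_mul_self

theorem ws_dg (a b : G2) : ws F * dg a b = dg b a * ws F :=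
  sp_ext (by rw [Submonoid.coe_mul, Submonoid.coe_mul, ws_coe, dg_coe, dg_coe, blk_mul, blk_mul]
             simp)

theorem dg_ws_coe (a b : G2) : ((dg a b * ws F : Sp) : Mat) = blk 0 (a : M2) (b : M2) 0 := by
  rw [Submonoid.coe_mul, ws_coe, dg_coe, blk_mul]; simp

theorem dg_ne_ws (a b a' b' : G2) : dg a b ≠ dg a' b' * ws F := by
  intro h
  have h' := congrArg Subtype.val h
  rw [dg_ws_coe] at h'
  have := congrArg Matrix.det (blk_injective h').1
  simp [Matrix.det_zero] at this

theorem dg_neg_coe (a b : G2) : ((dg (-a) (-b) : Sp) : Mat) = -((dg a b : Sp) : Mat) := by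
  rw [dg_coe, dg_coe, blk_neg, neg_zero, Matrix.SpecialLinearGroup.coe_neg,
    Matrix.SpecialLinearGroup.coe_neg]

variable (F) in
/-- The element `-1`. -/
def cs : Matrix.symplecticGroup (Fin 2) F := dg (-1) (-1)

theorem cs_coe : ((cs F : Sp) : Mat) = -1 := by
  rw [cs, dg_neg_coe, dg_one, Submonoid.coe_one]

theorem cs_mul_dg (a b : G2) : cs F * dg a b = dg (-a) (-b) := by
  rw [cs, dg_mul, neg_one_mul, neg_one_mul]

theorem proj_eq' {s t : Sp} :
    AutPSp.proj 2 F s = AutPSp.proj 2 F t ↔ s = t ∨ s = cs F * t := by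
  rw [AutPSp.proj_eq_iff]
  have hcc : cs F * cs F = 1 := by
    rw [cs, dg_mul, neg_mul_neg, mul_one, dg_one]
  have hcent : cs F * t = t * cs F := sp_ext (by
    rw [Submonoid.coe_mul, Submonoid.coe_mul, cs_coe, neg_one_mul, mul_neg_one])
  constructor
  · rintro (h | h)
    · exact Or.inl (inv_mul_eq_one.1 (sp_ext h))
    · refine Or.inr ?_
      have h' : s⁻¹ * t = cs F := sp_ext (by rw [h, cs_coe])
      rw [inv_mul_eq_iff_eq_mul] at h'
      rw [hcent, h', mul_assoc, hcc, mul_one]
  · rintro (h | h)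
    · left
      rw [h, inv_mul_cancel]; rfl
    · right
      rw [h, hcent, _root_.mul_inv_rev, mul_assoc, inv_mul_cancel, mul_one,
        inv_eq_of_mul_eq_one_right hcc, cs_coe]

/-- The element `(1/2) ((1 + a, 1 - a), (1 - a, 1 + a))` for `a² = -1`. -/
def mixE (h2 : (2 : F) ≠ 0) {a : Matrix.SpecialLinearGroup (Fin 2) F} (ha : a * a = -1) :
    Matrix.symplecticGroup (Fin 2) F :=
  ⟨blk ((2 : F)⁻¹ • (1 + (a : M2))) ((2 : F)⁻¹ • (1 - (a : M2)))
      ((2 : F)⁻¹ • (1 - (a : M2))) ((2 : F)⁻¹ • (1 + (a : M2))), by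
    have ht : (a : M2).trace = 0 := (trace_eq a).trans (tr_zero_of_sq h2 ha)
    have hd : (a : M2).det = 1 := a.2
    rw [Matrix.trace_fin_two] at ht
    rw [Matrix.det_fin_two] at hd
    refine blk_mem ?_ ?_ ?_
    · simp [Matrix.det_fin_two]
      field_simp
      linear_combination 2 * hd
    · simp [Matrix.det_fin_two]
      field_simp
      linear_combination 2 * hd
    · apply mext <;>
        simp [Matrix.mul_apply, Fin.sum_univ_two, Matrix.adjugate_fin_two] <;>
        field_simp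
      · linear_combination (-2 : F) * hd
      · ring
      · ring
      · linear_combination (-2 : F) * hd⟩

theorem mixE_coe (h2 : (2 : F) ≠ 0) {a : G2} (ha : a * a = -1) :
    ((mixE h2 ha : Sp) : Mat) = blk ((2 : F)⁻¹ • (1 + (a : M2))) ((2 : F)⁻¹ • (1 - (a : M2)))
      ((2 : F)⁻¹ • (1 - (a : M2))) ((2 : F)⁻¹ • (1 + (a : M2))) := rfl

theorem coe_sq_neg {a : G2} (ha : a * a = -1) : (a : M2) * (a : M2) = -1 := by
  rw [← Matrix.SpecialLinearGroup.coe_mul, ha, coe_neg', Matrix.SpecialLinearGroup.coe_one]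

theorem mixE_sq (h2 : (2 : F) ≠ 0) {a : G2} (ha : a * a = -1) :
    mixE h2 ha * mixE h2 ha = ws F := by
  apply sp_ext
  rw [Submonoid.coe_mul, mixE_coe, blk_mul, ws_coe]
  have hA := coe_sq_neg ha
  congr 1 <;>
    simp only [smul_mul_assoc, mul_smul_comm, add_mul, mul_add, sub_mul, mul_sub, one_mul, mul_one,
      hA] <;> match_scalars <;> field_simp <;> ring

theorem mixE_ws (h2 : (2 : F) ≠ 0) {a : G2} (ha : a * a = -1) :
    mixE h2 ha * ws F = ws F * mixE h2 ha := by
  apply sp_ext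
  rw [Submonoid.coe_mul, Submonoid.coe_mul, mixE_coe, ws_coe, blk_mul, blk_mul]
  simp

theorem mixE_dg_comm (h2 : (2 : F) ≠ 0) {a b : G2} (ha : a * a = -1) (hab : b * a = a * b) :
    mixE h2 ha * dg b b = dg b b * mixE h2 ha := by
  apply sp_ext
  rw [Submonoid.coe_mul, Submonoid.coe_mul, mixE_coe, dg_coe, blk_mul, blk_mul]
  have hA : (b : M2) * (a : M2) = (a : M2) * (b : M2) := by
    rw [← Matrix.SpecialLinearGroup.coe_mul, hab, Matrix.SpecialLinearGroup.coe_mul]
  congr 1 <;>
    simp only [smul_mul_assoc, mul_smul_comm, add_mul, mul_add, sub_mul, mul_sub, one_mul, mul_one,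
      mul_zero, zero_mul, add_zero, zero_add, hA] <;> module

theorem mixE_dg_anti (h2 : (2 : F) ≠ 0) {a b : G2} (ha : a * a = -1) (hab : b * a = -(a * b)) :
    mixE h2 ha * dg b b = dg b b * ws F * mixE h2 ha := by
  apply sp_ext
  rw [Submonoid.coe_mul, Submonoid.coe_mul, dg_ws_coe, mixE_coe, dg_coe, blk_mul, blk_mul]
  have hA : (b : M2) * (a : M2) = -((a : M2) * (b : M2)) := by
    rw [← Matrix.SpecialLinearGroup.coe_mul, hab, coe_neg', Matrix.SpecialLinearGroup.coe_mul]
  congr 1 <;>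
    simp only [smul_mul_assoc, mul_smul_comm, add_mul, mul_add, sub_mul, mul_sub, one_mul, mul_one,
      mul_zero, zero_mul, add_zero, zero_add, hA] <;> match_scalars <;> ring

theorem mixE_ts (h2 : (2 : F) ≠ 0) {a : G2} (ha : a * a = -1) :
    mixE h2 ha * dg 1 (-1) = dg a a * dg 1 (-1) * ws F * mixE h2 ha := by
  apply sp_ext
  rw [dg_mul, Submonoid.coe_mul, Submonoid.coe_mul, dg_ws_coe, mixE_coe, dg_coe, blk_mul, blk_mul]
  have hA := coe_sq_neg ha
  simp only [Matrix.SpecialLinearGroup.coe_mul, Matrix.SpecialLinearGroup.coe_one, coe_neg']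
  congr 1 <;>
    simp only [smul_mul_assoc, mul_smul_comm, add_mul, mul_add, sub_mul, mul_sub, one_mul, mul_one,
      mul_zero, zero_mul, add_zero, zero_add, mul_neg, neg_mul, hA] <;> match_scalars <;> ring

/-- The diagonal element of order three is a product of the others. -/
theorem omega_word (h2 : (2 : F) ≠ 0) {i j w : G2} (hp : QPair i j)
    (hw : (w : M2) = (2 : F)⁻¹ • (-1 + (i : M2) + (j : M2) + (i : M2) * (j : M2))) :
    dg w w * (dg (i * j) (i * j) * dg 1 (-1) * ws F) =
      dg i 1 * mixE h2 hp.jsq * dg (i * j) 1 * mixE h2 hp.isq := by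
  apply sp_ext
  simp only [dg_mul, Submonoid.coe_mul, ws_coe, mixE_coe, dg_coe, blk_mul]
  have hI := coe_sq_neg hp.isq
  have hJ := coe_sq_neg hp.jsq
  have hA : (j : M2) * (i : M2) = -((i : M2) * (j : M2)) := by
    rw [← Matrix.SpecialLinearGroup.coe_mul, hp.anti, coe_neg', Matrix.SpecialLinearGroup.coe_mul]
  have hI' : ∀ X : M2, (i : M2) * ((i : M2) * X) = -X := fun X => by
    rw [← mul_assoc, hI, neg_one_mul]
  have hJ' : ∀ X : M2, (j : M2) * ((j : M2) * X) = -X := fun X => by
    rw [← mul_assoc, hJ, neg_one_mul]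
  have hA' : ∀ X : M2, (j : M2) * ((i : M2) * X) = -((i : M2) * ((j : M2) * X)) := fun X => by
    rw [← mul_assoc, hA, neg_mul, mul_assoc]
  simp only [Matrix.SpecialLinearGroup.coe_mul, Matrix.SpecialLinearGroup.coe_one, coe_neg', hw]
  congr 1 <;>
    simp only [smul_mul_assoc, mul_smul_comm, add_mul, mul_add, sub_mul, mul_sub, neg_mul, mul_neg,
      one_mul, mul_one, mul_zero, zero_mul, add_zero, zero_add, mul_assoc, hI, hJ, hA, hI', hJ',
      hA', neg_neg, smul_neg, smul_add, smul_sub, smul_smul] <;>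
    match_scalars <;> field_simp <;> ring

end Cfsg.Agent.Fusion.PSpTwoSimple
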