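import Cfsg.Agent.Lib.Fusion.Invariant
import Cfsg.Agent.Lib.Fusion.Group
import Cfsg.Agent.Lib.Fusion.CoreDecomp

/-!
A criterion for the fusion system of a finite group to be simple.
-/

set_option autoImplicit false

namespace Cfsg.Agent.Fusion

open Cfsg.FusionSystem (centralizerIn normalizerIn)

universe u

variable {G : Type u} [Group G] {p : ℕ}

/-- The `p`-elements of a subgroup. -/
def pElts (p : ℕ) (X : Subgroup G) : Set G := {x | x ∈ X ∧ ∃ k, x ^ p ^ k = 1}

/-- The elements normalizing `S` that come from the `p`-elements normalizing a centric normal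
subgroup of `S`. -/
def localGen (p : ℕ) (S : Subgroup G) : Set G :=
  (S : Set G) ∪ {g | g ∈ Subgroup.normalizer (S : Set G) ∧ ∃ Q ≤ S, centralizerIn S Q ≤ Q ∧
    S ≤ Subgroup.normalizer (Q : Set G) ∧
    g ∈ Subgroup.closure (pElts p (Subgroup.normalizer (Q : Set G)))}

theorem autFun_normalizerMonoidHom {Q : Subgroup G} (g : Subgroup.normalizer (Q : Set G)) {x : G}
    (hx : x ∈ Q) : autFun (Q.normalizerMonoidHom g) x = (g : G) * x * (g : G)⁻¹ := by
  rw [autFun_apply _ hx]
  rfl

variable [Finite G] [Fact p.Prime]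

theorem normalizerMonoidHom_mem_autGroup {S : Sylow p G} {Q : Subgroup G} (hQ : Q ≤ (S : Subgroup G))
    (g : Subgroup.normalizer (Q : Set G)) :
    Q.normalizerMonoidHom g ∈ (groupFusionSystem (S : Subgroup G)).autGroup Q := by
  rw [autGroup_gfs hQ, mem_autInducedBy_iff_cj]
  exact ⟨g, Subgroup.mem_top _, fun x hx => autFun_normalizerMonoidHom g hx⟩

/-- The elements of `localGen` act on `S` inside every weakly normal subsystem over `S`. -/
theorem mapTo_cj_of_localGen {S : Sylow p G} {E : FusionSystem (S : Subgroup G)}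
    (hE : E.IsWeaklyNormalIn (groupFusionSystem (S : Subgroup G)) p) {g : G}
    (hg : g ∈ localGen p (S : Subgroup G)) : MapTo E S (cj g) := by
  rcases hg with hg | ⟨hgN, Q, hQS, hQC, hQn, hgQ⟩
  · exact mapTo_cj le_rfl hg
  have hfn : (groupFusionSystem (S : Subgroup G)).IsFullyNormalized Q :=
    isFullyNormalized_of_normal hQS hQn
  have hc : (groupFusionSystem (S : Subgroup G)).IsCentric Q :=
    isCentric_of_isFullyCentralized
      (isFullyCentralized_of_isFullyNormalized S.2 (isSaturated_gfs S) hfn) hQC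
  set N := Subgroup.normalizer (Q : Set G)
  set A := (E.autGroup Q).comap Q.normalizerMonoidHom with hA
  have hle : Subgroup.closure (pElts p N) ≤ A.map N.subtype := by
    rw [Subgroup.closure_le]
    rintro x ⟨hxN, k, hk⟩
    refine ⟨⟨x, hxN⟩, ?_, rfl⟩
    refine mem_of_pow_eq_one_of_normal S.2
      (isFullyAutomized_of_isFullyNormalized S.2 (isSaturated_gfs S) hfn)
      (IsInvariantIn.normal_autGroup hE.2.2 hQS) (autInducedBy_le_autGroup hQS)
      (normalizerMonoidHom_mem_autGroup hQS _) (k := k) ?_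
    rw [← map_pow, show (⟨x, hxN⟩ : N) ^ p ^ k = 1 from Subtype.ext hk, map_one]
  obtain ⟨a, ha, rfl⟩ := hle hgQ
  have hQE : MapTo E Q (cj (a : G)) :=
    (mapTo_of_mem_autGroup hQS ha).congr' fun x hx => (autFun_normalizerMonoidHom a hx).symm
  refine mapTo_top_of_centric S.2 (isSaturated_gfs S) hE.1 hE.2.2.1
    (mapTo_gfs_cj le_rfl fun x hx => (Subgroup.mem_normalizer_iff.mp hgN x).mp hx) hc ?_ hQE
  exact img_eq_self_of_forall hQE fun x hx => (Subgroup.mem_normalizer_iff.mp a.2 x).mp hx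

/-- The criterion, at the Sylow subgroup itself. -/
theorem isSimple_gfs_self (S : Sylow p G) (hS1 : (S : Subgroup G) ≠ ⊥)
    (hsc : ∀ T : Subgroup G, T ≤ S → T ≠ ⊥ →
      (∀ g : G, ∀ x ∈ T, g * x * g⁻¹ ∈ (S : Subgroup G) → g * x * g⁻¹ ∈ T) →
      (S : Subgroup G) ≤ T)
    (hgen : Subgroup.normalizer ((S : Subgroup G) : Set G) ≤
      Subgroup.closure (localGen p (S : Subgroup G))) :
    (groupFusionSystem (S : Subgroup G)).IsSimple p := by
  refine isSimple_of_forall (isSaturated_gfs S) hS1 (fun T hT => ?_) fun E hE α hα => ?_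
  · by_cases h : T = ⊥
    · exact Or.inl h
    refine Or.inr (le_antisymm hT.1 (hsc T hT.1 h fun g x hx hgx => ?_))
    have hm : MapTo (groupFusionSystem (S : Subgroup G)) (Subgroup.zpowers x) (cj g) :=
      mapTo_gfs_cj (Subgroup.zpowers_le.mpr (hT.1 hx)) fun y hy => by
        obtain ⟨k, rfl⟩ := Subgroup.mem_zpowers_iff.mp hy
        rw [← conj_zpow]
        exact Subgroup.zpow_mem _ hgx k
    exact (stronglyClosed_iff.mp hT).2 _ _ (Subgroup.zpowers_le.mpr hx) hm x
      (Subgroup.mem_zpowers x)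
  rw [autGroup_gfs le_rfl, mem_autInducedBy_iff_cj] at hα
  obtain ⟨g, -, hg⟩ := hα
  set N := Subgroup.normalizer ((S : Subgroup G) : Set G)
  set A := ((E.autGroup (S : Subgroup G)).comap (S : Subgroup G).normalizerMonoidHom).map N.subtype
  have hle : Subgroup.closure (localGen p (S : Subgroup G)) ≤ A := by
    rw [Subgroup.closure_le]
    intro x hx
    have hxN : x ∈ N := hx.elim (fun h => Subgroup.le_normalizer h) fun h => h.1
    refine ⟨⟨x, hxN⟩, (mem_autGroup_iff le_rfl).mpr ?_, rfl⟩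
    exact (mapTo_cj_of_localGen hE hx).congr' fun y hy => autFun_normalizerMonoidHom _ hy
  have hgN : g ∈ N := mem_normalizer_of_forall fun y hy => by
    show cj g y ∈ (S : Subgroup G)
    rw [← hg y hy]
    exact autFun_mem α hy
  obtain ⟨a, ha, hag⟩ := hle (hgen hgN)
  have hαa : α = (S : Subgroup G).normalizerMonoidHom a := by
    refine autFun_ext fun y hy => ?_
    rw [hg y hy, autFun_normalizerMonoidHom a hy, ← hag]
    rfl
  rw [hαa]
  exact ha

/-- The criterion, checked at any one Sylow subgroup. -/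
theorem isSimple_gfs (S₀ S : Sylow p G) (hS1 : (S₀ : Subgroup G) ≠ ⊥)
    (hsc : ∀ T : Subgroup G, T ≤ S₀ → T ≠ ⊥ →
      (∀ g : G, ∀ x ∈ T, g * x * g⁻¹ ∈ (S₀ : Subgroup G) → g * x * g⁻¹ ∈ T) →
      (S₀ : Subgroup G) ≤ T)
    (hgen : Subgroup.normalizer ((S₀ : Subgroup G) : Set G) ≤
      Subgroup.closure (localGen p (S₀ : Subgroup G))) :
    (groupFusionSystem (S : Subgroup G)).IsSimple p := by
  obtain ⟨y, hy⟩ := MulAction.exists_smul_eq G S₀ S
  have hS : (S : Subgroup G) = (S₀ : Subgroup G).map (MulAut.conj y).toMonoidHom := hy ▸ rfl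
  set c := MulAut.conj y
  refine isSimple_gfs_self S (fun h => hS1 ?_) (fun T hTS hT1 hT => ?_) ?_
  · rw [hS] at h
    exact (Subgroup.map_eq_bot_iff_of_injective _ c.injective).mp h
  · have hmem : ∀ {x}, x ∈ T.comap c.toMonoidHom → c x ∈ T := fun h => h
    have h0 := hsc (T.comap c.toMonoidHom) (fun x hx => by
      obtain ⟨z, hz, hzx⟩ := hS.le (hTS (hmem hx))
      exact c.injective hzx ▸ hz) (fun h => hT1 ?_) fun g x hx hgx => ?_
    · intro z hz
      obtain ⟨w, hw, rfl⟩ := hS.le hz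
      exact h0 hw
    · rw [← Subgroup.map_comap_eq_self_of_surjective c.surjective T (f := c.toMonoidHom), h,
        Subgroup.map_bot]
    · show c (g * x * g⁻¹) ∈ T
      have h1 := hT (c g) (c x) (hmem hx) (hS.ge ⟨_, hgx, by simp⟩)
      simpa using h1
  · rw [hS, show ((S₀ : Subgroup G).map c.toMonoidHom : Set G) = _ from rfl,
      ← Subgroup.map_equiv_normalizer_eq (S₀ : Subgroup G) c]
    refine (Subgroup.map_mono hgen).trans ?_
    rw [MonoidHom.map_closure, Subgroup.closure_le]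
    rintro _ ⟨g, hg, rfl⟩
    refine Subgroup.subset_closure ?_
    rcases hg with hg | ⟨hgN, Q, hQS, hQC, hQn, hgQ⟩
    · exact Or.inl ⟨g, hg, rfl⟩
    refine Or.inr ⟨?_, Q.map c.toMonoidHom, Subgroup.map_mono hQS, ?_, ?_, ?_⟩
    · rw [← Subgroup.map_equiv_normalizer_eq (S₀ : Subgroup G) c]
      exact ⟨g, hgN, rfl⟩
    · rintro z hz
      obtain ⟨hzS, hzc⟩ := mem_centralizerIn.mp hz
      obtain ⟨w, hw, rfl⟩ := hzS
      refine ⟨w, hQC (mem_centralizerIn.mpr ⟨hw, fun q hq => c.injective ?_⟩), rfl⟩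
      rw [map_mul, map_mul]
      exact hzc _ ⟨q, hq, rfl⟩
    · rw [← Subgroup.map_equiv_normalizer_eq Q c]
      exact Subgroup.map_mono hQn
    · have h1 := Subgroup.mem_map_of_mem c.toMonoidHom hgQ
      rw [MonoidHom.map_closure] at h1
      refine Subgroup.closure_mono ?_ h1
      rintro _ ⟨x, ⟨hxN, k, hk⟩, rfl⟩
      refine ⟨?_, k, by rw [← map_pow, hk, map_one]⟩
      rw [← Subgroup.map_equiv_normalizer_eq Q c]
      exact ⟨x, hxN, rfl⟩

end Cfsg.Agent.Fusion
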