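import Cfsg.Agent.Lib.Fusion.PSpTwoBlocks
import Cfsg.Agent.Lib.Fusion.SimpleGroupSystem
import Cfsg.Agent.Lib.Forms.SpOrder

/-!
The 2-fusion system of `PSp₄(q)`, `q` odd, is simple.
-/

set_option autoImplicit false
set_option linter.unusedSectionVars false

namespace Cfsg.Agent.Fusion.PSpTwoSimple

open Matrix Cfsg.Agent.SL2
open Cfsg.FusionSystem (centralizerIn normalizerIn)

universe u

variable {F : Type u} [Field F]

local notation "M2" => Matrix (Fin 2) (Fin 2) F
local notation "Mat" => Matrix (Fin 2 ⊕ Fin 2) (Fin 2 ⊕ Fin 2) F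
local notation "Sp" => Matrix.symplecticGroup (Fin 2) F
local notation "G2" => Matrix.SpecialLinearGroup (Fin 2) F
local notation "PSpG" => Cfsg.PSp 2 F
local notation "π" => AutPSp.proj 2 F

/-- The group of `diag (a, b)` and `diag (a, b) w` with `a, b ∈ Q`. -/
def St (Q : Subgroup (Matrix.SpecialLinearGroup (Fin 2) F)) :
    Subgroup (Matrix.symplecticGroup (Fin 2) F) where
  carrier := {g | ∃ a ∈ Q, ∃ b ∈ Q, g = dg a b ∨ g = dg a b * ws F}
  one_mem' := ⟨1, one_mem Q, 1, one_mem Q, Or.inl dg_one.symm⟩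
  mul_mem' := by
    rintro _ _ ⟨a, ha, b, hb, rfl | rfl⟩ ⟨a', ha', b', hb', rfl | rfl⟩
    · exact ⟨_, mul_mem ha ha', _, mul_mem hb hb', Or.inl (dg_mul _ _ _ _)⟩
    · exact ⟨_, mul_mem ha ha', _, mul_mem hb hb', Or.inr (by rw [← mul_assoc, dg_mul])⟩
    · exact ⟨_, mul_mem ha hb', _, mul_mem hb ha', Or.inr
        (by rw [mul_assoc, ws_dg, ← mul_assoc, dg_mul])⟩
    · exact ⟨_, mul_mem ha hb', _, mul_mem hb ha', Or.inl
        (by rw [mul_assoc, ← mul_assoc (ws F), ws_dg, mul_assoc (dg b' a'), ws_mul_self, mul_one,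
          dg_mul])⟩
  inv_mem' := by
    rintro _ ⟨a, ha, b, hb, rfl | rfl⟩
    · exact ⟨_, inv_mem ha, _, inv_mem hb, Or.inl (dg_inv a b)⟩
    · exact ⟨_, inv_mem hb, _, inv_mem ha, Or.inr
        (by rw [_root_.mul_inv_rev, ws_inv, dg_inv, ws_dg])⟩

theorem dg_mem_St {Q : Subgroup G2} {a b : G2} : dg a b ∈ St Q ↔ a ∈ Q ∧ b ∈ Q := by
  refine ⟨?_, fun h => ⟨a, h.1, b, h.2, Or.inl rfl⟩⟩
  rintro ⟨a', ha', b', hb', h | h⟩
  · obtain ⟨rfl, rfl⟩ := dg_inj h
    exact ⟨ha', hb'⟩
  · exact absurd h (dg_ne_ws _ _ _ _)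

theorem dg_ws_mem_St {Q : Subgroup G2} {a b : G2} :
    dg a b * ws F ∈ St Q ↔ a ∈ Q ∧ b ∈ Q := by
  refine ⟨?_, fun h => ⟨a, h.1, b, h.2, Or.inr rfl⟩⟩
  rintro ⟨a', ha', b', hb', h | h⟩
  · exact absurd h.symm (dg_ne_ws _ _ _ _)
  · obtain ⟨rfl, rfl⟩ := dg_inj (mul_right_cancel h)
    exact ⟨ha', hb'⟩

theorem ws_mem_St (Q : Subgroup G2) : ws F ∈ St Q := by
  have h := (dg_ws_mem_St (Q := Q) (a := 1) (b := 1)).2 ⟨one_mem Q, one_mem Q⟩
  rwa [dg_one, one_mul] at h

variable [Fintype F]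

theorem neg_one_mem (hodd : Odd (Fintype.card F)) (Q : Sylow 2 G2) :
    (-1 : G2) ∈ (Q : Subgroup G2) := by
  obtain ⟨i, j, a, hp, hi, -⟩ := sylow_two_structure hodd Q
  rw [← hp.isq]
  exact mul_mem hi hi

theorem cs_mem_St (hodd : Odd (Fintype.card F)) (Q : Sylow 2 G2) :
    cs F ∈ St (Q : Subgroup G2) :=
  dg_mem_St.2 ⟨neg_one_mem hodd Q, neg_one_mem hodd Q⟩

theorem proj_mem_iff (hodd : Odd (Fintype.card F)) (Q : Sylow 2 G2) {x : Sp} :
    π x ∈ (St (Q : Subgroup G2)).map π ↔ x ∈ St (Q : Subgroup G2) := by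
  refine ⟨?_, fun h => ⟨x, h, rfl⟩⟩
  rintro ⟨s, hs, e⟩
  rcases proj_eq'.1 e.symm with h | h
  · exact h ▸ hs
  · exact h ▸ mul_mem (cs_mem_St hodd Q) hs

theorem neg_ne (hodd : Odd (Fintype.card F)) (g : G2) : -g ≠ g :=
  QPair.eq_scal_of_commute.neg_ne_self' (two_ne_zero' hodd) g

/-- The elements commuting with `St Q` up to sign. -/
theorem center_mod (hodd : Odd (Fintype.card F)) (Q : Sylow 2 G2) {z : Sp}
    (hz : z ∈ St (Q : Subgroup G2))
    (hc : ∀ s ∈ St (Q : Subgroup G2), z * s = s * z ∨ z * s = cs F * (s * z)) :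
    z = 1 ∨ z = cs F ∨ z = dg 1 (-1) ∨ z = cs F * dg 1 (-1) := by
  obtain ⟨i, j, a0, hp, hi, hj, -⟩ := sylow_two_structure hodd Q
  have h2 := two_ne_zero' hodd
  obtain ⟨a, ha, b, hb, rfl | rfl⟩ := hz
  · have key : ∀ x ∈ (Q : Subgroup G2), a * x = x * a ∧ b * x = x * b := by
      intro x hx
      constructor
      · rcases hc _ (dg_mem_St.2 ⟨hx, one_mem _⟩) with h | h
        · rw [dg_mul, dg_mul] at h
          exact (dg_inj h).1
        · rw [dg_mul, dg_mul, cs_mul_dg] at h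
          have := (dg_inj h).2
          rw [mul_one, one_mul] at this
          exact absurd this.symm (neg_ne hodd b)
      · rcases hc _ (dg_mem_St.2 ⟨one_mem _, hx⟩) with h | h
        · rw [dg_mul, dg_mul] at h
          exact (dg_inj h).2
        · rw [dg_mul, dg_mul, cs_mul_dg] at h
          have := (dg_inj h).1
          rw [mul_one, one_mul] at this
          exact absurd this.symm (neg_ne hodd a)
    have hsc : ∀ c : G2, (∀ x ∈ (Q : Subgroup G2), c * x = x * c) → c = 1 ∨ c = -1 := fun c hc' =>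
      QPair.eq_scal_of_commute h2 hp (mul_inv_eq_iff_eq_mul.2 (hc' i hi))
        (mul_inv_eq_iff_eq_mul.2 (hc' j hj))
    rcases hsc a fun x hx => (key x hx).1 with rfl | rfl <;>
      rcases hsc b fun x hx => (key x hx).2 with rfl | rfl
    · exact Or.inl dg_one
    · exact Or.inr (Or.inr (Or.inl rfl))
    · refine Or.inr (Or.inr (Or.inr ?_))
      rw [cs_mul_dg, neg_neg]
    · exact Or.inr (Or.inl rfl)
  · exfalso
    have hne : i ≠ 1 := fun h => by
      have := hp.isq
      rw [h, one_mul] at this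
      exact neg_ne hodd 1 this.symm
    have hne' : i ≠ -1 := fun h => by
      have := hp.isq
      rw [h, neg_mul_neg, one_mul] at this
      exact neg_ne hodd 1 this.symm
    rcases hc _ (dg_mem_St.2 ⟨hi, one_mem _⟩) with h | h
    · rw [mul_assoc, ws_dg, ← mul_assoc, ← mul_assoc, dg_mul, dg_mul] at h
      have := (dg_inj (mul_right_cancel h)).1
      rw [mul_one] at this
      exact hne (right_eq_mul.1 this)
    · rw [mul_assoc, ws_dg, ← mul_assoc, ← mul_assoc, ← mul_assoc, dg_mul, cs_mul_dg, dg_mul] at h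
      have := (dg_inj (mul_right_cancel h)).1
      rw [mul_one, neg_mul] at this
      have h1 : i * a = -1 * a := by
        rw [neg_one_mul]
        nth_rewrite 2 [this]
        rw [neg_neg]
      exact hne' (mul_right_cancel h1 |>.trans rfl)

/-! ### Strongly closed subgroups -/

theorem St_le_of_closed (hodd : Odd (Fintype.card F)) (Q : Sylow 2 G2) (T : Subgroup Sp)
    (hTS : T ≤ St (Q : Subgroup G2)) (ht : dg 1 (-1) ∈ T) (hcl : ∀ g : Sp, ∀ x ∈ T,
      g * x * g⁻¹ ∈ St (Q : Subgroup G2) → g * x * g⁻¹ ∈ T) :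
    St (Q : Subgroup G2) ≤ T := by
  have h2 := two_ne_zero' hodd
  obtain ⟨i, j, a0, hp, hi, hj, hjc, hN, -⟩ := sylow_two_structure hodd Q
  have hW : ∀ a ∈ (Q : Subgroup G2), dg a a⁻¹ * ws F ∈ T := by
    intro a ha
    set x : M2 := !![(2 : F)⁻¹, 0; 0, 1] with hx
    have hdx : x.det = (2 : F)⁻¹ := by rw [hx, Matrix.det_fin_two_of]; ring
    set y : M2 := ((a⁻¹ : G2) : M2) * x with hy
    have hdy : y.det = (2 : F)⁻¹ := by rw [hy, Matrix.det_mul, (a⁻¹).2, one_mul, hdx]
    let g : Sp := ⟨blk x x y (-y), blk_mem (by rw [hdx]; field_simp; ring)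
      (by rw [Matrix.det_neg, hdy]; simp; field_simp; ring)
      (by
        have : (-y).adjugate = -y.adjugate := by
          apply mext <;> simp [Matrix.adjugate_fin_two]
        rw [this, mul_neg, add_neg_cancel])⟩
    have h1 : g * dg 1 (-1) = dg a a⁻¹ * ws F * g := by
      apply sp_ext
      rw [Submonoid.coe_mul, Submonoid.coe_mul, dg_ws_coe, dg_coe]
      show blk x x y (-y) * _ = _ * blk x x y (-y)
      rw [blk_mul, blk_mul]
      have hay : (a : M2) * y = x := by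
        rw [hy, ← mul_assoc, ← Matrix.SpecialLinearGroup.coe_mul, mul_inv_cancel,
          Matrix.SpecialLinearGroup.coe_one, one_mul]
      simp only [hay, ← hy, Matrix.SpecialLinearGroup.coe_one, coe_neg', mul_one, mul_neg, zero_mul, mul_zero, add_zero, zero_add, neg_neg, neg_zero]
    have h2' : g * dg 1 (-1) * g⁻¹ = dg a a⁻¹ * ws F := by rw [h1, mul_inv_cancel_right]
    rw [← h2']
    exact hcl g _ ht (h2' ▸ dg_ws_mem_St.2 ⟨ha, inv_mem ha⟩)
  have hw : ws F ∈ T := by
    have := hW 1 (one_mem _)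
    rwa [inv_one, dg_one, one_mul] at this
  have hdd : ∀ a ∈ (Q : Subgroup G2), dg a a⁻¹ ∈ T := fun a ha => by
    have := mul_mem (hW a ha) hw
    rwa [mul_assoc, ws_mul_self, mul_one] at this
  have hdi : dg i i ∈ T := by
    have := mul_mem (hdd i hi) ht
    rwa [dg_mul, mul_one, inv_of_sq hp.isq, neg_mul_neg, mul_one] at this
  have hconj : ∀ c : G2, c * c = -1 → ∃ x : G2, x * i * x⁻¹ = c := fun c hc =>
    isConj_of_tr ((tr_zero_of_sq h2 hp.isq).trans (tr_zero_of_sq h2 hc).symm)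
      (tr_sq_of_tr_zero h2 (tr_zero_of_sq h2 hp.isq))
  have hpair : ∀ b ∈ (Q : Subgroup G2), ∀ c ∈ (Q : Subgroup G2), b * b = -1 → c * c = -1 →
      dg b c ∈ T := by
    intro b hb c hc hb2 hc2
    obtain ⟨x, hx⟩ := hconj b hb2
    obtain ⟨y, hy⟩ := hconj c hc2
    have h1 : dg x y * dg i i * (dg x y)⁻¹ = dg b c := by rw [dg_inv, dg_mul, dg_mul, hx, hy]
    rw [← h1]
    exact hcl _ _ hdi (h1 ▸ dg_mem_St.2 ⟨hb, hc⟩)
  -- elements outside the cyclic subgroup
  have hout : ∀ e ∈ (Q : Subgroup G2), e ∉ cent i → dg 1 e ∈ T := by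
    intro e he hec
    obtain ⟨hinv, hsq⟩ := sq_of_mem_normalizer
      (tr_sq_of_tr_zero h2 (tr_zero_of_sq h2 hp.isq)) (hN he) hec
    have hanti : e * i = -(i * e) := by
      have := mul_inv_eq_iff_eq_mul.1 hinv
      rw [this, inv_of_sq hp.isq, neg_mul]
    have hie : (e⁻¹ * i) * (e⁻¹ * i) = -1 := by
      rw [inv_of_sq hsq, neg_mul, neg_mul_neg, show e * i * (e * i) = e * (i * e) * i by group,
        show i * e = -(e * i) by rw [hanti, neg_neg], mul_neg, neg_mul,
        show e * (e * i) * i = (e * e) * (i * i) by group, hsq, hp.isq, neg_mul_neg, one_mul]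
    have h1 := mul_mem (hpair i hi i hi hp.isq hp.isq)
      (inv_mem (hpair i hi _ (mul_mem (inv_mem he) hi) hp.isq hie))
    rwa [dg_inv, dg_mul, mul_inv_cancel, _root_.mul_inv_rev, inv_inv, mul_inv_cancel_left] at h1
  have hall : ∀ x ∈ (Q : Subgroup G2), dg 1 x ∈ T := by
    intro x hx
    by_cases hxc : x ∈ cent i
    · have hxj : x * j ∉ cent i := fun h => hjc (by
        have := mul_mem (inv_mem hxc) h
        rwa [inv_mul_cancel_left] at this)
      have h1 := mul_mem (hout _ (mul_mem hx hj) hxj) (inv_mem (hout j hj hjc))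
      rwa [dg_inv, dg_mul, inv_one, one_mul, mul_inv_cancel_right] at h1
    · exact hout x hx hxc
  have hall' : ∀ x ∈ (Q : Subgroup G2), dg x 1 ∈ T := fun x hx => by
    have := mul_mem (mul_mem hw (hall x hx)) hw
    rwa [ws_dg, mul_assoc, ws_mul_self, mul_one] at this
  rintro _ ⟨a, ha, b, hb, rfl | rfl⟩
  · have := mul_mem (hall' a ha) (hall b hb)
    rwa [dg_mul, mul_one, one_mul] at this
  · have := mul_mem (mul_mem (hall' a ha) (hall b hb)) hw
    rwa [dg_mul, mul_one, one_mul] at this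

/-! ### The subgroup `Q₈ ∘ D₈` -/

/-- The subgroup generated by `diag (i, i)`, `diag (j, j)`, `diag (1, -1)` and the exchange. -/
def Rt (i j : Matrix.SpecialLinearGroup (Fin 2) F) : Subgroup (Matrix.symplecticGroup (Fin 2) F) :=
  Subgroup.closure {dg i i, dg j j, dg 1 (-1), ws F}

theorem mem_normalizer_Rt (i j : G2) {x : Sp}
    (hi : x * dg i i * x⁻¹ ∈ Rt i j) (hj : x * dg j j * x⁻¹ ∈ Rt i j)
    (ht : x * dg 1 (-1) * x⁻¹ ∈ Rt i j) (hw : x * ws F * x⁻¹ ∈ Rt i j) :
    x ∈ Subgroup.normalizer (Rt i j : Set Sp) := by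
  refine mem_normalizer_of_forall fun y hy => ?_
  have h : Rt i j ≤ (Rt i j).comap (MulAut.conj x).toMonoidHom := (Subgroup.closure_le _).2 (by
    intro z hz
    simp only [Set.mem_insert_iff, Set.mem_singleton_iff] at hz
    rcases hz with rfl | rfl | rfl | rfl
    · exact hi
    · exact hj
    · exact ht
    · exact hw)
  exact h hy

theorem Rt_gens (i j : G2) :
    dg i i ∈ Rt i j ∧ dg j j ∈ Rt i j ∧ dg 1 (-1) ∈ Rt i j ∧ ws F ∈ Rt i j :=
  ⟨Subgroup.subset_closure (by simp), Subgroup.subset_closure (by simp),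
    Subgroup.subset_closure (by simp), Subgroup.subset_closure (by simp)⟩

theorem diag_mem_Rt (h2 : (2 : F) ≠ 0) {i j : G2} (hp : QPair i j) {x : G2} (hx : x ∈ hp.Q) :
    dg x x ∈ Rt i j ∧ dg (-x) x ∈ Rt i j ∧ dg x (-x) ∈ Rt i j := by
  obtain ⟨hi, hj, ht, hw⟩ := Rt_gens i j
  have hc : cs F ∈ Rt i j := by
    have := mul_mem hi hi
    rwa [dg_mul, hp.isq] at this
  have key : dg x x ∈ Rt i j := by
    obtain ⟨y, hy, hxy⟩ := QPair.mem_Q_cases h2 hp hx
    have hyR : dg y y ∈ Rt i j := by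
      simp only [Set.mem_insert_iff, Set.mem_singleton_iff] at hy
      rcases hy with rfl | rfl | rfl | rfl
      · rw [dg_one]; exact one_mem _
      · exact hi
      · exact hj
      · rw [← dg_mul]; exact mul_mem hi hj
    rcases hxy with rfl | rfl
    · exact hyR
    · rw [← cs_mul_dg]; exact mul_mem hc hyR
  refine ⟨key, ?_, ?_⟩
  · have := mul_mem hc (mul_mem key ht)
    rwa [dg_mul, cs_mul_dg, mul_one, mul_neg_one, neg_neg] at this
  · have := mul_mem key ht
    rwa [dg_mul, mul_one, mul_neg_one] at this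

theorem St_le_normalizer_Rt (hodd : Odd (Fintype.card F)) {Q : Sylow 2 G2} {i j : G2}
    (hp : QPair i j) (hQ : (Q : Subgroup G2) = hp.Q) :
    St (Q : Subgroup G2) ≤ Subgroup.normalizer (Rt i j : Set Sp) := by
  have h2 := two_ne_zero' hodd
  obtain ⟨hi, hj, ht, hw⟩ := Rt_gens i j
  have hleft : ∀ a ∈ (Q : Subgroup G2), dg a 1 ∈ Subgroup.normalizer (Rt i j : Set Sp) := by
    intro a ha
    rw [hQ] at ha
    have hcase : ∀ c : G2, c ∈ hp.Q → (a * c * a⁻¹ = c ∨ a * c * a⁻¹ = -c) →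
        dg a 1 * dg c c * (dg a 1)⁻¹ ∈ Rt i j := by
      intro c hc h
      rw [dg_inv, dg_mul, dg_mul, one_mul, inv_one, mul_one]
      rcases h with h | h <;> rw [h]
      · exact (diag_mem_Rt h2 hp hc).1
      · exact (diag_mem_Rt h2 hp hc).2.1
    refine mem_normalizer_Rt i j (hcase i hp.i_mem ha.1) (hcase j hp.j_mem ha.2) ?_ ?_
    · rw [dg_inv, dg_mul, dg_mul, mul_one, one_mul, mul_inv_cancel, inv_one, mul_one]
      exact ht
    · rw [dg_inv, mul_assoc, ws_dg, ← mul_assoc, dg_mul, inv_one, mul_one, one_mul]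
      refine mul_mem ?_ hw
      obtain ⟨y, hy, hay⟩ := QPair.mem_Q_cases h2 hp ha
      have hy2 : y * y = 1 ∨ y * y = -1 := by
        simp only [Set.mem_insert_iff, Set.mem_singleton_iff] at hy
        rcases hy with rfl | rfl | rfl | rfl
        · exact Or.inl (one_mul 1)
        · exact Or.inr hp.isq
        · exact Or.inr hp.jsq
        · exact Or.inr hp.ksq
      have ha2 : a * a = 1 ∨ a * a = -1 := by
        rcases hay with rfl | rfl
        · exact hy2
        · rwa [neg_mul_neg]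
      rcases ha2 with h | h
      · rw [inv_eq_of_mul_eq_one_right h]
        exact (diag_mem_Rt h2 hp ha).1
      · rw [inv_of_sq h]
        exact (diag_mem_Rt h2 hp ha).2.2
  have hws : ws F ∈ Subgroup.normalizer (Rt i j : Set Sp) := Subgroup.le_normalizer hw
  have hright : ∀ a ∈ (Q : Subgroup G2), dg 1 a ∈ Subgroup.normalizer (Rt i j : Set Sp) := by
    intro a ha
    have := mul_mem (mul_mem hws (hleft a ha)) hws
    rwa [ws_dg, mul_assoc, ws_mul_self, mul_one] at this
  rintro _ ⟨a, ha, b, hb, rfl | rfl⟩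
  · have := mul_mem (hleft a ha) (hright b hb)
    rwa [dg_mul, mul_one, one_mul] at this
  · have := mul_mem (mul_mem (hleft a ha) (hright b hb)) hws
    rwa [dg_mul, mul_one, one_mul] at this

theorem mixE_normalizes (hodd : Odd (Fintype.card F)) {i j a : G2} (hp : QPair i j)
    (haQ : a ∈ hp.Q) (ha : a * a = -1)
    (hi : i * a = a * i ∨ i * a = -(a * i)) (hj : j * a = a * j ∨ j * a = -(a * j)) :
    mixE (two_ne_zero' hodd) ha ∈ Subgroup.normalizer (Rt i j : Set Sp) := by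
  have h2 := two_ne_zero' hodd
  obtain ⟨gi, gj, gt, gw⟩ := Rt_gens i j
  have hcase : ∀ c : G2, dg c c ∈ Rt i j → (c * a = a * c ∨ c * a = -(a * c)) →
      mixE (two_ne_zero' hodd) ha * dg c c * (mixE (two_ne_zero' hodd) ha)⁻¹ ∈ Rt i j := by
    intro c hc h
    rcases h with h | h
    · rw [mixE_dg_comm _ ha h, mul_inv_cancel_right]; exact hc
    · rw [mixE_dg_anti _ ha h, mul_inv_cancel_right]; exact mul_mem hc gw
  refine mem_normalizer_Rt i j (hcase i gi hi) (hcase j gj hj) ?_ ?_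
  · rw [mixE_ts _ ha, mul_inv_cancel_right]
    exact mul_mem (mul_mem (diag_mem_Rt h2 hp haQ).1 gt) gw
  · rw [mixE_ws, mul_inv_cancel_right]; exact gw

theorem pow_eight_of_mem {i j x : G2} (h2 : (2 : F) ≠ 0) (hp : QPair i j) (hx : x ∈ hp.Q) :
    x ^ 8 = 1 := by
  have h : x ^ Nat.card hp.Q = 1 := orderOf_dvd_iff_pow_eq_one.1 (Subgroup.orderOf_dvd_natCard _ hx)
  rwa [QPair.card_Q h2 hp] at h

theorem omega_localGen (hodd : Odd (Fintype.card F)) {Q : Sylow 2 G2} {i j w : G2}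
    (hp : QPair i j) (hQ : (Q : Subgroup G2) = hp.Q)
    (hw : (w : M2) = (2 : F)⁻¹ • (-1 + (i : M2) + (j : M2) + (i : M2) * (j : M2)))
    (hwN : π (dg w w) ∈ Subgroup.normalizer ((St (Q : Subgroup G2)).map π : Set PSpG)) :
    π (dg w w) ∈ localGen 2 ((St (Q : Subgroup G2)).map π) := by
  have h2 := two_ne_zero' hodd
  obtain ⟨gi, gj, gt, gw⟩ := Rt_gens i j
  have hiQ : i ∈ (Q : Subgroup G2) := hQ ▸ hp.i_mem
  have hjQ : j ∈ (Q : Subgroup G2) := hQ ▸ hp.j_mem
  have hRS : Rt i j ≤ St (Q : Subgroup G2) := (Subgroup.closure_le _).2 (by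
    intro z hz
    simp only [Set.mem_insert_iff, Set.mem_singleton_iff] at hz
    rcases hz with rfl | rfl | rfl | rfl
    · exact dg_mem_St.2 ⟨hiQ, hiQ⟩
    · exact dg_mem_St.2 ⟨hjQ, hjQ⟩
    · exact dg_mem_St.2 ⟨one_mem _, neg_one_mem hodd Q⟩
    · exact ws_mem_St _)
  refine Or.inr ⟨hwN, (Rt i j).map π, Subgroup.map_mono hRS, ?_, ?_, ?_⟩
  · intro z hz
    obtain ⟨hzS, hzc⟩ := mem_centralizerIn.mp hz
    obtain ⟨s, hs, rfl⟩ := hzS
    have hcom : s * ws F = ws F * s ∨ s * ws F = cs F * (ws F * s) := by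
      have e := hzc (π (ws F)) ⟨_, gw, rfl⟩
      rw [← map_mul, ← map_mul] at e
      first
        | exact proj_eq'.1 e
        | exact proj_eq'.1 e.symm
    refine ⟨s, ?_, rfl⟩
    obtain ⟨a, ha, b, hb, rfl | rfl⟩ := hs
    · rw [ws_dg] at hcom
      have hab : b = a ∨ b = -a := by
        rcases hcom with h | h
        · exact Or.inl (dg_inj (mul_right_cancel h)).2
        · rw [← mul_assoc, cs_mul_dg] at h
          exact Or.inr (dg_inj (mul_right_cancel h)).2
      rw [hQ] at ha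
      rcases hab with rfl | rfl
      · exact (diag_mem_Rt h2 hp ha).1
      · exact (diag_mem_Rt h2 hp ha).2.2
    · rw [mul_assoc, ws_mul_self, mul_one, ← mul_assoc, ws_dg, mul_assoc, ws_mul_self,
        mul_one] at hcom
      have hab : b = a ∨ b = -a := by
        rcases hcom with h | h
        · exact Or.inl (dg_inj h).2
        · rw [cs_mul_dg] at h
          exact Or.inr (dg_inj h).2
      rw [hQ] at ha
      rcases hab with rfl | rfl
      · exact mul_mem (diag_mem_Rt h2 hp ha).1 gw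
      · exact mul_mem (diag_mem_Rt h2 hp ha).2.2 gw
  · exact (Subgroup.map_mono (St_le_normalizer_Rt hodd hp hQ)).trans (Subgroup.le_normalizer_map π)
  · set C := Subgroup.closure (pElts 2 (Subgroup.normalizer ((Rt i j).map π : Set PSpG)))
    have hmem : ∀ (x : Sp), x ∈ Subgroup.normalizer (Rt i j : Set Sp) → ∀ k : ℕ, x ^ 2 ^ k = 1 →
        π x ∈ C := fun x hx k hk => Subgroup.subset_closure
      ⟨Subgroup.le_normalizer_map π ⟨x, hx, rfl⟩, k, by rw [← map_pow, hk, map_one]⟩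
    have h4 : ∀ (a : G2) (ha : a * a = -1), mixE h2 ha ^ 2 ^ 2 = 1 := fun a ha => by
      rw [show (2 : ℕ) ^ 2 = 2 * 2 from rfl, pow_mul, pow_two, pow_two, mixE_sq, ws_mul_self]
    have hdl : ∀ a ∈ (Q : Subgroup G2), π (dg a 1) ∈ C := by
      intro a ha
      refine hmem _ (St_le_normalizer_Rt hodd hp hQ (dg_mem_St.2 ⟨ha, one_mem _⟩)) 3 ?_
      rw [hQ] at ha
      have hpow : ∀ n : ℕ, dg a 1 ^ n = dg (a ^ n) (1 : G2) := fun n => by
        induction n with
        | zero => rw [pow_zero, pow_zero, dg_one]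
        | succ n ih => rw [pow_succ, ih, dg_mul, mul_one, pow_succ]
      rw [hpow, show (2 : ℕ) ^ 3 = 8 from rfl, pow_eight_of_mem h2 hp ha, dg_one]
    have hjmix : π (mixE h2 hp.jsq) ∈ C := hmem _
      (mixE_normalizes hodd hp hp.j_mem hp.jsq (Or.inr (by rw [hp.anti, neg_neg])) (Or.inl rfl))
      2 (h4 j hp.jsq)
    have himix : π (mixE h2 hp.isq) ∈ C := hmem _
      (mixE_normalizes hodd hp hp.i_mem hp.isq (Or.inl rfl) (Or.inr hp.anti)) 2 (h4 i hp.isq)
    have hR' : π (dg (i * j) (i * j) * dg 1 (-1) * ws F) ∈ C := by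
      have hmem' : dg (i * j) (i * j) * dg 1 (-1) * ws F ∈ Rt i j :=
        mul_mem (mul_mem (diag_mem_Rt h2 hp (mul_mem hp.i_mem hp.j_mem)).1 gt) gw
      obtain ⟨k, hk⟩ := (show IsPGroup 2 (St (Q : Subgroup G2)) from by
        intro ⟨g, hg⟩
        obtain ⟨a, ha, b, hb, hg'⟩ := id hg
        rw [hQ] at ha hb
        refine ⟨4, Subtype.ext ?_⟩
        rw [SubgroupClass.coe_pow, OneMemClass.coe_one]
        show g ^ 2 ^ 4 = 1
        have key : ∀ x y : G2, x ∈ hp.Q → y ∈ hp.Q → dg x y ^ 8 = 1 := fun x y hx hy => by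
          have hpow : ∀ n : ℕ, dg x y ^ n = dg (x ^ n) (y ^ n) := fun n => by
            induction n with
            | zero => rw [pow_zero, pow_zero, pow_zero, dg_one]
            | succ n ih => rw [pow_succ, ih, dg_mul, pow_succ, pow_succ]
          rw [hpow, pow_eight_of_mem h2 hp hx, pow_eight_of_mem h2 hp hy, dg_one]
        rcases hg' with rfl | rfl
        · rw [show (2 : ℕ) ^ 4 = 8 * 2 from rfl, pow_mul, key a b ha hb, one_pow]
        · rw [show (2 : ℕ) ^ 4 = 2 * 8 from rfl, pow_mul, pow_two,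
            show dg a b * ws F * (dg a b * ws F) = dg (a * b) (b * a) by
              rw [mul_assoc, ← mul_assoc (ws F), ws_dg, mul_assoc (dg b a), ws_mul_self, mul_one,
                dg_mul]]
          exact key _ _ (mul_mem ha hb) (mul_mem hb ha)) ⟨_, hRS hmem'⟩
      exact hmem _ (Subgroup.le_normalizer hmem') k (congrArg Subtype.val hk)
    have e : π (dg w w) * π (dg (i * j) (i * j) * dg 1 (-1) * ws F) =
        π (dg i 1) * π (mixE h2 hp.jsq) * π (dg (i * j) 1) * π (mixE h2 hp.isq) := by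
      rw [← map_mul, omega_word h2 hp hw, map_mul, map_mul, map_mul]
    rw [← mul_inv_cancel_right (π (dg w w)) (π (dg (i * j) (i * j) * dg 1 (-1) * ws F)), e]
    exact mul_mem (mul_mem (mul_mem (mul_mem (hdl i hiQ) hjmix) (hdl _ (mul_mem hiQ hjQ))) himix)
      (inv_mem hR')

/-! ### The normaliser -/

theorem normalizer_le (hodd : Odd (Fintype.card F)) (Q : Sylow 2 G2) :
    Subgroup.normalizer ((St (Q : Subgroup G2)).map π : Set PSpG) ≤
      Subgroup.closure (localGen 2 ((St (Q : Subgroup G2)).map π)) := by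
  have h2 := two_ne_zero' hodd
  intro y hy
  obtain ⟨g, rfl⟩ := AutPSp.proj_surjective y
  set S : Subgroup Sp := St (Q : Subgroup G2)
  have hcs : cs F ∈ Subgroup.center Sp :=
    AutPSp.mem_center_iff.2 (Or.inr cs_coe)
  have hgN : ∀ s ∈ S, g * s * g⁻¹ ∈ S := fun s hs => by
    rw [← proj_mem_iff hodd Q, map_mul, map_mul, map_inv]
    exact (Subgroup.mem_normalizer_iff.mp hy (π s)).mp ⟨s, hs, rfl⟩
  have hgN' : ∀ s ∈ S, g⁻¹ * s * g ∈ S := fun s hs => by
    rw [← proj_mem_iff hodd Q, map_mul, map_mul, map_inv]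
    have h := (Subgroup.mem_normalizer_iff.mp (inv_mem hy) (π s)).mp ⟨s, hs, rfl⟩
    rwa [inv_inv] at h
  have hSle : ∀ s ∈ S, π s ∈ Subgroup.closure (localGen 2 (S.map π)) := fun s hs =>
    Subgroup.subset_closure (Or.inl ⟨s, hs, rfl⟩)
  set t : Sp := dg 1 (-1) with ht
  have htS : t ∈ S := dg_mem_St.2 ⟨one_mem _, neg_one_mem hodd Q⟩
  have hne1 : (-1 : G2) ≠ 1 := neg_ne hodd 1
  -- the image of the central involution
  have hzc : ∀ s ∈ S, g * t * g⁻¹ * s = s * (g * t * g⁻¹) ∨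
      g * t * g⁻¹ * s = cs F * (s * (g * t * g⁻¹)) := by
    intro s hs
    have ht' : t * (g⁻¹ * s * g) = g⁻¹ * s * g * t ∨
        t * (g⁻¹ * s * g) = cs F * (g⁻¹ * s * g * t) := by
      obtain ⟨a, ha, b, hb, h | h⟩ := hgN' s hs <;> rw [h]
      · left
        rw [ht, dg_mul, dg_mul, mul_one, one_mul, mul_neg_one, neg_one_mul]
      · right
        rw [ht, mul_assoc (dg a b), ws_dg, ← mul_assoc, ← mul_assoc, ← mul_assoc, dg_mul,
          cs_mul_dg, dg_mul, one_mul, neg_one_mul, mul_neg_one, neg_neg, mul_one]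
    have e1 : g * t * g⁻¹ * s = g * (t * (g⁻¹ * s * g)) * g⁻¹ := by group
    have e2 : s * (g * t * g⁻¹) = g * (g⁻¹ * s * g * t) * g⁻¹ := by group
    rw [e1, e2]
    rcases ht' with h | h
    · left; rw [h]
    · right
      rw [h, ← mul_assoc g (cs F), Subgroup.mem_center_iff.1 hcs g, mul_assoc (cs F) g,
        mul_assoc (cs F)]
  have hconj : g * t * g⁻¹ = t ∨ g * t * g⁻¹ = cs F * t := by
    rcases center_mod hodd Q (hgN t htS) hzc with h | h | h | h
    · exfalso
      have : t = 1 := by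
        rw [mul_inv_eq_one] at h
        exact mul_eq_left.1 h
      rw [ht, ← dg_one] at this
      exact hne1 (dg_inj this).2
    · exfalso
      rw [mul_inv_eq_iff_eq_mul, ← Subgroup.mem_center_iff.1 hcs g] at h
      have := mul_left_cancel h
      rw [ht, cs] at this
      exact hne1 (dg_inj this).1.symm
    · exact Or.inl h
    · exact Or.inr h
  -- reduce to the centraliser of `t`
  obtain ⟨g', hg'⟩ : ∃ g', (g' = g ∨ g' = g * ws F) ∧ g' * t = t * g' := by
    rcases hconj with h | h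
    · exact ⟨g, Or.inl rfl, mul_inv_eq_iff_eq_mul.1 h⟩
    · refine ⟨g * ws F, Or.inr rfl, ?_⟩
      have e : ws F * t = cs F * t * ws F := by
        rw [ht, ws_dg, cs_mul_dg, neg_neg]
      have hgt : g * t = cs F * t * g := mul_inv_eq_iff_eq_mul.1 h
      have hcc : cs F * cs F = (1 : Sp) := by
        rw [cs, dg_mul, neg_mul_neg, mul_one, dg_one]
      rw [mul_assoc, e, show g * (cs F * t * ws F) = cs F * (g * t) * ws F by
        rw [← mul_assoc, ← mul_assoc, Subgroup.mem_center_iff.1 hcs g, mul_assoc (cs F) g t],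
        hgt, ← mul_assoc (cs F), ← mul_assoc (cs F), hcc, one_mul, mul_assoc]
  obtain ⟨hg'1, hg't⟩ := hg'
  suffices hg'X : π g' ∈ Subgroup.closure (localGen 2 (S.map π)) by
    rcases hg'1 with rfl | rfl
    · exact hg'X
    · rw [← mul_inv_cancel_right g (ws F), map_mul, map_inv]
      exact mul_mem hg'X (inv_mem (hSle _ (ws_mem_St _)))
  have hg'N : ∀ s ∈ S, g' * s * g'⁻¹ ∈ S := by
    rcases hg'1 with rfl | rfl
    · exact hgN
    · intro s hs
      rw [show g * ws F * s * (g * ws F)⁻¹ = g * (ws F * s * (ws F)⁻¹) * g⁻¹ by group]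
      exact hgN _ (mul_mem (mul_mem (ws_mem_St _) hs) (inv_mem (ws_mem_St _)))
  -- block diagonal form
  obtain ⟨A, B, C, D, hM⟩ := exists_blk (g' : Mat)
  have e1 : ((g' * t : Sp) : Mat) = ((t * g' : Sp) : Mat) := by rw [hg't]
  rw [Submonoid.coe_mul, Submonoid.coe_mul, hM, ht, dg_coe, blk_mul, blk_mul] at e1
  simp only [Matrix.SpecialLinearGroup.coe_one, coe_neg', mul_one, mul_neg, one_mul, neg_mul,
    mul_zero, zero_mul, add_zero, zero_add] at e1
  obtain ⟨-, hB, hC, -⟩ := blk_injective e1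
  have hzero : ∀ X : M2, -X = X → X = 0 := fun X hX => by
    ext r c
    have := congrFun (congrFun hX r) c
    simp only [Matrix.neg_apply] at this
    exact (mul_eq_zero.1 (show (2 : F) * X r c = 0 by linear_combination -this)).resolve_left h2
  have hB0 := hzero B hB
  have hC0 := hzero C hC.symm
  subst hB0 hC0
  have hmem : blk A 0 0 D ∈ Matrix.symplecticGroup (Fin 2) F := hM ▸ g'.2
  obtain ⟨hA1, hD1⟩ := det_of_mem hmem
  rw [Matrix.det_zero, add_zero] at hA1
  rw [Matrix.det_zero, zero_add] at hD1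
  set a : G2 := ⟨A, hA1⟩
  set d : G2 := ⟨D, hD1⟩
  have hg'e : g' = dg a d := sp_ext (by rw [hM]; rfl)
  subst hg'e
  have hda : d * a⁻¹ ∈ (Q : Subgroup G2) := by
    have h := hg'N _ (ws_mem_St _)
    rw [dg_inv, mul_assoc, ws_dg, ← mul_assoc, dg_mul, dg_ws_mem_St] at h
    exact h.2
  have haN : a ∈ Subgroup.normalizer ((Q : Subgroup G2) : Set G2) :=
    mem_normalizer_of_forall fun x hx => by
      have h := hg'N _ (dg_mem_St.2 ⟨hx, one_mem _⟩)
      rw [dg_inv, dg_mul, dg_mul, dg_mem_St] at h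
      exact h.1
  rw [show dg a d = dg 1 (d * a⁻¹) * dg a a by rw [dg_mul, one_mul, inv_mul_cancel_right],
    map_mul]
  refine mul_mem (hSle _ (dg_mem_St.2 ⟨one_mem _, hda⟩)) ?_
  obtain ⟨hn1, hn2⟩ := normalizer_sylow_two hodd Q
  have hqodd : Fintype.card F % 2 = 1 := Nat.odd_iff.1 hodd
  by_cases hq : Fintype.card F % 8 = 1 ∨ Fintype.card F % 8 = 7
  · rw [hn1 hq] at haN
    exact hSle _ (dg_mem_St.2 ⟨haN, haN⟩)
  have hq35 : Fintype.card F % 8 = 3 ∨ Fintype.card F % 8 = 5 := by omega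
  have hcardN := hn2 hq35
  obtain ⟨i, j, k, hp, hi, hj, -, -, hk, hk2, hcardQ, -⟩ := sylow_two_structure hodd Q
  have hk' : k = 2 := by
    refine le_antisymm (not_lt.1 fun h3 => ?_) hk2
    have h8 : 8 ∣ Nat.card (cent i) := by
      refine dvd_trans ?_ (Nat.ordProj_dvd (Nat.card (cent i)) 2)
      rw [← hk, show (8 : ℕ) = 2 ^ 3 from rfl]
      exact Nat.pow_dvd_pow 2 h3
    rcases cent_sq_neg_one hodd hp.isq with ⟨e, h4⟩ | ⟨e, h4⟩ <;> rw [e] at h8 <;> omega
  have h8 : Nat.card (Q : Subgroup G2) = 8 := by rw [hcardQ, hk']; norm_num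
  have hQ : (Q : Subgroup G2) = hp.Q := by
    symm
    refine Subgroup.eq_of_le_of_card_ge (fun x hx => ?_) (le_of_eq (by rw [h8, QPair.card_Q h2 hp]))
    obtain ⟨y, hy, hxy⟩ := QPair.mem_Q_cases h2 hp hx
    have hyQ : y ∈ (Q : Subgroup G2) := by
      simp only [Set.mem_insert_iff, Set.mem_singleton_iff] at hy
      rcases hy with rfl | rfl | rfl | rfl
      exacts [one_mem _, hi, hj, mul_mem hi hj]
    rcases hxy with rfl | rfl
    · exact hyQ
    · rw [← neg_one_mul]; exact mul_mem (neg_one_mem hodd Q) hyQ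
  obtain ⟨w, hw3, hwi, hwj, hwk, hwM⟩ : ∃ w : G2, w * w * w = 1 ∧ w * i * w⁻¹ = i * j ∧
      w * j * w⁻¹ = i ∧ w * (i * j) * w⁻¹ = j ∧
      (w : M2) = (2 : F)⁻¹ • (-1 + (i : M2) + (j : M2) + (i : M2) * (j : M2)) :=
    exists_omega' h2 hp
  have hwN : w ∈ Subgroup.normalizer ((Q : Subgroup G2) : Set G2) := by
    rw [hQ]
    exact QPair.mem_normalizer_Q hp (hwi ▸ mul_mem hp.i_mem hp.j_mem) (hwj ▸ hp.i_mem) h2
  have hw1 : w ≠ 1 := fun h => by
    rw [h, one_mul, inv_one, mul_one] at hwi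
    have hj1 : j = 1 := left_eq_mul.1 hwi
    have := hp.jsq
    rw [hj1, one_mul] at this
    exact hne1 this.symm
  have hord : orderOf w = 3 := orderOf_eq_prime (p := 3) (by rw [pow_succ, pow_two, hw3]) hw1
  have hNle : Subgroup.normalizer ((Q : Subgroup G2) : Set G2) ≤
      (Q : Subgroup G2) ⊔ Subgroup.zpowers w := by
    have hle : (Q : Subgroup G2) ⊔ Subgroup.zpowers w ≤
        Subgroup.normalizer ((Q : Subgroup G2) : Set G2) :=
      sup_le Subgroup.le_normalizer (Subgroup.zpowers_le.2 hwN)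
    refine (Subgroup.eq_of_le_of_card_ge hle ?_).ge
    rw [hcardN]
    refine Nat.le_of_dvd Nat.card_pos (Nat.Coprime.mul_dvd_of_dvd_of_dvd ?_ ?_
      (Subgroup.card_dvd_of_le le_sup_left))
    · rw [h8]; norm_num
    · rw [← hord, ← Nat.card_zpowers]
      exact Subgroup.card_dvd_of_le le_sup_right
  let dgD : G2 →* Sp :=
    { toFun := fun x => dg x x
      map_one' := dg_one
      map_mul' := fun x x' => (dg_mul x x x' x').symm }
  have hwX : π (dg w w) ∈ Subgroup.normalizer (S.map π : Set PSpG) := by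
    refine mem_normalizer_of_forall ?_
    rintro _ ⟨s, hs, rfl⟩
    rw [← map_inv, ← map_mul, ← map_mul]
    refine ⟨_, ?_, rfl⟩
    have hconjQ : ∀ x ∈ (Q : Subgroup G2), w * x * w⁻¹ ∈ (Q : Subgroup G2) := fun x hx =>
      (Subgroup.mem_normalizer_iff.mp hwN x).mp hx
    obtain ⟨b, hb, c, hc, rfl | rfl⟩ := hs
    · rw [dg_inv, dg_mul, dg_mul]
      exact dg_mem_St.2 ⟨hconjQ b hb, hconjQ c hc⟩
    · rw [dg_inv, mul_assoc (dg w w), mul_assoc (dg b c), ws_dg, ← mul_assoc, ← mul_assoc, dg_mul,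
        dg_mul]
      exact dg_ws_mem_St.2 ⟨hconjQ b hb, hconjQ c hc⟩
  have hle : Subgroup.normalizer ((Q : Subgroup G2) : Set G2) ≤
      ((Subgroup.closure (localGen 2 (S.map π))).comap π).comap dgD :=
    hNle.trans (sup_le (fun x hx => hSle _ (dg_mem_St.2 ⟨hx, hx⟩))
      (Subgroup.zpowers_le.2 (Subgroup.subset_closure (omega_localGen hodd hp hQ hwM hwX))))
  exact hle haN
where
  exists_omega' (h2 : (2 : F) ≠ 0) {i j : G2} (h : QPair i j) :
      ∃ w : G2, w * w * w = 1 ∧ w * i * w⁻¹ = i * j ∧ w * j * w⁻¹ = i ∧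
        w * (i * j) * w⁻¹ = j ∧
        (w : M2) = (2 : F)⁻¹ • (-1 + (i : M2) + (j : M2) + (i : M2) * (j : M2)) := by
    set W : M2 := (2 : F)⁻¹ • (-1 + (i : M2) + (j : M2) + (i : M2) * (j : M2)) with hW
    have hI := coe_sq_neg h.isq
    have hJ := coe_sq_neg h.jsq
    have hA : (j : M2) * (i : M2) = -((i : M2) * (j : M2)) := by
      rw [← Matrix.SpecialLinearGroup.coe_mul, h.anti, coe_neg', Matrix.SpecialLinearGroup.coe_mul]
    have hI' : ∀ X : M2, (i : M2) * ((i : M2) * X) = -X := fun X => by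
      rw [← mul_assoc, hI, neg_one_mul]
    have hJ' : ∀ X : M2, (j : M2) * ((j : M2) * X) = -X := fun X => by
      rw [← mul_assoc, hJ, neg_one_mul]
    have hA' : ∀ X : M2, (j : M2) * ((i : M2) * X) = -((i : M2) * ((j : M2) * X)) := fun X => by
      rw [← mul_assoc, hA, neg_mul, mul_assoc]
    have hsq : W * W = -W - 1 := by
      simp only [hW, smul_mul_assoc, mul_smul_comm, add_mul, mul_add, neg_mul, mul_neg, one_mul,
        mul_one, mul_assoc, hI, hJ, hA, hI', hJ', hA', neg_neg]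
      match_scalars <;> field_simp <;> ring
    have htr : W.trace = -1 := by
      have e : ∀ g : G2, g * g = -1 → (g : M2).trace = 0 := fun g hg =>
        (trace_eq g).trans (tr_zero_of_sq h2 hg)
      have e3 : ((i : M2) * (j : M2)).trace = 0 := by
        rw [← Matrix.SpecialLinearGroup.coe_mul]; exact e _ h.ksq
      simp only [hW, Matrix.trace_smul, Matrix.trace_add, Matrix.trace_neg, e i h.isq, e j h.jsq,
        e3, Matrix.trace_one, Fintype.card_fin, smul_eq_mul]
      field_simp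
      ring
    have hdet : W.det = 1 := by
      have hc : W * W = W.trace • W - W.det • 1 := by
        apply mext <;> simp [Matrix.mul_apply, Fin.sum_univ_two, Matrix.trace_fin_two,
          Matrix.det_fin_two] <;> ring
      rw [hsq, htr, neg_one_smul] at hc
      have := congrFun (congrFun hc 0) 0
      simp at this
      exact this.symm
    let w : G2 := ⟨W, hdet⟩
    refine ⟨w, ?_, ?_, ?_, ?_, rfl⟩
    · apply Subtype.ext
      rw [Matrix.SpecialLinearGroup.coe_mul, Matrix.SpecialLinearGroup.coe_mul,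
        Matrix.SpecialLinearGroup.coe_one]
      show W * W * W = 1
      rw [hsq, sub_mul, neg_mul, hsq, one_mul]
      abel
    all_goals
      refine mul_inv_eq_iff_eq_mul.2 (Subtype.ext ?_)
      simp only [Matrix.SpecialLinearGroup.coe_mul]
    · show W * (i : M2) = (i : M2) * (j : M2) * W
      simp only [hW, smul_mul_assoc, mul_smul_comm, add_mul, mul_add, neg_mul, mul_neg, one_mul,
        mul_one, mul_assoc, hI, hJ, hA, hI', hJ', hA', neg_neg]
      abel
    · show W * (j : M2) = (i : M2) * W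
      simp only [hW, smul_mul_assoc, mul_smul_comm, add_mul, mul_add, neg_mul, mul_neg, one_mul,
        mul_one, mul_assoc, hI, hJ, hA, hI', hJ', hA', neg_neg]
      abel
    · show W * ((i : M2) * (j : M2)) = (j : M2) * W
      simp only [hW, smul_mul_assoc, mul_smul_comm, add_mul, mul_add, neg_mul, mul_neg, one_mul,
        mul_one, mul_assoc, hI, hJ, hA, hI', hJ', hA', neg_neg]
      abel

/-! ### The Sylow subgroup -/

theorem card_St (Q : Subgroup G2) : Nat.card (St Q) = 2 * Nat.card Q * Nat.card Q := by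
  let f : Bool × Q × Q → St Q := fun x =>
    match x with
    | (false, a, b) => ⟨dg a b, dg_mem_St.2 ⟨a.2, b.2⟩⟩
    | (true, a, b) => ⟨dg a b * ws F, dg_ws_mem_St.2 ⟨a.2, b.2⟩⟩
  have hf : Function.Bijective f := by
    constructor
    · rintro ⟨e, a, b⟩ ⟨e', a', b'⟩ h
      rcases e with _ | _ <;> rcases e' with _ | _ <;> have h' := congrArg Subtype.val h
      · obtain ⟨h1, h2⟩ := dg_inj h'
        rw [Subtype.ext h1, Subtype.ext h2]
      · exact absurd h' (dg_ne_ws _ _ _ _)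
      · exact absurd h'.symm (dg_ne_ws _ _ _ _)
      · obtain ⟨h1, h2⟩ := dg_inj (mul_right_cancel h')
        rw [Subtype.ext h1, Subtype.ext h2]
    · rintro ⟨_, a, ha, b, hb, rfl | rfl⟩
      · exact ⟨(false, ⟨a, ha⟩, ⟨b, hb⟩), rfl⟩
      · exact ⟨(true, ⟨a, ha⟩, ⟨b, hb⟩), rfl⟩
  rw [← Nat.card_eq_of_bijective f hf, Nat.card_prod, Nat.card_prod]
  simp [mul_assoc]

theorem exists_sylow (hodd : Odd (Fintype.card F)) (Q : Sylow 2 G2) :
    ∃ P : Sylow 2 Sp, (P : Subgroup Sp) = St (Q : Subgroup G2) := by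
  haveI : Fact (Nat.Prime 2) := ⟨Nat.prime_two⟩
  set q := Fintype.card F with hq
  have hq2 : 2 ≤ q := two_le_q
  have hcard : Nat.card (St (Q : Subgroup G2)) = 2 ^ (Nat.card Sp).factorization 2 := by
    rw [card_St, Q.card_eq_multiplicity, card_G, FormsLib.card_symplecticGroup, ← hq]
    have e1 : ∏ i ∈ Finset.range 2, (q ^ (2 * (i + 1)) - 1) =
        ((q - 1) * (q + 1)) * ((q - 1) * (q + 1) * (q ^ 2 + 1)) := by
      rw [Finset.prod_range_succ, Finset.prod_range_one]
      obtain ⟨r, hr⟩ : ∃ r, q = r + 1 := ⟨q - 1, by omega⟩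
      have a1 : q ^ (2 * (0 + 1)) - 1 = (q - 1) * (q + 1) := by
        rw [hr, Nat.add_sub_cancel]
        have : (r + 1) ^ (2 * (0 + 1)) = r * (r + 1 + 1) + 1 := by ring
        omega
      have a2 : q ^ (2 * (1 + 1)) - 1 = (q - 1) * (q + 1) * (q ^ 2 + 1) := by
        rw [hr, Nat.add_sub_cancel]
        have : (r + 1) ^ (2 * (1 + 1)) = r * (r + 1 + 1) * ((r + 1) ^ 2 + 1) + 1 := by ring
        omega
      rw [a1, a2]
    rw [e1]
    have hodd' : ¬ 2 ∣ q := fun h => by
      have := Nat.odd_iff.1 hodd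
      omega
    have hne : (q - 1) * (q + 1) ≠ 0 := Nat.mul_ne_zero (by omega) (by omega)
    have hsq : (q ^ 2 + 1).factorization 2 = 1 := by
      obtain ⟨r, hr⟩ := hodd
      have e : q ^ 2 + 1 = 2 * (2 * r * r + 2 * r + 1) := by rw [hr]; ring
      rw [e, Nat.factorization_mul two_ne_zero (by omega)]
      simp [Nat.prime_two.factorization_self,
        Nat.factorization_eq_zero_of_not_dvd (show ¬ 2 ∣ 2 * r * r + 2 * r + 1 by
          rw [show 2 * r * r + 2 * r + 1 = 2 * (r * r + r) + 1 by ring]; omega)]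
    rw [Nat.factorization_mul (by omega) hne, Nat.factorization_mul (by positivity)
        (Nat.mul_ne_zero hne (Nat.mul_ne_zero hne (by positivity))),
      Nat.factorization_mul hne (Nat.mul_ne_zero hne (by positivity)),
      Nat.factorization_mul hne (by positivity)]
    simp only [Finsupp.coe_add, Pi.add_apply, hsq,
      Nat.factorization_eq_zero_of_not_dvd hodd',
      Nat.factorization_eq_zero_of_not_dvd
        (fun h => hodd' (Nat.prime_two.dvd_of_dvd_pow h) : ¬ 2 ∣ q ^ 2 ^ 2)]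
    ring
  exact ⟨Sylow.ofCard _ hcard, rfl⟩

theorem isSimple (hodd : Odd (Fintype.card F)) (S : Sylow 2 PSpG) :
    (groupFusionSystem (S : Subgroup PSpG)).IsSimple 2 := by
  haveI : Fact (Nat.Prime 2) := ⟨Nat.prime_two⟩
  haveI : Finite PSpG := Finite.of_surjective _ (AutPSp.proj_surjective (m := 2) (F := F))
  obtain ⟨Q⟩ : Nonempty (Sylow 2 G2) := inferInstance
  obtain ⟨P, hP⟩ := exists_sylow hodd Q
  set P₀ : Sylow 2 PSpG := P.mapSurjective (AutPSp.proj_surjective (m := 2) (F := F)) with hP₀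
  have hP₀' : (P₀ : Subgroup PSpG) = (St (Q : Subgroup G2)).map π := by rw [← hP]; rfl
  have hne1 : (-1 : G2) ≠ 1 := neg_ne hodd 1
  refine isSimple_gfs P₀ S ?_ (fun T hT hT1 hTc => ?_) ?_
  · rw [hP₀']
    intro h
    have h1 : π (dg 1 (-1)) ∈ (St (Q : Subgroup G2)).map π :=
      ⟨_, dg_mem_St.2 ⟨one_mem _, neg_one_mem hodd Q⟩, rfl⟩
    rw [h, Subgroup.mem_bot, ← map_one π] at h1
    rcases proj_eq'.1 h1 with h2 | h2
    · rw [← dg_one] at h2
      exact hne1 (dg_inj h2).2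
    · rw [mul_one, cs] at h2
      exact hne1 (dg_inj h2).1.symm
  · rw [hP₀'] at hT ⊢
    set T' := T.comap π with hT'
    have hT'S : T' ≤ St (Q : Subgroup G2) := fun x hx => (proj_mem_iff hodd Q).1 (hT hx)
    have hcl : ∀ g : Sp, ∀ x ∈ T', g * x * g⁻¹ ∈ St (Q : Subgroup G2) → g * x * g⁻¹ ∈ T' := by
      intro g x hx hgx
      show π (g * x * g⁻¹) ∈ T
      rw [map_mul, map_mul, map_inv]
      refine hTc _ _ hx ?_
      rw [← map_inv, ← map_mul, ← map_mul, hP₀']
      exact ⟨_, hgx, rfl⟩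
    have hSN : (St (Q : Subgroup G2)).map π ≤ Subgroup.normalizer (T : Set PSpG) :=
      fun g hg => mem_normalizer_of_forall fun y hy => hTc g y hy
        (hP₀' ▸ mul_mem (mul_mem hg (hT hy)) (inv_mem hg))
    have hne := inf_centralizer_ne_bot (P.2.map π) (hP ▸ hT) (hP ▸ hSN) hT1
    obtain ⟨z, hz, hz1⟩ := (Subgroup.bot_or_exists_ne_one _).resolve_left hne
    obtain ⟨s, rfl⟩ := AutPSp.proj_surjective z
    have hsS : s ∈ St (Q : Subgroup G2) := hT'S hz.1
    have ht : dg 1 (-1) ∈ T' := by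
      rcases center_mod hodd Q hsS (fun x hx => by
        have e := Subgroup.mem_centralizer_iff.mp hz.2 (π x) ⟨x, hP.symm ▸ hx, rfl⟩
        rw [← map_mul, ← map_mul] at e
        exact proj_eq'.1 e.symm) with h | h | h | h
      · exact absurd (by rw [h, map_one]) hz1
      · exact absurd (by rw [← map_one π]; exact proj_eq'.2 (Or.inr (by rw [mul_one, h]))) hz1
      · exact h ▸ hz.1
      · show π (dg 1 (-1)) ∈ T
        rw [← show π s = π (dg 1 (-1)) from proj_eq'.2 (Or.inr h)]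
        exact hz.1
    rintro _ ⟨x, hx, rfl⟩
    exact St_le_of_closed hodd Q T' hT'S ht hcl hx
  · rw [hP₀']
    exact normalizer_le hodd Q

end Cfsg.Agent.Fusion.PSpTwoSimple
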