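import Cfsg.Agent.S5205
import Cfsg.Agent.Lib.Transfer.ZJFusion
import Cfsg.Agent.Lib.Fusion.GlaubermanThompson
import Cfsg.Agent.Lib.Fusion.SectionFreeQuotient

/-!
`Qd(p)`-free systems, `p` odd, normalise `Z(J(S))` and are solvable.
-/

set_option autoImplicit false
set_option linter.style.haveILetI false

namespace Cfsg.Agent.Fusion

open Cfsg.Agent.Transfer (zjW isCharPFunctor_zjW inducedFunctor_zjW ZJAb ZJAb_normal)

universe u v

variable {Ω : Type u} [Group Ω] {S : Subgroup Ω} {F : FusionSystem S} {p : ℕ} [Fact p.Prime]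

/-- `Z(J(S))` is normal in a `Qd(p)`-free saturated system. -/
theorem isNormal_ZJAb [Finite S] (hp : p ≠ 2) (hS : IsPGroup p S) (hF : F.IsSaturated p)
    (hfree : F.IsSectionFree p ↥(Cfsg.qd p)) : F.IsNormal (ZJAb 0 S) := by
  have h := (Cfsg.Agent.S5205.main (p := p) (fun (Q : Type u) [Group Q] => zjW 0 Q)
    (fun Q _ _ hQ hn => (isCharPFunctor_zjW (p := p) (Or.inl rfl)).1 Q hQ hn)
    (fun Q R _ _ _ hQ φ => ?_) (fun L _ _ P hc hinv => ?_) _ _ F rfl rfl hS hF hfree).1
  · rw [← inducedFunctor_zjW 0 S]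
    exact h
  · have : Finite R := Finite.of_equiv Q φ.toEquiv
    exact (isCharPFunctor_zjW (p := p) (Or.inl rfl)).2 Q R hQ φ
  · show (Cfsg.inducedFunctor (zjW 0) (P : Subgroup L)).Normal
    rw [inducedFunctor_zjW]
    refine ZJAb_normal hp (Or.inl rfl) ?_ ?_ P
    · rw [hc]; exact inf_le_left
    · exact Cfsg.Agent.Transfer.pStableElts_of_not_hasNatPair hp fun h =>
        hinv (h.exists_qd_section hp)

/-- The largest normal subgroup of a `Qd(p)`-free system on a nontrivial group is nontrivial. -/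
theorem core_ne_bot_of_qdFree [Finite S] (hp : p ≠ 2) (hS : IsPGroup p S) (hS1 : S ≠ ⊥)
    (hF : F.IsSaturated p) (hfree : F.IsSectionFree p ↥(Cfsg.qd p)) : F.core ≠ ⊥ := by
  intro h
  refine ZJAb_ne_bot_of_finite hS hS1 (le_bot_iff.mp ?_)
  rw [← h]
  exact le_core (isNormal_ZJAb hp hS hF hfree)

/-- A `Qd(p)`-free saturated system is solvable. -/
theorem isSolvableSystem_of_qdFree [Finite S] (hp : p ≠ 2) (hS : IsPGroup p S)
    (hF : F.IsSaturated p) (hfree : F.IsSectionFree p ↥(Cfsg.qd p)) : F.IsSolvableSystem := by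
  intro R hR hne _ E hE
  have hmor := IsFactorSystem.isSurjectiveMorphism hS hF hR hE
  refine core_ne_bot_of_qdFree hp ((hS.to_quotient _).to_subgroup ⊤) (fun htop => hne ?_)
    (isSaturated_image hS hF hmor) (isSectionFree_image hS hF hmor hfree)
  have hsub : Subsingleton (S ⧸ R.subgroupOf S) := by
    refine ⟨fun a b => ?_⟩
    have ha : a ∈ (⊥ : Subgroup (S ⧸ R.subgroupOf S)) := htop ▸ Subgroup.mem_top a
    have hb : b ∈ (⊥ : Subgroup (S ⧸ R.subgroupOf S)) := htop ▸ Subgroup.mem_top b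
    rw [Subgroup.mem_bot.mp ha, Subgroup.mem_bot.mp hb]
  have h1 : R.subgroupOf S = ⊤ := QuotientGroup.subgroup_eq_top_of_subsingleton _ hsub
  exact le_antisymm hR.1 (Subgroup.subgroupOf_eq_top.mp h1)

end Cfsg.Agent.Fusion
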