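import Cfsg.Agent.Lib.Fusion.KModel
import Cfsg.Agent.Lib.Fusion.CenterSplit

/-!
Section-freeness may be tested on centric radical subgroups.
-/

set_option autoImplicit false

namespace Cfsg.Agent.Fusion

open Cfsg.FusionSystem (centralizerIn normalizerIn imageAlong preimageAlong)

universe u v

variable {Ω : Type u} [Group Ω] {S : Subgroup Ω} {F : FusionSystem S} {R Q : Subgroup Ω} {p : ℕ}

/-- If the core of the model of the normalizer system of a centric subgroup is that subgroup,
the subgroup is radical. -/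
theorem isRadical_of_core_eq [Finite S] [Fact p.Prime] (hS : IsPGroup p S) (hc : F.IsCentric Q)
    {E : FusionSystem (normalizerIn S Q)} (hE : F.IsNormalizerSystem Q E) {G : Type v} [Group G]
    {ι : ↥(normalizerIn S Q) →* G} (h : E.IsModel p G ι)
    (hcore : preimageAlong ι (pCore p G) ≤ Q) : F.IsRadical p Q := by
  have hQS := hc.1
  have := finite_of_le hQS
  have := finite_mulAut Q
  have : Finite (normalizerIn S Q) := finite_of_le normalizerIn_le
  have hQn := isNormal_normalizerSystem hQS hE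
  have hQc := isCentric_normalizerSystem hc hE
  obtain ⟨κ, hκ, hκE, hκs⟩ := IsModel.exists_conjHom h hQn
  have hEF : ∀ α ∈ E.autGroup Q, α ∈ F.autGroup Q := by
    intro α hα
    obtain ⟨-, -, g, hg, hgα, -⟩ := (mapTo_nSys_iff hE).mp (mapTo_of_mem_autGroup hQn.1 hα)
    exact (mem_autGroup_iff hQS).mpr
      ((hg.restrict le_sup_left).congr' fun x hx => (hgα x hx).symm)
  have hFE : ∀ α ∈ F.autGroup Q, α ∈ E.autGroup Q := by
    intro α hα
    exact (mem_autGroup_iff hQn.1).mpr ((mapTo_nSys_iff hE).mpr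
      ⟨hQn.1, fun x hx => hQn.1 (autFun_mem α hx), autFun α,
        by rw [sup_idem]; exact mapTo_of_mem_autGroup hQS hα, fun _ _ => rfl, img_autFun α⟩)
  have := h.1
  refine ⟨hQS, le_antisymm ?_ ?_⟩
  · rintro _ ⟨a, ha, rfl⟩
    let κ' : G →* F.autGroup Q := κ.codRestrict _ fun g => hEF _ (hκE g)
    have hn : ((pCore p (F.autGroup Q)).comap κ').Normal := (normal_pCore p _).comap κ'
    have hker : IsPGroup p κ'.ker := by
      rintro ⟨c, hc'⟩
      obtain ⟨z, hz, -, rfl⟩ := IsModel.centralizer_eq h hQn hQc (c := c) fun x hx => by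
        have h1 := hκ c ⟨x, hx⟩
        rw [show κ c = 1 from congrArg Subtype.val hc', MulAut.one_apply] at h1
        exact (mul_inv_eq_iff_eq_mul.mp h1.symm)
      obtain ⟨e, he⟩ := hS ⟨z, hQS hz⟩
      refine ⟨e, Subtype.ext ?_⟩
      show th ι z ^ p ^ e = 1
      rw [th_apply ι (hQn.1 hz), ← map_pow, ← map_one ι]
      exact congrArg ι (Subtype.ext (congrArg Subtype.val he :))
    have hp : IsPGroup p ((pCore p (F.autGroup Q)).comap κ') :=
      (isPGroup_pCore p _).comap_of_ker_isPGroup κ' hker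
    obtain ⟨g, hg⟩ := hκs a (hFE a a.2)
    have hga : κ' g = a := Subtype.ext hg
    obtain ⟨x, hx, hxg⟩ := exists_th_eq
      (IsModel.pCore_le_range h (le_pCore hn hp (show g ∈ _ from (hga ▸ ha : κ' g ∈ _))))
    have hxQ : x ∈ Q := hcore (mem_preimageAlong.mpr ⟨hx, hxg ▸ le_pCore hn hp
      (show g ∈ _ from (hga ▸ ha : κ' g ∈ _))⟩)
    rw [inn_eq_autInducedBy, mem_autInducedBy_iff_cj]
    refine ⟨x, hxQ, fun y hy => ?_⟩
    show autFun (a : MulAut Q) y = cj x y
    rw [← hg, autFun_apply _ hy]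
    refine th_inj h.2.1.1 (hQn.1 (κ g _).2)
      (hQn.1 (Q.mul_mem (Q.mul_mem hxQ hy) (Q.inv_mem hxQ))) ?_
    rw [hκ g ⟨y, hy⟩, cj_apply, th_conj ι hx (hQn.1 hy), hxg]
  · intro α hα
    exact ⟨⟨α, inn_le_autGroup hQS hα⟩, le_pCore (normal_inn_subgroupOf F Q)
      ((isPGroup_inn (hS.to_le hQS)).comap_of_injective _ (Subgroup.subtype_injective _)) hα, rfl⟩

/-- Section-freeness may be tested on centric radical subgroups. -/
theorem isSectionFree_of_radical [Finite S] [Fact p.Prime] (hS : IsPGroup p S)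
    (hF : F.IsSaturated p) {H : Type v} [Group H]
    (h : ∀ Q : Subgroup Ω, F.IsFullyNormalized Q → F.IsCentric Q → F.IsRadical p Q →
      ∀ N : FusionSystem (normalizerIn S Q), F.IsNormalizerSystem Q N →
        ∀ (L : Type u) [Group L] (ι : ↥(normalizerIn S Q) →* L), N.IsModel p L ι →
          ¬ Cfsg.Involves H L) :
    F.IsSectionFree p H := by
  intro Q
  induction hk : Nat.card S - Nat.card Q using Nat.strong_induction_on generalizing Q with
  | h k ih =>
  intro hQn hQc E hE L _ ι hmod hinv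
  have hQS := hQn.1
  let T := normalizerIn S Q
  have : Finite T := finite_of_le normalizerIn_le
  have hQnorm := isNormal_normalizerSystem hQS hE
  set R := preimageAlong ι (pCore p L) with hR
  have hQR : Q ≤ R := IsModel.le_core_preimage hmod hQnorm
  by_cases hRQ : R ≤ Q
  · exact h Q hQn hQc (isRadical_of_core_eq hS hQc hE hmod hRQ) E hE L ι hmod hinv
  have hRn : E.IsNormal R := IsModel.isNormal_core_preimage hmod
  have hRT : R ≤ T := preimageAlong_le
  have hTR : normalizerIn T R = T := inf_eq_left.mpr (IsNormal.le_normalizer hRn)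
  let ι₁ : ↥(normalizerIn T R) →* L := ι.comp (Subgroup.inclusion normalizerIn_le)
  have hN2 := isNormalizerSystem_nSys E hRT
  have h₁ : (nSys E hRT).IsModel p L ι₁ := by
    obtain ⟨hfin, ⟨hinj, hreal⟩, ⟨TL, hTL⟩, hC⟩ := hmod
    refine ⟨hfin, ⟨hinj.comp (Subgroup.inclusion_injective _), fun P hP φ hφ => ?_⟩,
      ⟨TL, ?_⟩, hC⟩
    · refine Iff.trans ⟨?_, ?_⟩ (hreal P (hP.trans normalizerIn_le) φ
        fun x => normalizerIn_le (hφ x))
      · intro hm
        obtain ⟨-, -, g, hg, hgf, -⟩ := (mapTo_nSys_iff hN2).mp (mapTo_ev hm)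
        exact mapTo_ev_iff.mp
          ((hg.restrict le_sup_left).congr' fun x hx => (hgf x hx).symm)
      · intro hm
        obtain ⟨g, hg, hgf, hgR⟩ := (isNormal_iff.mp hRn).2 P _ (mapTo_ev hm)
        exact mapTo_ev_iff.mp ((mapTo_nSys_iff hN2).mpr
          ⟨hP, fun x hx => ev_apply φ hx ▸ hφ _, g, hg, hgf, hgR⟩)
    · rw [hTL]
      ext y
      exact ⟨fun ⟨s, hs⟩ => ⟨⟨s, hTR.ge s.2⟩, hs⟩, fun ⟨s, hs⟩ => ⟨_, hs⟩⟩
  obtain ⟨T', hn, hc, hcard, N', hN', L', _, ι', hmod', e, he⟩ :=
    exists_model_hom_normalizer hS hF hQn hE (isFullyNormalized_of_isNormal hRn)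
      (IsModel.isCentric_core_preimage hmod) hN2 h₁
  have hlt : Nat.card Q < Nat.card R := by
    have := finite_of_le hRT
    refine lt_of_le_of_ne (Subgroup.card_le_of_le hQR) fun hh => hRQ ?_
    exact (Subgroup.eq_of_le_of_card_ge hQR hh.ge).ge
  refine ih _ ?_ T' rfl hn hc N' hN' L' ι' hmod' (Cfsg.Agent.SL2Dickson.involves_trans
    (M := e.range) (MonoidHom.ofInjective he).symm.toMonoidHom
    (MonoidHom.ofInjective he).symm.surjective hinv)
  have h2 : Nat.card T' ≤ Nat.card S := Subgroup.card_le_of_le hn.1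
  omega

end Cfsg.Agent.Fusion
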