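import Cfsg.Agent.Lib.Fusion.RankThreeLinear
import Cfsg.Agent.Lib.Fusion.EssentialFrame

/-!
Strongly embedded subgroups of groups acting on an elementary abelian group of order `p ^ 3`.
-/

set_option autoImplicit false
set_option linter.style.haveILetI false

namespace Cfsg.Agent.Fusion.RankThree

variable {p : ℕ} [hp : Fact p.Prime]

theorem isDetached_of_isStronglyPEmbedded {X : Type*} [Group X] [Finite X] {Y : Subgroup X}
    (h : Cfsg.IsStronglyPEmbedded p Y) : IsDetached p X := by
  intro a hap ha1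
  have hA : IsPGroup p (Subgroup.zpowers a) :=
    IsPGroup.of_card (n := 1) (by rw [Nat.card_zpowers, pow_one, orderOf_eq_prime hap ha1])
  obtain ⟨T, hT⟩ := hA.exists_le_sylow
  obtain ⟨Y', hY', hN⟩ := exists_core_le_of_isStronglyPEmbedded h T
  have hTne : (T : Subgroup X) ≠ ⊥ := fun hb => ha1 (by
    have := hT (Subgroup.mem_zpowers a)
    rwa [hb, Subgroup.mem_bot] at this)
  have hTY : (T : Subgroup X) ≤ Y' := Subgroup.le_normalizer.trans (hN _ le_rfl hTne)
  obtain ⟨D, hTD, hD⟩ := exists_isSylowIn hTY T.2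
  rw [T.is_maximal' hD.2.1 hTD] at hD
  refine ⟨Y', hTY (hT (Subgroup.mem_zpowers a)), fun b c hbp hb1 _ _ hbc hbY => ?_, ?_⟩
  · have hB : IsPGroup p (Subgroup.zpowers b) :=
      IsPGroup.of_card (n := 1) (by rw [Nat.card_zpowers, pow_one, orderOf_eq_prime hbp hb1])
    obtain ⟨y, hy, hyB⟩ := hD.2.2 _ (Subgroup.zpowers_le.mpr hbY) hB
    have hne : Subgroup.zpowers (y * b * y⁻¹) ≠ ⊥ := by
      rw [Ne, Subgroup.zpowers_eq_bot, conj_eq_one_iff]; exact hb1
    have hc : y * c * y⁻¹ ∈ Y' := by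
      refine hN _ (Subgroup.zpowers_le.mpr (hyB b (Subgroup.mem_zpowers b))) hne ?_
      refine Subgroup.centralizer_le_normalizer _ ?_
      rw [Subgroup.mem_centralizer_iff]
      rintro z ⟨k, rfl⟩
      show (y * b * y⁻¹) ^ k * (y * c * y⁻¹) = y * c * y⁻¹ * (y * b * y⁻¹) ^ k
      exact (Commute.zpow_left (hbc.map (MulAut.conj y).toMonoidHom) k).eq
    have := Y'.mul_mem (Y'.mul_mem (Y'.inv_mem hy) hc) hy
    simpa [mul_assoc] using this
  · by_contra hall
    push Not at hall
    refine hY' (top_le_iff.mp fun g _ => ?_)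
    have hga := hall g
    have hGa : IsPGroup p (Subgroup.zpowers (g * a * g⁻¹)) := by
      refine IsPGroup.of_card (n := 1) ?_
      rw [Nat.card_zpowers, pow_one, orderOf_eq_prime (by rw [conj_pow, hap, mul_one, mul_inv_cancel])
        (by rwa [Ne, conj_eq_one_iff])]
    obtain ⟨y, hy, hyB⟩ := hD.2.2 _ (Subgroup.zpowers_le.mpr hga) hGa
    have hyg : y * g ∈ Y' := by
      refine mem_of_conj_le T hN (R := Subgroup.zpowers a) hT (by rwa [Ne, Subgroup.zpowers_eq_bot]) ?_
      rintro _ ⟨k, rfl⟩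
      show y * g * a ^ k * (y * g)⁻¹ ∈ (T : Subgroup X)
      have := hyB _ (Subgroup.mem_zpowers_iff.mpr ⟨k, rfl⟩)
      rw [conj_zpow] at this
      simpa [mul_assoc] using this
    have := Y'.mul_mem (Y'.inv_mem hy) hyg
    rwa [inv_mul_cancel_left] at this

theorem isDetached_congr {X X' : Type*} [Group X] [Group X'] (e : X ≃* X') (h : IsDetached p X') :
    IsDetached p X := by
  intro a hap ha1
  obtain ⟨M, haM, hM, g, hg⟩ := h (e a) (by rw [← map_pow, hap, map_one])
    (fun h0 => ha1 (e.injective (h0.trans (map_one e).symm)))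
  refine ⟨M.comap e.toMonoidHom, haM, fun b c hb hb1 hc hc1 hbc hbM =>
    hM (e b) (e c) (by rw [← map_pow, hb, map_one]) (fun h0 => hb1 (e.injective (h0.trans (map_one e).symm)))
      (by rw [← map_pow, hc, map_one]) (fun h0 => hc1 (e.injective (h0.trans (map_one e).symm)))
      (hbc.map e.toMonoidHom) hbM, e.symm g, fun hm => hg ?_⟩
  simpa using hm

theorem exists_functional {V : Type*} [AddCommGroup V] [Module (ZMod p) V] (N : Submodule (ZMod p) V) {x : V}
    (hx : x ∉ N) : ∃ f : V →ₗ[ZMod p] ZMod p, f x ≠ 0 ∧ ∀ y ∈ N, f y = 0 := by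
  obtain ⟨f, hf, hN⟩ := Submodule.exists_dual_map_eq_bot_of_notMem hx
    (Module.Projective.of_free (R := ZMod p) (P := V ⧸ N))
  exact ⟨f, hf, fun y hy => (Submodule.mem_bot _).mp (hN ▸ Submodule.mem_map_of_mem hy)⟩

section

variable {W : Type*} [CommGroup W] (hexp : ∀ w : W, w ^ p = 1)
variable {X : Type*} [Group X] (ρ : X →* MulAut W) (hinj : Function.Injective ρ) (hX : IsDetached p X)

/-- Automorphisms as endomorphisms of the additive group. -/
def toEnd [Module (ZMod p) (Additive W)] : MulAut W →* Module.End (ZMod p) (Additive W) where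
  toFun α := (MonoidHom.toAdditive α.toMonoidHom).toZModLinearMap p
  map_one' := rfl
  map_mul' _ _ := rfl

include hexp in
omit hp in
theorem nsmul_zero (w : Additive W) : p • w = 0 := congrArg Additive.ofMul (hexp w.toMul)

include hexp hinj hX in
/-- A group with a strongly embedded subgroup on an elementary abelian group of order `p ^ 3` has
Sylow subgroups of order at most `p`. -/
theorem card_le_of_isPGroup_aux [Module (ZMod p) (Additive W)] (hcard : Nat.card W = p ^ 3) (U : Subgroup X) (hU : IsPGroup p U) :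
    Nat.card U ≤ p := by
  haveI : Finite W := Nat.finite_of_card_ne_zero (by rw [hcard]; exact pow_ne_zero _ hp.out.ne_zero)
  haveI := finite_mulAut W
  haveI : Finite X := Finite.of_injective ρ hinj
  set σ := (toEnd (p := p) (W := W)).comp ρ with hσ
  have hσinj : Function.Injective σ := fun g h he => hinj (MulEquiv.ext fun w =>
    congrArg Additive.toMul (LinearMap.congr_fun he (Additive.ofMul w)))
  haveI : Module.Finite (ZMod p) (Additive W) := Module.Finite.of_finite
  have hWp : IsPGroup p W := IsPGroup.of_card hcard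
  haveI : Nontrivial W := Finite.one_lt_card_iff_nontrivial.mp (by
    rw [hcard]; exact Nat.one_lt_pow three_ne_zero hp.out.one_lt)
  -- a fixed line
  obtain ⟨z₀, hz₀, hzfix⟩ := exists_fixed_of_pGroup hWp (hU.map ρ)
  set z : Additive W := Additive.ofMul z₀ with hzdef
  have hz0 : z ≠ 0 := fun h => hz₀ (congrArg Additive.toMul h)
  have hfz : ∀ g ∈ U, σ g z = z := fun g hg => congrArg Additive.ofMul (hzfix _ ⟨g, hg, rfl⟩)
  -- a fixed plane
  set L := Subgroup.zpowers z₀ with hL
  have hLcard : Nat.card L = p := by rw [hL, Nat.card_zpowers, orderOf_eq_prime (hexp z₀) hz₀]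
  have hQcard : Nat.card (W ⧸ L) = p ^ 2 := by
    have := L.card_eq_card_quotient_mul_card_subgroup
    rw [hcard, hLcard, pow_succ] at this
    exact (Nat.eq_of_mul_eq_mul_right hp.out.pos this).symm
  haveI : Nontrivial (W ⧸ L) := Finite.one_lt_card_iff_nontrivial.mp (by
    rw [hQcard]; exact Nat.one_lt_pow two_ne_zero hp.out.one_lt)
  have hLinv : ∀ g ∈ U, L.map (ρ g).toMonoidHom = L := fun g hg => by
    rw [hL, MonoidHom.map_zpowers]
    exact congrArg Subgroup.zpowers (hzfix _ ⟨g, hg, rfl⟩)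
  let q : U →* MulAut (W ⧸ L) :=
    { toFun := fun g => QuotientGroup.congr L L (ρ g) (hLinv g g.2)
      map_one' := MulEquiv.ext fun v => by
        obtain ⟨v, rfl⟩ := QuotientGroup.mk_surjective v
        simp
      map_mul' := fun g h => MulEquiv.ext fun v => by
        obtain ⟨v, rfl⟩ := QuotientGroup.mk_surjective v
        simp only [Subgroup.coe_mul, map_mul, MulAut.mul_apply]; rfl }
  obtain ⟨w', hw', hwfix⟩ := exists_fixed_of_pGroup (IsPGroup.of_card hQcard)
    (C := q.range) (hU.of_surjective q.rangeRestrict q.rangeRestrict_surjective)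
  obtain ⟨w₀, rfl⟩ := QuotientGroup.mk_surjective w'
  set w : Additive W := Additive.ofMul w₀ with hwdef
  have hfw : ∀ g ∈ U, ∃ γ : ZMod p, σ g w = w + γ • z := by
    intro g hg
    have h1 := hwfix (q ⟨g, hg⟩) ⟨⟨g, hg⟩, rfl⟩
    obtain ⟨k, hk⟩ := Subgroup.mem_zpowers_iff.mp (QuotientGroup.eq.mp (show
      (w₀ : W ⧸ L) = ((ρ g w₀ : W) : W ⧸ L) from h1.symm))
    refine ⟨(k : ZMod p), ?_⟩
    rw [Int.cast_smul_eq_zsmul]
    show Additive.ofMul (ρ g w₀) = Additive.ofMul w₀ + k • Additive.ofMul z₀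
    rw [← ofMul_zpow, ← ofMul_mul, hk, mul_inv_cancel_left]
  set H : Submodule (ZMod p) (Additive W) := Submodule.span (ZMod p) {z, w} with hH
  have hwz : ∀ k : ZMod p, w ≠ k • z := by
    intro k hk
    refine hw' ((QuotientGroup.eq_one_iff _).mpr ?_)
    refine Subgroup.mem_zpowers_iff.mpr ⟨k.val, ?_⟩
    rw [zpow_natCast]
    refine Additive.ofMul.injective ?_
    rw [ofMul_pow, ← Nat.cast_smul_eq_nsmul (ZMod p), ZMod.natCast_zmod_val]
    exact hk.symm
  -- coordinates
  obtain ⟨ω₀, hω₀w, hω₀z⟩ := exists_functional (Submodule.span (ZMod p) {z}) (x := w) (fun hm => by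
      obtain ⟨k, hk⟩ := Submodule.mem_span_singleton.mp hm
      exact hwz k hk.symm)
  obtain ⟨x, hx⟩ : ∃ x, x ∉ H := by
    classical
    by_contra hall
    push Not at hall
    have hsurj : Function.Surjective (fun ab : ZMod p × ZMod p => ab.1 • z + ab.2 • w) := fun u => by
      obtain ⟨a, b, he⟩ := Submodule.mem_span_pair.mp (hall u)
      exact ⟨(a, b), he⟩
    have := Nat.card_le_card_of_surjective _ hsurj
    rw [Nat.card_prod, Nat.card_zmod, Nat.card_congr Additive.toMul, hcard] at this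
    nlinarith [hp.out.two_le]
  obtain ⟨φ₀, hφ₀x, hφ₀H⟩ := exists_functional H hx
  have hφ₀ : ∀ u ∈ H, φ₀ u = 0 := hφ₀H
  set φ := (φ₀ x)⁻¹ • φ₀ with hφ
  have hφz : φ z = 0 := by rw [hφ, LinearMap.smul_apply, hφ₀ z (Submodule.subset_span (by simp)), smul_zero]
  have hφw : φ w = 0 := by rw [hφ, LinearMap.smul_apply, hφ₀ w (Submodule.subset_span (by simp)), smul_zero]
  have hφx : φ x = 1 := by rw [hφ, LinearMap.smul_apply, smul_eq_mul, inv_mul_cancel₀ hφ₀x]
  have hωz0 : ω₀ z = 0 := hω₀z z (Submodule.mem_span_singleton_self z)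
  set ω := (ω₀ w)⁻¹ • ω₀ + (-((ω₀ w)⁻¹ * ω₀ x)) • φ with hω
  have hωz : ω z = 0 := by simp [hω, hωz0, hφz]
  have hωw : ω w = 1 := by simp [hω, hφw, inv_mul_cancel₀ hω₀w]
  have hωx : ω x = 0 := by simp [hω, hφx]
  clear_value φ ω
  have hspanAll : ∀ u, ∃ κ : ZMod p, u = φ u • x + ω u • w + κ • z := by
    intro u
    have hinjT : Function.Injective (fun t : ZMod p × ZMod p × ZMod p => t.1 • x + t.2.1 • w + t.2.2 • z) := by
      rintro ⟨a, b, c⟩ ⟨a', b', c'⟩ he
      have h1 := congrArg φ he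
      have h2 := congrArg ω he
      simp [hφz, hφw, hφx, hωz, hωw, hωx] at h1 h2
      subst h1 h2
      have h3 : (c - c') • z = 0 := by linear_combination (norm := module) he
      rcases smul_eq_zero.mp h3 with h | h
      · rw [sub_eq_zero.mp h]
      · exact absurd h hz0
    have hbij := hinjT.bijective_of_nat_card_le (by
      rw [Nat.card_prod, Nat.card_prod, Nat.card_zmod, Nat.card_congr Additive.toMul, hcard]
      exact le_of_eq (by ring))
    obtain ⟨⟨a, b, c⟩, rfl⟩ := hbij.2 u
    exact ⟨c, by simp [hφz, hφw, hφx, hωz, hωw, hωx]⟩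
  have hspan : ∀ u, φ u = 0 → ∃ α β : ZMod p, u = α • w + β • z := fun u hu => by
    obtain ⟨κ, he⟩ := hspanAll u
    exact ⟨ω u, κ, by rwa [hu, zero_smul, zero_add] at he⟩
  -- the action of each element
  have hshape : ∀ g ∈ U, ∃ α β γ : ZMod p, σ g x = x + α • w + β • z ∧ σ g w = w + γ • z := by
    intro g hg
    obtain ⟨γ, hγ⟩ := hfw g hg
    obtain ⟨κ, hκ⟩ := hspanAll (σ g x)
    suffices h1 : φ (σ g x) = 1 by exact ⟨ω (σ g x), κ, γ, by rw [h1, one_smul] at hκ; exact hκ, hγ⟩
    have hpow : ∀ n : ℕ, φ ((σ g ^ n) x) = φ (σ g x) ^ n := by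
      intro n
      induction n with
      | zero => rw [pow_zero, pow_zero, Module.End.one_apply, hφx]
      | succ n ih =>
        obtain ⟨κ', hκ'⟩ := hspanAll ((σ g ^ n) x)
        rw [pow_succ', Module.End.mul_apply, hκ']
        simp only [map_add, map_smul, hfz g hg, hγ, hφz, hφw, smul_eq_mul, mul_zero, add_zero]
        rw [ih, pow_succ]
    obtain ⟨m, hm⟩ := hU ⟨g, hg⟩
    have h2 := hpow (p ^ m)
    rw [← map_pow, show g ^ p ^ m = 1 from congrArg Subtype.val hm, map_one, Module.End.one_apply, hφx] at h2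
    have h3 : ∀ k (r : ZMod p), r ^ p ^ k = r := by
      intro k
      induction k with
      | zero => intro r; rw [pow_zero, pow_one]
      | succ k ih => intro r; rw [pow_succ, pow_mul, ih, ZMod.pow_card]
    rw [h3] at h2
    exact h2.symm
  choose! α β γ hαβ hγ using hshape
  have hsig : ∀ g ∈ U, ∀ u, ∃ κ : ZMod p, u = φ u • x + ω u • w + κ • z ∧
      σ g u = u + φ u • (α g • w + β g • z) + ω u • (γ g • z) := fun g hg u => by
    obtain ⟨κ, he⟩ := hspanAll u
    refine ⟨κ, he, ?_⟩
    conv_lhs => rw [he]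
    rw [map_add, map_add, map_smul, map_smul, map_smul, hfz g hg, hαβ g hg, hγ g hg]
    conv_rhs => arg 1; arg 1; rw [he]
    module
  have hadd : ∀ g ∈ U, ∀ h ∈ U, α (g * h) = α g + α h ∧ γ (g * h) = γ g + γ h ∧
      β (g * h) = β g + β h + α h * γ g := by
    intro g hg h hh
    have e1 : σ (g * h) x = x + (α g + α h) • w + (β g + β h + α h * γ g) • z := by
      rw [map_mul, Module.End.mul_apply, hαβ h hh, map_add, map_add, map_smul, map_smul, hfz g hg, hαβ g hg,
        hγ g hg]
      module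
    have e2 : σ (g * h) w = w + (γ g + γ h) • z := by
      rw [map_mul, Module.End.mul_apply, hγ h hh, map_add, map_smul, hfz g hg, hγ g hg]
      module
    rw [hαβ _ (U.mul_mem hg hh)] at e1
    rw [hγ _ (U.mul_mem hg hh)] at e2
    have f1 := congrArg ω e1
    simp [hωx, hωw, hωz] at f1
    refine ⟨f1, ?_, ?_⟩
    · have : (γ (g * h) - (γ g + γ h)) • z = 0 := by linear_combination (norm := module) e2
      exact sub_eq_zero.mp ((smul_eq_zero.mp this).resolve_right hz0)
    · rw [f1] at e1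
      have : (β (g * h) - (β g + β h + α h * γ g)) • z = 0 := by linear_combination (norm := module) e1
      exact sub_eq_zero.mp ((smul_eq_zero.mp this).resolve_right hz0)
  have hone : ∀ g ∈ U, α g = 0 → β g = 0 → γ g = 0 → g = 1 := fun g hg h1 h2 h3 => hσinj (LinearMap.ext
    fun u => by
      obtain ⟨κ, -, he⟩ := hsig g hg u
      rw [he, h1, h2, h3, map_one, Module.End.one_apply]
      simp)
  by_contra hbig
  rw [not_le] at hbig
  by_cases hker : ∃ g ∈ U, α g = 0 ∧ γ g = 0 ∧ g ≠ 1
  · obtain ⟨a, haU, ha1, ha2, hane⟩ := hker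
    have hβa : β a ≠ 0 := fun h => hane (hone a haU ha1 h ha2)
    have ha : σ a = tv (β a • z) φ := LinearMap.ext fun u => by
      obtain ⟨κ, -, he⟩ := hsig a haU u
      rw [he, tv_apply, ha1, ha2]
      simp
    have hv : φ (β a • z) = 0 := by rw [map_smul, hφz, smul_zero]
    have hv0 : β a • z ≠ 0 := smul_ne_zero hβa hz0
    have hu : φ x ≠ 0 := by rw [hφx]; exact one_ne_zero
    by_cases hout : ∀ g ∈ U, α g = 0 ∧ γ g = 0
    · refine absurd hbig (not_lt.mpr ?_)
      have hinjβ : Function.Injective (fun g : U => β (g : X)) := by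
        intro g h he
        have hh := U.inv_mem h.2
        have h1 : β ((g : X) * (h : X)⁻¹) = β g + β (h : X)⁻¹ := by
          rw [(hadd _ g.2 _ hh).2.2, (hout _ hh).1, zero_mul, add_zero]
        have h2 : β ((h : X) * (h : X)⁻¹) = β h + β (h : X)⁻¹ := by
          rw [(hadd _ h.2 _ hh).2.2, (hout _ hh).1, zero_mul, add_zero]
        have he' : β (g : X) = β (h : X) := he
        rw [mul_inv_cancel] at h2
        have h3 : β 1 = 0 := by
          have := (hadd 1 U.one_mem 1 U.one_mem).2.2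
          rw [mul_one, (hout 1 U.one_mem).1, zero_mul, add_zero] at this
          exact left_eq_add.mp this
        have h4 := hone _ (U.mul_mem g.2 hh) (hout _ (U.mul_mem g.2 hh)).1 (by rw [h1, he', ← h2, h3])
          (hout _ (U.mul_mem g.2 hh)).2
        exact Subtype.ext (mul_inv_eq_one.mp h4)
      exact (Nat.card_le_card_of_injective _ hinjβ).trans (Nat.card_zmod p).le
    · push Not at hout
      obtain ⟨g, hgU, hg⟩ := hout
      by_cases hα : α g = 0
      · have hγ0 := hg hα
        have hj : σ g = tv z (γ g • ω + β g • φ) := LinearMap.ext fun u => by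
          obtain ⟨κ, -, he⟩ := hsig g hgU u
          rw [he, tv_apply, hα, LinearMap.add_apply, LinearMap.smul_apply, LinearMap.smul_apply, smul_eq_mul,
            smul_eq_mul]
          module
        rw [tv_smul] at ha
        refine no_same_vec σ hσinj (isDetached_congr (MulEquiv.refl X) hX) (φ := β a • φ)
          (χ := γ g • ω + β g • φ) ha hj (by simp [hφz]) (by simp [hφz, hωz]) (u₀ := x)
          (by simp [hφx, hβa]) hz0 fun k hk => hγ0 ?_
        have := LinearMap.congr_fun hk w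
        simpa [hωw, hφw] using this
      by_cases hγ' : γ g = 0
      · have hj : σ g = tv (α g • w + β g • z) φ := LinearMap.ext fun u => by
          obtain ⟨κ, -, he⟩ := hsig g hgU u
          rw [he, tv_apply, hγ']
          simp
        refine no_same_fun σ hσinj hX ha hj hv (by simp [hφz, hφw]) hu hv0 fun k hk => hα ?_
        have := congrArg ω hk
        simpa [hωw, hωz] using this
      refine no_regular σ hσinj hX (a := a) (j := g) (z := β a • z) (w := α g • w) (c := α g * γ g / β a)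
        (φ := φ) ha hv hv0 hu ?_ (by simp [hφw]) ?_ ?_ ?_ ?_
      · rw [map_smul, hfz g hgU]
      · rw [map_smul, hγ g hgU, smul_add, smul_smul, smul_smul, div_mul_cancel₀ _ hβa]
      · exact div_ne_zero (mul_ne_zero hα hγ') hβa
      · intro u
        obtain ⟨κ, -, he⟩ := hsig g hgU u
        refine ⟨(φ u * β g + ω u * γ g) / β a, ?_⟩
        rw [he, smul_smul (_ / β a), div_mul_cancel₀ _ hβa]
        module
      · intro u hu'
        obtain ⟨a', b', he⟩ := hspan u hu'
        refine ⟨a' / α g, b' / β a, ?_⟩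
        rw [smul_smul, smul_smul, div_mul_cancel₀ _ hα, div_mul_cancel₀ _ hβa]
        exact he
  · push Not at hker
    have hcomm : ∀ g ∈ U, ∀ h ∈ U, α h * γ g = α g * γ h := by
      intro g hg h hh
      have hone' : α 1 = 0 ∧ γ 1 = 0 := by
        have := hadd 1 U.one_mem 1 U.one_mem
        rw [mul_one] at this
        exact ⟨left_eq_add.mp this.1, left_eq_add.mp this.2.1⟩
      have hsub : ∀ r ∈ U, α r⁻¹ = -α r ∧ γ r⁻¹ = -γ r := fun r hr => by
        have := hadd r hr r⁻¹ (U.inv_mem hr)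
        rw [mul_inv_cancel, hone'.1, hone'.2] at this
        exact ⟨(neg_eq_of_add_eq_zero_right this.1.symm).symm, (neg_eq_of_add_eq_zero_right this.2.1.symm).symm⟩
      have hm : (g * h) * (h * g)⁻¹ ∈ U := U.mul_mem (U.mul_mem hg hh) (U.inv_mem (U.mul_mem hh hg))
      have hid := hker _ hm ?_ ?_
      · rw [mul_inv_eq_one] at hid
        have h1 := (hadd g hg h hh).2.2
        rw [hid, (hadd h hh g hg).2.2] at h1
        linear_combination -h1
      · rw [(hadd _ (U.mul_mem hg hh) _ (U.inv_mem (U.mul_mem hh hg))).1,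
          (hsub _ (U.mul_mem hh hg)).1, (hadd g hg h hh).1, (hadd h hh g hg).1]
        ring
      · rw [(hadd _ (U.mul_mem hg hh) _ (U.inv_mem (U.mul_mem hh hg))).2.1,
          (hsub _ (U.mul_mem hh hg)).2, (hadd g hg h hh).2.1, (hadd h hh g hg).2.1]
        ring
    obtain ⟨f, hfadd, hf⟩ : ∃ f : X → ZMod p, (∀ g ∈ U, ∀ h ∈ U, f (g * h) = f g + f h) ∧
        ∀ g ∈ U, f g = 0 → α g = 0 ∧ γ g = 0 := by
      by_cases hall : ∀ g ∈ U, α g = 0
      · exact ⟨γ, fun g hg h hh => (hadd g hg h hh).2.1, fun g hg h0 => ⟨hall g hg, h0⟩⟩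
      · push Not at hall
        obtain ⟨g₀, hg₀, hα₀⟩ := hall
        refine ⟨α, fun g hg h hh => (hadd g hg h hh).1, fun g hg h0 => ⟨h0, ?_⟩⟩
        have := hcomm g hg g₀ hg₀
        rw [h0, zero_mul] at this
        exact (mul_eq_zero.mp this).resolve_left hα₀
    let fh : U →* Multiplicative (ZMod p) :=
      MonoidHom.mk' (fun g => Multiplicative.ofAdd (f (g : X))) fun g h =>
        congrArg Multiplicative.ofAdd (hfadd _ g.2 _ h.2)
    have hfinj : Function.Injective fh := by
      rw [injective_iff_map_eq_one]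
      intro g hg
      have h0 : f (g : X) = 0 := congrArg Multiplicative.toAdd hg
      exact Subtype.ext (hker _ g.2 (hf _ g.2 h0).1 (hf _ g.2 h0).2)
    have h1 := Nat.card_le_card_of_injective _ hfinj
    rw [Nat.card_congr Multiplicative.toAdd, Nat.card_zmod] at h1
    omega

include hexp hinj hX in
/-- The torus attached to an element fixing a subgroup of index `p`. -/
theorem exists_torus_group_aux [Module (ZMod p) (Additive W)] (hcard : Nat.card W = p ^ 3) (T : Subgroup W) (hT : Nat.card T = p ^ 2)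
    (a : X) {d : W} (hd : d ∈ T) (hd1 : d ≠ 1) (haT : ∀ t ∈ T, ρ a t = t)
    (ha : ∀ u, u⁻¹ * ρ a u ∈ Subgroup.zpowers d) (ha1 : a ≠ 1) :
    ∃ x w : W, x ∉ T ∧ w ∈ T ∧ w ∉ Subgroup.zpowers d ∧
      ∀ l m : ℕ, l * m ≡ 1 [MOD p] → ∃ h : X, ρ h d = d ^ l ∧ ρ h x = x ^ m ∧ ρ h w = w ∧
        h * a * h⁻¹ ∈ Subgroup.zpowers a := by
  haveI : Finite W := Nat.finite_of_card_ne_zero (by rw [hcard]; exact pow_ne_zero _ hp.out.ne_zero)
  set σ := (toEnd (p := p) (W := W)).comp ρ with hσ
  have hσinj : Function.Injective σ := fun g h he => hinj (MulEquiv.ext fun w =>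
    congrArg Additive.toMul (LinearMap.congr_fun he (Additive.ofMul w)))
  let T' : Submodule (ZMod p) (Additive W) :=
    { carrier := {x | Additive.toMul x ∈ T}
      zero_mem' := T.one_mem
      add_mem' := fun hx hy => T.mul_mem hx hy
      smul_mem' := fun c x hx => ZMod.smul_mem (K := Subgroup.toAddSubgroup T) hx c }
  obtain ⟨u₀, hu₀⟩ : ∃ u, u ∉ T := by
    by_contra hall
    push Not at hall
    rw [show T = ⊤ from eq_top_iff.mpr fun u _ => hall u, Subgroup.card_top, hcard] at hT
    have := Nat.pow_right_injective hp.out.two_le hT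
    omega
  obtain ⟨φ₀, hφ₀x, hφ₀T⟩ := exists_functional T' (x := Additive.ofMul u₀) hu₀
  have hφ₀ : ∀ t ∈ T, φ₀ (Additive.ofMul t) = 0 := fun t ht =>
    hφ₀T (Additive.ofMul t) (show Additive.ofMul t ∈ T' from ht)
  set φ := (φ₀ (Additive.ofMul u₀))⁻¹ • φ₀ with hφ
  have hφu : φ (Additive.ofMul u₀) = 1 := by rw [hφ, LinearMap.smul_apply, smul_eq_mul, inv_mul_cancel₀ hφ₀x]
  have hφT : ∀ t ∈ T, φ (Additive.ofMul t) = 0 := fun t ht => by
    rw [hφ, LinearMap.smul_apply, hφ₀ t ht, smul_zero]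
  clear_value φ
  let K : Subgroup W :=
    { carrier := {u | φ (Additive.ofMul u) = 0}
      one_mem' := φ.map_zero
      mul_mem' := fun {u v} hu hv => by
        show φ (Additive.ofMul u + Additive.ofMul v) = 0
        rw [map_add, show φ (Additive.ofMul u) = 0 from hu, show φ (Additive.ofMul v) = 0 from hv, add_zero]
      inv_mem' := fun {u} hu => by
        show φ (-Additive.ofMul u) = 0
        rw [map_neg, show φ (Additive.ofMul u) = 0 from hu, neg_zero] }
  have hKT : K = T := by
    refine (Subgroup.eq_of_le_of_card_ge (fun t ht => hφT t ht) ?_).symm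
    obtain ⟨i, hi, hiK⟩ := (Nat.dvd_prime_pow hp.out).mp (hcard ▸ Subgroup.card_subgroup_dvd_card K)
    rw [hiK, hT]
    refine Nat.pow_le_pow_right hp.out.pos ?_
    by_contra h2
    have hK : K = ⊤ := Subgroup.eq_top_of_card_eq K (by rw [hiK, hcard, show i = 3 by omega])
    have h0 : φ (Additive.ofMul u₀) = 0 := hK.ge (Subgroup.mem_top u₀)
    rw [hφu] at h0
    exact one_ne_zero h0
  -- the shape of `a`
  set v : Additive W := Additive.ofMul (u₀⁻¹ * ρ a u₀) with hv
  have hφv : φ v = 0 := hφT _ (Subgroup.zpowers_le.mpr hd (ha u₀))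
  have hsa : σ a = tv v φ := LinearMap.ext fun u => by
    have hker : φ (u - φ u • Additive.ofMul u₀) = 0 := by rw [map_sub, map_smul, hφu, smul_eq_mul, mul_one, sub_self]
    have hfix : σ a (u - φ u • Additive.ofMul u₀) = u - φ u • Additive.ofMul u₀ := by
      have hm : Additive.toMul (u - φ u • Additive.ofMul u₀) ∈ T := hKT ▸ hker
      exact congrArg Additive.ofMul (haT _ hm)
    have h1 : σ a (Additive.ofMul u₀) = Additive.ofMul u₀ + v := by
      show Additive.ofMul (ρ a u₀) = Additive.ofMul u₀ + v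
      rw [hv, ← ofMul_mul, mul_inv_cancel_left]
    rw [map_sub, map_smul, h1] at hfix
    rw [tv_apply]
    linear_combination (norm := module) hfix
  have hv0 : v ≠ 0 := fun h => ha1 (hσinj (by rw [hsa, h, tv_zero, map_one]))
  obtain ⟨k, hk⟩ := Subgroup.mem_zpowers_iff.mp (ha u₀)
  set δ : Additive W := Additive.ofMul d with hδ
  have hvd : v = (k : ZMod p) • δ := by rw [hv, ← hk, ofMul_zpow, Int.cast_smul_eq_zsmul]
  have hk0 : (k : ZMod p) ≠ 0 := fun h => hv0 (by rw [hvd, h, zero_smul])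
  obtain ⟨x, ψ, hφx, hψx, hψv, htor⟩ := exists_torus σ hσinj hX hsa hφv hv0 (u₀ := Additive.ofMul u₀)
    (by rw [hφu]; exact one_ne_zero)
  have hψd : ψ δ ≠ 0 := fun h => by rw [hvd, map_smul, h, smul_zero] at hψv; exact zero_ne_one hψv
  obtain ⟨w, hwT, hwd⟩ : ∃ w ∈ T, w ∉ Subgroup.zpowers d := by
    by_contra hall
    push Not at hall
    have := Subgroup.card_le_of_le (show T ≤ Subgroup.zpowers d from hall)
    rw [hT, Nat.card_zpowers, orderOf_eq_prime (hexp d) hd1] at this
    nlinarith [hp.out.two_le]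
  -- move `w` into the kernel of `ψ`
  set κ : ZMod p := -(ψ (Additive.ofMul w) / ψ δ) with hκ
  set w' := w * d ^ κ.val with hw'
  have hw'add : Additive.ofMul w' = Additive.ofMul w + κ • δ := by
    rw [hw', ofMul_mul, ofMul_pow, ← Nat.cast_smul_eq_nsmul (ZMod p), ZMod.natCast_zmod_val]
  have hw'T : w' ∈ T := T.mul_mem hwT (T.pow_mem hd _)
  have hψw : ψ (Additive.ofMul w') = 0 := by
    rw [hw'add, map_add, map_smul, smul_eq_mul, hκ, neg_mul, div_mul_cancel₀ _ hψd, add_neg_cancel]
  have hxT : Additive.toMul x ∉ T := fun h => by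
    have := hφT _ h
    rw [ofMul_toMul, hφx] at this
    exact one_ne_zero this
  refine ⟨Additive.toMul x, w', hxT, hw'T, fun h => hwd ?_, fun l m hlm => ?_⟩
  · have := Subgroup.mul_mem _ h (Subgroup.inv_mem _ (Subgroup.pow_mem _ (Subgroup.mem_zpowers d) κ.val))
    rwa [hw', mul_inv_cancel_right] at this
  obtain ⟨h, hhv, hhx, hhfix⟩ := htor (l : ZMod p) (m : ZMod p) (by
    rw [← Nat.cast_mul, ← Nat.cast_one (R := ZMod p), ZMod.natCast_eq_natCast_iff]
    exact hlm)
  have hhd : σ h δ = (l : ZMod p) • δ := by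
    rw [hvd, map_smul, smul_comm] at hhv
    exact smul_right_injective _ hk0 hhv
  have hhw : σ h (Additive.ofMul w') = Additive.ofMul w' := hhfix _ (hφT _ hw'T) hψw
  refine ⟨h, ?_, ?_, ?_, ?_⟩
  · have h1 : Additive.ofMul (ρ h d) = Additive.ofMul (d ^ l) := by
      rw [ofMul_pow, ← Nat.cast_smul_eq_nsmul (ZMod p)]; exact hhd
    exact Additive.ofMul.injective h1
  · have h1 : Additive.ofMul (ρ h (Additive.toMul x)) = Additive.ofMul (Additive.toMul x ^ m) := by
      rw [ofMul_pow, ofMul_toMul, ← Nat.cast_smul_eq_nsmul (ZMod p)]; exact hhx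
    exact Additive.ofMul.injective h1
  · exact Additive.ofMul.injective hhw
  · have hc : σ (h * a * h⁻¹) = σ (a ^ ((l : ZMod p) * l).val) := by
      rw [rho_pow σ hsa hφv]
      have hfun : φ.comp (σ h⁻¹) = (l : ZMod p) • φ := by
        refine LinearMap.ext fun u => ?_
        have hu : σ h (σ h⁻¹ u) = u := by
          rw [← Module.End.mul_apply, ← map_mul, mul_inv_cancel, map_one, Module.End.one_apply]
        have hdec : σ h⁻¹ u - φ (σ h⁻¹ u) • x - ψ (σ h⁻¹ u) • v = σ h⁻¹ u - φ (σ h⁻¹ u) • x - ψ (σ h⁻¹ u) • v := rfl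
        have hfix := hhfix (σ h⁻¹ u - φ (σ h⁻¹ u) • x - ψ (σ h⁻¹ u) • v) (by simp [hφx, hφv]) (by simp [hψx, hψv])
        rw [map_sub, map_sub, map_smul, map_smul, hu, hhx, hhv] at hfix
        have h2 := congrArg φ hfix
        simp [map_sub, map_smul, hφx, hφv] at h2
        simp only [LinearMap.comp_apply, LinearMap.smul_apply, smul_eq_mul]
        have hlm' : (l : ZMod p) * m = 1 := by
          rw [← Nat.cast_mul, ← Nat.cast_one (R := ZMod p), ZMod.natCast_eq_natCast_iff]
          exact hlm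
        linear_combination (-(l : ZMod p)) * h2 - φ (σ h⁻¹ u) * hlm'
      rw [rho_conj σ hsa h, hfun, hhv, ← tv_smul, smul_smul]
    rw [hσinj hc]
    exact Subgroup.pow_mem _ (Subgroup.mem_zpowers a) _

include hexp hinj hX in
/-- A group with a strongly embedded subgroup on an elementary abelian group of order `p ^ 3` has
Sylow subgroups of order at most `p`. -/
theorem card_le_of_isPGroup (hcard : Nat.card W = p ^ 3) (U : Subgroup X) (hU : IsPGroup p U) :
    Nat.card U ≤ p :=
  @card_le_of_isPGroup_aux p hp W _ hexp X _ ρ hinj hX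
    (AddCommGroup.zmodModule (nsmul_zero hexp)) hcard U hU

include hexp hinj hX in
/-- The torus attached to an element fixing a subgroup of index `p`. -/
theorem exists_torus_group (hcard : Nat.card W = p ^ 3) (T : Subgroup W) (hT : Nat.card T = p ^ 2)
    (a : X) {d : W} (hd : d ∈ T) (hd1 : d ≠ 1) (haT : ∀ t ∈ T, ρ a t = t)
    (ha : ∀ u, u⁻¹ * ρ a u ∈ Subgroup.zpowers d) (ha1 : a ≠ 1) :
    ∃ x w : W, x ∉ T ∧ w ∈ T ∧ w ∉ Subgroup.zpowers d ∧
      ∀ l m : ℕ, l * m ≡ 1 [MOD p] → ∃ h : X, ρ h d = d ^ l ∧ ρ h x = x ^ m ∧ ρ h w = w ∧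
        h * a * h⁻¹ ∈ Subgroup.zpowers a :=
  @exists_torus_group_aux p hp W _ hexp X _ ρ hinj hX
    (AddCommGroup.zmodModule (nsmul_zero hexp)) hcard T hT a d hd hd1 haT ha ha1

end

end Cfsg.Agent.Fusion.RankThree
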