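import Mathlib

/-!
Linear groups in which every element of order `p` lies in a proper subgroup containing the
centralizers of its elements of order `p`, acting on a space of dimension three: two independent
transvections cannot commute, and a transvection cannot commute with a regular unipotent element.
-/

set_option autoImplicit false

namespace Cfsg.Agent.Fusion.RankThree

variable {p : ℕ} [hp : Fact p.Prime] {V : Type*} [AddCommGroup V] [Module (ZMod p) V]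

/-- The map `u ↦ u + φ u • v`. -/
def tv (v : V) (φ : V →ₗ[ZMod p] ZMod p) : Module.End (ZMod p) V := 1 + φ.smulRight v

theorem tv_apply (v : V) (φ : V →ₗ[ZMod p] ZMod p) (u : V) : tv v φ u = u + φ u • v := by
  simp [tv]

theorem tv_smul (k : ZMod p) (v : V) (φ : V →ₗ[ZMod p] ZMod p) : tv (k • v) φ = tv v (k • φ) := by
  ext u
  simp [tv_apply, smul_smul, mul_comm]

theorem tv_mul_left {v v' : V} {φ : V →ₗ[ZMod p] ZMod p} (h : φ v' = 0) :
    tv v φ * tv v' φ = tv (v + v') φ := by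
  ext u
  simp [Module.End.mul_apply, tv_apply, map_add, map_smul, h, smul_add]
  abel

theorem tv_mul_right {v : V} {φ ψ : V →ₗ[ZMod p] ZMod p} (h : φ v = 0) :
    tv v φ * tv v ψ = tv v (φ + ψ) := by
  ext u
  simp [Module.End.mul_apply, tv_apply, map_add, map_smul, h, add_smul]
  abel

theorem tv_commute {v v' : V} {φ φ' : V →ₗ[ZMod p] ZMod p} (h : φ v' = 0) (h' : φ' v = 0) :
    Commute (tv v φ) (tv v' φ') := by
  ext u
  simp [Module.End.mul_apply, tv_apply, map_add, map_smul, h, h']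
  abel

theorem tv_zero (φ : V →ₗ[ZMod p] ZMod p) : tv (0 : V) φ = 1 := by
  ext u
  simp [tv_apply]

theorem tv_pow {v : V} {φ : V →ₗ[ZMod p] ZMod p} (h : φ v = 0) (n : ℕ) :
    tv v φ ^ n = tv ((n : ZMod p) • v) φ := by
  induction n with
  | zero => rw [pow_zero, Nat.cast_zero, zero_smul, tv_zero]
  | succ n ih =>
    rw [pow_succ, ih, tv_mul_left h, Nat.cast_succ, add_smul, one_smul]

theorem tv_ne_one {v : V} {φ : V →ₗ[ZMod p] ZMod p} {u : V} (hu : φ u ≠ 0) (hv : v ≠ 0) :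
    tv v φ ≠ 1 := fun h => by
  have h1 := LinearMap.congr_fun h u
  rw [tv_apply, Module.End.one_apply, add_eq_left, smul_eq_zero] at h1
  exact h1.elim hu hv

variable {X : Type*} [Group X]

variable (p) in
/-- The consequence of a strongly `p`-embedded subgroup used here. -/
def IsDetached (X : Type*) [Group X] : Prop :=
  ∀ a : X, a ^ p = 1 → a ≠ 1 → ∃ M : Subgroup X, a ∈ M ∧
    (∀ b c : X, b ^ p = 1 → b ≠ 1 → c ^ p = 1 → c ≠ 1 → Commute b c → b ∈ M → c ∈ M) ∧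
    ∃ g : X, g * a * g⁻¹ ∉ M

variable (ρ : X →* Module.End (ZMod p) V) (hinj : Function.Injective ρ)

theorem rho_conj {a : X} {v : V} {φ : V →ₗ[ZMod p] ZMod p} (ha : ρ a = tv v φ) (g : X) :
    ρ (g * a * g⁻¹) = tv (ρ g v) (φ.comp (ρ g⁻¹)) := by
  ext u
  have h1 : ρ g (ρ g⁻¹ u) = u := by
    rw [← Module.End.mul_apply, ← map_mul, mul_inv_cancel, map_one, Module.End.one_apply]
  simp [map_mul, ha, tv_apply, h1]

include hinj in
theorem pow_prime {a : X} {v : V} {φ : V →ₗ[ZMod p] ZMod p} (ha : ρ a = tv v φ) (h : φ v = 0) :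
    a ^ p = 1 := hinj (by rw [map_pow, ha, tv_pow h, ZMod.natCast_self, zero_smul, tv_zero, map_one])

include hinj in
theorem commute_of_tv {a b : X} {v v' : V} {φ φ' : V →ₗ[ZMod p] ZMod p} (ha : ρ a = tv v φ)
    (hb : ρ b = tv v' φ') (h : φ v' = 0) (h' : φ' v = 0) : Commute a b :=
  hinj (by rw [map_mul, map_mul, ha, hb]; exact tv_commute h h')

theorem ne_one_of_tv {a : X} {v u : V} {φ : V →ₗ[ZMod p] ZMod p} (ha : ρ a = tv v φ) (hu : φ u ≠ 0)
    (hv : v ≠ 0) : a ≠ 1 := fun h => tv_ne_one hu hv (by rw [← ha, h, map_one])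

theorem rho_pow {a : X} {v : V} {φ : V →ₗ[ZMod p] ZMod p} (ha : ρ a = tv v φ) (h : φ v = 0) (k : ZMod p) :
    ρ (a ^ k.val) = tv (k • v) φ := by
  rw [map_pow, ha, tv_pow h, ZMod.natCast_zmod_val]

variable (hX : IsDetached p X)
include hinj hX

/-- Outside the subgroup attached to a transvection there is an opposite one. -/
theorem exists_opposite {a : X} {v u₀ : V} {φ : V →ₗ[ZMod p] ZMod p} (ha : ρ a = tv v φ) (hv : φ v = 0)
    (hv0 : v ≠ 0) (hu : φ u₀ ≠ 0) :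
    ∃ (M : Subgroup X) (b : X) (x : V) (ψ : V →ₗ[ZMod p] ZMod p), a ∈ M ∧
      (∀ b c : X, b ^ p = 1 → b ≠ 1 → c ^ p = 1 → c ≠ 1 → Commute b c → b ∈ M → c ∈ M) ∧
      b ∉ M ∧ ρ b = tv x ψ ∧ φ x = 1 ∧ ψ x = 0 ∧ ψ v = 1 := by
  have hap := pow_prime ρ hinj ha hv
  have ha1 := ne_one_of_tv ρ ha hu hv0
  obtain ⟨M, haM, hM, g, hg⟩ := hX a hap ha1
  set b := g * a * g⁻¹ with hbdef
  set v' := ρ g v with hv'
  set φ' := φ.comp (ρ g⁻¹) with hφ'
  have hb : ρ b = tv v' φ' := rho_conj ρ ha g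
  have hinvl : ∀ u, ρ g⁻¹ (ρ g u) = u := fun u => by
    rw [← Module.End.mul_apply, ← map_mul, inv_mul_cancel, map_one, Module.End.one_apply]
  have hv'0 : φ' v' = 0 := by rw [hφ', hv', LinearMap.comp_apply, hinvl, hv]
  have hbp : b ^ p = 1 := pow_prime ρ hinj hb hv'0
  have hb1 : b ≠ 1 := fun h => ha1 (by rwa [hbdef, conj_eq_one_iff] at h)
  have hvne : v' ≠ 0 := fun h => hv0 (by rw [← hinvl v, ← hv', h, map_zero])
  have hu' : φ' (ρ g u₀) ≠ 0 := by rwa [hφ', LinearMap.comp_apply, hinvl]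
  have hboth : φ v' ≠ 0 ∧ φ' v ≠ 0 := by
    by_contra hnot
    rcases not_and_or.1 hnot with h | h <;> rw [not_not] at h
    · by_cases h' : φ' v = 0
      · exact hg (hM a b hap ha1 hbp hb1 (commute_of_tv ρ hinj ha hb h h') haM)
      · set f := a⁻¹ * (b * a * b⁻¹)
        have hbinv : ρ b⁻¹ = tv (-v') φ' := by
          have h1 : ρ b * tv (-v') φ' = 1 := by
            rw [hb, tv_mul_left (by rw [map_neg, hv'0, neg_zero]), add_neg_cancel, tv_zero]
          calc ρ b⁻¹ = ρ b⁻¹ * (ρ b * tv (-v') φ') := by rw [h1, mul_one]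
            _ = tv (-v') φ' := by rw [← mul_assoc, ← map_mul, inv_mul_cancel, map_one, one_mul]
        have hφb : φ.comp (ρ b⁻¹) = φ := by
          ext u
          simp [hbinv, tv_apply, h]
        have hf : ρ f = tv (φ' v • v') φ := by
          have hainv : ρ a⁻¹ = tv (-v) φ := by
            have h1 : ρ a * tv (-v) φ = 1 := by
              rw [ha, tv_mul_left (by rw [map_neg, hv, neg_zero]), add_neg_cancel, tv_zero]
            calc ρ a⁻¹ = ρ a⁻¹ * (ρ a * tv (-v) φ) := by rw [h1, mul_one]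
              _ = tv (-v) φ := by rw [← mul_assoc, ← map_mul, inv_mul_cancel, map_one, one_mul]
          rw [map_mul, rho_conj ρ ha b, hφb, hainv, hb, tv_apply, tv_mul_left (by
            rw [map_add, map_smul, hv, h, smul_zero, add_zero]), neg_add_cancel_left]
        have hfv : φ' v • v' ≠ 0 := smul_ne_zero h' hvne
        have hfp : f ^ p = 1 := pow_prime ρ hinj hf (by rw [map_smul, h, smul_zero])
        have hf1 : f ≠ 1 := ne_one_of_tv ρ hf hu hfv
        exact hg (hM f b hfp hf1 hbp hb1 (commute_of_tv ρ hinj hf hb h (by rw [map_smul, hv'0, smul_zero]))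
          (hM a f hap ha1 hfp hf1 (commute_of_tv ρ hinj ha hf (by rw [map_smul, h, smul_zero]) hv) haM))
    · by_cases h' : φ v' = 0
      · exact hg (hM a b hap ha1 hbp hb1 (commute_of_tv ρ hinj ha hb h' h) haM)
      · set f := b⁻¹ * (a * b * a⁻¹)
        have hainv : ρ a⁻¹ = tv (-v) φ := by
          have h1 : ρ a * tv (-v) φ = 1 := by
            rw [ha, tv_mul_left (by rw [map_neg, hv, neg_zero]), add_neg_cancel, tv_zero]
          calc ρ a⁻¹ = ρ a⁻¹ * (ρ a * tv (-v) φ) := by rw [h1, mul_one]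
            _ = tv (-v) φ := by rw [← mul_assoc, ← map_mul, inv_mul_cancel, map_one, one_mul]
        have hbinv : ρ b⁻¹ = tv (-v') φ' := by
          have h1 : ρ b * tv (-v') φ' = 1 := by
            rw [hb, tv_mul_left (by rw [map_neg, hv'0, neg_zero]), add_neg_cancel, tv_zero]
          calc ρ b⁻¹ = ρ b⁻¹ * (ρ b * tv (-v') φ') := by rw [h1, mul_one]
            _ = tv (-v') φ' := by rw [← mul_assoc, ← map_mul, inv_mul_cancel, map_one, one_mul]
        have hφa : φ'.comp (ρ a⁻¹) = φ' := by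
          ext u
          simp [hainv, tv_apply, h]
        have hf : ρ f = tv (φ v' • v) φ' := by
          rw [map_mul, rho_conj ρ hb a, hφa, hbinv, ha, tv_apply, tv_mul_left (by
            rw [map_add, map_smul, hv'0, h, smul_zero, add_zero]), neg_add_cancel_left]
        have hfv : φ v' • v ≠ 0 := smul_ne_zero h' hv0
        have hfp : f ^ p = 1 := pow_prime ρ hinj hf (by rw [map_smul, h, smul_zero])
        have hf1 : f ≠ 1 := ne_one_of_tv ρ hf hu' hfv
        exact hg (hM f b hfp hf1 hbp hb1 (commute_of_tv ρ hinj hf hb hv'0 (by rw [map_smul, h, smul_zero]))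
          (hM a f hap ha1 hfp hf1 (commute_of_tv ρ hinj ha hf (by rw [map_smul, hv, smul_zero]) h) haM))
  obtain ⟨hk, hl⟩ := hboth
  set x := (φ v')⁻¹ • v' with hx
  set ψ₀ := φ v' • φ' with hψ₀
  have hb' : ρ b = tv x ψ₀ := by
    rw [hb, hx, hψ₀, ← tv_smul, smul_smul, mul_inv_cancel₀ hk, one_smul]
  have hψ0x : ψ₀ x = 0 := by simp [hψ₀, hx, hv'0]
  have hl0 : ψ₀ v ≠ 0 := by simpa [hψ₀] using mul_ne_zero hk hl
  refine ⟨M, b ^ ((ψ₀ v)⁻¹).val, x, (ψ₀ v)⁻¹ • ψ₀, haM, hM, fun hmem => hg ?_, ?_, ?_, ?_, ?_⟩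
  · have h1 : (b ^ ((ψ₀ v)⁻¹).val) ^ (ψ₀ v).val = b := by
      apply hinj
      rw [map_pow, rho_pow ρ hb' hψ0x, tv_pow (by rw [map_smul, hψ0x, smul_zero]), smul_smul,
        ZMod.natCast_zmod_val, mul_inv_cancel₀ hl0, one_smul, hb']
    exact h1 ▸ M.pow_mem hmem _
  · rw [rho_pow ρ hb' hψ0x, tv_smul]
  · rw [hx, map_smul, smul_eq_mul, inv_mul_cancel₀ hk]
  · rw [LinearMap.smul_apply, hψ0x, smul_zero]
  · rw [LinearMap.smul_apply, smul_eq_mul, inv_mul_cancel₀ hl0]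

/-- Two independent transvections with the same hyperplane. -/
theorem no_same_fun {a j : X} {v w u₀ : V} {φ : V →ₗ[ZMod p] ZMod p} (ha : ρ a = tv v φ)
    (hj : ρ j = tv w φ) (hv : φ v = 0) (hw : φ w = 0) (hu : φ u₀ ≠ 0) (hv0 : v ≠ 0)
    (hind : ∀ k : ZMod p, w ≠ k • v) : False := by
  obtain ⟨M, b, x, ψ, haM, hM, hbM, hb, hφx, hψx, hψv⟩ := exists_opposite ρ hinj hX ha hv hv0 hu
  set w₀ := w + (-(ψ w)) • v with hw₀
  have hφw : φ w₀ = 0 := by simp [hw₀, hv, hw]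
  have hψw : ψ w₀ = 0 := by simp [hw₀, hψv]
  have hw0 : w₀ ≠ 0 := fun h => hind (ψ w) (by rwa [hw₀, neg_smul, ← sub_eq_add_neg, sub_eq_zero] at h)
  set j' := j * a ^ (-(ψ w)).val with hj'def
  have hj' : ρ j' = tv w₀ φ := by
    rw [map_mul, hj, rho_pow ρ ha hv, tv_mul_left (by rw [map_smul, hv, smul_zero])]
  have hj'i : ρ j'⁻¹ = tv (-w₀) φ := by
    have h1 : ρ j' * tv (-w₀) φ = 1 := by
      rw [hj', tv_mul_left (by rw [map_neg, hφw, neg_zero]), add_neg_cancel, tv_zero]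
    calc ρ j'⁻¹ = ρ j'⁻¹ * (ρ j' * tv (-w₀) φ) := by rw [h1, mul_one]
      _ = tv (-w₀) φ := by rw [← mul_assoc, ← map_mul, inv_mul_cancel, map_one, one_mul]
  have hbi : ρ b⁻¹ = tv (-x) ψ := by
    have h1 : ρ b * tv (-x) ψ = 1 := by
      rw [hb, tv_mul_left (by rw [map_neg, hψx, neg_zero]), add_neg_cancel, tv_zero]
    calc ρ b⁻¹ = ρ b⁻¹ * (ρ b * tv (-x) ψ) := by rw [h1, mul_one]
      _ = tv (-x) ψ := by rw [← mul_assoc, ← map_mul, inv_mul_cancel, map_one, one_mul]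
  have hψj : ψ.comp (ρ j'⁻¹) = ψ := by
    ext u
    simp [hj'i, tv_apply, hψw]
  set f := j' * b * j'⁻¹ * b⁻¹
  have hf : ρ f = tv w₀ ψ := by
    rw [map_mul, rho_conj ρ hb j', hψj, hj', tv_apply, hφx, one_smul, hbi,
      tv_mul_left (by rw [map_neg, hψx, neg_zero])]
    congr 1
    abel
  have hux : φ x ≠ 0 := by rw [hφx]; exact one_ne_zero
  have huv : ψ v ≠ 0 := by rw [hψv]; exact one_ne_zero
  have hjp := pow_prime ρ hinj hj' hφw
  have hj1 := ne_one_of_tv ρ hj' hux hw0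
  have hfp := pow_prime ρ hinj hf hψw
  have hf1 := ne_one_of_tv ρ hf huv hw0
  have hx0 : x ≠ 0 := fun h => hux (by rw [h, map_zero])
  refine hbM (hM f b hfp hf1 (pow_prime ρ hinj hb hψx) (ne_one_of_tv ρ hb huv hx0)
    (commute_of_tv ρ hinj hf hb hψx hψw) ?_)
  refine hM j' f hjp hj1 hfp hf1 (commute_of_tv ρ hinj hj' hf hφw hψw) ?_
  exact hM a j' (pow_prime ρ hinj ha hv) (ne_one_of_tv ρ ha hu hv0) hjp hj1
    (commute_of_tv ρ hinj ha hj' hφw hv) haM

/-- Two independent transvections with the same line. -/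
theorem no_same_vec {a j : X} {v u₀ : V} {φ χ : V →ₗ[ZMod p] ZMod p} (ha : ρ a = tv v φ)
    (hj : ρ j = tv v χ) (hv : φ v = 0) (hχ : χ v = 0) (hu : φ u₀ ≠ 0) (hv0 : v ≠ 0)
    (hind : ∀ k : ZMod p, χ ≠ k • φ) : False := by
  obtain ⟨M, b, x, ψ, haM, hM, hbM, hb, hφx, hψx, hψv⟩ := exists_opposite ρ hinj hX ha hv hv0 hu
  set χ₀ := χ + (-(χ x)) • φ with hχ₀
  have hχv : χ₀ v = 0 := by simp [hχ₀, hv, hχ]
  have hχx : χ₀ x = 0 := by simp [hχ₀, hφx]
  have hχne : χ₀ ≠ 0 := fun h => hind (χ x) (by linear_combination (norm := module) h)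
  obtain ⟨u, hχu⟩ : ∃ u, χ₀ u ≠ 0 := by
    by_contra hno
    push Not at hno
    exact hχne (LinearMap.ext fun u => by simp [hno u])
  set j' := j * a ^ (-(χ x)).val with hj'def
  have hj' : ρ j' = tv v χ₀ := by
    rw [map_mul, hj, rho_pow ρ ha hv, tv_smul, tv_mul_right hχ]
  have hj'i : ρ j'⁻¹ = tv (-v) χ₀ := by
    have h1 : ρ j' * tv (-v) χ₀ = 1 := by
      rw [hj', tv_mul_left (by rw [map_neg, hχv, neg_zero]), add_neg_cancel, tv_zero]
    calc ρ j'⁻¹ = ρ j'⁻¹ * (ρ j' * tv (-v) χ₀) := by rw [h1, mul_one]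
      _ = tv (-v) χ₀ := by rw [← mul_assoc, ← map_mul, inv_mul_cancel, map_one, one_mul]
  have hbi : ρ b⁻¹ = tv x (-ψ) := by
    have h1 : ρ b * tv x (-ψ) = 1 := by
      rw [hb, tv_mul_right hψx, add_neg_cancel]
      ext u
      simp [tv_apply]
    calc ρ b⁻¹ = ρ b⁻¹ * (ρ b * tv x (-ψ)) := by rw [h1, mul_one]
      _ = tv x (-ψ) := by rw [← mul_assoc, ← map_mul, inv_mul_cancel, map_one, one_mul]
  have hψj : ψ.comp (ρ j'⁻¹) = ψ + -χ₀ := by
    ext u
    simp [hj'i, tv_apply, hψv]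
  set f := j' * b * j'⁻¹ * b⁻¹
  have hf : ρ f = tv x (-χ₀) := by
    rw [map_mul, rho_conj ρ hb j', hψj, hj', tv_apply, hχx, zero_smul, add_zero, hbi,
      tv_mul_right (by simp [hψx, hχx])]
    congr 1
    abel
  have hux : φ x ≠ 0 := by rw [hφx]; exact one_ne_zero
  have hx0 : x ≠ 0 := fun h => hux (by rw [h, map_zero])
  have huv : ψ v ≠ 0 := by rw [hψv]; exact one_ne_zero
  have hjp := pow_prime ρ hinj hj' hχv
  have hj1 := ne_one_of_tv ρ hj' hχu hv0
  have hfp := pow_prime ρ hinj hf (by simp [hχx])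
  have hf1 := ne_one_of_tv ρ hf (u := u) (by simpa using hχu) hx0
  refine hbM (hM f b hfp hf1 (pow_prime ρ hinj hb hψx) (ne_one_of_tv ρ hb huv hx0)
    (commute_of_tv ρ hinj hf hb (by simp [hχx]) hψx) ?_)
  refine hM j' f hjp hj1 hfp hf1 (commute_of_tv ρ hinj hj' hf hχx (by simp [hχv])) ?_
  exact hM a j' (pow_prime ρ hinj ha hv) (ne_one_of_tv ρ ha hu hv0) hjp hj1
    (commute_of_tv ρ hinj ha hj' hv hχv) haM

/-- A transvection and a regular unipotent element stabilizing the same flag. -/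
theorem no_regular {a j : X} {z w u₀ : V} {φ : V →ₗ[ZMod p] ZMod p} {c : ZMod p} (ha : ρ a = tv z φ)
    (hz : φ z = 0) (hz0 : z ≠ 0) (hu : φ u₀ ≠ 0) (hjz : ρ j z = z) (hw : φ w = 0)
    (hjw : ρ j w = w + c • z) (hc : c ≠ 0)
    (hjx : ∀ u, ∃ β : ZMod p, ρ j u = u + φ u • w + β • z)
    (hspan : ∀ u, φ u = 0 → ∃ α β : ZMod p, u = α • w + β • z) : False := by
  obtain ⟨M, b, x, ψ, haM, hM, hbM, hb, hφx, hψx, hψz⟩ := exists_opposite ρ hinj hX ha hz hz0 hu
  set w₀ := w + (-(ψ w)) • z with hw₀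
  have hφw : φ w₀ = 0 := by simp [hw₀, hz, hw]
  have hψw : ψ w₀ = 0 := by simp [hw₀, hψz]
  have hjw₀ : ρ j w₀ = w₀ + c • z := by
    rw [hw₀, map_add, map_smul, hjz, hjw]
    abel
  have hw0 : w₀ ≠ 0 := fun h => smul_ne_zero hc hz0 (by rwa [h, map_zero, zero_add, eq_comm] at hjw₀)
  obtain ⟨β₀, hβ₀⟩ : ∃ β : ZMod p, ρ j x = x + w₀ + β • z := by
    obtain ⟨β, hβ⟩ := hjx x
    refine ⟨β + ψ w, ?_⟩
    rw [hβ, hφx, one_smul, hw₀, neg_smul, add_smul]
    abel
  have hspan₀ : ∀ u, ∃ α β : ZMod p, u = φ u • x + α • w₀ + β • z := by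
    intro u
    obtain ⟨α, β, he⟩ := hspan (u - φ u • x) (by simp [hφx])
    refine ⟨α, β + α * ψ w, ?_⟩
    rw [sub_eq_iff_eq_add] at he
    conv_lhs => rw [he]
    rw [hw₀, smul_add, smul_smul, mul_neg, neg_smul, add_smul]
    abel
  -- the regular elements with prescribed parameter
  have hJ : ∀ β : ZMod p, ∃ g : X, ρ g z = z ∧ ρ g w₀ = w₀ + c • z ∧ ρ g x = x + w₀ + β • z ∧
      ρ g⁻¹ z = z ∧ ρ g⁻¹ w₀ = w₀ + (-c) • z ∧ ρ g⁻¹ x = x + (-1 : ZMod p) • w₀ + (c - β) • z := by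
    intro β
    set g := j * a ^ (β - β₀).val with hgdef
    have hga : ∀ u, ρ g u = ρ j (u + φ u • ((β - β₀) • z)) := fun u => by
      rw [map_mul, Module.End.mul_apply, rho_pow ρ ha hz, tv_apply]
    have g1 : ρ g z = z := by rw [hga, hz, zero_smul, add_zero, hjz]
    have g2 : ρ g w₀ = w₀ + c • z := by rw [hga, hφw, zero_smul, add_zero, hjw₀]
    have g3 : ρ g x = x + w₀ + β • z := by
      rw [hga, hφx, one_smul, map_add, map_smul, hjz, hβ₀, sub_smul]
      abel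
    have hinvl : ∀ u, ρ g⁻¹ (ρ g u) = u := fun u => by
      rw [← Module.End.mul_apply, ← map_mul, inv_mul_cancel, map_one, Module.End.one_apply]
    have i1 : ρ g⁻¹ z = z := by conv_lhs => rw [← g1, hinvl]
    have i2 : ρ g⁻¹ w₀ = w₀ + (-c) • z := by
      have h := hinvl w₀
      rw [g2, map_add, map_smul, i1] at h
      rw [neg_smul, ← sub_eq_add_neg, eq_sub_iff_add_eq, h]
    have i3 : ρ g⁻¹ x = x + (-1 : ZMod p) • w₀ + (c - β) • z := by
      have h := hinvl x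
      rw [g3, map_add, map_add, map_smul, i1, i2] at h
      conv_rhs => rw [← h]
      rw [neg_smul, neg_smul, one_smul, sub_smul]
      abel
    exact ⟨g, g1, g2, g3, i1, i2, i3⟩
  -- the Weyl element
  have hbi : ρ b⁻¹ = tv (-x) ψ := by
    have h1 : ρ b * tv (-x) ψ = 1 := by
      rw [hb, tv_mul_left (by rw [map_neg, hψx, neg_zero]), add_neg_cancel, tv_zero]
    calc ρ b⁻¹ = ρ b⁻¹ * (ρ b * tv (-x) ψ) := by rw [h1, mul_one]
      _ = tv (-x) ψ := by rw [← mul_assoc, ← map_mul, inv_mul_cancel, map_one, one_mul]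
  set s := a * b⁻¹ * a
  have hs : ∀ u, ρ s u = tv z φ (tv (-x) ψ (tv z φ u)) := fun u => by
    rw [map_mul, map_mul, Module.End.mul_apply, Module.End.mul_apply, ha, hbi]
  have hsz : ρ s z = -x := by simp [hs, tv_apply, hz, hψz, hφx]
  have hsx : ρ s x = z := by simp [hs, tv_apply, hz, hψz, hφx, hψx]
  have hsw : ρ s w₀ = w₀ := by simp [hs, tv_apply, hφw, hψw]
  have hsinvl : ∀ u, ρ s⁻¹ (ρ s u) = u := fun u => by
    rw [← Module.End.mul_apply, ← map_mul, inv_mul_cancel, map_one, Module.End.one_apply]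
  have hsix : ρ s⁻¹ z = x := by conv_lhs => rw [← hsx, hsinvl]
  have hsiz : ρ s⁻¹ x = -z := by
    have h := hsinvl z
    rw [hsz, map_neg] at h
    rw [← h, neg_neg]
  have hsiw : ρ s⁻¹ w₀ = w₀ := by conv_lhs => rw [← hsw, hsinvl]
  obtain ⟨g, -, -, g3, gi1, gi2, gi3⟩ := hJ (c + 1)
  obtain ⟨g', -, -, g3', gi1', gi2', gi3'⟩ := hJ (c - 1)
  set t1 := g * b * g⁻¹
  set t2 := s * (g' * b * g'⁻¹) * s⁻¹
  set ψ₁ := ψ.comp (ρ g⁻¹) with hψ₁
  set v1 := x + w₀ + (c + 1) • z with hv1def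
  set v2 := z + w₀ + (c - 1) • (-x) with hv2def
  have h1 : ρ t1 = tv v1 ψ₁ := by rw [rho_conj ρ hb g, g3]
  have h2 : ρ t2 = tv v2 ψ₁ := by
    have hfun : (ψ.comp (ρ g'⁻¹)).comp (ρ s⁻¹) = ψ₁ := by
      refine LinearMap.ext fun u => ?_
      obtain ⟨α, β, he⟩ := hspan₀ u
      rw [he]
      simp [hψ₁, map_add, map_smul, hsix, hsiz, hsiw, gi1, gi2, gi3, gi1', gi2', gi3', hψz, hψw, hψx]
    have h3 : ρ s (ρ g' x) = v2 := by rw [g3', map_add, map_add, map_smul, hsx, hsw, hsz]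
    rw [rho_conj ρ (rho_conj ρ hb g') s, hfun, h3]
  have e1 : ψ₁ v1 = 0 := by
    simp [hv1def, hψ₁, map_add, map_smul, gi1, gi2, gi3, hψz, hψw, hψx]
  have e2 : ψ₁ v2 = 0 := by
    simp [hv2def, hψ₁, map_add, map_smul, map_neg, gi1, gi2, gi3, hψz, hψw, hψx]
    ring
  have hφv1 : φ v1 = 1 := by simp [hv1def, hφx, hφw, hz]
  refine no_same_fun ρ hinj hX h1 h2 e1 e2 (u₀ := z) ?_ ?_ ?_
  · simp [hψ₁, gi1, hψz]
  · intro h
    rw [h, map_zero] at hφv1
    exact one_ne_zero hφv1.symm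
  · intro k hk
    have hφ := congrArg φ hk
    have hψ := congrArg ψ hk
    simp [hv1def, hv2def, hφx, hφw, hz, hψx, hψw, hψz] at hφ hψ
    have hk1 : k = 1 := by
      have hz' : (1 - k) • w₀ = 0 := by
        have hk' : v2 - k • v1 = 0 := sub_eq_zero.2 hk
        have : v2 - k • v1 = (-(c - 1) - k) • x + (1 - k * (c + 1)) • z + (1 - k) • w₀ := by
          rw [hv1def, hv2def]
          module
        have e3 : -(c - 1) - k = 0 := by linear_combination hφ
        have e4 : 1 - k * (c + 1) = 0 := by linear_combination hψ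
        rw [this, e3, e4] at hk'
        simpa using hk'
      rcases smul_eq_zero.1 hz' with h | h
      · exact (sub_eq_zero.1 h).symm
      · exact absurd h hw0
    subst hk1
    exact hc (by linear_combination (norm := ring_nf) -hψ)

/-- The torus attached to a transvection. -/
theorem exists_torus {a : X} {v u₀ : V} {φ : V →ₗ[ZMod p] ZMod p} (ha : ρ a = tv v φ) (hv : φ v = 0)
    (hv0 : v ≠ 0) (hu : φ u₀ ≠ 0) :
    ∃ (x : V) (ψ : V →ₗ[ZMod p] ZMod p), φ x = 1 ∧ ψ x = 0 ∧ ψ v = 1 ∧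
      ∀ l m : ZMod p, l * m = 1 → ∃ h : X, ρ h v = l • v ∧ ρ h x = m • x ∧
        ∀ u, φ u = 0 → ψ u = 0 → ρ h u = u := by
  obtain ⟨M, b, x, ψ, -, -, -, hb, hφx, hψx, hψv⟩ := exists_opposite ρ hinj hX ha hv hv0 hu
  refine ⟨x, ψ, hφx, hψx, hψv, fun l m hlm => ?_⟩
  have hw : ∀ l m : ZMod p, l * m = 1 → ∃ g : X, ρ g v = (-m) • x ∧ ρ g x = l • v ∧
      ∀ u, φ u = 0 → ψ u = 0 → ρ g u = u := by
    intro l m hlm
    refine ⟨a ^ l.val * b ^ (-m).val * a ^ l.val, ?_, ?_, fun u h1 h2 => ?_⟩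
    · simp [map_mul, Module.End.mul_apply, rho_pow ρ ha hv, rho_pow ρ hb hψx, tv_apply, map_add,
        map_smul, hv, hψv, hψx, hφx]
      match_scalars <;> grind
    · simp [map_mul, Module.End.mul_apply, rho_pow ρ ha hv, rho_pow ρ hb hψx, tv_apply, map_add,
        map_smul, hv, hψv, hψx, hφx]
      match_scalars <;> grind
    · simp only [map_mul, Module.End.mul_apply, rho_pow ρ ha hv, rho_pow ρ hb hψx, tv_apply, h1, h2,
        zero_smul, add_zero]
  obtain ⟨g, g1, g2, g3⟩ := hw l m hlm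
  obtain ⟨g', g1', g2', g3'⟩ := hw (-1) (-1) (by ring)
  refine ⟨g * g', ?_, ?_, fun u h1 h2 => ?_⟩
  · rw [map_mul, Module.End.mul_apply, g1', neg_neg, one_smul, g2]
  · rw [map_mul, Module.End.mul_apply, g2', map_smul, g1, smul_smul]
    congr 1
    ring
  · rw [map_mul, Module.End.mul_apply, g3' u h1 h2, g3 u h1 h2]

end Cfsg.Agent.Fusion.RankThree
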