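import Cfsg.Agent.Lib.Fusion.RankThreeGroups
import Cfsg.Agent.Lib.Fusion.RankTwoPrelim
import Cfsg.Agent.Lib.Fusion.NormalCriteria

/-!
Elementary abelian essential subgroups of order `p ^ 3` in a fusion system, and extension of the
whole automizer along a series centralized by the normalizer.
-/

set_option autoImplicit false
set_option linter.style.haveILetI false

namespace Cfsg.Agent.Fusion

open Cfsg.FusionSystem (centralizerIn normalizerIn)
open scoped commutatorElement

variable {p : ℕ} [hp : Fact p.Prime] {Ω : Type*} [Group Ω] {S : Subgroup Ω} {F : FusionSystem S}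
variable {E P : Subgroup Ω}

/-- What is used of an elementary abelian essential subgroup of order `p ^ 3`. -/
structure IsSmallEss (p : ℕ) (F : FusionSystem S) (E : Subgroup Ω) : Prop where
  centric : F.IsCentric E
  normalized : F.IsFullyNormalized E
  comm : ∀ a ∈ E, ∀ b ∈ E, Commute a b
  exp : ∀ a ∈ E, a ^ p = 1
  card : Nat.card E = p ^ 3
  detached : RankThree.IsDetached p (F.autGroup E)

omit hp in
theorem mapTo_map_zpow {f : Ω → Ω} (h : MapTo F P f) {x : Ω} (hx : x ∈ P) (k : ℤ) :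
    f (x ^ k) = f x ^ k := by
  obtain ⟨φ, -, hφ⟩ := h
  have := _root_.map_zpow φ ⟨x, hx⟩ k
  rw [hφ, hφ] at this
  simpa using this

omit hp in
theorem mapTo_map_pow {f : Ω → Ω} (h : MapTo F P f) {x : Ω} (hx : x ∈ P) (k : ℕ) :
    f (x ^ k) = f x ^ k := by
  simpa using mapTo_map_zpow h hx (k : ℤ)

omit hp in
theorem mapTo_map_comm {f : Ω → Ω} (h : MapTo F P f) {x y : Ω} (hx : x ∈ P) (hy : y ∈ P) :
    f ⁅x, y⁆ = ⁅f x, f y⁆ := by
  rw [commutatorElement_def, commutatorElement_def,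
    h.map_mul (P.mul_mem (P.mul_mem hx hy) (P.inv_mem hx)) (P.inv_mem hy), h.map_conj hx hy, h.map_inv hy]

variable [Finite S]

omit hp [Finite S] in
theorem inn_eq_bot_of_comm (hc : ∀ a ∈ E, ∀ b ∈ E, Commute a b) : Inn E = ⊥ := by
  rw [eq_bot_iff]
  rintro _ ⟨x, rfl⟩
  refine Subgroup.mem_bot.mpr (MulEquiv.ext fun y => Subtype.ext ?_)
  show (x : Ω) * y * (x : Ω)⁻¹ = y
  rw [(hc x x.2 y y.2).eq, mul_inv_cancel_right]

theorem isSmall_of_isEssential (hE : F.IsEssential p E) (hc : ∀ a ∈ E, ∀ b ∈ E, Commute a b)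
    (he : ∀ a ∈ E, a ^ p = 1) (hcard : Nat.card E = p ^ 3) : IsSmallEss p F E := by
  obtain ⟨hcen, hfn, hn, Y, hY⟩ := hE
  haveI := finite_of_le hcen.1
  haveI := finite_mulAut E
  refine ⟨hcen, hfn, hc, he, hcard, ?_⟩
  set N := (Inn E).subgroupOf (F.autGroup E)
  have hbot : N = ⊥ := by
    show (Inn E).subgroupOf (F.autGroup E) = ⊥
    rw [inn_eq_bot_of_comm hc, Subgroup.bot_subgroupOf]
  have hbij : Function.Bijective (QuotientGroup.mk' N) := by
    refine ⟨?_, QuotientGroup.mk'_surjective N⟩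
    rw [← MonoidHom.ker_eq_bot_iff, QuotientGroup.ker_mk', hbot]
  exact RankThree.isDetached_congr (MulEquiv.ofBijective _ hbij)
    (RankThree.isDetached_of_isStronglyPEmbedded hY)

omit hp [Finite S] in
theorem card_lt_card_of_lt {A B : Subgroup Ω} [Finite B] (h : A < B) : Nat.card A < Nat.card B :=
  lt_of_le_of_ne (Subgroup.card_le_of_le h.le) fun e => h.ne (Subgroup.eq_of_le_of_card_ge h.le e.ge)

namespace IsSmallEss

variable (hs : IsSmallEss p F E)
include hs

omit [Finite S] in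
theorem le : E ≤ S := hs.centric.1

theorem centralizer_eq : centralizerIn S E = E :=
  le_antisymm (centralizerIn_le_of_isCentric hs.centric) fun x hx =>
    mem_centralizerIn.mpr ⟨hs.le hx, fun y hy => (hs.comm y hy x hx).eq⟩

omit [Finite S] in
theorem mem_of_comm {x : Ω} (hx : x ∈ S) (hc : ∀ y ∈ E, Commute y x) : x ∈ E :=
  centralizerIn_le_of_isCentric hs.centric (mem_centralizerIn.mpr ⟨hx, fun y hy => (hc y hy).eq⟩)

theorem card_normalizer_le (hS : IsPGroup p S) : Nat.card (normalizerIn S E) ≤ p ^ 4 := by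
  haveI := finite_of_le hs.le
  haveI := finite_mulAut E
  letI : CommGroup E :=
    { (inferInstance : Group E) with mul_comm := fun a b => Subtype.ext (hs.comm a a.2 b b.2).eq }
  have hle := autInducedBy_le_autGroup (F := F) hs.le
  have hU : IsPGroup p ((autInducedBy S E).subgroupOf (F.autGroup E)) :=
    (isPGroup_autInducedBy hS E).comap_of_injective _ (F.autGroup E).subtype_injective
  have h1 := RankThree.card_le_of_isPGroup (W := E) (fun w => Subtype.ext (hs.exp w w.2))
    (F.autGroup E).subtype (F.autGroup E).subtype_injective hs.detached hs.card _ hU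
  rw [Nat.card_congr (Subgroup.subgroupOfEquivOfLe hle).toEquiv] at h1
  rw [← card_autInducedBy_mul S E, hs.centralizer_eq, hs.card, pow_succ' p 3]
  exact Nat.mul_le_mul_right _ h1

theorem card_normalizer (hS : IsPGroup p S) (hne : Nat.card S ≠ p ^ 3) :
    Nat.card (normalizerIn S E) = p ^ 4 := by
  refine le_antisymm (hs.card_normalizer_le hS) ?_
  haveI := finite_of_le hs.le
  haveI := finite_of_le (normalizerIn_le (S := S) (P := E))
  have hlt : E < S := lt_of_le_of_ne hs.le fun h => hne (by rw [← h, hs.card])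
  have h1 := card_lt_card_of_lt (lt_normalizerIn hS hlt)
  obtain ⟨e, he⟩ := IsPGroup.iff_card.mp (hS.to_le (normalizerIn_le (S := S) (P := E)))
  rw [hs.card, he, Nat.pow_lt_pow_iff_right hp.out.one_lt] at h1
  rw [he]
  exact Nat.pow_le_pow_right hp.out.pos h1

/-- A map carrying a group of order `p ^ 4` normalizing `E` gives another small subgroup. -/
theorem img_small (hS : IsPGroup p S) {R : Subgroup Ω} {f : Ω → Ω} (hf : MapTo F R f) (hER : E ≤ R)
    (hR : Nat.card R = p ^ 4) (hn : R ≤ normalizerIn S E) :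
    IsSmallEss p F (img f E) ∧ img f R ≤ normalizerIn S (img f E) := by
  have hfE := hf.restrict hER
  have hnle : img f R ≤ normalizerIn S (img f E) := by
    refine img_le_of_forall fun z hz => mem_normalizerIn_of_forall hfE.img_le (hf.mem hz) fun y hy => ?_
    obtain ⟨e, he, rfl⟩ := (hfE.mem_img_iff le_rfl).mp hy
    rw [← hf.map_conj hz (hER he)]
    exact mem_img_of_mem (conj_mem_of_mem_normalizerIn (hn hz) he)
  refine ⟨⟨isCentric_of_isConj hs.centric hfE.isConj, ⟨hfE.img_le, fun Q hQ => ?_⟩, ?_, ?_, ?_, ?_⟩, hnle⟩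
  · refine le_trans ((hs.normalized.2 Q (isConj_trans hfE.isConj hQ)).trans (hs.card_normalizer_le hS)) ?_
    haveI := finite_of_le (normalizerIn_le (S := S) (P := img f E))
    rw [← hR, ← hf.card_img le_rfl]
    exact Subgroup.card_le_of_le hnle
  · intro a ha b hb
    obtain ⟨x, hx, rfl⟩ := (hfE.mem_img_iff le_rfl).mp ha
    obtain ⟨y, hy, rfl⟩ := (hfE.mem_img_iff le_rfl).mp hb
    show f x * f y = f y * f x
    rw [← hfE.map_mul hx hy, ← hfE.map_mul hy hx, (hs.comm x hx y hy).eq]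
  · intro a ha
    obtain ⟨x, hx, rfl⟩ := (hfE.mem_img_iff le_rfl).mp ha
    rw [← mapTo_map_pow hfE hx p, hs.exp x hx, hfE.map_one]
  · rw [hf.card_img hER, hs.card]
  · have e := (Subgroup.equivMapOfInjective (F.autGroup E) _
      (MulAut.congr (isoEquiv hfE rfl)).injective).trans
      (MulEquiv.subgroupCongr (map_congr_autGroup hfE rfl))
    exact RankThree.isDetached_congr e.symm hs.detached

/-- The torus of a transvection induced from the normalizer, extended to the normalizer. -/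
theorem exists_torus (hS : IsPGroup p S) (hF : F.IsSaturated p) (hne : Nat.card S ≠ p ^ 3) {g : Ω}
    (hg : g ∈ normalizerIn S E) (hgE : g ∉ E) {T : Subgroup Ω} (hTE : T ≤ E) (hT : Nat.card T = p ^ 2)
    (hgT : ∀ t ∈ T, Commute g t) {d : Ω} (hd : d ∈ T) (hd1 : d ≠ 1)
    (hcomm : ∀ e ∈ E, ⁅g, e⁆ ∈ Subgroup.zpowers d) :
    ∃ x ∈ E, x ∉ T ∧ ∃ w ∈ T, w ∉ Subgroup.zpowers d ∧
      ∀ l m : ℕ, l * m ≡ 1 [MOD p] → ∃ f : Ω → Ω, MapTo F (normalizerIn S E) f ∧
        f d = d ^ l ∧ f x = x ^ m ∧ f w = w ∧ (∀ y ∈ E, f y ∈ E) ∧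
        ∀ y ∈ normalizerIn S E, f y ∈ normalizerIn S E := by
  haveI := finite_of_le hs.le
  haveI := finite_mulAut E
  letI : CommGroup E :=
    { (inferInstance : Group E) with mul_comm := fun a b => Subtype.ext (hs.comm a a.2 b b.2).eq }
  set α : MulAut E := E.normalizerMonoidHom ⟨g, hg.2⟩ with hα
  have hαS : α ∈ autInducedBy S E := mem_autInducedBy_iff.mpr ⟨g, hg.1, fun x => rfl⟩
  set a : F.autGroup E := ⟨α, autInducedBy_le_autGroup hs.le hαS⟩
  have hαv : ∀ u : E, ((α u : E) : Ω) = g * u * g⁻¹ := fun u => rfl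
  have hTcard : Nat.card (T.subgroupOf E) = p ^ 2 := by
    rw [Nat.card_congr (Subgroup.subgroupOfEquivOfLe hTE).toEquiv, hT]
  obtain ⟨x, w, hx, hw, hwd, htor⟩ := RankThree.exists_torus_group (W := E)
    (fun w => Subtype.ext (hs.exp w w.2)) (F.autGroup E).subtype (F.autGroup E).subtype_injective
    hs.detached hs.card (T.subgroupOf E) hTcard a (d := ⟨d, hTE hd⟩) hd
    (fun h => hd1 (congrArg Subtype.val h))
    (fun t ht => Subtype.ext (by
      show g * (t : Ω) * g⁻¹ = t
      rw [(hgT (t : Ω) ht).eq, mul_inv_cancel_right]))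
    (fun u => by
      obtain ⟨k, hk⟩ := Subgroup.mem_zpowers_iff.mp (hcomm u u.2)
      refine Subgroup.mem_zpowers_iff.mpr ⟨k, Subtype.ext ?_⟩
      show d ^ k = (u : Ω)⁻¹ * (g * u * g⁻¹)
      have hmem : ⁅g, (u : Ω)⁆ ∈ E := by rw [← hk]; exact zpow_mem (hTE hd) k
      rw [hk, show (u : Ω)⁻¹ * (g * u * g⁻¹) = (u : Ω)⁻¹ * ⁅g, (u : Ω)⁆ * u by
        rw [commutatorElement_def]; group, mul_assoc, (hs.comm _ hmem _ u.2).eq, inv_mul_cancel_left])
    (fun h => hgE (hs.mem_of_comm hg.1 fun y hy => by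
      have h1 : α ⟨y, hy⟩ = ⟨y, hy⟩ :=
        DFunLike.congr_fun (congrArg Subtype.val h : α = 1) (⟨y, hy⟩ : E)
      have h2 : g * y * g⁻¹ = y := congrArg Subtype.val h1
      exact (mul_inv_eq_iff_eq_mul.mp h2).symm))
  refine ⟨x, x.2, hx, w, hw, fun h => hwd ?_, fun l m hlm => ?_⟩
  · obtain ⟨k, hk⟩ := Subgroup.mem_zpowers_iff.mp h
    exact Subgroup.mem_zpowers_iff.mpr ⟨k, Subtype.ext hk⟩
  obtain ⟨h, hhd, hhx, hhw, hnorm⟩ := htor l m hlm
  obtain ⟨i, hi⟩ := Subgroup.mem_zpowers_iff.mp hnorm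
  have hmap := mapTo_of_mem_autGroup hs.le h.2
  set c : MulAut E := (h : MulAut E) with hc
  have hgi : g ^ i ∈ normalizerIn S E := zpow_mem hg i
  have hconj : ∀ v ∈ E, autFun c (g * v * g⁻¹) = g ^ i * autFun c v * (g ^ i)⁻¹ := by
    intro v hv
    have e1 : autFun c (g * v * g⁻¹) = ((c (α ⟨v, hv⟩) : E) : Ω) := by
      rw [autFun_apply _ (conj_mem_of_mem_normalizerIn hg hv)]; rfl
    have e2 : c * α * c⁻¹ = α ^ i := (congrArg Subtype.val hi).symm
    have e3 : c (α ⟨v, hv⟩) = (α ^ i) (c ⟨v, hv⟩) := by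
      rw [← e2, MulAut.mul_apply, MulAut.mul_apply, MulAut.inv_apply_self]
    rw [e1, e3, hα, ← map_zpow, autFun_apply _ hv]
    rfl
  obtain ⟨e, he, heq, hek⟩ := exists_extension_zpowers hS hF hs.centric hmap (img_autFun c) hg hgi.1 hconj
  have hle : E ⊔ Subgroup.zpowers g ≤ normalizerIn S E :=
    sup_le (le_normalizerIn hs.le) (Subgroup.zpowers_le.mpr hg)
  have heq' : E ⊔ Subgroup.zpowers g = normalizerIn S E := by
    haveI := finite_of_le (normalizerIn_le (S := S) (P := E))
    refine Subgroup.eq_of_le_of_card_ge hle ?_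
    haveI := finite_of_le (hle.trans normalizerIn_le)
    have hlt : E < E ⊔ Subgroup.zpowers g :=
      lt_of_le_of_ne le_sup_left fun h => hgE (h ▸ Subgroup.mem_sup_right (Subgroup.mem_zpowers g))
    obtain ⟨k, hk⟩ := IsPGroup.iff_card.mp (hS.to_le (hle.trans normalizerIn_le))
    have h1 := card_lt_card_of_lt hlt
    rw [hs.card, hk, Nat.pow_lt_pow_iff_right hp.out.one_lt] at h1
    rw [hs.card_normalizer hS hne, hk]
    exact Nat.pow_le_pow_right hp.out.pos h1
  rw [heq'] at he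
  have hval : ∀ u : E, e u = ((c u : E) : Ω) := fun u => by rw [heq _ u.2, autFun_coe]
  refine ⟨e, he, ?_, ?_, ?_, fun y hy => by rw [heq y hy]; exact autFun_mem _ hy, fun y hy => ?_⟩
  · exact (hval ⟨d, hTE hd⟩).trans (congrArg Subtype.val hhd)
  · exact (hval x).trans (congrArg Subtype.val hhx)
  · exact (hval w).trans (congrArg Subtype.val hhw)
  have hsub : img e (normalizerIn S E) ≤ normalizerIn S E := by
    rw [← heq']
    have hin : ∀ z ∈ E ⊔ Subgroup.zpowers g, e z ∈ normalizerIn S E := by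
      intro z hz
      refine Subgroup.closure_induction (p := fun z _ => e z ∈ normalizerIn S E) ?_ ?_ ?_ ?_
        (show z ∈ Subgroup.closure ((E : Set Ω) ∪ {g}) by
          rw [Subgroup.closure_union, Subgroup.closure_eq, ← Subgroup.zpowers_eq_closure]; exact hz)
      · rintro u (hu | hu)
        · rw [heq u hu]; exact le_normalizerIn hs.le (autFun_mem _ hu)
        · rw [Set.mem_singleton_iff.mp hu]
          have := (normalizerIn S E).mul_mem hgi (le_normalizerIn hs.le
            (centralizerIn_le_of_isCentric hs.centric hek))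
          rwa [mul_inv_cancel_left] at this
      · rw [he.map_one]; exact one_mem _
      · intro u v hu hv hu' hv'
        rw [Subgroup.closure_union, Subgroup.closure_eq, ← Subgroup.zpowers_eq_closure] at hu hv
        rw [he.map_mul (hle hu) (hle hv)]
        exact mul_mem hu' hv'
      · intro u hu hu'
        rw [Subgroup.closure_union, Subgroup.closure_eq, ← Subgroup.zpowers_eq_closure] at hu
        rw [he.map_inv (hle hu)]
        exact inv_mem hu'
    rw [heq'] at hin ⊢
    exact img_le_of_forall hin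
  exact hsub (mem_img_of_mem hy)

end IsSmallEss

/-- If the normalizer centralizes an invariant series, every automorphism extends to it. -/
theorem exists_extension_series (hS : IsPGroup p S) (hF : F.IsSaturated p) (hP : F.IsFullyNormalized P)
    {r : ℕ} (c : Fin (r + 1) → Subgroup Ω) (h0 : c 0 = ⊥) (hlast : c (Fin.last r) = P)
    (hle : ∀ i, c i ≤ P)
    (hinv : ∀ α ∈ F.autGroup P, ∀ i, ∀ x ∈ c i, autFun α x ∈ c i)
    (hcen : ∀ k ∈ normalizerIn S P, ∀ i : Fin r, ∀ x ∈ c i.succ, x⁻¹ * (k * x * k⁻¹) ∈ c i.castSucc)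
    {α : MulAut P} (hα : α ∈ F.autGroup P) :
    ∃ f : Ω → Ω, MapTo F (normalizerIn S P) f ∧ (∀ x ∈ P, f x = autFun α x) ∧
      ∀ y ∈ normalizerIn S P, f y ∈ normalizerIn S P := by
  haveI := finite_of_le hP.1
  haveI := finite_mulAut P
  let K : Subgroup (F.autGroup P) :=
    { carrier := {a | ∀ i : Fin r, ∀ x ∈ c i.succ, x⁻¹ * autFun (a : MulAut P) x ∈ c i.castSucc}
      one_mem' := fun i x hx => by
        rw [OneMemClass.coe_one, autFun_one (hle _ hx), inv_mul_cancel]; exact one_mem _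
      mul_mem' := fun {a b} ha hb i x hx => by
        rw [Subgroup.coe_mul, autFun_mul _ _ (hle _ hx),
          show x⁻¹ * autFun (a : MulAut P) (autFun (b : MulAut P) x) = (x⁻¹ * autFun (b : MulAut P) x) *
            ((autFun (b : MulAut P) x)⁻¹ * autFun (a : MulAut P) (autFun (b : MulAut P) x)) by group]
        exact mul_mem (hb i x hx) (ha i _ (hinv _ b.2 _ x hx))
      inv_mem' := fun {a} ha i x hx => by
        have hx' := hinv _ (inv_mem a.2) _ x hx
        have h := inv_mem (ha i _ hx')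
        rw [autFun_autFun_inv _ (hle _ hx), mul_inv_rev, inv_inv] at h
        exact h }
  have hKn : K.Normal := ⟨fun a ha g i x hx => by
    have hx' := hinv _ (inv_mem g.2) _ x hx
    have h := hinv _ g.2 _ _ (ha i _ hx')
    have hxP : autFun ((g : MulAut P)⁻¹) x ∈ P := hle _ hx'
    rw [autFun_apply (g : MulAut P) (P.mul_mem (P.inv_mem hxP) (autFun_mem _ hxP))] at h
    have e : (⟨(autFun ((g : MulAut P)⁻¹) x)⁻¹ * autFun (a : MulAut P) (autFun ((g : MulAut P)⁻¹) x),
        P.mul_mem (P.inv_mem hxP) (autFun_mem _ hxP)⟩ : P) =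
        ((g : MulAut P)⁻¹ ⟨x, hle _ hx⟩)⁻¹ * (a : MulAut P) ((g : MulAut P)⁻¹ ⟨x, hle _ hx⟩) := by
      refine Subtype.ext ?_
      simp [autFun_apply _ (hle _ hx)]
    rw [e, map_mul, map_inv, MulAut.apply_inv_self] at h
    rw [autFun_apply _ (hle _ hx)]
    exact h⟩
  have hKp : IsPGroup p K := by
    refine IsPGroup.of_equiv ?_ (Subgroup.equivMapOfInjective K _ (F.autGroup P).subtype_injective).symm
    refine isPGroup_stabilizer_series (hS.to_le hP.1) c h0 hlast hle _ ?_
    rintro _ ⟨b, hb, rfl⟩ i x hx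
    exact hb i x hx
  obtain ⟨-, R, hR⟩ := isFullyAutomized_of_isFullyNormalized hS hF hP
  have hRK : (R : Subgroup (F.autGroup P)) ≤ K := fun b hb i x hx => by
    rw [hR, Subgroup.mem_subgroupOf] at hb
    obtain ⟨k, hk, hkx⟩ := mem_autInducedBy_iff_cj.mp hb
    have hkN : k ∈ normalizerIn S P := mem_normalizerIn_of_forall hP.1 hk fun y hy => by
      rw [← cj_apply, ← hkx y hy]; exact autFun_mem _ hy
    rw [hkx x (hle _ hx), cj_apply]
    exact hcen k hkN i x hx
  have hKR : K = R := R.is_maximal' hKp hRK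
  have hfull : ∀ k ∈ normalizerIn S P, ∃ h ∈ S, ∀ x ∈ P,
      autFun α (k * x * k⁻¹) = h * autFun α x * h⁻¹ := by
    intro k hk
    have hb : P.normalizerMonoidHom ⟨k, hk.2⟩ ∈ autInducedBy S P :=
      mem_autInducedBy_iff.mpr ⟨k, hk.1, fun x => rfl⟩
    set b : F.autGroup P := ⟨_, autInducedBy_le_autGroup hP.1 hb⟩
    have hbK : b ∈ K := by rw [hKR, hR, Subgroup.mem_subgroupOf]; exact hb
    have hcj := hKn.conj_mem b hbK ⟨α, hα⟩
    rw [hKR, hR, Subgroup.mem_subgroupOf] at hcj
    obtain ⟨h, hh, hhx⟩ := mem_autInducedBy_iff_cj.mp hcj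
    refine ⟨h, hh, fun x hx => ?_⟩
    have := hhx _ (autFun_mem α hx)
    rw [cj_apply] at this
    rw [← this, Subgroup.coe_mul, Subgroup.coe_mul, Subgroup.coe_inv, autFun_mul _ _ (autFun_mem _ hx),
      autFun_inv_autFun α hx, autFun_mul _ _ hx, autFun_apply (b : MulAut P) hx]
    rfl
  have hmap := mapTo_of_mem_autGroup hP.1 hα
  obtain ⟨g, hg, hgf⟩ := (isReceptive_iff.mp (isReceptive_of_isFullyNormalized hS hF hP)).2 P _ hmap
    (img_autFun α)
  have hext : normalizerIn S P ≤ extSub S hmap := fun k hk => ⟨hk, hfull k hk⟩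
  have hg' := hg.restrict hext
  refine ⟨g, hg', hgf, fun y hy => mem_normalizerIn_of_forall hP.1 (hg'.mem hy) fun z hz => ?_⟩
  have hz' : autFun α⁻¹ z ∈ P := autFun_mem _ hz
  have hzN : autFun α⁻¹ z ∈ normalizerIn S P := le_normalizerIn hP.1 hz'
  have e : g (y * autFun α⁻¹ z * y⁻¹) = g y * z * (g y)⁻¹ := by
    rw [hg'.map_conj hy hzN, hgf _ hz', autFun_autFun_inv α hz]
  rw [← e, hgf _ (conj_mem_of_mem_normalizerIn hy hz')]
  exact autFun_mem _ (conj_mem_of_mem_normalizerIn hy hz')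

end Cfsg.Agent.Fusion
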