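import Cfsg.Agent.Lib.Fusion.RankTwoSimple
import Cfsg.Agent.Lib.Fusion.PSLTwoSimple
import Cfsg.Agent.Lib.Invol.SylowGL2
import Cfsg.Agent.Lib.Invol.PSL3Invol
import Cfsg.Agent.Lib.LinearGroups.Basic
import Cfsg.Agent.Lib.LinearGroups.PSL
import Cfsg.Agent.S0283

/-!
The 2-fusion systems of `PSL_3(q)` and `PSU_3(q)`, `q` odd, are simple: their Sylow 2-subgroups
are those of `GL_2(q)` and `GU_2(q)`.
-/

set_option autoImplicit false
set_option linter.style.haveILetI false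

namespace Cfsg.Agent.Fusion.RankTwoGroups

open scoped Matrix MatrixGroups
open Cfsg.Agent.Invol

/-- A homomorphism with kernel of exponent 3 onto a group of the same 2-part preserves Sylow
2-subgroups. -/
theorem nonempty_equiv_sylow_of_hom {H G : Type*} [Group H] [Finite H] [Group G] [Finite G]
    (φ : H →* G) (hker : ∀ x, φ x = 1 → x ^ 3 = 1) {a b : ℕ} (hb : Odd b)
    (hcard : Nat.card G * a = Nat.card H * b) (P : Sylow 2 H) (S : Sylow 2 G) :
    Nonempty ((P : Subgroup H) ≃* (S : Subgroup G)) := by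
  haveI : Fact (Nat.Prime 2) := ⟨Nat.prime_two⟩
  obtain ⟨k, hk⟩ := IsPGroup.iff_card.mp P.2
  obtain ⟨m, hm⟩ : ∃ m, Nat.card H = 2 ^ k * m :=
    hk ▸ Subgroup.card_subgroup_dvd_card (P : Subgroup H)
  have hmodd : Odd m := by
    have h1 : ¬2 ∣ (P : Subgroup H).index := Sylow.not_dvd_index P
    have h2 := Subgroup.card_mul_index (P : Subgroup H)
    rw [hk, hm] at h2
    rw [Nat.eq_of_mul_eq_mul_left (by positivity) h2] at h1
    exact Nat.not_even_iff_odd.mp fun h => h1 (even_iff_two_dvd.mp h)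
  have hinj : Function.Injective (φ.comp (P : Subgroup H).subtype) := by
    rw [injective_iff_map_eq_one]
    intro x hx
    obtain ⟨e, he⟩ := P.2 x
    have h3 : x ^ 3 = 1 := Subtype.ext (hker x.1 hx)
    have h1 : orderOf x = 1 := Nat.eq_one_of_dvd_coprimes
      (Nat.Coprime.pow_left e (by norm_num : Nat.Coprime 2 3))
      (orderOf_dvd_of_pow_eq_one he) (orderOf_dvd_of_pow_eq_one h3)
    exact orderOf_eq_one_iff.mp h1
  have hcN : Nat.card (φ.comp (P : Subgroup H).subtype).range = 2 ^ k :=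
    (Nat.card_congr (MonoidHom.ofInjective hinj).toEquiv).symm.trans hk
  obtain ⟨m', hm'⟩ : ∃ m', Nat.card G = 2 ^ k * m' :=
    hcN ▸ Subgroup.card_subgroup_dvd_card _
  have hm'odd : Odd m' := by
    rw [hm, hm', mul_assoc, mul_assoc] at hcard
    have h2 : Odd (m * b) := hmodd.mul hb
    rw [← Nat.eq_of_mul_eq_mul_left (by positivity) hcard] at h2
    exact (Nat.odd_mul.mp h2).1
  obtain ⟨e⟩ := SylowGL2.nonempty_equiv_sylow _ k m' hm' hm'odd hcN S
  exact ⟨(MonoidHom.ofInjective hinj).trans e⟩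

theorem isSimple_of_quasiDihedral_or_wreathed {H G : Type*} [Group H] [Finite H] [Group G]
    [Finite G] [IsSimpleGroup G] (φ : H →* G) (hker : ∀ x, φ x = 1 → x ^ 3 = 1) {a b : ℕ}
    (ha : Odd a) (hb : Odd b) (hcard : Nat.card G * a = Nat.card H * b) (h4 : 4 ∣ Nat.card H)
    (hP : ∀ P : Sylow 2 H, IsQuasiDihedral (P : Subgroup H) ∨ IsWreathed (P : Subgroup H))
    (S : Sylow 2 G) : (groupFusionSystem (S : Subgroup G)).IsSimple 2 := by
  have hG : 4 ∣ Nat.card G := by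
    refine (Nat.Coprime.dvd_mul_right (k := 4) (n := a) ?_).mp (hcard ▸ h4.mul_right b)
    exact Nat.Coprime.pow_left 2 (Nat.coprime_two_left.mpr ha)
  obtain ⟨P⟩ : Nonempty (Sylow 2 H) := inferInstance
  obtain ⟨e⟩ := nonempty_equiv_sylow_of_hom φ hker hb hcard P S
  rcases hP P with h | h
  · obtain ⟨D⟩ := qd_exists (isQuasiDihedral_of_equiv h e)
    exact isSimple_quasiDihedral D (index_ne_two_of_simple hG)
  · obtain ⟨D⟩ := wr_exists (isWreathed_of_equiv h e)
    exact isSimple_wreathed D (index_ne_two_of_simple hG)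

variable {F : Type*} [Field F]

theorem blk_injective : Function.Injective (PSL3.blk (F := F)) := by
  intro A B h
  refine Units.ext (Matrix.ext fun i j => ?_)
  have := congrArg (fun X : SL(3, F) => X.1 i.succ j.succ) h
  fin_cases i <;> fin_cases j <;> simpa [PSL3.blk_val] using this

theorem blk_mulVec (A : GL (Fin 2) F) (u : Fin 3 → F) :
    (PSL3.blk A).1 *ᵥ u = Fin.cons (A.1.det⁻¹ * u 0) (A.1 *ᵥ fun i => u i.succ) := by
  ext i
  fin_cases i <;> simp [PSL3.blk_val, Matrix.mulVec, dotProduct, Fin.sum_univ_succ]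

variable [Fintype F]

theorem isSimple_psl_three (hodd : Fintype.card F % 2 = 1)
    (S : Sylow 2 (Matrix.ProjectiveSpecialLinearGroup (Fin 3) F)) :
    (groupFusionSystem (S : Subgroup (Matrix.ProjectiveSpecialLinearGroup (Fin 3) F))).IsSimple
      2 := by
  haveI := Cfsg.Agent.LinGrp.isSimpleGroup_PSL_fin (F := F) 3 (by norm_num) (fun h => by omega)
  set q := Fintype.card F with hq
  have hq1 : 1 < q := Fintype.one_lt_card
  have hcen : Nat.card (Subgroup.center SL(3, F)) ∣ 3 := by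
    rw [Cfsg.Agent.LinGrp.natCard_center_SL, Fintype.card_fin]
    exact Nat.gcd_dvd_left _ _
  refine isSimple_of_quasiDihedral_or_wreathed
    ((QuotientGroup.mk' (Subgroup.center SL(3, F))).comp PSL3.blk) (fun x hx => ?_)
    (a := Nat.gcd 3 (q - 1)) (b := q ^ 2 * (q ^ 2 + q + 1)) ?_ ?_ ?_ ?_ (fun P => ?_) S
  · refine blk_injective ?_
    rw [map_pow, map_one]
    have hx' : PSL3.blk x ∈ Subgroup.center SL(3, F) :=
      (QuotientGroup.eq_one_iff (PSL3.blk x)).mp hx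
    exact orderOf_dvd_iff_pow_eq_one.mp ((Subgroup.orderOf_dvd_natCard _ hx').trans hcen)
  · exact Odd.of_dvd_nat (by decide : Odd 3) (Nat.gcd_dvd_left 3 (q - 1))
  · have ho : Odd q := Nat.odd_iff.mpr hodd
    exact ho.pow.mul ((ho.pow.add_odd ho).add_odd odd_one)
  · have h1 := Cfsg.Agent.LinGrp.natCard_SL_mul (F := F) 3 (by norm_num)
    have h2 := Cfsg.Agent.LinGrp.natCard_PSL_mul (n := Fin 3) (F := F)
    rw [Fintype.card_fin, Nat.card_eq_fintype_card (α := F), ← hq] at h2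
    rw [← h2, Fin.prod_univ_three, ← hq] at h1
    rw [SylowGL2.card_GL2, ← hq]
    refine Nat.eq_of_mul_eq_mul_left (show 0 < q - 1 by omega) ?_
    have e : ∀ X Y : ℕ, (q - 1) * (X * Y) = (q - 1) * (Y * X) := fun X Y => by rw [mul_comm X Y]
    rw [e, h1]
    obtain ⟨j, hj⟩ : ∃ j, q = j + 1 := ⟨q - 1, by omega⟩
    simp only [Fin.val_zero, Fin.val_one, Fin.val_two, pow_zero, pow_one]
    have a1 : q ^ 3 - 1 = (q - 1) * (q ^ 2 + q + 1) := by
      rw [Nat.sub_eq_iff_eq_add (Nat.one_le_pow _ _ (by omega)), hj, Nat.add_sub_cancel]; ring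
    have a2 : q ^ 3 - q = q * (q ^ 2 - 1) := by
      rw [Nat.mul_sub, mul_one, ← pow_succ']
    have a3 : q ^ 3 - q ^ 2 = q * (q ^ 2 - q) := by
      rw [Nat.mul_sub, ← pow_succ', ← pow_two]
    rw [a1, a2, a3]
    ring
  · rw [SylowGL2.card_GL2, ← hq, show q ^ 2 - q = q * (q - 1) by rw [Nat.mul_sub, mul_one, pow_two],
      show q ^ 2 - 1 = (q + 1) * (q - 1) by rw [← Nat.sq_sub_sq q 1, one_pow],
      show 4 = 2 * 2 from rfl]
    exact mul_dvd_mul ((show 2 ∣ q + 1 by omega).mul_right _)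
      ((show 2 ∣ q - 1 by omega).mul_left _)
  · rcases (show q % 4 = 1 ∨ q % 4 = 3 by omega) with h | h
    · exact Or.inr (SylowGL2.wreathed_GL2 h P)
    · exact Or.inl (SylowGL2.quasiDihedral_GL2 h P)

theorem isSimple_psu_three {q : ℕ} (hF : Fintype.card F = q ^ 2) (hodd : q % 2 = 1)
    (S : Sylow 2 (Cfsg.PSU 3 F q)) :
    (groupFusionSystem (S : Subgroup (Cfsg.PSU 3 F q))).IsSimple 2 := by
  haveI := Cfsg.Agent.S0283.result hF 3 le_rfl (by omega)
  have hq1 : 1 < q := Cfsg.Agent.FormCount.two_le_q hF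
  have hmem : ∀ A : SylowGL2.GU2 F q, PSL3.blk A.1 ∈ Cfsg.SU 3 F q := by
    intro A u v
    have hd : A.1.1.det⁻¹ * (A.1.1.det⁻¹) ^ q = 1 := by
      rw [← pow_succ', inv_pow, inv_eq_one]
      exact Cfsg.Agent.UnitaryOrder.det_norm_one (n := 2) hF A.2
    have hA : Cfsg.hermForm 2 F q (A.1.1 *ᵥ fun i => u i.succ) (A.1.1 *ᵥ fun i => v i.succ) =
        Cfsg.hermForm 2 F q (fun i => u i.succ) (fun i => v i.succ) := A.2 _ _
    show Cfsg.hermForm 3 F q ((PSL3.blk A.1).1 *ᵥ u) ((PSL3.blk A.1).1 *ᵥ v) =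
      Cfsg.hermForm 3 F q u v
    rw [blk_mulVec, blk_mulVec, Cfsg.Agent.UnitaryOrder.hermForm_cons, hA]
    simp only [Cfsg.hermForm, Fin.sum_univ_succ (n := 2)]
    rw [mul_pow, show A.1.1.det⁻¹ * u 0 * (A.1.1.det⁻¹ ^ q * v 0 ^ q) =
      u 0 * v 0 ^ q * (A.1.1.det⁻¹ * A.1.1.det⁻¹ ^ q) by ring, hd, mul_one]
  have hcen : Nat.card (Subgroup.center (Cfsg.SU 3 F q)) ∣ 3 := by
    rw [Cfsg.Agent.UnitaryOrder.card_center_SU hF 3 (by norm_num)]
    exact Nat.gcd_dvd_left _ _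
  refine isSimple_of_quasiDihedral_or_wreathed
    ((QuotientGroup.mk' (Subgroup.center (Cfsg.SU 3 F q))).comp
      ((PSL3.blk.comp (SylowGL2.GU2 F q).subtype).codRestrict _ hmem)) (fun x hx => ?_)
    (a := Nat.gcd 3 (q + 1)) (b := q ^ 2 * (q ^ 2 - q + 1)) ?_ ?_ ?_ ?_ (fun P => ?_) S
  · set f := (PSL3.blk.comp (SylowGL2.GU2 F q).subtype).codRestrict _ hmem with hf
    have hx' : f x ∈ Subgroup.center (Cfsg.SU 3 F q) := (QuotientGroup.eq_one_iff (f x)).mp hx
    have h3 : f x ^ 3 = 1 :=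
      orderOf_dvd_iff_pow_eq_one.mp ((Subgroup.orderOf_dvd_natCard _ hx').trans hcen)
    refine Subtype.ext (blk_injective ?_)
    rw [Subgroup.coe_pow, Subgroup.coe_one, map_pow, map_one]
    exact congrArg Subtype.val h3
  · exact Odd.of_dvd_nat (by decide : Odd 3) (Nat.gcd_dvd_left 3 (q + 1))
  · have ho : Odd q := Nat.odd_iff.mpr hodd
    have h2 : Even (q ^ 2 - q) := Nat.Odd.sub_odd ho.pow ho
    exact ho.pow.mul (h2.add_one)
  · have h1 := Cfsg.Agent.UnitaryOrder.card_PSU hF 3 (by norm_num)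
    rw [Cfsg.Agent.UnitaryOrder.card_GU hF 3] at h1
    simp [Finset.prod_range_succ, show ¬Even 1 by decide, show Even 2 from even_two] at h1
    rw [SylowGL2.card_GU2 hF]
    refine Nat.eq_of_mul_eq_mul_left (show 0 < q + 1 by omega) ?_
    have e : ∀ X Y : ℕ, (q + 1) * (X * Y) = Y * ((q + 1) * X) := fun X Y => by ring
    rw [e, h1]
    obtain ⟨j, hj⟩ : ∃ j, q = j + 1 := ⟨q - 1, by omega⟩
    have a1 : q ^ 3 + 1 = (q + 1) * (q ^ 2 - q + 1) := by
      rw [show q ^ 2 - q = j * (j + 1) by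
        rw [Nat.sub_eq_iff_eq_add (Nat.le_self_pow two_ne_zero q), hj]; ring, hj]
      ring
    rw [a1]
    ring
  · rw [SylowGL2.card_GU2 hF, show q ^ 2 - 1 = (q + 1) * (q - 1) by
      rw [← Nat.sq_sub_sq q 1, one_pow], show 4 = 2 * 2 from rfl]
    exact (mul_dvd_mul (show 2 ∣ q + 1 by omega) ((show 2 ∣ q - 1 by omega).mul_left _)).mul_left _
  · rcases (show q % 4 = 1 ∨ q % 4 = 3 by omega) with h | h
    · exact Or.inl (SylowGL2.quasiDihedral_GU2 hF h P)
    · exact Or.inr (SylowGL2.wreathed_GU2 hF h P)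

end Cfsg.Agent.Fusion.RankTwoGroups
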