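import Cfsg.Agent.Lib.Fusion.RankTwoSqFinal
import Cfsg.Agent.Lib.Fusion.RankTwoCube

/-!
For `p ≥ 5`, groups of rank two other than the extraspecial group of order `p ^ 3` and exponent `p`
are resistant.
-/

set_option autoImplicit false
set_option linter.style.haveILetI false

namespace Cfsg.Agent.Fusion

universe u

variable {p : ℕ} [hp : Fact p.Prime]
variable {Ω : Type u} [Group Ω] {S : Subgroup Ω} [Finite S] {F : FusionSystem S} {P : Subgroup Ω}

theorem not_isEssential_of_rank_two (hS : IsPGroup p S) (hF : F.IsSaturated p) (hp5 : 5 ≤ p)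
    (hrank3 : ∀ E : Subgroup Ω, E ≤ S → Cfsg.IsElementaryAbelian p E → Nat.card E ≤ p ^ 2)
    (hnotE : ¬ (Nat.card S = p ^ 3 ∧ Monoid.exponent S = p)) : ¬ F.IsEssential p P := by
  intro hP
  have hp2 : p ≠ 2 := by omega
  have hPS := hP.1.1
  haveI := finite_of_le hPS
  haveI := finite_mulAut P
  have hPp := hS.to_le hPS
  obtain ⟨C, hCc, hCe, hdet⟩ := exists_omega_detect (p := p) hPp
  have hexp : ∀ c ∈ C, c ^ p = 1 := fun c hc => (hCe c hc).resolve_right fun h => hp2 h.1
  have hC : ∀ α ∈ F.autGroup P, ∀ c ∈ C, α c ∈ C := fun α _ c hc => mem_of_char C α hc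
  have hrkP : ∀ E : Subgroup P, Cfsg.IsElementaryAbelian p E → Nat.card E ≤ p ^ 2 := fun E hE => by
    rw [← Subgroup.card_map_of_injective P.subtype_injective]
    exact hrank3 _ ((Subgroup.map_subtype_le E).trans hPS) (Transfer.ea_map hE P.subtype)
  have hC3 : Nat.card C ≤ p ^ 3 := OddLocal.card_le_cube_of_exponent hp2
    (fun c => Subtype.ext (hexp c c.2))
    fun E hE => OddLocal.rank_map C.subtype C.subtype_injective hrkP E hE
  obtain ⟨n, hn⟩ := (hPp.to_subgroup C).exists_card_eq
  have hn3 : n ≤ 3 := (Nat.pow_le_pow_iff_right hp.out.one_lt).mp (hn ▸ hC3)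
  rcases Nat.lt_or_ge n 3 with hlt | hge
  swap
  · exact false_of_cube hS hF hp5 hrank3 hP C hC hexp hdet (by rw [hn, show n = 3 by omega])
  let ρ := subRep C hC
  have hker : IsPGroup p ρ.ker := isPGroup_of_coprime_eq_one _ fun a ha hcop =>
    Subtype.ext (hdet _ (by rwa [Subgroup.orderOf_coe]) fun c hc => by
      have h := DFunLike.congr_fun (MonoidHom.mem_ker.mp ha) (⟨c, hc⟩ : C)
      exact congrArg Subtype.val h)
  interval_cases n
  · obtain ⟨a, -, ha⟩ := exists_pElt_not_inn hS hP
    haveI : Subsingleton C := (Nat.card_eq_one_iff_unique.mp (hn.trans (pow_zero p))).1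
    exact ha (mem_inn_of_normal_pGroup hS hP inferInstance hker
      (MonoidHom.mem_ker.mpr (MulEquiv.ext fun c => Subsingleton.elim _ _)))
  · exact frame_false_of_card_prime hS hP ρ (hn.trans (pow_one p)) hker
  have hVc : IsMulCommutative C := IsPGroup.isMulCommutative_of_card_eq_prime_sq hn
  have hVe : ∀ c : C, c ^ p = 1 := fun c => Subtype.ext (hexp c c.2)
  -- the detecting subgroup is central
  have hcen : ∀ c : C, ∀ g : P, g * (c : P) * g⁻¹ = c := by
    intro c g
    let a : F.autGroup P := ⟨MulAut.conj g, inn_le_autGroup hPS ⟨g, rfl⟩⟩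
    have h := DFunLike.congr_fun
      ((frame_inn_iff hVc hVe hn hS hP ρ hker a).mpr ⟨g, rfl⟩) c
    exact congrArg Subtype.val h
  have hΩ : ∀ x : P, x ^ p = 1 → x ∈ C := by
    intro x hx
    by_contra hxC
    set E := C ⊔ Subgroup.zpowers x with hE
    have hEA : Cfsg.IsElementaryAbelian p E := by
      have hgen : E = Subgroup.closure ((C : Set P) ∪ {x}) := by
        rw [hE, Subgroup.closure_union, Subgroup.closure_eq, Subgroup.zpowers_eq_closure]
      have hcomm : IsMulCommutative E := by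
        rw [hgen]
        refine Subgroup.isMulCommutative_closure ?_
        rintro a (ha | rfl) b (hb | rfl)
        · exact congrArg Subtype.val (hVc.is_comm.comm ⟨a, ha⟩ ⟨b, hb⟩)
        · exact (mul_inv_eq_iff_eq_mul.mp (hcen ⟨a, ha⟩ b)).symm
        · exact mul_inv_eq_iff_eq_mul.mp (hcen ⟨b, hb⟩ a)
        · rfl
      refine ⟨hcomm, fun e he => ?_⟩
      have h1 : ∀ u ∈ Subgroup.closure ((C : Set P) ∪ {x}), u ^ p = 1 := by
        intro u hu
        induction hu using Subgroup.closure_induction with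
        | mem v hv =>
          rcases hv with hv | hv
          · exact hexp v hv
          · rw [Set.mem_singleton_iff.mp hv]; exact hx
        | one => exact one_pow _
        | mul v w hv hw h h' =>
          have : Commute v w := congrArg Subtype.val
            (hcomm.is_comm.comm ⟨v, hgen ▸ hv⟩ ⟨w, hgen ▸ hw⟩)
          rw [this.mul_pow, h, h', one_mul]
        | inv v _ h => rw [inv_pow, h, inv_one]
      exact h1 e (hgen ▸ he)
    refine absurd (hrkP E hEA) (not_le.mpr ?_)
    rw [← hn]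
    exact lt_of_le_of_ne (Subgroup.card_le_of_le le_sup_left) fun h => hxC
      ((Subgroup.eq_of_le_of_card_ge le_sup_left h.ge).ge
        (Subgroup.mem_sup_right (Subgroup.mem_zpowers x)))
  -- an inverting automorphism without fixed points
  obtain ⟨φ, hφc, hφ⟩ := exists_frame_neg hVc hVe hn hS hP ρ hker hp2
  have hφC : ∀ c ∈ C, (φ : MulAut P) c = c⁻¹ := fun c hc =>
    congrArg Subtype.val (hφ ⟨c, hc⟩)
  have hφ2 : ∀ v, (φ : MulAut P) ((φ : MulAut P) v) = v := by
    have h1 : (φ : MulAut P) ^ 2 = 1 := by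
      refine hdet _ ((hφc.coprime_dvd_left ?_)) fun c hc => ?_
      · rw [← Subgroup.coe_pow, Subgroup.orderOf_coe]
        exact orderOf_pow_dvd 2
      · rw [pow_two, MulAut.mul_apply, hφC c hc, map_inv, hφC c hc, inv_inv]
    intro v
    have := DFunLike.congr_fun h1 v
    rwa [pow_two, MulAut.mul_apply, MulAut.one_apply] at this
  have hfix : ∀ v, (φ : MulAut P) v = v → v = 1 := by
    intro v hv
    by_contra hv1
    obtain ⟨i, hi⟩ : ∃ i, orderOf v = p ^ (i + 1) := by
      obtain ⟨e, he⟩ := hPp v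
      obtain ⟨i, -, hi⟩ := (Nat.dvd_prime_pow hp.out).mp (orderOf_dvd_of_pow_eq_one he)
      cases i with
      | zero => exact absurd (orderOf_eq_one_iff.mp (hi.trans (pow_zero p))) hv1
      | succ i => exact ⟨i, hi⟩
    set w := v ^ p ^ i
    have hwp : w ^ p = 1 := by rw [← pow_mul, ← pow_succ, ← hi, pow_orderOf_eq_one]
    have hw1 : w ≠ 1 := pow_ne_one_of_lt_orderOf (pow_ne_zero i hp.out.ne_zero)
      (hi ▸ Nat.pow_lt_pow_succ hp.out.one_lt)
    have h1 : w = w⁻¹ := by
      rw [← hφC w (hΩ w hwp)]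
      show v ^ p ^ i = (φ : MulAut P) (v ^ p ^ i)
      rw [map_pow, hv]
    have h2 : w ^ 2 = 1 := by rw [pow_two]; nth_rewrite 2 [h1]; exact mul_inv_cancel w
    have h3 : orderOf w = p := orderOf_eq_prime hwp hw1
    have h4 := Nat.le_of_dvd two_pos (h3 ▸ orderOf_dvd_of_pow_eq_one h2)
    omega
  have hinj : Function.Injective fun v : P => v⁻¹ * (φ : MulAut P) v := by
    intro v w h
    simp only at h
    refine (mul_inv_eq_one.mp (hfix (v * w⁻¹) ?_))
    rw [map_mul, map_inv, show (φ : MulAut P) v = v * (v⁻¹ * (φ : MulAut P) v) by group, h]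
    group
  have hinv : ∀ v, (φ : MulAut P) v = v⁻¹ := by
    intro v
    obtain ⟨w, rfl⟩ := (Finite.injective_iff_surjective.mp hinj) v
    show (φ : MulAut P) (w⁻¹ * (φ : MulAut P) w) = (w⁻¹ * (φ : MulAut P) w)⁻¹
    rw [map_mul, map_inv, hφ2, mul_inv_rev, inv_inv]
  have hPc : ∀ a b : P, a * b = b * a := fun a b => by
    have h := map_mul (φ : MulAut P) b⁻¹ a⁻¹
    rw [hinv, hinv, hinv, mul_inv_rev, inv_inv, inv_inv] at h
    exact h
  have hab : IsMulCommutative P := ⟨⟨hPc⟩⟩
  -- the Frattini quotient has rank two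
  have hrk : (frattini P).index ≤ p ^ 2 := by
    let f : P →* P := { toFun := fun a => a ^ p, map_one' := one_pow p,
                        map_mul' := fun a b => (show Commute a b from hPc a b).mul_pow p }
    have h1 : Nat.card f.ker ≤ p ^ 2 := hn ▸ Subgroup.card_le_of_le fun a ha => hΩ a ha
    have h2 : f.range ≤ frattini P := by
      rintro _ ⟨a, rfl⟩
      exact Basics.pow_mem_frattini hPp a
    have h3 := (frattini P).card_mul_index
    have h4 := f.ker.card_mul_index
    rw [Subgroup.index_ker] at h4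
    refine Nat.le_of_mul_le_mul_left ?_ (Nat.card_pos (α := frattini P))
    rw [h3, ← h4, mul_comm (Nat.card (frattini P))]
    exact Nat.mul_le_mul h1 (Subgroup.card_le_of_le h2)
  obtain ⟨k, -, ⟨e⟩, hk⟩ := abelian_essential_structure hS hP hab hrk
  obtain rfl := hk hp5
  haveI : NeZero (p ^ 1) := ⟨pow_ne_zero _ hp.out.ne_zero⟩
  have hcardP : Nat.card P = p ^ 2 := by
    rw [Nat.card_congr e.toEquiv, Nat.card_congr Multiplicative.toAdd, Nat.card_prod, Nat.card_zmod]
    ring
  have hexpP : ∀ v ∈ P, v ^ p = 1 := by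
    intro v hv
    have hCtop : C = ⊤ := Subgroup.eq_top_of_card_eq C (hn.trans hcardP.symm)
    exact congrArg Subtype.val (hexp ⟨v, hv⟩ (hCtop ▸ Subgroup.mem_top _))
  exact hnotE (card_and_exponent_of_essential_sq hS hF hp5 hrank3 hP hcardP hexpP)

end Cfsg.Agent.Fusion
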