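import Cfsg.Agent.Lib.Fusion.Invariant
import Cfsg.Agent.Lib.Fusion.Group
import Cfsg.Agent.Lib.Fusion.CoreDecomp
import Cfsg.Agent.Lib.Invol.QWCentralizer
import Cfsg.Agent.Lib.Invol.WrCases
import Cfsg.Agent.Lib.Invol.WrClasses
import Cfsg.Agent.Lib.Invol.DihFusion
import Cfsg.Agent.Lib.Invol.QDFusion
import Cfsg.Agent.Lib.Transfer.Quadratic

/-!
Fusion systems of groups without subgroups of index 2 whose Sylow 2-subgroups are dihedral,
quasi-dihedral or wreathed are simple.
-/

set_option autoImplicit false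
set_option linter.style.haveILetI false

namespace Cfsg.Agent.Fusion

open Cfsg.FusionSystem (centralizerIn normalizerIn)
open Cfsg.Agent.Invol (DihData QDData WrData)

universe u

variable {G : Type u} [Group G] [Finite G]

/-- An element of odd order centralizing a subgroup of index two centralizes the whole group. -/
theorem commute_of_index_two {S : Sylow 2 G} {C : Subgroup G} (hCS : C ≤ S) {s : G} (hs : s ∈ S)
    (hrep : ∀ g ∈ (S : Subgroup G), g ∈ C ∨ ∃ c ∈ C, g = c * s) {y : G}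
    (hy : y ∈ Subgroup.normalizer ((S : Subgroup G) : Set G)) (hodd : (orderOf y).Coprime 2)
    (hC : ∀ c ∈ C, Commute y c) : ∀ g ∈ (S : Subgroup G), Commute y g := by
  suffices h : Commute y s by
    intro g hg
    rcases hrep g hg with hgC | ⟨c, hc, rfl⟩
    · exact hC g hgC
    · exact (hC c hc).mul_right h
  rcases hrep _ ((Subgroup.mem_normalizer_iff.mp hy s).mp hs) with h | ⟨c, hc, hcs⟩
  · have h1 : y * (y * s * y⁻¹) = y * s := by
      rw [(hC _ h).eq, inv_mul_cancel_right]
    exact mul_inv_eq_iff_eq_mul.mp (mul_left_cancel h1)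
  · have hk : ∀ k : ℕ, y ^ k * s * (y ^ k)⁻¹ = c ^ k * s := by
      intro k
      induction k with
      | zero => simp
      | succ k ih =>
        rw [pow_succ', mul_inv_rev, show y * y ^ k * s * ((y ^ k)⁻¹ * y⁻¹) =
          y * (y ^ k * s * (y ^ k)⁻¹) * y⁻¹ by group, ih,
          show y * (c ^ k * s) * y⁻¹ = (y * c ^ k * y⁻¹) * (y * s * y⁻¹) by group, hcs,
          ((hC c hc).pow_right k).eq, mul_inv_cancel_right, ← mul_assoc, ← pow_succ]
    have h1 := hk (orderOf y)
    rw [pow_orderOf_eq_one, inv_one, mul_one, one_mul, right_eq_mul] at h1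
    obtain ⟨e, he⟩ := S.2 ⟨c, hCS hc⟩
    have h2 : orderOf c ∣ 2 ^ e := orderOf_dvd_of_pow_eq_one (congrArg Subtype.val he)
    have h3 : orderOf c = 1 := Nat.eq_one_of_dvd_coprimes (hodd.pow_right e)
      (orderOf_dvd_of_pow_eq_one h1) h2
    rw [orderOf_eq_one_iff.mp h3, one_mul] at hcs
    show y * s = s * y
    exact mul_inv_eq_iff_eq_mul.mp hcs

/-- A cyclic group has at most one involution. -/
theorem eq_of_orderOf_two {a v w : G} (hv : v ∈ Subgroup.zpowers a) (hw : w ∈ Subgroup.zpowers a)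
    (hv2 : orderOf v = 2) (hw2 : orderOf w = 2) : v = w := by
  have key : ∀ i : ℤ, orderOf (a ^ i) = 2 → ∃ c : ℤ, 2 * i = (orderOf a : ℤ) * c ∧ Odd c := by
    intro i hi
    have h1 : a ^ (2 * i) = 1 := by
      rw [two_mul, zpow_add, ← sq, ← hi, pow_orderOf_eq_one]
    obtain ⟨c, hc⟩ := orderOf_dvd_iff_zpow_eq_one.mpr h1
    refine ⟨c, hc, Int.not_even_iff_odd.mp fun ⟨e, he⟩ => ?_⟩
    have h2 : a ^ i = 1 := orderOf_dvd_iff_zpow_eq_one.mp ⟨e, by rw [he] at hc; linarith⟩
    rw [h2, orderOf_one] at hi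
    omega
  obtain ⟨i, rfl⟩ := Subgroup.mem_zpowers_iff.mp hv
  obtain ⟨j, rfl⟩ := Subgroup.mem_zpowers_iff.mp hw
  obtain ⟨c, hc, c', hc'⟩ := key i hv2
  obtain ⟨d, hd, d', hd'⟩ := key j hw2
  rw [← orderOf_dvd_sub_iff_zpow_eq_zpow]
  exact ⟨c' - d', by subst hc' hd'; linarith⟩

/-- An element of odd order normalizing a cyclic 2-subgroup centralizes it. -/
theorem commute_of_cyclic {a : G} {k : ℕ} (hk : a ^ 2 ^ k = 1) {y : G}
    (hy : y ∈ Subgroup.normalizer (Subgroup.zpowers a : Set G)) (hodd : (orderOf y).Coprime 2) :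
    ∀ c ∈ Subgroup.zpowers a, Commute y c := by
  haveI : Fact (Nat.Prime 2) := ⟨Nat.prime_two⟩
  have hp : IsPGroup 2 (Subgroup.zpowers a) := by
    obtain ⟨i, -, hi⟩ := (Nat.dvd_prime_pow Nat.prime_two).mp (orderOf_dvd_of_pow_eq_one hk)
    exact IsPGroup.of_card (n := i) ((Nat.card_zpowers a).trans hi)
  refine Cfsg.Agent.Transfer.commute_of_commute_omega hp hodd hy fun v hv hv2 => ?_
  by_cases hv1 : v = 1
  · rw [hv1]; exact Commute.one_right y
  have hvy : y * v * y⁻¹ ∈ Subgroup.zpowers a := (Subgroup.mem_normalizer_iff.mp hy v).mp hv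
  have h2 : orderOf v = 2 := orderOf_eq_prime hv2 hv1
  have h3 : orderOf (y * v * y⁻¹) = 2 := by
    rw [show y * v * y⁻¹ = MulAut.conj y v from rfl, MulEquiv.orderOf_eq, h2]
  exact mul_inv_eq_iff_eq_mul.mp (eq_of_orderOf_two hvy hv h3 h2)

/-- Simplicity from strong closure and the absence of odd-order automorphisms of `S`. -/
theorem isSimple_two (S : Sylow 2 G) (hS1 : (S : Subgroup G) ≠ ⊥)
    (hsc : ∀ T : Subgroup G, T ≤ S → T ≠ ⊥ →
      (∀ g : G, ∀ x ∈ T, g * x * g⁻¹ ∈ (S : Subgroup G) → g * x * g⁻¹ ∈ T) →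
      (S : Subgroup G) ≤ T)
    (hodd : ∀ y ∈ Subgroup.normalizer ((S : Subgroup G) : Set G), (orderOf y).Coprime 2 →
      ∀ g ∈ (S : Subgroup G), Commute y g) :
    (groupFusionSystem (S : Subgroup G)).IsSimple 2 := by
  haveI : Fact (Nat.Prime 2) := ⟨Nat.prime_two⟩
  refine isSimple_of_autGroup_eq_inn (isSaturated_gfs S) hS1 ?_ fun T hT => ?_
  · refine le_antisymm (fun α hα => ?_) (inn_le_autGroup le_rfl)
    rw [autGroup_gfs le_rfl, mem_autInducedBy_iff_cj] at hα
    obtain ⟨g, -, hg⟩ := hα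
    have hgN : g ∈ Subgroup.normalizer ((S : Subgroup G) : Set G) :=
      mem_normalizer_of_forall fun y hy => by
        show cj g y ∈ (S : Subgroup G)
        rw [← hg y hy]
        exact autFun_mem α hy
    obtain ⟨a, b, ha, hb, hab, hak, hbc⟩ := Cfsg.Agent.Transfer.exists_pPart_mul (p := 2) g
    have haN := Subgroup.zpowers_le.mpr hgN ha
    have haS : a ∈ (S : Subgroup G) := by
      obtain ⟨j, hj⟩ := hak
      obtain ⟨i, -, hi⟩ := (Nat.dvd_prime_pow Nat.prime_two).mp hj
      have hp : IsPGroup 2 (Subgroup.zpowers a) :=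
        IsPGroup.of_card (n := i) ((Nat.card_zpowers a).trans hi)
      have h1 := hp.to_sup_of_normal_right' S.2 (Subgroup.zpowers_le.mpr haN)
      exact (S.3 h1 le_sup_right).le (Subgroup.mem_sup_left (Subgroup.mem_zpowers a))
    rw [inn_eq_autInducedBy, mem_autInducedBy_iff_cj]
    refine ⟨a, haS, fun x hx => ?_⟩
    rw [hg x hx, cj_apply, cj_apply, ← hab,
      show a * b * x * (a * b)⁻¹ = a * (b * x * b⁻¹) * a⁻¹ by group,
      (hodd b (Subgroup.zpowers_le.mpr hgN hb) hbc x hx).eq, mul_inv_cancel_right]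
  · by_cases h : T = ⊥
    · exact Or.inl h
    refine Or.inr (le_antisymm hT.1 (hsc T hT.1 h fun g x hx hgx => ?_))
    have hm : MapTo (groupFusionSystem (S : Subgroup G)) (Subgroup.zpowers x) (cj g) :=
      mapTo_gfs_cj (Subgroup.zpowers_le.mpr (hT.1 hx)) fun y hy => by
        obtain ⟨k, rfl⟩ := Subgroup.mem_zpowers_iff.mp hy
        rw [← conj_zpow]
        exact Subgroup.zpow_mem _ hgx k
    exact (stronglyClosed_iff.mp hT).2 _ _ (Subgroup.zpowers_le.mpr hx) hm x
      (Subgroup.mem_zpowers x)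

/-- A nontrivial strongly closed subgroup contains a central involution. -/
theorem exists_central_involution {S : Sylow 2 G} {T : Subgroup G} (hTS : T ≤ S) (hT : T ≠ ⊥)
    (hcl : ∀ g : G, ∀ x ∈ T, g * x * g⁻¹ ∈ (S : Subgroup G) → g * x * g⁻¹ ∈ T) :
    ∃ z ∈ T, orderOf z = 2 ∧ ∀ s ∈ (S : Subgroup G), Commute s z := by
  haveI : Fact (Nat.Prime 2) := ⟨Nat.prime_two⟩
  have hn : (S : Subgroup G) ≤ Subgroup.normalizer (T : Set G) := fun s hs =>
    mem_normalizer_of_forall fun y hy =>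
      hcl s y hy (mul_mem (mul_mem hs (hTS hy)) (inv_mem hs))
  have hne := inf_centralizer_ne_bot S.2 hTS hn hT
  set Z := T ⊓ Subgroup.centralizer ((S : Subgroup G) : Set G)
  have hnt := (Subgroup.nontrivial_iff_ne_bot Z).mpr hne
  obtain ⟨k, hk, hcard⟩ := (S.2.to_le (inf_le_left.trans hTS : Z ≤ S)).nontrivial_iff_card.mp hnt
  obtain ⟨z, hz⟩ := exists_prime_orderOf_dvd_card' (G := Z) 2
    (hcard ▸ dvd_pow_self 2 hk.ne')
  exact ⟨z, z.2.1, by rw [Subgroup.orderOf_coe, hz],
    fun s hs => Subgroup.mem_centralizer_iff.mp z.2.2 s hs⟩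

theorem mem_of_isConj {S : Sylow 2 G} {T : Subgroup G}
    (hcl : ∀ g : G, ∀ x ∈ T, g * x * g⁻¹ ∈ (S : Subgroup G) → g * x * g⁻¹ ∈ T) {a b : G}
    (h : IsConj a b) (ha : a ∈ T) (hb : b ∈ (S : Subgroup G)) : b ∈ T := by
  obtain ⟨g, rfl⟩ := _root_.isConj_iff.mp h
  exact hcl g a ha hb

/-- Dihedral Sylow 2-subgroups of order at least 8. -/
theorem isSimple_dihedral {S : Sylow 2 G} (D : DihData (S : Subgroup G))
    (hG : ∀ H : Subgroup G, H.index ≠ 2) :
    (groupFusionSystem (S : Subgroup G)).IsSimple 2 := by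
  refine isSimple_two S (fun h => D.gz_ne_one ?_) (fun T hTS hT hcl => ?_) fun y hy hodd => ?_
  · exact Subgroup.mem_bot.mp (h ▸ D.gz_mem)
  · obtain ⟨z, hzT, hz2, hzc⟩ := exists_central_involution hTS hT hcl
    have hz : D.gz ∈ T := by
      rcases D.involution_cases (hTS hzT) hz2 with rfl | ⟨a, rfl⟩
      · exact hzT
      · exfalso
        have h1 := (hzc _ (D.gr_mem 1)).eq
        rw [D.gr_mul_gs, D.gs_mul_gr, D.gs_eq_iff, D.two_h] at h1
        obtain ⟨c, hc⟩ := h1
        have := D.h_pos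
        obtain ⟨e, he⟩ := D.h_even_int
        rw [he] at hc
        have h2 : (1 : ℤ) = 2 * (-(e * c)) := by linarith
        omega
    have hs : ∀ i, D.gs i ∈ T := fun i =>
      mem_of_isConj hcl (D.fused_of_no_index_two hG i) hz (D.gs_mem i)
    intro g hg
    obtain ⟨a, rfl | rfl⟩ := D.repr_G hg
    · have := mul_mem (hs 0) (hs a)
      rwa [D.gs_mul_gs, sub_zero] at this
    · exact hs a
  · set C := Subgroup.zpowers (D.gr 1)
    have hCS : C ≤ (S : Subgroup G) := Subgroup.zpowers_le.mpr (D.gr_mem 1)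
    have hr : ∀ a : ℤ, D.gr a ∈ C := fun a => by
      rw [show D.gr a = D.gr 1 ^ a by rw [D.gr_zpow, one_mul]]
      exact zpow_mem (Subgroup.mem_zpowers _) a
    obtain ⟨k, hk⟩ := S.2 ⟨D.gr 1, D.gr_mem 1⟩
    have hyC : y ∈ Subgroup.normalizer (C : Set G) := by
      refine mem_normalizer_of_forall fun v hv => ?_
      have hle : C ≤ C.comap (MulAut.conj y).toMonoidHom := by
        rw [Subgroup.zpowers_le]
        show y * D.gr 1 * y⁻¹ ∈ C
        obtain ⟨a, ha | ha⟩ := D.repr_G ((Subgroup.mem_normalizer_iff.mp hy _).mp (D.gr_mem 1))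
        · rw [ha]; exact hr a
        · exfalso
          have h2 : orderOf (y * D.gr 1 * y⁻¹) = 2 := ha ▸ D.orderOf_gs a
          rw [show y * D.gr 1 * y⁻¹ = MulAut.conj y (D.gr 1) from rfl, MulEquiv.orderOf_eq] at h2
          have h3 := Cfsg.Agent.Invol.mul_self_of_orderOf_two h2
          rw [D.gr_mul_gr, D.gr_eq_one_iff] at h3
          have h4 := Int.le_of_dvd (by norm_num) h3
          have := D.two_h
          obtain ⟨e, he⟩ := D.h_even_int
          have := D.h_pos
          omega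
      exact hle hv
    refine commute_of_index_two hCS (D.gs_mem 0) (fun g hg => ?_) hy hodd
      (commute_of_cyclic (congrArg Subtype.val hk) hyC hodd)
    obtain ⟨a, rfl | rfl⟩ := D.repr_G hg
    · exact Or.inl (hr a)
    · exact Or.inr ⟨D.gr (-a), hr _, by rw [D.gr_mul_gs]; simp⟩

/-- Quasi-dihedral Sylow 2-subgroups. -/
theorem isSimple_quasiDihedral {S : Sylow 2 G} (D : QDData (S : Subgroup G))
    (hG : ∀ H : Subgroup G, H.index ≠ 2) :
    (groupFusionSystem (S : Subgroup G)).IsSimple 2 := by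
  obtain ⟨f1, f2⟩ := D.fused_of_no_index_two hG
  have hmeven := D.m_even
  refine isSimple_two S (fun h => ?_) (fun T hTS hT hcl => ?_) fun y hy hodd => ?_
  · have h1 : orderOf D.gz = 1 := orderOf_eq_one_iff.mpr (Subgroup.mem_bot.mp (h ▸ D.gz_mem))
    rw [D.orderOf_gz] at h1
    omega
  · obtain ⟨z, hzT, hz2, hzc⟩ := exists_central_involution hTS hT hcl
    have hz : D.gz ∈ T := by
      rw [← Cfsg.Agent.Invol.QDData.eq_gz_of_central D (hTS hzT) hz2
        (fun s hs => (hzc s hs).symm)]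
      exact hzT
    have h0 : D.gq 0 ∈ T := mem_of_isConj hcl f1 hz (D.gq_mem 0)
    have hev : ∀ i : ℤ, 2 ∣ i → D.gq i ∈ T := fun i hi =>
      mem_of_isConj hcl (D.isConj_gq (by simpa using hi)) h0 (D.gq_mem i)
    have hga : D.ga ∈ T := by
      have h1 := mul_mem (hev _ hmeven) (inv_mem h0)
      have e : D.gq D.m * (D.gq 0)⁻¹ = D.ga := by
        show ((D.x ^ (D.m : ℤ) * D.y : (S : Subgroup G)) : G) *
          (((D.x ^ (0 : ℤ) * D.y : (S : Subgroup G)) : G))⁻¹ = _
        rw [← Subgroup.coe_inv, ← Subgroup.coe_mul, zpow_zero, one_mul, mul_inv_cancel_right]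
        rfl
      rwa [e] at h1
    have h1 : D.gq 1 ∈ T := mem_of_isConj hcl f2 hga (D.gq_mem 1)
    have hle : (⊤ : Subgroup (S : Subgroup G)) ≤ T.subgroupOf (S : Subgroup G) := by
      have hy' : D.y ∈ T.subgroupOf (S : Subgroup G) := by
        have := h0
        simp only [QDData.gq, zpow_zero, one_mul] at this
        exact this
      have hx' : D.x ∈ T.subgroupOf (S : Subgroup G) := by
        have hxy : D.x * D.y ∈ T.subgroupOf (S : Subgroup G) := by
          have := h1
          simp only [QDData.gq, zpow_one] at this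
          exact this
        simpa using mul_mem hxy (inv_mem hy')
      intro g _
      obtain ⟨i, rfl | rfl⟩ := D.repr_cases g
      · exact zpow_mem hx' i
      · exact mul_mem (zpow_mem hx' i) hy'
    exact fun g hg => hle (Subgroup.mem_top ⟨g, hg⟩)
  · set C := Subgroup.zpowers ((D.x : (S : Subgroup G)) : G)
    have hCS : C ≤ (S : Subgroup G) := Subgroup.zpowers_le.mpr D.x.2
    have hr : ∀ a : ℤ, ((D.x ^ a : (S : Subgroup G)) : G) ∈ C := fun a => by
      rw [SubgroupClass.coe_zpow]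
      exact zpow_mem (Subgroup.mem_zpowers _) a
    obtain ⟨k, hk⟩ := S.2 D.x
    have hyC : y ∈ Subgroup.normalizer (C : Set G) := by
      refine mem_normalizer_of_forall fun v hv => ?_
      have hle : C ≤ C.comap (MulAut.conj y).toMonoidHom := by
        rw [Subgroup.zpowers_le]
        show y * (D.x : G) * y⁻¹ ∈ C
        have hmem := (Subgroup.mem_normalizer_iff.mp hy _).mp D.x.2
        have hord : orderOf (⟨_, hmem⟩ : (S : Subgroup G)) = 4 * D.m := by
          rw [← Subgroup.orderOf_coe]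
          show orderOf (MulAut.conj y (D.x : G)) = _
          rw [MulEquiv.orderOf_eq, Subgroup.orderOf_coe, D.ordx]
        obtain ⟨a, ha | ha⟩ := D.repr_cases ⟨_, hmem⟩
        · rw [show y * (D.x : G) * y⁻¹ = _ from congrArg Subtype.val ha]
          exact hr a
        · exfalso
          have := D.m_pos
          rw [ha] at hord
          by_cases h : 2 ∣ a
          · rw [D.orderOf_mul_y_even h] at hord; omega
          · rw [D.orderOf_mul_y_odd h] at hord; omega
      exact hle hv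
    refine commute_of_index_two hCS D.y.2 (fun g hg => ?_) hy hodd
      (commute_of_cyclic (congrArg Subtype.val hk) hyC hodd)
    obtain ⟨i, h | h⟩ := D.repr_cases ⟨g, hg⟩
    · have h' : g = ((D.x ^ i : (S : Subgroup G)) : G) := congrArg Subtype.val h
      exact Or.inl (by rw [h']; exact hr i)
    · exact Or.inr ⟨_, hr i, congrArg Subtype.val h⟩

/-- Wreathed Sylow 2-subgroups. -/
theorem isSimple_wreathed {S : Sylow 2 G} (D : WrData (S : Subgroup G))
    (hG : ∀ H : Subgroup G, H.index ≠ 2) :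
    (groupFusionSystem (S : Subgroup G)).IsSimple 2 := by
  haveI : Fact (Nat.Prime 2) := ⟨Nat.prime_two⟩
  obtain ⟨f1, f2⟩ := D.fused_of_no_index_two hG
  refine isSimple_two S (fun h => D.gw_ne_one (Subgroup.mem_bot.mp (h ▸ D.gw_mem)))
    (fun T hTS hT hcl => ?_) fun y hy hodd => ?_
  · obtain ⟨z, hzT, hz2, hzc⟩ := exists_central_involution hTS hT hcl
    have hw : D.gw ∈ T := by
      rw [← Cfsg.Agent.Invol.WrData.eq_gw_of_central D (hTS hzT) hz2
        (fun s hs => (hzc s hs).symm)]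
      exact hzT
    have he : D.ge ∈ T := mem_of_isConj hcl f1 hw D.ge_mem
    have hf : ∀ a, D.gf a ∈ T := fun a =>
      mem_of_isConj hcl ((D.isConj_ge_gf f2).trans (D.isConj_gf 0 a)) he (D.gf_mem a)
    have hz : D.gz ∈ T := D.gf_zero ▸ hf 0
    have hanti : ∀ a, D.gu a (-a) ∈ T := fun a => by
      have := mul_mem (hf a) (inv_mem hz)
      rwa [WrData.gf, mul_inv_cancel_right] at this
    -- an element of order three on the base
    obtain ⟨-, h6, hmove⟩ := D.gbase_automiser
    obtain ⟨n, hn, hne⟩ := hmove (h6.mpr f1) D.gw D.ge (Or.inl rfl) (Or.inr (Or.inl rfl))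
    have hn2 : n ^ 2 ∈ Subgroup.normalizer (D.gbase : Set G) := pow_mem hn 2
    set m := n ^ 2
    have hm : ∀ a, m * D.gu a (-a) * m⁻¹ ∈ T := fun a =>
      hcl m _ (hanti a) (D.gbase_le ((Subgroup.mem_normalizer_iff.mp hn2 _).mp (D.gu_mem_base _ _)))
    obtain ⟨a, b, hab⟩ := D.mem_gbase_iff.mp
      ((Subgroup.mem_normalizer_iff.mp hn2 _).mp (D.gu_mem_base 1 (-1)))
    have hsum : D.gu (a + b) 0 ∈ T := by
      have h1 := mul_mem (hab ▸ hm 1) (hanti b)
      rwa [D.gu_mul, add_neg_cancel] at h1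
    have hodd' : ¬ 2 ∣ a + b := by
      rintro ⟨c, hc⟩
      have h1 : m * D.gu D.h (-D.h) * m⁻¹ = D.ge := by
        rw [← hne]
        congr 2
        rw [WrData.gw, D.gu_eq_iff]
        exact ⟨by simp, ⟨-1, by ring⟩⟩
      have h2 : D.gu D.h (-D.h) = D.gu 1 (-1) ^ (D.h : ℤ) := by
        rw [D.gu_zpow]; congr 1 <;> ring
      rw [h2, ← conj_zpow, hab, D.gu_zpow, WrData.ge, D.gu_eq_iff] at h1
      obtain ⟨⟨u, hu⟩, ⟨v, hv⟩⟩ := h1
      have hh := D.h_pos
      have : (D.h : ℤ) * (a + b - 1) = (D.h : ℤ) * (2 * (u + v)) := by linarith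
      have := mul_left_cancel₀ (by omega) this
      omega
    have h10 : D.gu 1 0 ∈ T := by
      have hcop : IsCoprime (a + b) (2 * (D.h : ℤ)) := by
        have h2 : IsCoprime (a + b) 2 := by
          rcases Int.even_or_odd (a + b) with h | ⟨c, hc⟩
          · exact absurd (even_iff_two_dvd.mp h) hodd'
          · exact ⟨1, -c, by rw [hc]; ring⟩
        have h2h : (2 * (D.h : ℤ)) = 2 ^ D.n := by exact_mod_cast D.two_h
        rw [h2h]
        exact h2.pow_right
      obtain ⟨r, s, hrs⟩ := hcop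
      have h3 := zpow_mem hsum r
      rw [D.gu_zpow, zero_mul] at h3
      have h4 : D.gu ((a + b) * r) 0 = D.gu 1 0 := by
        rw [D.gu_eq_iff]
        exact ⟨⟨-s, by linarith⟩, by simp⟩
      rwa [h4] at h3
    have h01 : D.gu 0 1 ∈ T := by
      have := mul_mem (mul_mem hz h10) (inv_mem hz)
      rwa [D.gz_conj_gu] at this
    have hb : ∀ c d, D.gu c d ∈ T := fun c d => by
      have := mul_mem (zpow_mem h10 c) (zpow_mem h01 d)
      rwa [D.gu_zpow, D.gu_zpow, D.gu_mul, one_mul, one_mul, zero_mul, zero_mul, add_zero,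
        zero_add] at this
    intro g hg
    obtain ⟨c, d, rfl | rfl⟩ := D.repr_G hg
    · exact hb c d
    · exact mul_mem (hb c d) hz
  · have hyB : y ∈ Subgroup.normalizer (D.gbase : Set G) := by
      refine Cfsg.Agent.Invol.mem_normalizer_of_map_eq (D.eq_gbase ?_ ?_ ?_)
      · rintro _ ⟨v, hv, rfl⟩
        exact (Subgroup.mem_normalizer_iff.mp hy v).mp (D.gbase_le hv)
      · rintro _ ⟨v, hv, rfl⟩ _ ⟨w, hw, rfl⟩
        exact (D.gbase_comm hv hw).map (MulAut.conj y).toMonoidHom
      · rw [card_map_conj, D.card_gbase]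
    have hw : y * D.gw * y⁻¹ = D.gw := by
      refine Cfsg.Agent.Invol.WrData.eq_gw_of_central D
        ((Subgroup.mem_normalizer_iff.mp hy _).mp D.gw_mem) ?_ fun s hs => ?_
      · rw [show y * D.gw * y⁻¹ = MulAut.conj y D.gw from rfl, MulEquiv.orderOf_eq, D.orderOf_gw]
      · have h1 : y⁻¹ * s * y ∈ (S : Subgroup G) := by
          simpa using (Subgroup.mem_normalizer_iff.mp (inv_mem hy) s).mp hs
        have h2 := (D.gw_commute h1).map (MulAut.conj y).toMonoidHom
        simpa [mul_assoc] using h2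
    have hyy : ∀ v ∈ D.gbase, Commute y v := by
      rcases D.normalizer_cases hyB hw with h | h
      · exact fun v hv => mul_inv_eq_iff_eq_mul.mp (h v hv)
      · intro v hv
        -- an involutory action of an element of odd order is trivial
        have h2 : ∀ v ∈ D.gbase, y ^ 2 * v * (y ^ 2)⁻¹ = v := by
          intro v hv
          have hv' := (Subgroup.mem_normalizer_iff.mp hyB v).mp hv
          rw [sq, mul_inv_rev, show y * y * v * (y⁻¹ * y⁻¹) = y * (y * v * y⁻¹) * y⁻¹ by group,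
            h _ hv', h v hv]
          have hz2 : D.gz * D.gz = 1 := congrArg Subtype.val D.z_sq
          rw [inv_eq_of_mul_eq_one_right hz2]
          calc D.gz * (D.gz * v * D.gz) * D.gz = D.gz * D.gz * v * (D.gz * D.gz) := by group
            _ = v := by rw [hz2, one_mul, mul_one]
        have hc2 : Commute (y ^ 2) v := mul_inv_eq_iff_eq_mul.mp (h2 v hv)
        obtain ⟨j, hj⟩ := exists_pow_eq_self_of_coprime (x := y) (n := 2) hodd.symm
        rw [← hj]
        exact hc2.pow_left j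
    refine commute_of_index_two D.gbase_le D.gz_mem (fun g hg => ?_) hy hodd hyy
    obtain ⟨c, d, rfl | rfl⟩ := D.repr_G hg
    · exact Or.inl (D.gu_mem_base c d)
    · exact Or.inr ⟨_, D.gu_mem_base c d, rfl⟩

end Cfsg.Agent.Fusion
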