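import Cfsg.Agent.Lib.Fusion.RankTwoPrelim
import Cfsg.Agent.Lib.Fusion.NormalCriteria
import Cfsg.Agent.Lib.Fusion.Generation

/-!
For `p ≥ 5`, elementary abelian essential subgroups of order `p ^ 2` in rank two.
-/

set_option autoImplicit false
set_option linter.style.haveILetI false

namespace Cfsg.Agent.Fusion

open Cfsg.FusionSystem (centralizerIn normalizerIn)

universe u

variable {p : ℕ} [hp : Fact p.Prime]
variable {Ω : Type u} [Group Ω] {S : Subgroup Ω} [Finite S] {F : FusionSystem S} {P : Subgroup Ω}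

/-- Coordinates for `N_S(P)` when `P` is essential of order `p ^ 2`. -/
structure SqData (p : ℕ) (F : FusionSystem S) (P : Subgroup Ω) (x y k : Ω) : Prop where
  hx : x ∈ P
  hy : y ∈ P
  hk : k ∈ normalizerIn S P
  hkP : k ∉ P
  hx1 : x ≠ 1
  hxp : x ^ p = 1
  hyp : y ^ p = 1
  hkp : k ^ p = 1
  hyx : y ∉ Subgroup.zpowers x
  hxy : Commute x y
  hkx : Commute k x
  hky : k * y * k⁻¹ = x * y
  hP : ∀ v ∈ P, ∃ i j : ℕ, v = x ^ i * y ^ j
  hN : ∀ v ∈ normalizerIn S P, ∃ i j l : ℕ, v = x ^ i * y ^ j * k ^ l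
  hQ : Nat.card (normalizerIn S P) = p ^ 3
  htor : ∃ (f : Ω → Ω) (a b c : ℕ), (a : ZMod p) * b = 1 ∧ (a : ZMod p) ^ 2 ≠ 1 ∧
    (a : ZMod p) ^ 3 ≠ 1 ∧ MapTo F (normalizerIn S P) f ∧
    img f (normalizerIn S P) = normalizerIn S P ∧ f x = x ^ a ∧ f y = y ^ b ∧
    f k = x ^ c * k ^ (a * a)

theorem exists_sqData (hS : IsPGroup p S) (hF : F.IsSaturated p) (hp5 : 5 ≤ p)
    (hP : F.IsEssential p P) (hcard : Nat.card P = p ^ 2) (hexp : ∀ v ∈ P, v ^ p = 1) :
    ∃ x y k : Ω, SqData p F P x y k := by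
  have hPS := hP.1.1
  haveI := finite_of_le hPS
  haveI := finite_mulAut P
  have hVc : IsMulCommutative P := IsPGroup.isMulCommutative_of_card_eq_prime_sq hcard
  have hVe : ∀ v : P, v ^ p = 1 := fun v => Subtype.ext (hexp v v.2)
  let ρ : F.autGroup P →* MulAut P := (F.autGroup P).subtype
  have hker : IsPGroup p ρ.ker := fun a => ⟨0, by
    rw [pow_zero, pow_one]
    exact Subtype.ext (Subtype.ext a.2)⟩
  have hC := centralizerIn_le_of_isCentric hP.1
  -- an element of the normalizer acting as a shift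
  have hPne : ¬ S ≤ P := fun h => by
    have hlt : P < S := ne_top_of_isEssential hS hF hP
    exact hlt.not_ge h
  obtain ⟨k₀, hk₀, hk₀P, hk₀N⟩ := exists_mem_normalizer_not_mem hS hPS le_rfl
    (hPS.trans Subgroup.le_normalizer) hPne
  obtain ⟨γ, hγ⟩ := exists_conjAut hk₀N.2
  have hγS : γ ∈ autInducedBy S P := mem_autInducedBy_iff_cj.mpr ⟨k₀, hk₀, hγ⟩
  obtain ⟨e, he⟩ := isPGroup_autInducedBy hS P ⟨γ, hγS⟩
  have hγe : γ ^ p ^ e = 1 := congrArg Subtype.val he
  let a : F.autGroup P := ⟨γ, autInducedBy_le_autGroup hPS hγS⟩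
  have hap : ρ a ^ p = 1 := pow_eq_one_of_pPow hVc hVe hcard hγe
  have hinn : ∀ b ∈ Inn P, b = 1 := by
    rintro _ ⟨g, rfl⟩
    refine MulEquiv.ext fun h => Subtype.ext ?_
    show ((g * h * g⁻¹ : P) : Ω) = h
    rw [hVc.is_comm.comm g h, mul_inv_cancel_right]
  have ha : ρ a ≠ 1 := fun h => hk₀P (mem_of_cj_mem_inn hC hk₀ hγ
    (show γ ∈ Inn P by rw [show γ = 1 from h]; exact Subgroup.one_mem _) hPS)
  obtain ⟨xs, ys, u, l, hxs, hys, hua, -, hux, huy, hly, hlx⟩ :=
    exists_frame_pair hVc hVe hcard hS hP ρ hker hap ha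
  have huS : (u : MulAut P) ∈ autInducedBy S P := by
    obtain ⟨i, rfl⟩ := Subgroup.mem_zpowers_iff.mp hua
    rw [SubgroupClass.coe_zpow]
    exact Subgroup.zpow_mem _ hγS i
  obtain ⟨k, hkS, hk⟩ := mem_autInducedBy_iff_cj.mp huS
  set x : Ω := (xs : Ω) with hxdef
  set y : Ω := (ys : Ω) with hydef
  have hxP : x ∈ P := xs.2
  have hyP : y ∈ P := ys.2
  have hkx : Commute k x := by
    have h := hk x hxP
    rw [autFun_coe, show (u : MulAut P) xs = xs from hux, cj_apply] at h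
    exact (mul_inv_eq_iff_eq_mul.mp h.symm)
  have hky : k * y * k⁻¹ = x * y := by
    have h := hk y hyP
    rw [autFun_coe, show (u : MulAut P) ys = xs * ys from huy, cj_apply] at h
    exact h.symm
  have hkN : k ∈ normalizerIn S P := mem_normalizerIn_of_forall hPS hkS fun v hv => by
    rw [show k * v * k⁻¹ = cj k v from rfl, ← hk v hv]
    exact autFun_mem _ hv
  have hx1 : x ≠ 1 := fun h => hxs (Subtype.ext h)
  have hyx : y ∉ Subgroup.zpowers x := by
    intro h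
    apply hys
    obtain ⟨i, hi⟩ := Subgroup.mem_zpowers_iff.mp h
    exact Subgroup.mem_zpowers_iff.mpr ⟨i, Subtype.ext (by rw [SubgroupClass.coe_zpow]; exact hi)⟩
  have hkP : k ∉ P := by
    intro h
    have h1 : x * y = 1 * y := by
      rw [← hky, one_mul, show k * y = y * k from congrArg Subtype.val
        (hVc.is_comm.comm (⟨k, h⟩ : P) ys), mul_inv_cancel_right]
    exact hx1 (mul_right_cancel h1)
  have hxy : Commute x y := congrArg Subtype.val (hVc.is_comm.comm xs ys)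
  have hxp := hexp x hxP
  have hyp := hexp y hyP
  have hxo : orderOf x = p := orderOf_eq_prime hxp hx1
  have hPgen : ∀ v ∈ P, ∃ i j : ℕ, v = x ^ i * y ^ j := by
    intro v hv
    refine exists_pow_mul_pow hxp hyp hxy ?_
    have hle : Subgroup.zpowers x ⊔ Subgroup.zpowers y ≤ P :=
      sup_le (Subgroup.zpowers_le.mpr hxP) (Subgroup.zpowers_le.mpr hyP)
    haveI := finite_of_le (hle.trans hPS)
    obtain ⟨m, hm, he⟩ := (Nat.dvd_prime_pow hp.out).mp (hcard ▸ Subgroup.card_dvd_of_le hle)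
    have h1 : p < p ^ m := by
      rw [← he]
      refine lt_of_eq_of_lt ((Nat.card_zpowers _).trans hxo).symm ?_
      refine lt_of_le_of_ne (Subgroup.card_le_of_le le_sup_left) fun h => hyx ?_
      exact (Subgroup.eq_of_le_of_card_ge le_sup_left h.ge).ge
        (Subgroup.mem_sup_right (Subgroup.mem_zpowers _))
    have h2 : 1 < m := (Nat.pow_lt_pow_iff_right hp.out.one_lt).mp (by rwa [pow_one])
    exact (Subgroup.eq_of_le_of_card_ge hle (by rw [he, hcard, show m = 2 by omega])).ge hv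
  have hconj : ∀ n : ℕ, k ^ n * y * (k ^ n)⁻¹ = x ^ n * y := by
    intro n
    induction n with
    | zero => simp
    | succ n ih =>
      rw [pow_succ' k, show k * k ^ n * y * (k * k ^ n)⁻¹ = k * (k ^ n * y * (k ^ n)⁻¹) * k⁻¹ by group,
        ih, ← mul_assoc, (hkx.pow_right n).eq, mul_assoc (x ^ n), mul_assoc (x ^ n), hky,
        ← mul_assoc, ← pow_succ]
  -- every element normalizing `P` is a product of powers
  have hN : ∀ v ∈ normalizerIn S P, ∃ i j l : ℕ, v = x ^ i * y ^ j * k ^ l := by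
    intro v hv
    obtain ⟨β, hβ⟩ := exists_conjAut hv.2
    have hC2 : IsPGroup p (autInducedBy S P) := isPGroup_autInducedBy hS P
    haveI : Nontrivial P := Finite.one_lt_card_iff_nontrivial.mp (by
      rw [hcard]; exact Nat.one_lt_pow two_ne_zero hp.out.one_lt)
    obtain ⟨z, hz, hfix⟩ := exists_fixed_of_pGroup (IsPGroup.of_card hcard) hC2
    obtain ⟨i, j, hzij⟩ := hPgen z z.2
    have hj : p ∣ j := by
      have h1 : (u : MulAut P) z = z := hfix _ huS
      have h2 : autFun (u : MulAut P) (z : Ω) = z := by rw [autFun_coe, h1]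
      rw [hk _ z.2, cj_apply, hzij, show k * (x ^ i * y ^ j) * k⁻¹ =
        (k * x ^ i * k⁻¹) * (k * y * k⁻¹) ^ j by rw [conj_pow]; group, hky,
        (hkx.pow_right i).eq, mul_inv_cancel_right, hxy.mul_pow] at h2
      have h3 := mul_left_cancel h2
      rw [mul_eq_right] at h3
      exact hxo ▸ orderOf_dvd_of_pow_eq_one h3
    have hβx : β xs = xs := by
      have h1 : β z = z := hfix β (mem_autInducedBy_iff_cj.mpr ⟨v, hv.1, hβ⟩)
      obtain ⟨j, rfl⟩ := hj
      have h2 : z = xs ^ i := Subtype.ext (by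
        rw [hzij, pow_mul, hyp, one_pow, mul_one]; rfl)
      rw [h2, map_pow] at h1
      have hi : Nat.Coprime i (orderOf xs) := by
        rw [orderOf_eq_prime (hVe xs) hxs]
        refine ((hp.out.coprime_iff_not_dvd).mpr fun hd => hz ?_).symm
        obtain ⟨i, rfl⟩ := hd
        rw [h2, pow_mul, hVe, one_pow]
      obtain ⟨m, hm⟩ := exists_pow_eq_self_of_coprime hi
      rw [← hm, map_pow, map_pow, h1]
    obtain ⟨e', he'⟩ := hC2 ⟨β, mem_autInducedBy_iff_cj.mpr ⟨v, hv.1, hβ⟩⟩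
    have hβp : β ^ p = 1 := pow_eq_one_of_pPow hVc hVe hcard (congrArg Subtype.val he')
    obtain ⟨s, hs⟩ : ∃ s : ℕ, autFun β y = x ^ s * y := by
      by_cases hb : β = 1
      · exact ⟨0, by rw [hb, autFun_one hyP, pow_zero, one_mul]⟩
      · obtain ⟨s, -, hs⟩ := exists_shift hVc hVe hcard hβp hb hxs hβx hys
        exact ⟨s, by rw [autFun_coe, hs]; rfl⟩
    have hvx : v * x * v⁻¹ = x := by
      rw [show v * x * v⁻¹ = autFun β x from (hβ x hxP).symm, autFun_coe, hβx]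
    have hvy : v * y * v⁻¹ = x ^ s * y := (hβ y hyP).symm.trans hs
    have hmem : v * (k ^ s)⁻¹ ∈ centralizerIn S P := by
      have hks : (k ^ s)⁻¹ * x * k ^ s = x := by
        rw [mul_assoc, ((hkx.pow_left s).symm).eq, inv_mul_cancel_left]
      refine mem_centralizerIn.mpr ⟨S.mul_mem hv.1 (S.inv_mem (S.pow_mem hkS s)), fun w hw => ?_⟩
      obtain ⟨i, j, rfl⟩ := hPgen w hw
      have e1 : Commute (v * (k ^ s)⁻¹) x := by
        refine mul_inv_eq_iff_eq_mul.mp ?_
        rw [show v * (k ^ s)⁻¹ * x * (v * (k ^ s)⁻¹)⁻¹ = v * ((k ^ s)⁻¹ * x * k ^ s) * v⁻¹ by group,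
          hks, hvx]
      have e2 : Commute (v * (k ^ s)⁻¹) y := by
        refine mul_inv_eq_iff_eq_mul.mp ?_
        have hksy : (k ^ s)⁻¹ * y * k ^ s = (x ^ s)⁻¹ * y := by
          rw [eq_inv_mul_iff_mul_eq, show x ^ s * ((k ^ s)⁻¹ * y * k ^ s) =
            (x ^ s * (k ^ s)⁻¹) * y * k ^ s by group,
            ((hkx.symm.pow_pow s s).inv_right).eq,
            show (k ^ s)⁻¹ * x ^ s * y * k ^ s = (k ^ s)⁻¹ * (x ^ s * y) * k ^ s by group,
            ← hconj s]
          group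
        rw [show v * (k ^ s)⁻¹ * y * (v * (k ^ s)⁻¹)⁻¹ = v * ((k ^ s)⁻¹ * y * k ^ s) * v⁻¹ by group,
          hksy, show v * ((x ^ s)⁻¹ * y) * v⁻¹ = ((v * x * v⁻¹) ^ s)⁻¹ * (v * y * v⁻¹) by
            rw [conj_pow]; group, hvx, hvy, inv_mul_cancel_left]
      exact ((e1.pow_right i).mul_right (e2.pow_right j)).symm
    obtain ⟨i, j, hij⟩ := hPgen _ (hC hmem)
    exact ⟨i, j, s, by rw [← hij, inv_mul_cancel_right]⟩
  -- the `p`-th power of `k`
  have hkpP : k ^ p ∈ P := hC (mem_centralizerIn.mpr ⟨S.pow_mem hkS p, fun w hw => by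
    obtain ⟨i, j, rfl⟩ := hPgen w hw
    have e2 : Commute (k ^ p) y := mul_inv_eq_iff_eq_mul.mp (by rw [hconj, hxp, one_mul])
    exact (((hkx.pow_left p).pow_right i).mul_right (e2.pow_right j)).symm⟩)
  obtain ⟨q, hq⟩ : ∃ q : ℕ, k ^ p = x ^ q := by
    obtain ⟨i, j, hij⟩ := hPgen _ hkpP
    have h1 : k * k ^ p * k⁻¹ = k ^ p := by rw [(Commute.self_pow k p).eq, mul_inv_cancel_right]
    rw [hij, show k * (x ^ i * y ^ j) * k⁻¹ = (k * x ^ i * k⁻¹) * (k * y * k⁻¹) ^ j by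
      rw [conj_pow]; group, hky, (hkx.pow_right i).eq, mul_inv_cancel_right, hxy.mul_pow] at h1
    have h3 := mul_left_cancel h1
    rw [mul_eq_right] at h3
    obtain ⟨t, rfl⟩ := hxo ▸ orderOf_dvd_of_pow_eq_one h3
    exact ⟨i, by rw [hij, pow_mul, hyp, one_pow, mul_one]⟩
  have hmodx : ∀ {i j : ℕ}, (i : ZMod p) = j → x ^ i = x ^ j := fun {i j} h =>
    pow_eq_pow_iff_modEq.mpr (hxo ▸ (ZMod.natCast_eq_natCast_iff _ _ _).mp h)
  have hmody : ∀ {i j : ℕ}, (i : ZMod p) = j → y ^ i = y ^ j := fun {i j} h =>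
    pow_eq_pow_iff_modEq.mpr (Nat.ModEq.of_dvd (orderOf_dvd_of_pow_eq_one hyp)
      ((ZMod.natCast_eq_natCast_iff _ _ _).mp h))
  -- torus maps
  have htor : ∀ a b : ℕ, a * b ≡ 1 [MOD p] → ∃ (f : Ω → Ω) (c d : ℕ),
      MapTo F (normalizerIn S P) f ∧ img f (normalizerIn S P) = normalizerIn S P ∧ f x = x ^ a ∧
      f y = y ^ b ∧ f k = x ^ c * y ^ d * k ^ (a * a) := by
    intro a b hab
    obtain ⟨t, htA, htx, hty⟩ := exists_frame_torus hVc hVe (A := F.autGroup P) u.2 l.2 hux huy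
      hly hlx hab
    have hab' : (a : ZMod p) * b = 1 := by
      have := (ZMod.natCast_eq_natCast_iff _ _ _).mpr hab
      push_cast at this
      exact this
    have htx' : autFun t x = x ^ a := by rw [autFun_coe, htx]; rfl
    have hty' : autFun t y = y ^ b := by rw [autFun_coe, hty]; rfl
    have hmt := mapTo_of_mem_autGroup hPS htA
    have hkc : ∀ v ∈ P, autFun t (k * v * k⁻¹) = k ^ (a * a) * autFun t v * (k ^ (a * a))⁻¹ := by
      intro v hv
      obtain ⟨i, j, rfl⟩ := hPgen v hv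
      rw [show k * (x ^ i * y ^ j) * k⁻¹ = (k * x ^ i * k⁻¹) * (k * y * k⁻¹) ^ j by
        rw [conj_pow]; group, hky, (hkx.pow_right i).eq, mul_inv_cancel_right, hxy.mul_pow]
      rw [hmt.map_mul (P.pow_mem hxP i) (P.mul_mem (P.pow_mem hxP j) (P.pow_mem hyP j)),
        hmt.map_mul (P.pow_mem hxP j) (P.pow_mem hyP j), hmt.map_mul (P.pow_mem hxP i) (P.pow_mem hyP j)]
      have hpw : ∀ (w : Ω) (n : ℕ), w ∈ P → autFun t (w ^ n) = (autFun t w) ^ n := fun w n hw => by
        rw [autFun_apply _ (P.pow_mem hw n), autFun_apply _ hw, ← SubgroupClass.coe_pow, ← map_pow]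
        rfl
      rw [hpw x i hxP, hpw x j hxP, hpw y j hyP, htx', hty', ← pow_mul, ← pow_mul, ← pow_mul]
      have hkk : ∀ n, Commute (k ^ (a * a)) (x ^ n) := fun n => (hkx.pow_left _).pow_right n
      rw [show k ^ (a * a) * (x ^ (a * i) * y ^ (b * j)) * (k ^ (a * a))⁻¹ =
        (k ^ (a * a) * x ^ (a * i) * (k ^ (a * a))⁻¹) * (k ^ (a * a) * y * (k ^ (a * a))⁻¹) ^ (b * j)
          by rw [conj_pow]; group, (hkk _).eq, mul_inv_cancel_right, hconj,
        (hxy.pow_left _).mul_pow, ← pow_mul]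
      congr 2
      refine hmodx ?_
      push_cast
      linear_combination (-(a : ZMod p) * j) * hab'
    obtain ⟨f, hf, hft, hfk⟩ := exists_extension_zpowers hS hF hP.1 hmt (img_autFun t) hkN
      (S.pow_mem hkS (a * a)) hkc
    obtain ⟨c, d, hcd⟩ := hPgen _ (hC hfk)
    have hkk : ∀ n, Commute (k ^ (a * a)) (x ^ n) := fun n => (hkx.pow_left _).pow_right n
    have hQle : normalizerIn S P ≤ P ⊔ Subgroup.zpowers k := fun v hv => by
      obtain ⟨i, j, l, rfl⟩ := hN v hv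
      exact Subgroup.mul_mem _ (Subgroup.mem_sup_left (P.mul_mem (P.pow_mem hxP i) (P.pow_mem hyP j)))
        (Subgroup.mem_sup_right (Subgroup.pow_mem _ (Subgroup.mem_zpowers k) l))
    have hf' := hf.restrict hQle
    have hfkN : f k ∈ normalizerIn S P := by
      rw [show f k = k ^ (a * a) * ((k ^ (a * a))⁻¹ * f k) by group, hcd]
      exact Subgroup.mul_mem _ (Subgroup.pow_mem _ hkN _)
        (le_normalizerIn hPS (P.mul_mem (P.pow_mem hxP _) (P.pow_mem hyP _)))
    refine ⟨f, c + a * a * d, d, hf', ?_, by rw [hft x hxP, htx'], by rw [hft y hyP, hty'], ?_⟩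
    · haveI := finite_of_le (normalizerIn_le : normalizerIn S P ≤ S)
      refine img_eq_self_of_forall hf' fun v hv => ?_
      obtain ⟨i, j, l, rfl⟩ := hN v hv
      have hfkl : ∀ n : ℕ, f (k ^ n) = f k ^ n := by
        intro n
        induction n with
        | zero => rw [pow_zero, pow_zero, hf'.map_one]
        | succ n ih => rw [pow_succ, pow_succ, hf'.map_mul (Subgroup.pow_mem _ hkN n) hkN, ih]
      have hij : x ^ i * y ^ j ∈ P := P.mul_mem (P.pow_mem hxP i) (P.pow_mem hyP j)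
      rw [hf'.map_mul (le_normalizerIn hPS hij) (Subgroup.pow_mem _ hkN l), hfkl, hft _ hij]
      exact Subgroup.mul_mem _ (le_normalizerIn hPS (autFun_mem t hij)) (Subgroup.pow_mem _ hfkN l)
    · rw [show f k = k ^ (a * a) * ((k ^ (a * a))⁻¹ * f k) by group, hcd,
        show k ^ (a * a) * (x ^ c * y ^ d) =
          (k ^ (a * a) * x ^ c * (k ^ (a * a))⁻¹) * (k ^ (a * a) * y * (k ^ (a * a))⁻¹) ^ d *
            k ^ (a * a) by rw [conj_pow]; group,
        (hkk _).eq, mul_inv_cancel_right, hconj, (hxy.pow_left _).mul_pow, ← pow_mul, ← mul_assoc,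
        ← pow_add]
  -- `k` has order `p`
  have hmul : ∀ (i j l : ℕ), (x ^ i * y ^ j * k ^ l) ^ p = k ^ (l * p) := by
    intro i j l
    have hrel : k ^ l * (x ^ i * y ^ j) = x ^ i * y ^ j * k ^ l * x ^ (l * j) := by
      rw [show k ^ l * (x ^ i * y ^ j) = (k ^ l * x ^ i * (k ^ l)⁻¹) * (k ^ l * y * (k ^ l)⁻¹) ^ j *
        k ^ l by rw [conj_pow]; group, ((hkx.pow_left l).pow_right i).eq, mul_inv_cancel_right,
        hconj, (hxy.pow_left l).mul_pow, ← pow_mul, mul_assoc _ (k ^ l) (x ^ (l * j)),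
        ((hkx.pow_left l).pow_right (l * j)).eq]
      simp only [← mul_assoc]
      rw [mul_assoc (x ^ i) (y ^ j) (x ^ (l * j)), (hxy.symm.pow_pow j (l * j)).eq, ← mul_assoc]
    rw [Coprime23.mul_pow_of_central hrel ((hkx.symm.pow_pow (l * j) l))
      (((Commute.refl x).pow_pow (l * j) i).mul_right (hxy.pow_pow (l * j) j)) p,
      (hxy.pow_pow i j).mul_pow, ← pow_mul, ← pow_mul, ← pow_mul, mul_comm i p, mul_comm j p,
      pow_mul x p i, pow_mul y p j, hxp, hyp, one_pow, one_pow, one_mul, one_mul, ← pow_mul]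
    obtain ⟨r, hr⟩ : 2 ∣ p - 1 := (Nat.Prime.even_sub_one hp.out (by omega)).two_dvd
    rw [hr, show p * (2 * r) / 2 = p * r by rw [mul_left_comm, Nat.mul_div_cancel_left _ two_pos],
      show l * j * (p * r) = p * (l * j * r) by ring, pow_mul x p, hxp, one_pow, mul_one]
  have hkp : k ^ p = 1 := by
    obtain ⟨b, hb⟩ : ∃ b, 2 * b ≡ 1 [MOD p] := by
      refine ⟨((2 : ZMod p)⁻¹).val, ?_⟩
      rw [← ZMod.natCast_eq_natCast_iff]
      push_cast
      rw [ZMod.natCast_zmod_val, mul_inv_cancel₀]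
      intro h
      have := (ZMod.natCast_eq_zero_iff 2 p).mp (by exact_mod_cast h)
      have := Nat.le_of_dvd two_pos this
      omega
    obtain ⟨f, c, d, hf, -, hfx, -, hfk⟩ := htor 2 b hb
    have hpow : ∀ (w : Ω), w ∈ normalizerIn S P → ∀ n : ℕ, f (w ^ n) = f w ^ n := by
      intro w hw n
      induction n with
      | zero => rw [pow_zero, pow_zero, hf.map_one]
      | succ n ih => rw [pow_succ, pow_succ, hf.map_mul (Subgroup.pow_mem _ hw n) hw, ih]
    have h1 : f (k ^ p) = f (x ^ q) := by rw [hq]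
    rw [hpow k hkN, hfk, hmul, hpow x (le_normalizerIn hPS hxP), hfx, mul_comm _ p, pow_mul, hq,
      ← pow_mul, ← pow_mul] at h1
    have h2 := pow_eq_pow_iff_modEq.mp h1
    rw [hxo, ← ZMod.natCast_eq_natCast_iff] at h2
    push_cast at h2
    have h3 : (q : ZMod p) * 2 = 0 := by linear_combination h2
    rcases mul_eq_zero.mp h3 with h4 | h4
    · obtain ⟨t, rfl⟩ := (ZMod.natCast_eq_zero_iff q p).mp h4
      rw [hq, pow_mul, hxp, one_pow]
    · exfalso
      have := (ZMod.natCast_eq_zero_iff 2 p).mp (by exact_mod_cast h4)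
      have := Nat.le_of_dvd two_pos this
      omega
  have hmodk : ∀ {i j : ℕ}, (i : ZMod p) = j → k ^ i = k ^ j := fun {i j} h =>
    pow_eq_pow_iff_modEq.mpr (Nat.ModEq.of_dvd (orderOf_dvd_of_pow_eq_one hkp)
      ((ZMod.natCast_eq_natCast_iff _ _ _).mp h))
  have hQ : Nat.card (normalizerIn S P) = p ^ 3 := by
    haveI := finite_of_le (normalizerIn_le : normalizerIn S P ≤ S)
    have hlt : p ^ 2 < Nat.card (normalizerIn S P) := by
      refine hcard ▸ lt_of_le_of_ne (Subgroup.card_le_of_le (le_normalizerIn hPS)) fun h => hkP ?_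
      exact (Subgroup.eq_of_le_of_card_ge (le_normalizerIn hPS) h.ge).ge hkN
    have hle : Nat.card (normalizerIn S P) ≤ p ^ 3 := by
      let φ : Fin p × Fin p × Fin p → normalizerIn S P := fun v =>
        ⟨x ^ (v.1 : ℕ) * y ^ (v.2.1 : ℕ) * k ^ (v.2.2 : ℕ), Subgroup.mul_mem _
          (le_normalizerIn hPS (P.mul_mem (P.pow_mem hxP _) (P.pow_mem hyP _)))
          (Subgroup.pow_mem _ hkN _)⟩
      have hφ : Function.Surjective φ := fun v => by
        obtain ⟨i, j, l, h⟩ := hN v v.2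
        refine ⟨(⟨i % p, Nat.mod_lt _ hp.out.pos⟩, ⟨j % p, Nat.mod_lt _ hp.out.pos⟩,
          ⟨l % p, Nat.mod_lt _ hp.out.pos⟩), Subtype.ext ?_⟩
        show x ^ (i % p) * y ^ (j % p) * k ^ (l % p) = v
        rw [h, ← pow_eq_pow_mod _ hxp, ← pow_eq_pow_mod _ hyp, ← pow_eq_pow_mod _ hkp]
      refine (Nat.card_le_card_of_surjective φ hφ).trans ?_
      rw [Nat.card_prod, Nat.card_prod, Nat.card_fin]
      exact (by ring : p * (p * p) = p ^ 3).le
    obtain ⟨n, hn⟩ := (hS.to_le (normalizerIn_le : normalizerIn S P ≤ S)).exists_card_eq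
    rw [hn] at hlt hle ⊢
    have := (Nat.pow_lt_pow_iff_right hp.out.one_lt).mp hlt
    have := (Nat.pow_le_pow_iff_right hp.out.one_lt).mp hle
    rw [show n = 3 by omega]
  -- replace `k` by an eigenvector of a torus
  obtain ⟨b₀, a₀, hb₀, hne, hn2, hn3, hab₀⟩ : ∃ b₀ a₀ : ℕ, (a₀ : ZMod p) * b₀ = 1 ∧
      (a₀ : ZMod p) * a₀ - b₀ ≠ 0 ∧ (a₀ : ZMod p) ^ 2 ≠ 1 ∧ (a₀ : ZMod p) ^ 3 ≠ 1 ∧
      a₀ * b₀ ≡ 1 [MOD p] := by
    obtain ⟨n, hn1, hn2, hn3⟩ : ∃ n : ℕ, (n : ZMod p) ≠ 0 ∧ (n : ZMod p) ^ 2 ≠ 1 ∧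
        (n : ZMod p) ^ 3 ≠ 1 := by
      have hsmall : ∀ m : ℕ, 0 < m → (m : ZMod p) = 0 → p ≤ m := fun m hm h =>
        Nat.le_of_dvd hm ((ZMod.natCast_eq_zero_iff m p).mp h)
      by_cases h7 : p = 7
      · refine ⟨3, fun h => ?_, fun h => ?_, fun h => ?_⟩
        · have := hsmall 3 (by norm_num) h
          omega
        · have h8 : ((8 : ℕ) : ZMod p) = 0 := by push_cast at h ⊢; linear_combination h
          have := (ZMod.natCast_eq_zero_iff 8 p).mp h8
          rw [h7] at this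
          omega
        · have h8 : ((26 : ℕ) : ZMod p) = 0 := by push_cast at h ⊢; linear_combination h
          have := (ZMod.natCast_eq_zero_iff 26 p).mp h8
          rw [h7] at this
          omega
      refine ⟨2, fun h => ?_, fun h => ?_, fun h => h7 ?_⟩
      · have := hsmall 2 two_pos h
        omega
      · have h8 : ((3 : ℕ) : ZMod p) = 0 := by push_cast at h ⊢; linear_combination h
        have := hsmall 3 (by norm_num) h8
        omega
      · have h8 : ((7 : ℕ) : ZMod p) = 0 := by push_cast at h ⊢; linear_combination h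
        exact (Nat.prime_dvd_prime_iff_eq hp.out (by norm_num)).mp
          ((ZMod.natCast_eq_zero_iff 7 p).mp h8)
    have hmul : (n : ZMod p) * ((n : ZMod p)⁻¹).val = 1 := by
      rw [ZMod.natCast_zmod_val, mul_inv_cancel₀ hn1]
    refine ⟨((n : ZMod p)⁻¹).val, n, hmul, fun h => hn3 ?_, hn2, hn3, ?_⟩
    · linear_combination (n : ZMod p) * h + hmul
    · rw [← ZMod.natCast_eq_natCast_iff]; push_cast; simpa using hmul
  obtain ⟨f₀, c₀, d₀, hf₀, himg₀, hf₀x, hf₀y, hf₀k⟩ := htor a₀ b₀ hab₀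
  set s := ((d₀ : ZMod p) / ((a₀ : ZMod p) * a₀ - b₀)).val
  set k' := y ^ s * k
  have hky' : k' * y * k'⁻¹ = x * y := by
    rw [show k' * y * k'⁻¹ = y ^ s * (k * y * k⁻¹) * (y ^ s)⁻¹ by simp only [k']; group, hky,
      ((hxy.symm.pow_left s).mul_right ((Commute.refl y).pow_left s)).eq, mul_inv_cancel_right]
  have hkx' : Commute k' x := (hxy.symm.pow_left s).mul_left hkx
  have hk'N : k' ∈ normalizerIn S P :=
    Subgroup.mul_mem _ (le_normalizerIn hPS (P.pow_mem hyP s)) hkN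
  have hk'pow : ∀ n : ℕ, ∃ i : ℕ, k' ^ n = x ^ i * y ^ (s * n) * k ^ n := by
    intro n
    induction n with
    | zero => exact ⟨0, by simp⟩
    | succ n ih =>
      obtain ⟨i, hi⟩ := ih
      refine ⟨i + n * s, ?_⟩
      rw [pow_succ, hi, show x ^ i * y ^ (s * n) * k ^ n * k' =
        x ^ i * y ^ (s * n) * (k ^ n * y * (k ^ n)⁻¹) ^ s * (k ^ n * k) by
          rw [conj_pow]; simp only [k']; group, hconj, (hxy.pow_left n).mul_pow, ← pow_mul,
        ← pow_succ, show x ^ i * y ^ (s * n) * (x ^ (n * s) * y ^ s) =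
          x ^ i * (y ^ (s * n) * x ^ (n * s)) * y ^ s by group, (hxy.symm.pow_pow _ _).eq,
        show x ^ i * (x ^ (n * s) * y ^ (s * n)) * y ^ s =
          (x ^ i * x ^ (n * s)) * (y ^ (s * n) * y ^ s) by group, ← pow_add, ← pow_add,
        show s * n + s = s * (n + 1) by ring]
  have hk'p : k' ^ p = 1 := by
    have := hmul 0 s 1
    rw [pow_zero, one_mul, pow_one, one_mul, hkp] at this
    exact this
  have hnorm : ∀ v ∈ normalizerIn S P, ∃ i j l : ℕ, v = x ^ i * y ^ j * k' ^ l := by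
    intro v hv
    obtain ⟨i, j, l, rfl⟩ := hN v hv
    obtain ⟨r, hr⟩ := hk'pow l
    refine ⟨i + (p - 1) * r, j + (p - 1) * (s * l), l, ?_⟩
    have hx' : x ^ ((p - 1) * r) * x ^ r = 1 := by
      rw [← pow_add, show (p - 1) * r + r = (p - 1 + 1) * r by ring,
        Nat.sub_add_cancel hp.out.one_lt.le, pow_mul, hxp, one_pow]
    have hy' : y ^ ((p - 1) * (s * l)) * y ^ (s * l) = 1 := by
      rw [← pow_add, show (p - 1) * (s * l) + s * l = (p - 1 + 1) * (s * l) by ring,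
        Nat.sub_add_cancel hp.out.one_lt.le, pow_mul, hyp, one_pow]
    rw [hr, pow_add, pow_add,
      show x ^ i * x ^ ((p - 1) * r) * (y ^ j * y ^ ((p - 1) * (s * l))) * (x ^ r * y ^ (s * l) * k ^ l)
        = x ^ i * (x ^ ((p - 1) * r) * ((y ^ j * y ^ ((p - 1) * (s * l))) * x ^ r)) * y ^ (s * l) *
          k ^ l by group,
      ((hxy.symm.pow_pow _ _).mul_left (hxy.symm.pow_pow _ _)).eq, ← mul_assoc (x ^ ((p - 1) * r)),
      hx', one_mul, mul_assoc (x ^ i) _ (y ^ (s * l)), mul_assoc (y ^ j), hy', mul_one]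
  -- the chosen torus has no `y`-part
  have hzero : ∃ c : ℕ, f₀ k' = x ^ c * k' ^ (a₀ * a₀) := by
    have hpy : f₀ (y ^ s) = (y ^ b₀) ^ s := by
      have : ∀ n : ℕ, f₀ (y ^ n) = (y ^ b₀) ^ n := by
        intro n
        induction n with
        | zero => rw [pow_zero, pow_zero, hf₀.map_one]
        | succ n ih =>
          rw [pow_succ, pow_succ, hf₀.map_mul (le_normalizerIn hPS (P.pow_mem hyP n))
            (le_normalizerIn hPS hyP), ih, hf₀y]
      exact this s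
    obtain ⟨r, hr⟩ := hk'pow (a₀ * a₀)
    refine ⟨c₀ + (p - 1) * r, ?_⟩
    rw [show f₀ k' = f₀ (y ^ s) * f₀ k from hf₀.map_mul (le_normalizerIn hPS (P.pow_mem hyP s)) hkN,
      hpy, hf₀k, hr, ← pow_mul, show y ^ (b₀ * s) * (x ^ c₀ * y ^ d₀ * k ^ (a₀ * a₀)) =
        y ^ (b₀ * s) * x ^ c₀ * y ^ d₀ * k ^ (a₀ * a₀) by group, (hxy.symm.pow_pow _ _).eq,
      mul_assoc (x ^ c₀), ← pow_add, pow_add x]
    have hx' : x ^ ((p - 1) * r) * x ^ r = 1 := by
      rw [← pow_add, show (p - 1) * r + r = (p - 1 + 1) * r by ring,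
        Nat.sub_add_cancel hp.out.one_lt.le, pow_mul, hxp, one_pow]
    rw [show x ^ c₀ * x ^ ((p - 1) * r) * (x ^ r * y ^ (s * (a₀ * a₀)) * k ^ (a₀ * a₀)) =
      x ^ c₀ * (x ^ ((p - 1) * r) * x ^ r) * y ^ (s * (a₀ * a₀)) * k ^ (a₀ * a₀) by group, hx',
      mul_one]
    congr 2
    refine hmody ?_
    push_cast
    simp only [s, ZMod.natCast_zmod_val]
    linear_combination -(div_mul_cancel₀ (d₀ : ZMod p) hne)
  obtain ⟨c₁, hc₁⟩ := hzero
  refine ⟨x, y, k', hxP, hyP, hk'N, fun h => hkP ?_, hx1, hxp, hyp, hk'p, hyx, hxy, hkx', hky',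
    hPgen, hnorm, hQ, ⟨f₀, a₀, b₀, c₁, hb₀, hn2, hn3, hf₀, himg₀, hf₀x, hf₀y, hc₁⟩⟩
  rw [← inv_mul_cancel_left (y ^ s) k]
  exact P.mul_mem (P.inv_mem (P.pow_mem hyP s)) h

end Cfsg.Agent.Fusion
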