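import Cfsg.Agent.Lib.Fusion.RankTwoSq

/-!
For `p ≥ 5` and rank two, no essential subgroup has order `p ^ 2` unless the group is extraspecial
of order `p ^ 3` and exponent `p`.
-/

set_option autoImplicit false
set_option linter.style.haveILetI false

namespace Cfsg.Agent.Fusion

open Cfsg.FusionSystem (centralizerIn normalizerIn)

universe u

variable {p : ℕ} [hp : Fact p.Prime]
variable {Ω : Type u} [Group Ω] {S : Subgroup Ω} [Finite S] {F : FusionSystem S} {P : Subgroup Ω}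

theorem MapTo.map_pow' {Q : Subgroup Ω} {f : Ω → Ω} (hf : MapTo F Q f) {w : Ω} (hw : w ∈ Q) (n : ℕ) :
    f (w ^ n) = f w ^ n := by
  induction n with
  | zero => rw [pow_zero, pow_zero, hf.map_one]
  | succ n ih => rw [pow_succ, pow_succ, hf.map_mul (Q.pow_mem hw n) hw, ih]

namespace SqData

variable {x y k : Ω} (D : SqData p F P x y k)

include D

theorem xN (hPS : P ≤ S) : x ∈ normalizerIn S P := le_normalizerIn hPS D.hx

theorem yN (hPS : P ≤ S) : y ∈ normalizerIn S P := le_normalizerIn hPS D.hy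

theorem conj_kpow (n : ℕ) : k ^ n * y * (k ^ n)⁻¹ = x ^ n * y := by
  induction n with
  | zero => simp
  | succ n ih =>
    rw [pow_succ' k, show k * k ^ n * y * (k * k ^ n)⁻¹ = k * (k ^ n * y * (k ^ n)⁻¹) * k⁻¹ by group,
      ih, ← mul_assoc, (D.hkx.pow_right n).eq, mul_assoc (x ^ n), mul_assoc (x ^ n), D.hky,
      ← mul_assoc, ← pow_succ]

theorem conj_ypow_k (n : ℕ) : y ^ n * k * (y ^ n)⁻¹ = (x ^ n)⁻¹ * k := by
  have hxy := D.hxy
  have h : k * y ^ n * k⁻¹ = x ^ n * y ^ n := by rw [← conj_pow, D.hky, hxy.mul_pow]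
  have h2 : k * y ^ n = x ^ n * y ^ n * k := by rw [← h, inv_mul_cancel_right]
  rw [eq_inv_mul_iff_mul_eq, show x ^ n * (y ^ n * k * (y ^ n)⁻¹) =
    x ^ n * y ^ n * k * (y ^ n)⁻¹ by group, ← h2, mul_inv_cancel_right]

theorem eq_of_pow {i j : ℕ} (h : x ^ i = x ^ j) : (i : ZMod p) = j := by
  rw [pow_eq_pow_iff_modEq, orderOf_eq_prime D.hxp D.hx1, ← ZMod.natCast_eq_natCast_iff] at h
  exact h

/-- Coordinates are unique. -/
theorem coords {i j l : ℕ} (h : x ^ i * y ^ j * k ^ l = 1) :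
    (i : ZMod p) = 0 ∧ (j : ZMod p) = 0 ∧ (l : ZMod p) = 0 := by
  have hl : p ∣ l := by
    by_contra hl
    apply D.hkP
    have hmem : k ^ l ∈ P := by
      rw [eq_inv_of_mul_eq_one_right h]
      exact P.inv_mem (P.mul_mem (P.pow_mem D.hx i) (P.pow_mem D.hy j))
    have hk1 : k ≠ 1 := fun hk => D.hkP (hk ▸ P.one_mem)
    have hu : Nat.Coprime l (orderOf k) := by
      rw [orderOf_eq_prime D.hkp hk1]; exact ((hp.out.coprime_iff_not_dvd).mpr hl).symm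
    obtain ⟨m, hm⟩ := exists_pow_eq_self_of_coprime hu
    exact hm ▸ P.pow_mem hmem m
  obtain ⟨t, rfl⟩ := hl
  rw [pow_mul, D.hkp, one_pow, mul_one] at h
  have hj : p ∣ j := by
    by_contra hj
    apply D.hyx
    have hmem : y ^ j ∈ Subgroup.zpowers x := by
      rw [eq_inv_of_mul_eq_one_right h]
      exact Subgroup.inv_mem _ (Subgroup.pow_mem _ (Subgroup.mem_zpowers x) i)
    have hu : Nat.Coprime j (orderOf y) := by
      rw [orderOf_eq_prime D.hyp fun hy => D.hyx (hy ▸ Subgroup.one_mem _)]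
      exact ((hp.out.coprime_iff_not_dvd).mpr hj).symm
    obtain ⟨m, hm⟩ := exists_pow_eq_self_of_coprime hu
    exact hm ▸ Subgroup.pow_mem _ hmem m
  obtain ⟨r, rfl⟩ := hj
  rw [pow_mul, D.hyp, one_pow, mul_one, ← pow_zero x] at h
  refine ⟨?_, by simp, by simp⟩
  simpa using D.eq_of_pow h

theorem exp_p (hp2 : p ≠ 2) {v : Ω} (hv : v ∈ normalizerIn S P) : v ^ p = 1 := by
  obtain ⟨i, j, l, rfl⟩ := D.hN v hv
  have hkx := D.hkx
  have hxy := D.hxy
  have hrel : k ^ l * (x ^ i * y ^ j) = x ^ i * y ^ j * k ^ l * x ^ (l * j) := by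
    rw [show k ^ l * (x ^ i * y ^ j) = (k ^ l * x ^ i * (k ^ l)⁻¹) * (k ^ l * y * (k ^ l)⁻¹) ^ j *
      k ^ l by rw [conj_pow]; group, ((hkx.pow_left l).pow_right i).eq, mul_inv_cancel_right,
      D.conj_kpow, (hxy.pow_left l).mul_pow, ← pow_mul, mul_assoc _ (k ^ l) (x ^ (l * j)),
      ((hkx.pow_left l).pow_right (l * j)).eq]
    simp only [← mul_assoc]
    rw [mul_assoc (x ^ i) (y ^ j) (x ^ (l * j)), (hxy.symm.pow_pow j (l * j)).eq, ← mul_assoc]
  rw [Coprime23.mul_pow_of_central hrel ((hkx.symm.pow_pow (l * j) l))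
    (((Commute.refl x).pow_pow (l * j) i).mul_right (hxy.pow_pow (l * j) j)) p,
    (hxy.pow_pow i j).mul_pow, ← pow_mul, ← pow_mul, ← pow_mul, mul_comm i p, mul_comm j p,
    mul_comm l p, pow_mul x p i, pow_mul y p j, pow_mul k p l, D.hxp, D.hyp, D.hkp, one_pow,
    one_pow, one_pow, one_mul, one_mul, one_mul, ← pow_mul]
  obtain ⟨r, hr⟩ : 2 ∣ p - 1 := (Nat.Prime.even_sub_one hp.out hp2).two_dvd
  rw [hr, show p * (2 * r) / 2 = p * r by rw [mul_left_comm, Nat.mul_div_cancel_left _ two_pos],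
    show l * j * (p * r) = p * (l * j * r) by ring, pow_mul x p, D.hxp, one_pow]

/-- An element of the normalizer commuting with `k` lies in `⟨x, k⟩`. -/
theorem of_commute_k {v : Ω} (hv : v ∈ normalizerIn S P) (hc : Commute v k) :
    ∃ i l : ℕ, v = x ^ i * k ^ l := by
  obtain ⟨i, j, l, rfl⟩ := D.hN v hv
  refine ⟨i, l, ?_⟩
  have h1 : Commute (y ^ j) k := by
    have h2 : Commute (x ^ i) k := (D.hkx.pow_right i).symm
    have h3 : y ^ j = (x ^ i)⁻¹ * (x ^ i * y ^ j * k ^ l) * (k ^ l)⁻¹ := by group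
    rw [h3]
    exact (h2.inv_left.mul_left hc).mul_left ((Commute.refl k).pow_left l).inv_left
  have h4 : (x ^ j)⁻¹ * k = 1 * k := by
    rw [← D.conj_ypow_k, h1.eq, mul_inv_cancel_right, one_mul]
  have hj : p ∣ j := by
    have h5 := inv_eq_one.mp (mul_right_cancel h4)
    exact (orderOf_eq_prime D.hxp D.hx1) ▸ orderOf_dvd_of_pow_eq_one h5
  obtain ⟨t, rfl⟩ := hj
  rw [pow_mul, D.hyp, one_pow, mul_one]

/-- The centralizer of the normalizer consists of powers of `x`. -/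
theorem of_central {v : Ω} (hv : v ∈ normalizerIn S P) (hk : Commute v k) (hy : Commute v y) :
    ∃ i : ℕ, v = x ^ i := by
  obtain ⟨i, l, rfl⟩ := D.of_commute_k hv hk
  refine ⟨i, ?_⟩
  have h1 : Commute (k ^ l) y := by
    have := (D.hxy.pow_left i).inv_left.mul_left hy
    rwa [inv_mul_cancel_left] at this
  have h2 : x ^ l * y = 1 * y := by rw [← D.conj_kpow, h1.eq, mul_inv_cancel_right, one_mul]
  obtain ⟨t, rfl⟩ : p ∣ l :=
    (orderOf_eq_prime D.hxp D.hx1) ▸ orderOf_dvd_of_pow_eq_one (mul_right_cancel h2)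
  rw [pow_mul, D.hkp, one_pow, mul_one]

theorem false_of_lt (hS : IsPGroup p S) (hF : F.IsSaturated p) (hp5 : 5 ≤ p)
    (hP : F.IsEssential p P)
    (hrank3 : ∀ E : Subgroup Ω, E ≤ S → Cfsg.IsElementaryAbelian p E → Nat.card E ≤ p ^ 2)
    (hlt : ¬ S ≤ normalizerIn S P) : False := by
  have hPS := hP.1.1
  have hp2 : p ≠ 2 := by omega
  set Q := normalizerIn S P with hQdef
  have hQS : Q ≤ S := normalizerIn_le
  haveI := finite_of_le hQS
  haveI := finite_of_le hPS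
  have hxQ := D.xN hPS
  have hyQ := D.yN hPS
  have hkQ := D.hk
  have hxo := orderOf_eq_prime D.hxp D.hx1
  have hQc : F.IsCentric Q := isCentric_mono hP.1 (le_normalizerIn hPS) hQS
  -- an element normalizing `Q`
  obtain ⟨r₀, hr₀S, hr₀Q, hr₀N⟩ := exists_mem_normalizer_not_mem hS hQS le_rfl
    (hQS.trans Subgroup.le_normalizer) hlt
  obtain ⟨r₁, hr₁S, hr₁Q, hr₁N, hr₁p⟩ :
      ∃ r, r ∈ S ∧ r ∉ Q ∧ r ∈ normalizerIn S Q ∧ r ^ p ∈ Q := by
    obtain ⟨e, he⟩ := hS ⟨r₀, hr₀S⟩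
    have he' : r₀ ^ p ^ e = 1 := congrArg Subtype.val he
    clear he
    induction e generalizing r₀ with
    | zero =>
      rw [pow_zero, pow_one] at he'
      exact absurd (he' ▸ Q.one_mem) hr₀Q
    | succ e ih =>
      by_cases h : r₀ ^ p ∈ Q
      · exact ⟨r₀, hr₀S, hr₀Q, hr₀N, h⟩
      · exact ih (r₀ ^ p) (S.pow_mem hr₀S p) h (Subgroup.pow_mem _ hr₀N p)
          (by rw [← pow_mul, ← pow_succ']; exact he')
  have hcent : ∀ v ∈ Q, Commute x v := by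
    intro v hv
    obtain ⟨i, j, l, rfl⟩ := D.hN v hv
    exact (((Commute.refl x).pow_right i).mul_right (D.hxy.pow_right j)).mul_right
      (D.hkx.symm.pow_right l)
  -- `r` centralizes `x`
  have hrx : ∀ r, r ∈ normalizerIn S Q → Commute r x := by
    intro r hr
    have hx' : r * x * r⁻¹ ∈ Q := conj_mem_of_mem_normalizerIn hr hxQ
    have hcomm : ∀ v ∈ Q, Commute (r * x * r⁻¹) v := by
      intro v hv
      have hv' : r⁻¹ * v * r ∈ Q := by
        simpa using conj_mem_of_mem_normalizerIn (Subgroup.inv_mem _ hr) hv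
      have h := hcent _ hv'
      have : Commute (r * x * r⁻¹) (r * (r⁻¹ * v * r) * r⁻¹) := by
        show r * x * r⁻¹ * (r * (r⁻¹ * v * r) * r⁻¹) = r * (r⁻¹ * v * r) * r⁻¹ * (r * x * r⁻¹)
        rw [show r * x * r⁻¹ * (r * (r⁻¹ * v * r) * r⁻¹) = r * (x * (r⁻¹ * v * r)) * r⁻¹ by group,
          h.eq]
        group
      rwa [show r * (r⁻¹ * v * r) * r⁻¹ = v by group] at this
    obtain ⟨m, hm⟩ := D.of_central hx' (hcomm k hkQ) (hcomm y hyQ)
    have hit : ∀ n : ℕ, r ^ n * x * (r ^ n)⁻¹ = x ^ m ^ n := by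
      intro n
      induction n with
      | zero => simp
      | succ n ih =>
        rw [pow_succ' r, show r * r ^ n * x * (r * r ^ n)⁻¹ = r * (r ^ n * x * (r ^ n)⁻¹) * r⁻¹ by
          group, ih, ← conj_pow, hm, ← pow_mul, ← pow_succ']
    obtain ⟨e, he⟩ := hS ⟨r, hr.1⟩
    have he' : r ^ p ^ e = 1 := congrArg Subtype.val he
    have h1 := hit (p ^ e)
    rw [he', one_mul, inv_one, mul_one] at h1
    have h2 : (m : ZMod p) = 1 := by
      have h3 := D.eq_of_pow (i := 1) (j := m ^ p ^ e) (by rw [pow_one, ← h1])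
      rw [Nat.cast_one, Nat.cast_pow, ZMod.pow_card_pow] at h3
      exact h3.symm
    have h4 : r * x * r⁻¹ = x := by
      rw [hm]
      conv_rhs => rw [← pow_one x]
      exact pow_eq_pow_iff_modEq.mpr (by
        rw [hxo, ← ZMod.natCast_eq_natCast_iff, h2, Nat.cast_one])
    exact mul_inv_eq_iff_eq_mul.mp h4
  -- a line in `Q` fixed modulo `x`
  let Zs : Subgroup Q := (Subgroup.zpowers x).subgroupOf Q
  haveI hZn : Zs.Normal := ⟨fun a ha g => by
    rw [Subgroup.mem_subgroupOf] at ha ⊢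
    obtain ⟨i, hi⟩ := Subgroup.mem_zpowers_iff.mp ha
    show (g : Ω) * (a : Ω) * (g : Ω)⁻¹ ∈ _
    rw [← hi, ((hcent _ g.2).symm.zpow_right i).eq, mul_inv_cancel_right]
    exact Subgroup.zpow_mem _ (Subgroup.mem_zpowers x) i⟩
  have hVexp : ∀ v : Q ⧸ Zs, v ^ p = 1 := fun v => by
    obtain ⟨v, rfl⟩ := QuotientGroup.mk_surjective v
    rw [← QuotientGroup.mk_pow, show v ^ p = 1 from Subtype.ext (D.exp_p hp2 v.2)]
    rfl
  have hVn : Nat.card (Q ⧸ Zs) = p ^ 2 := by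
    have h := Subgroup.card_eq_card_quotient_mul_card_subgroup Zs
    rw [D.hQ, Nat.card_congr (Subgroup.subgroupOfEquivOfLe
      (Subgroup.zpowers_le.mpr hxQ : Subgroup.zpowers x ≤ Q)).toEquiv, Nat.card_zpowers, hxo,
      pow_succ] at h
    exact (Nat.eq_of_mul_eq_mul_right hp.out.pos h).symm
  have hVc : IsMulCommutative (Q ⧸ Zs) := IsPGroup.isMulCommutative_of_card_eq_prime_sq hVn
  let c : MulAut Q :=
    { toFun := fun v => ⟨r₁ * v * r₁⁻¹, conj_mem_of_mem_normalizerIn hr₁N v.2⟩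
      invFun := fun v => ⟨r₁⁻¹ * v * r₁, by
        simpa using conj_mem_of_mem_normalizerIn (Subgroup.inv_mem _ hr₁N) v.2⟩
      left_inv := fun v => Subtype.ext (by simp [mul_assoc])
      right_inv := fun v => Subtype.ext (by simp [mul_assoc])
      map_mul' := fun v w => Subtype.ext (by simp [mul_assoc]) }
  have hcmap : Zs.map (c : Q →* Q) = Zs := by
    refine le_antisymm ?_ fun w hw => ⟨w, hw, Subtype.ext ?_⟩
    · rintro _ ⟨w, hw, rfl⟩
      obtain ⟨i, hi⟩ := Subgroup.mem_zpowers_iff.mp hw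
      show r₁ * (w : Ω) * r₁⁻¹ ∈ Subgroup.zpowers x
      rw [show (w : Ω) = x ^ i from hi.symm, ((hrx r₁ hr₁N).zpow_right i).eq, mul_inv_cancel_right]
      exact ⟨i, rfl⟩
    · obtain ⟨i, hi⟩ := Subgroup.mem_zpowers_iff.mp hw
      show r₁ * (w : Ω) * r₁⁻¹ = w
      rw [show (w : Ω) = x ^ i from hi.symm, ((hrx r₁ hr₁N).zpow_right i).eq, mul_inv_cancel_right]
  let ψ : MulAut (Q ⧸ Zs) := QuotientGroup.congr Zs Zs c hcmap
  have hψit : ∀ (n : ℕ) (v : Q), ∃ w : Q, (w : Ω) = r₁ ^ n * v * (r₁ ^ n)⁻¹ ∧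
      (ψ ^ n) (v : Q ⧸ Zs) = (w : Q ⧸ Zs) := by
    intro n
    induction n with
    | zero => exact fun v => ⟨v, by simp, rfl⟩
    | succ n ih =>
      intro v
      obtain ⟨w, hw, hw'⟩ := ih v
      refine ⟨c w, ?_, by rw [pow_succ', MulAut.mul_apply, hw']; rfl⟩
      show r₁ * (w : Ω) * r₁⁻¹ = _
      rw [hw, pow_succ' r₁]
      group
  have hψp : ψ ^ p = 1 := MulEquiv.ext fun v => by
    obtain ⟨v, rfl⟩ := QuotientGroup.mk_surjective v
    obtain ⟨w, hw, hw'⟩ := hψit p v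
    rw [hw', MulAut.one_apply, show w = ⟨r₁ ^ p, hr₁p⟩ * v * (⟨r₁ ^ p, hr₁p⟩ : Q)⁻¹ from
      Subtype.ext hw, QuotientGroup.mk_mul, QuotientGroup.mk_mul, QuotientGroup.mk_inv,
      hVc.is_comm.comm, inv_mul_cancel_left]
  haveI : Finite (Q ⧸ Zs) := inferInstance
  haveI : Nontrivial (Q ⧸ Zs) := Finite.one_lt_card_iff_nontrivial.mp (by
    rw [hVn]; exact Nat.one_lt_pow two_ne_zero hp.out.one_lt)
  have hψC : IsPGroup p (Subgroup.zpowers ψ) := by
    haveI := finite_mulAut (Q ⧸ Zs)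
    obtain ⟨i, -, hi⟩ := (Nat.dvd_prime_pow hp.out).mp
      (orderOf_dvd_of_pow_eq_one (x := ψ) (n := p ^ 1) (by rwa [pow_one]))
    exact IsPGroup.of_card (n := i) ((Nat.card_zpowers ψ).trans hi)
  obtain ⟨mb, hmb, hmfix⟩ := exists_fixed_of_pGroup (IsPGroup.of_card hVn) hψC
  obtain ⟨⟨m, hmQ⟩, rfl⟩ := QuotientGroup.mk_surjective mb
  have hmx : ∀ {v w : Ω} (hv : v ∈ Q) (hw : w ∈ Q),
      ((⟨v, hv⟩ : Q) : Q ⧸ Zs) = ((⟨w, hw⟩ : Q) : Q ⧸ Zs) → ∃ i : ℕ, w = v * x ^ i := by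
    intro v w hv hw h
    have hmem : v⁻¹ * w ∈ Subgroup.zpowers x := (QuotientGroup.eq (s := Zs)).mp h
    obtain ⟨i, hi⟩ := (isOfFinOrder_iff_pow_eq_one.mpr
      ⟨p, hp.out.pos, D.hxp⟩).mem_powers_iff_mem_zpowers.mpr hmem
    exact ⟨i, by rw [show x ^ i = v⁻¹ * w from hi, mul_inv_cancel_left]⟩
  have hrm : ∀ n : ℕ, ∃ i : ℕ, r₁ ^ n * m * (r₁ ^ n)⁻¹ = m * x ^ i := by
    intro n
    obtain ⟨w, hw, hw'⟩ := hψit n ⟨m, hmQ⟩
    rw [hmfix _ (Subgroup.pow_mem _ (Subgroup.mem_zpowers ψ) n)] at hw'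
    exact hw ▸ hmx hmQ w.2 hw'
  -- `m` is not in `P`
  have hmP : m ∉ P := by
    intro hm
    obtain ⟨i, j, hij⟩ := D.hP m hm
    have hj : ¬ p ∣ j := fun hd => hmb (by
      obtain ⟨t, rfl⟩ := hd
      rw [pow_mul, D.hyp, one_pow, mul_one] at hij
      refine (QuotientGroup.eq_one_iff _).mpr ?_
      rw [Subgroup.mem_subgroupOf]
      show m ∈ Subgroup.zpowers x
      rw [hij]
      exact Subgroup.pow_mem _ (Subgroup.mem_zpowers x) i)
    obtain ⟨t, ht⟩ := hrm 1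
    rw [pow_one] at ht
    apply hr₁Q
    refine mem_normalizerIn_of_forall hPS hr₁S fun v hv => ?_
    -- `x` and `m` generate `P`
    have hu : Nat.Coprime j (orderOf y) := by
      rw [orderOf_eq_prime D.hyp fun hy => D.hyx (hy ▸ Subgroup.one_mem _)]
      exact ((hp.out.coprime_iff_not_dvd).mpr hj).symm
    obtain ⟨s, hs⟩ := exists_pow_eq_self_of_coprime hu
    have hr1x : r₁ * x * r₁⁻¹ ∈ P := by
      rw [(hrx r₁ hr₁N).eq, mul_inv_cancel_right]; exact D.hx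
    have hyj : r₁ * y ^ j * r₁⁻¹ ∈ P := by
      rw [show y ^ j = (x ^ i)⁻¹ * m by rw [hij, inv_mul_cancel_left],
        show r₁ * ((x ^ i)⁻¹ * m) * r₁⁻¹ = ((r₁ * x * r₁⁻¹) ^ i)⁻¹ * (r₁ * m * r₁⁻¹) by
          rw [conj_pow]; group, ht]
      exact P.mul_mem (P.inv_mem (P.pow_mem hr1x i)) (P.mul_mem hm (P.pow_mem D.hx t))
    obtain ⟨a, b, rfl⟩ := D.hP v hv
    rw [show r₁ * (x ^ a * y ^ b) * r₁⁻¹ = (r₁ * x * r₁⁻¹) ^ a * (r₁ * y * r₁⁻¹) ^ b by
      rw [conj_pow, conj_pow]; group]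
    refine P.mul_mem (P.pow_mem hr1x a) (P.pow_mem ?_ b)
    rw [show r₁ * y * r₁⁻¹ = (r₁ * y ^ j * r₁⁻¹) ^ s by rw [conj_pow, hs]]
    exact P.pow_mem hyj s
  -- `y` is moved along `m`
  have hψ1 : ψ ≠ 1 := by
    intro h
    apply hr₁Q
    refine mem_normalizerIn_of_forall hPS hr₁S fun v hv => ?_
    have hvQ := le_normalizerIn (S := S) hPS hv
    obtain ⟨w, hw, hw'⟩ := hψit 1 ⟨v, hvQ⟩
    rw [pow_one, h] at hw'
    rw [pow_one] at hw
    obtain ⟨i, hi⟩ := hmx hvQ w.2 hw'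
    rw [← hw, hi]
    exact P.mul_mem hv (P.pow_mem D.hx i)
  have hynot : ((⟨y, hyQ⟩ : Q) : Q ⧸ Zs) ∉ Subgroup.zpowers ((⟨m, hmQ⟩ : Q) : Q ⧸ Zs) := by
    intro h
    obtain ⟨i, hi⟩ := (mem_powers_iff_mem_zpowers.mpr h : _ ∈ Submonoid.powers _)
    have hi' : ((⟨m, hmQ⟩ : Q) : Q ⧸ Zs) ^ i = ((⟨y, hyQ⟩ : Q) : Q ⧸ Zs) := hi
    rw [← QuotientGroup.mk_pow] at hi'
    obtain ⟨j, hj⟩ := hmx (v := m ^ i) (Q.pow_mem hmQ i) hyQ hi'
    have hmi : ¬ p ∣ i := fun hd => D.hyx (by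
      obtain ⟨t, rfl⟩ := hd
      rw [hj, pow_mul, D.exp_p hp2 hmQ, one_pow, one_mul]
      exact Subgroup.pow_mem _ (Subgroup.mem_zpowers x) j)
    have hu : Nat.Coprime i (orderOf m) := by
      rw [orderOf_eq_prime (D.exp_p hp2 hmQ) fun h => hmP (h ▸ P.one_mem)]
      exact ((hp.out.coprime_iff_not_dvd).mpr hmi).symm
    obtain ⟨s, hs⟩ := exists_pow_eq_self_of_coprime hu
    apply hmP
    rw [← hs]
    refine P.pow_mem ?_ s
    rw [show m ^ i = y * (x ^ j)⁻¹ by rw [hj, mul_inv_cancel_right]]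
    exact P.mul_mem D.hy (P.inv_mem (P.pow_mem D.hx j))
  obtain ⟨j₁, hj₁, hshift⟩ := exists_shift hVc hVexp hVn hψp hψ1 hmb
    (hmfix ψ (Subgroup.mem_zpowers ψ)) hynot
  have hshiftn : ∀ n : ℕ, ∃ i : ℕ, r₁ ^ n * y * (r₁ ^ n)⁻¹ = m ^ (j₁ * n) * y * x ^ i := by
    intro n
    obtain ⟨w, hw, hw'⟩ := hψit n ⟨y, hyQ⟩
    have hit : ∀ n : ℕ, (ψ ^ n) ((⟨y, hyQ⟩ : Q) : Q ⧸ Zs) =
        ((⟨m, hmQ⟩ : Q) : Q ⧸ Zs) ^ (j₁ * n) * ((⟨y, hyQ⟩ : Q) : Q ⧸ Zs) := by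
      intro n
      induction n with
      | zero => simp
      | succ n ih =>
        rw [pow_succ', MulAut.mul_apply, ih, map_mul, map_pow,
          hmfix ψ (Subgroup.mem_zpowers ψ), hshift, ← mul_assoc, ← pow_add, Nat.mul_succ]
    rw [hit, ← QuotientGroup.mk_pow, ← QuotientGroup.mk_mul] at hw'
    exact hw ▸ hmx (v := m ^ (j₁ * n) * y) (Q.mul_mem (Q.pow_mem hmQ _) hyQ) w.2 hw'
  obtain ⟨g, a, b, cc, hab, ha2, ha3, hg, hgimg, hgx, hgy, hgk⟩ := D.htor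
  have hgQ : ∀ v ∈ Q, g v ∈ Q := fun v hv => hgimg.le (mem_img_of_mem hv)
  obtain ⟨mi, mj, ml, hm⟩ := D.hN m hmQ
  have hml : (ml : ZMod p) ≠ 0 := by
    intro h
    obtain ⟨t, rfl⟩ := (ZMod.natCast_eq_zero_iff ml p).mp h
    rw [pow_mul, D.hkp, one_pow, mul_one] at hm
    exact hmP (hm ▸ P.mul_mem (P.pow_mem D.hx _) (P.pow_mem D.hy _))
  have hmj : (mj : ZMod p) = 0 := by
    by_contra hmj
    -- some composite moves `⟨x, m⟩` into `P`
    set M := Subgroup.zpowers x ⊔ Subgroup.zpowers m with hMdef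
    have hMQ : M ≤ Q := sup_le (Subgroup.zpowers_le.mpr hxQ) (Subgroup.zpowers_le.mpr hmQ)
    have hxm : Commute x m := hcent m hmQ
    have hmp := D.exp_p hp2 hmQ
    have hMN : Q ⊔ Subgroup.zpowers r₁ ≤ normalizerIn S M := by
      refine sup_le (fun v hv => mem_normalizerIn_of_forall (hMQ.trans hQS) (hQS hv) fun w hw => ?_)
        (Subgroup.zpowers_le.mpr (mem_normalizerIn_of_forall (hMQ.trans hQS) hr₁S fun w hw => ?_))
      · obtain ⟨i, j, rfl⟩ := exists_pow_mul_pow D.hxp hmp hxm hw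
        have hvm : v * m * v⁻¹ ∈ M := by
          have h1 : ((⟨v * m * v⁻¹, Q.mul_mem (Q.mul_mem hv hmQ) (Q.inv_mem hv)⟩ : Q) : Q ⧸ Zs)
              = ((⟨m, hmQ⟩ : Q) : Q ⧸ Zs) := by
            rw [show (⟨v * m * v⁻¹, _⟩ : Q) = ⟨v, hv⟩ * ⟨m, hmQ⟩ * (⟨v, hv⟩ : Q)⁻¹ from rfl,
              QuotientGroup.mk_mul, QuotientGroup.mk_mul, QuotientGroup.mk_inv, hVc.is_comm.comm,
              inv_mul_cancel_left]
          obtain ⟨s, hs⟩ := hmx hmQ _ h1.symm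
          rw [hs]
          exact M.mul_mem (Subgroup.mem_sup_right (Subgroup.mem_zpowers m))
            (Subgroup.mem_sup_left (Subgroup.pow_mem _ (Subgroup.mem_zpowers x) s))
        rw [show v * (x ^ i * m ^ j) * v⁻¹ = (v * x ^ i * v⁻¹) * (v * m * v⁻¹) ^ j by
          rw [conj_pow]; group, ((hcent v hv).symm.pow_right i).eq, mul_inv_cancel_right]
        exact M.mul_mem (Subgroup.mem_sup_left (Subgroup.pow_mem _ (Subgroup.mem_zpowers x) i))
          (M.pow_mem hvm j)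
      · obtain ⟨i, j, rfl⟩ := exists_pow_mul_pow D.hxp hmp hxm hw
        obtain ⟨t, ht⟩ := hrm 1
        rw [pow_one] at ht
        rw [show r₁ * (x ^ i * m ^ j) * r₁⁻¹ = (r₁ * x ^ i * r₁⁻¹) * (r₁ * m * r₁⁻¹) ^ j by
          rw [conj_pow]; group, ((hrx r₁ hr₁N).pow_right i).eq, mul_inv_cancel_right, ht]
        exact M.mul_mem (Subgroup.mem_sup_left (Subgroup.pow_mem _ (Subgroup.mem_zpowers x) i))
          (M.pow_mem (M.mul_mem (Subgroup.mem_sup_right (Subgroup.mem_zpowers m))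
            (Subgroup.mem_sup_left (Subgroup.pow_mem _ (Subgroup.mem_zpowers x) t))) j)
    -- the image of `m`
    have hgm : g m = x ^ (a * mi) * y ^ (b * mj) * (x ^ (cc * ml) * k ^ (a * a * ml)) := by
      rw [hm, hg.map_mul (Q.mul_mem (Q.pow_mem hxQ _) (Q.pow_mem hyQ _)) (Q.pow_mem hkQ _),
        hg.map_mul (Q.pow_mem hxQ _) (Q.pow_mem hyQ _), hg.map_pow' hxQ, hg.map_pow' hyQ,
        hg.map_pow' hkQ, hgx, hgy, hgk, ← pow_mul, ← pow_mul,
        ((D.hkx.symm).pow_pow cc (a * a)).mul_pow, ← pow_mul, ← pow_mul]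
    let π : Q →* Q ⧸ Zs := QuotientGroup.mk' Zs
    set X : Q := ⟨x, hxQ⟩
    set Y : Q := ⟨y, hyQ⟩
    set K : Q := ⟨k, hkQ⟩
    set Mm : Q := ⟨m, hmQ⟩
    have hX : π X = 1 := (QuotientGroup.eq_one_iff _).mpr
      (Subgroup.mem_subgroupOf.mpr (Subgroup.mem_zpowers x))
    have hπm : π Mm = π Y ^ mj * π K ^ ml := by
      rw [show Mm = X ^ mi * Y ^ mj * K ^ ml from Subtype.ext hm, map_mul, map_mul, map_pow,
        map_pow, map_pow, hX, one_pow, one_mul]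
    obtain ⟨n, hn⟩ : ∃ n : ℕ, (mj : ZMod p) * (b - (a * a)) * (j₁ * n) = -((a : ZMod p) * a) := by
      have hd : (mj : ZMod p) * (b - (a * a)) * j₁ ≠ 0 := by
        refine mul_ne_zero (mul_ne_zero hmj fun h => ha3 ?_) fun h => hj₁ ?_
        · linear_combination (-(a : ZMod p)) * h + hab
        · exact (ZMod.natCast_eq_zero_iff j₁ p).mp h
      refine ⟨(-((a : ZMod p) * a) / ((mj : ZMod p) * (b - (a * a)) * j₁)).val, ?_⟩
      rw [ZMod.natCast_zmod_val]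
      linear_combination div_mul_cancel₀ (-((a : ZMod p) * a)) hd
    set f : Ω → Ω := fun v => r₁ ^ n * g v * (r₁ ^ n)⁻¹
    have hf : MapTo F M f := ((hg.restrict hMQ).comp
      (mapTo_cj (P := Q) hQS (S.pow_mem hr₁S n)) fun v hv => hgQ v (hMQ hv))
    have hfP : img f M ≤ P := by
      refine img_le_of_forall fun v hv => ?_
      obtain ⟨i, j, rfl⟩ := exists_pow_mul_pow D.hxp hmp hxm hv
      show r₁ ^ n * g (x ^ i * m ^ j) * (r₁ ^ n)⁻¹ ∈ P
      rw [hg.map_mul (Q.pow_mem hxQ i) (Q.pow_mem hmQ j), hg.map_pow' hxQ, hg.map_pow' hmQ, hgx,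
        show r₁ ^ n * ((x ^ a) ^ i * g m ^ j) * (r₁ ^ n)⁻¹ =
          (r₁ ^ n * (x ^ a) ^ i * (r₁ ^ n)⁻¹) * (r₁ ^ n * g m * (r₁ ^ n)⁻¹) ^ j by
          rw [conj_pow]; group,
        ((((hrx r₁ hr₁N).pow_left n).pow_right a).pow_right i).eq, mul_inv_cancel_right]
      refine P.mul_mem (P.pow_mem (P.pow_mem D.hx a) i) (P.pow_mem ?_ j)
      set W : Q := ⟨r₁ ^ n * g m * (r₁ ^ n)⁻¹,
        conj_mem_of_mem_normalizerIn (Subgroup.pow_mem _ hr₁N n) (hgQ m hmQ)⟩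
      obtain ⟨w, hw, hw'⟩ := hψit n ⟨g m, hgQ m hmQ⟩
      have hWw : W = w := Subtype.ext hw.symm
      have hgq : π ⟨g m, hgQ m hmQ⟩ = π Y ^ (b * mj) * π K ^ (a * a * ml) := by
        rw [show (⟨g m, hgQ m hmQ⟩ : Q) = X ^ (a * mi) * Y ^ (b * mj) *
          (X ^ (cc * ml) * K ^ (a * a * ml)) from Subtype.ext hgm, map_mul, map_mul, map_mul,
          map_pow, map_pow, map_pow, map_pow, hX, one_pow, one_pow, one_mul, one_mul]
      have hKfix : ψ (π Mm) = π Mm := hmfix ψ (Subgroup.mem_zpowers ψ)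
      have hψn : ∀ i : ℕ, (ψ ^ i) (π Mm) = π Mm ∧ (ψ ^ i) (π Y) = π Mm ^ (j₁ * i) * π Y := by
        intro i
        induction i with
        | zero => simp
        | succ i ih =>
          refine ⟨by rw [pow_succ', MulAut.mul_apply, ih.1, hKfix], ?_⟩
          rw [pow_succ', MulAut.mul_apply, ih.2, map_mul, map_pow, hKfix, show ψ (π Y) = π Mm ^ j₁ * π Y from hshift,
            ← mul_assoc, ← pow_add, Nat.mul_succ]
      have hVmod : ∀ (v : Q ⧸ Zs) {i j : ℕ}, (i : ZMod p) = j → v ^ i = v ^ j := fun v i j h =>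
        pow_eq_pow_iff_modEq.mpr (((ZMod.natCast_eq_natCast_iff _ _ _).mp h).of_dvd
          (orderOf_dvd_of_pow_eq_one (hVexp v)))
      have hcV : ∀ u v : Q ⧸ Zs, u * v = v * u := hVc.is_comm.comm
      -- rewrite in the basis `m`, `y`
      obtain ⟨d, hd⟩ : ∃ d : ℕ, (d : ZMod p) = b * mj - a * a * mj :=
        ⟨_, ZMod.natCast_zmod_val _⟩
      have hgq' : π ⟨g m, hgQ m hmQ⟩ = π Y ^ d * π Mm ^ (a * a) := by
        rw [hgq, hπm, (show Commute (π Y ^ mj) (π K ^ ml) from hcV _ _).mul_pow, ← pow_mul,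
          ← pow_mul, ← mul_assoc, ← pow_add, mul_comm ml (a * a)]
        congr 1
        refine hVmod _ ?_
        push_cast
        rw [hd]; ring
      have hWq : π W = π Y ^ d := by
        rw [hWw, show π w = (ψ ^ n) (π ⟨g m, hgQ m hmQ⟩) from hw'.symm, hgq', map_mul, map_pow,
          map_pow, (hψn n).1, (hψn n).2, (show Commute (π Mm ^ (j₁ * n)) (π Y) from hcV _ _).mul_pow,
          ← pow_mul, mul_assoc, hcV (π Y ^ d), ← mul_assoc, ← pow_add]
        rw [hVmod (π Mm) (i := j₁ * n * d + a * a) (j := 0) (by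
          push_cast
          rw [hd]
          linear_combination hn), pow_zero, one_mul]
      rw [← map_pow] at hWq
      obtain ⟨t, ht⟩ := hmx (v := y ^ d) (Q.pow_mem hyQ d) W.2 hWq.symm
      show (W : Ω) ∈ P
      rw [show (W : Ω) = r₁ ^ n * g m * (r₁ ^ n)⁻¹ from rfl] at ht ⊢
      rw [ht]
      exact P.mul_mem (P.pow_mem D.hy d) (P.pow_mem D.hx t)
    haveI := finite_of_le (hMQ.trans hQS)
    have hMcard : p ^ 2 ≤ Nat.card M := by
      obtain ⟨e, he⟩ := (hS.to_le (hMQ.trans hQS)).exists_card_eq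
      rw [he]
      refine Nat.pow_le_pow_right hp.out.pos ((Nat.pow_lt_pow_iff_right hp.out.one_lt).mp ?_)
      rw [← he, pow_one]
      refine lt_of_eq_of_lt ((Nat.card_zpowers x).trans hxo).symm ?_
      refine lt_of_le_of_ne (Subgroup.card_le_of_le le_sup_left) fun h => hmb ?_
      refine (QuotientGroup.eq_one_iff _).mpr (Subgroup.mem_subgroupOf.mpr ?_)
      exact (Subgroup.eq_of_le_of_card_ge le_sup_left h.ge).ge
        (Subgroup.mem_sup_right (Subgroup.mem_zpowers m))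
    have hPcard : Nat.card P ≤ p ^ 2 := by
      let φ : Fin p × Fin p → P := fun v =>
        ⟨x ^ (v.1 : ℕ) * y ^ (v.2 : ℕ), P.mul_mem (P.pow_mem D.hx _) (P.pow_mem D.hy _)⟩
      have hφ : Function.Surjective φ := fun v => by
        obtain ⟨i, j, h⟩ := D.hP v v.2
        refine ⟨(⟨i % p, Nat.mod_lt _ hp.out.pos⟩, ⟨j % p, Nat.mod_lt _ hp.out.pos⟩),
          Subtype.ext ?_⟩
        show x ^ (i % p) * y ^ (j % p) = v
        rw [h, ← pow_eq_pow_mod _ D.hxp, ← pow_eq_pow_mod _ D.hyp]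
      refine (Nat.card_le_card_of_surjective φ hφ).trans ?_
      rw [Nat.card_prod, Nat.card_fin, pow_two]
    have himg : img f M = P := Subgroup.eq_of_le_of_card_ge hfP
      (by rw [hf.card_img le_rfl]; exact hPcard.trans hMcard)
    have hfull := hP.2.1.2 M (isConj_symm (isConj_iff.mpr ⟨f, hf, himg⟩))
    haveI := finite_of_le (normalizerIn_le : normalizerIn S M ≤ S)
    haveI := finite_of_le (sup_le hQS (Subgroup.zpowers_le.mpr hr₁S))
    have h1 : Nat.card Q < Nat.card ↥(Q ⊔ Subgroup.zpowers r₁) :=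
      lt_of_le_of_ne (Subgroup.card_le_of_le le_sup_left) fun h => hr₁Q
        ((Subgroup.eq_of_le_of_card_ge le_sup_left h.ge).ge
          (Subgroup.mem_sup_right (Subgroup.mem_zpowers r₁)))
    exact absurd ((h1.trans_le (Subgroup.card_le_of_le hMN)).trans_le hfull) (lt_irrefl _)
  -- so `⟨x, k⟩` is invariant; correct `r` to centralize `k`
  obtain ⟨ml', hml'⟩ : ∃ s : ℕ, (ml : ZMod p) * s = 1 := ⟨((ml : ZMod p)⁻¹).val, by
    rw [ZMod.natCast_zmod_val, mul_inv_cancel₀ hml]⟩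
  obtain ⟨t₁, ht₁⟩ : ∃ t : ℕ, r₁ * k * r₁⁻¹ = x ^ t * k := by
    obtain ⟨t, ht⟩ := hrm 1
    rw [pow_one] at ht
    obtain ⟨u, rfl⟩ := (ZMod.natCast_eq_zero_iff mj p).mp hmj
    rw [pow_mul y, D.hyp, one_pow, mul_one] at hm
    have hkpow : k ^ ml = (x ^ mi)⁻¹ * m := by rw [hm, inv_mul_cancel_left]
    have h1 : r₁ * k ^ ml * r₁⁻¹ = x ^ t * k ^ ml := by
      rw [hkpow, show r₁ * ((x ^ mi)⁻¹ * m) * r₁⁻¹ = (r₁ * x ^ mi * r₁⁻¹)⁻¹ * (r₁ * m * r₁⁻¹) by group,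
        ((hrx r₁ hr₁N).pow_right mi).eq, mul_inv_cancel_right, ht, ← (hcent m hmQ).pow_left t |>.eq,
        ← mul_assoc, ← mul_assoc, (((Commute.refl x).pow_pow mi t).inv_left).eq]
    refine ⟨t * ml', ?_⟩
    have hk' : (k ^ ml) ^ ml' = k := by
      rw [← pow_mul]
      conv_rhs => rw [← pow_one k]
      exact pow_eq_pow_iff_modEq.mpr (Nat.ModEq.of_dvd (orderOf_dvd_of_pow_eq_one D.hkp)
        ((ZMod.natCast_eq_natCast_iff _ _ _).mp (by push_cast; exact hml')))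
    rw [← hk', ← conj_pow, h1, ((D.hkx.symm.pow_pow t ml)).mul_pow, ← pow_mul]
  set r := r₁ * y ^ t₁
  have hrS : r ∈ S := S.mul_mem hr₁S (hQS (Q.pow_mem hyQ t₁))
  have hrN : r ∈ normalizerIn S Q :=
    Subgroup.mul_mem _ hr₁N (le_normalizerIn hQS (Q.pow_mem hyQ t₁))
  have hrQ : r ∉ Q := fun h => hr₁Q (by
    have := Q.mul_mem h (Q.inv_mem (Q.pow_mem hyQ t₁))
    rwa [mul_inv_cancel_right] at this)
  have hrk : Commute r k := by
    refine mul_inv_eq_iff_eq_mul.mp ?_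
    rw [show r * k * r⁻¹ = r₁ * (y ^ t₁ * k * (y ^ t₁)⁻¹) * r₁⁻¹ by simp only [r]; group,
      D.conj_ypow_k, show r₁ * ((x ^ t₁)⁻¹ * k) * r₁⁻¹ = (r₁ * x ^ t₁ * r₁⁻¹)⁻¹ * (r₁ * k * r₁⁻¹) by
        group, ((hrx r₁ hr₁N).pow_right t₁).eq, mul_inv_cancel_right, ht₁, inv_mul_cancel_left]
  have hrp : r ^ p ∈ Q := by
    have hit : ∀ n : ℕ, ∃ q ∈ Q, r ^ n = r₁ ^ n * q := by
      intro n
      induction n with
      | zero => exact ⟨1, Q.one_mem, by simp⟩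
      | succ n ih =>
        obtain ⟨q, hq, hqe⟩ := ih
        refine ⟨r₁⁻¹ * q * r₁ * y ^ t₁, Q.mul_mem ?_ (Q.pow_mem hyQ t₁), ?_⟩
        · simpa using conj_mem_of_mem_normalizerIn (Subgroup.inv_mem _ hr₁N) hq
        · rw [pow_succ, hqe, pow_succ r₁]
          simp only [r]
          group
    obtain ⟨q, hq, hqe⟩ := hit p
    exact hqe ▸ Q.mul_mem hr₁p hq
  obtain ⟨q₁, q₂, hq⟩ := D.of_commute_k hrp ((hrk.pow_left p))
  have hrxc : Commute r x := hrx r hrN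
  -- `r` has order greater than `p`
  have hrp1 : r ^ p ≠ 1 := by
    intro h
    have hk_not : k ∉ Subgroup.zpowers x := fun hmem => D.hkP
      ((Subgroup.zpowers_le.mpr D.hx) hmem)
    obtain ⟨i, j, hij⟩ := exists_of_rank_le_two hrank3 (hQS hxQ) (hQS hkQ) hrS D.hxp D.hkp h
      D.hkx.symm hrxc.symm hrk.symm D.hx1 hk_not
    exact hrQ (hij ▸ Q.mul_mem (Q.pow_mem hxQ i) (Q.pow_mem hkQ j))
  -- the action of `r` on `y`
  obtain ⟨j, i₀, hj, hry⟩ : ∃ j i₀ : ℕ, (j : ZMod p) ≠ 0 ∧ r * y * r⁻¹ = x ^ i₀ * y * k ^ j := by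
    obtain ⟨u, hu⟩ := hshiftn 1
    rw [pow_one, mul_one] at hu
    obtain ⟨v, rfl⟩ := (ZMod.natCast_eq_zero_iff mj p).mp hmj
    rw [pow_mul y, D.hyp, one_pow, mul_one] at hm
    refine ⟨ml * j₁, mi * j₁ + ml * j₁ + u, by
      push_cast; exact mul_ne_zero hml fun h => hj₁ ((ZMod.natCast_eq_zero_iff j₁ p).mp h), ?_⟩
    rw [show r * y * r⁻¹ = r₁ * y * r₁⁻¹ by
      simp only [r]
      rw [show r₁ * y ^ t₁ * y * (r₁ * y ^ t₁)⁻¹ = r₁ * (y ^ t₁ * y * (y ^ t₁)⁻¹) * r₁⁻¹ by group,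
        ((Commute.refl y).pow_left t₁).eq, mul_inv_cancel_right], hu, hm,
      (D.hkx.symm.pow_pow mi ml).mul_pow, ← pow_mul, ← pow_mul, mul_assoc (x ^ (mi * j₁)) (k ^ (ml * j₁)) y,
      show k ^ (ml * j₁) * y = (k ^ (ml * j₁) * y * (k ^ (ml * j₁))⁻¹) * k ^ (ml * j₁) by group,
      D.conj_kpow, ← mul_assoc, ← mul_assoc, ← pow_add, mul_assoc _ (k ^ (ml * j₁)) (x ^ u),
      ((D.hkx.pow_pow _ _)).eq, ← mul_assoc, mul_assoc _ y (x ^ u), (D.hxy.symm.pow_right u).eq,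
      ← mul_assoc, ← pow_add]
  -- powers of `r`
  have hrn : ∀ n : ℕ, r ^ n * y * (r ^ n)⁻¹ = x ^ (i₀ * n) * y * k ^ (j * n) := by
    intro n
    induction n with
    | zero => simp
    | succ n ih =>
      rw [pow_succ' r, show r * r ^ n * y * (r * r ^ n)⁻¹ = r * (r ^ n * y * (r ^ n)⁻¹) * r⁻¹ by group,
        ih, show r * (x ^ (i₀ * n) * y * k ^ (j * n)) * r⁻¹ = (r * x ^ (i₀ * n) * r⁻¹) *
          (r * y * r⁻¹) * (r * k ^ (j * n) * r⁻¹) by group,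
        (hrxc.pow_right _).eq, mul_inv_cancel_right, (hrk.pow_right _).eq, mul_inv_cancel_right, hry,
        ← mul_assoc, ← mul_assoc, ← pow_add, mul_assoc _ (k ^ j) (k ^ (j * n)), ← pow_add,
        show i₀ * n + i₀ = i₀ * (n + 1) by ring, show j + j * n = j * (n + 1) by ring]
  set n := a * a * a
  -- the element inducing the conjugate of `r` by the torus
  have hgry : ∃ s : ℕ, g (r * y * r⁻¹) = (k ^ s * r ^ n) * g y * (k ^ s * r ^ n)⁻¹ := by
    have hlhs : g (r * y * r⁻¹) = x ^ (a * i₀ + cc * j) * y ^ b * k ^ (a * a * j) := by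
      rw [hry, hg.map_mul (Q.mul_mem (Q.pow_mem hxQ _) hyQ) (Q.pow_mem hkQ _),
        hg.map_mul (Q.pow_mem hxQ _) hyQ, hg.map_pow' hxQ, hg.map_pow' hkQ, hgx, hgy, hgk,
        ← pow_mul, (D.hkx.symm.pow_pow cc (a * a)).mul_pow, ← pow_mul, ← pow_mul, ← mul_assoc,
        mul_assoc (x ^ (a * i₀)), (D.hxy.symm.pow_pow b (cc * j)).eq, ← mul_assoc, ← pow_add]
    -- the same element up to a power of `x`
    have hrhs : ∃ e : ℕ, r ^ n * g y * (r ^ n)⁻¹ = x ^ e * y ^ b * k ^ (a * a * j) := by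
      have hmul : ∀ (i l e : ℕ), ∃ t : ℕ, (x ^ i * y * k ^ l) ^ e = x ^ t * y ^ e * k ^ (l * e) := by
        intro i l e
        induction e with
        | zero => exact ⟨0, by simp⟩
        | succ e ih =>
          obtain ⟨t, ht⟩ := ih
          refine ⟨t + (i + l * e), ?_⟩
          rw [pow_succ, ht, show x ^ t * y ^ e * k ^ (l * e) * (x ^ i * y * k ^ l) =
            x ^ t * y ^ e * ((k ^ (l * e) * x ^ i * (k ^ (l * e))⁻¹) *
              (k ^ (l * e) * y * (k ^ (l * e))⁻¹)) * (k ^ (l * e) * k ^ l) by group,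
            ((D.hkx.pow_left _).pow_right i).eq, mul_inv_cancel_right, D.conj_kpow,
            ← mul_assoc (x ^ i), ← pow_add, ← pow_add, ← mul_assoc,
            mul_assoc (x ^ t), (D.hxy.symm.pow_pow e (i + l * e)).eq, ← mul_assoc, ← pow_add,
            mul_assoc _ (y ^ e) y, ← pow_succ, show l * e + l = l * (e + 1) by ring]
      obtain ⟨t, ht⟩ := hmul (i₀ * n) (j * n) b
      refine ⟨t, ?_⟩
      rw [hgy, ← conj_pow, hrn, ht]
      congr 1
      refine pow_eq_pow_iff_modEq.mpr (Nat.ModEq.of_dvd (orderOf_dvd_of_pow_eq_one D.hkp)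
        ((ZMod.natCast_eq_natCast_iff _ _ _).mp ?_))
      simp only [n]
      push_cast
      linear_combination ((a : ZMod p) * a * j) * hab
    obtain ⟨e, he⟩ := hrhs
    obtain ⟨s, hs⟩ : ∃ s : ℕ, (s : ZMod p) * b + e = ((a * i₀ + cc * j : ℕ) : ZMod p) := by
      refine ⟨((((a * i₀ + cc * j : ℕ) : ZMod p) - e) * a).val, ?_⟩
      rw [ZMod.natCast_zmod_val]
      linear_combination (((a * i₀ + cc * j : ℕ) : ZMod p) - e) * hab
    refine ⟨s, ?_⟩
    rw [show k ^ s * r ^ n * g y * (k ^ s * r ^ n)⁻¹ = k ^ s * (r ^ n * g y * (r ^ n)⁻¹) * (k ^ s)⁻¹ by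
      group, he, show k ^ s * (x ^ e * y ^ b * k ^ (a * a * j)) * (k ^ s)⁻¹ =
        (k ^ s * x ^ e * (k ^ s)⁻¹) * (k ^ s * y * (k ^ s)⁻¹) ^ b *
          (k ^ s * k ^ (a * a * j) * (k ^ s)⁻¹) by rw [conj_pow]; group,
      ((D.hkx.pow_left s).pow_right e).eq, mul_inv_cancel_right, D.conj_kpow,
      ((Commute.refl k).pow_pow s _).eq, mul_inv_cancel_right, (D.hxy.pow_left s).mul_pow, ← pow_mul,
      hlhs, ← mul_assoc, ← pow_add]
    congr 2
    refine pow_eq_pow_iff_modEq.mpr (hxo ▸ (ZMod.natCast_eq_natCast_iff _ _ _).mp ?_)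
    push_cast at hs ⊢
    linear_combination -hs
  obtain ⟨s, hs⟩ := hgry
  set h := k ^ s * r ^ n with hhdef
  have hhS : h ∈ S := S.mul_mem (hQS (Q.pow_mem hkQ s)) (S.pow_mem hrS n)
  have hhx : Commute h x := (D.hkx.pow_left s).mul_left (hrxc.pow_left n)
  have hhk : Commute h k := ((Commute.refl k).pow_left s).mul_left (hrk.pow_left n)
  have hhgk : Commute h (g k) := hgk ▸ (hhx.pow_right cc).mul_right (hhk.pow_right (a * a))
  have he : ∀ v ∈ Q, g (r * v * r⁻¹) = h * g v * h⁻¹ := by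
    intro v hv
    obtain ⟨i, j', l, rfl⟩ := D.hN v hv
    have hconjy : r * y * r⁻¹ ∈ Q := conj_mem_of_mem_normalizerIn hrN hyQ
    rw [show r * (x ^ i * y ^ j' * k ^ l) * r⁻¹ =
      (r * x ^ i * r⁻¹) * (r * y * r⁻¹) ^ j' * (r * k ^ l * r⁻¹) by rw [conj_pow]; group,
      (hrxc.pow_right i).eq, mul_inv_cancel_right, (hrk.pow_right l).eq, mul_inv_cancel_right,
      hg.map_mul (Q.mul_mem (Q.pow_mem hxQ i) (Q.pow_mem hconjy j')) (Q.pow_mem hkQ l),
      hg.map_mul (Q.pow_mem hxQ i) (Q.pow_mem hconjy j'), hg.map_pow' hconjy, hs,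
      hg.map_mul (Q.mul_mem (Q.pow_mem hxQ i) (Q.pow_mem hyQ j')) (Q.pow_mem hkQ l),
      hg.map_mul (Q.pow_mem hxQ i) (Q.pow_mem hyQ j'), hg.map_pow' hxQ, hg.map_pow' hyQ,
      hg.map_pow' hkQ, hgx, conj_pow,
      show h * ((x ^ a) ^ i * g y ^ j' * g k ^ l) * h⁻¹ = (h * (x ^ a) ^ i * h⁻¹) *
        (h * g y ^ j' * h⁻¹) * (h * g k ^ l * h⁻¹) by group,
      ((hhx.pow_right a).pow_right i).eq, mul_inv_cancel_right, (hhgk.pow_right l).eq,
      mul_inv_cancel_right]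
  obtain ⟨e, heM, heg, hec⟩ := exists_extension_zpowers hS hF hQc hg hgimg hrN hhS he
  have hecQ : h⁻¹ * e r ∈ Q := centralizerIn_le_of_isCentric hQc hec
  obtain ⟨d, hd⟩ := D.of_central hecQ ((mem_centralizerIn.mp hec).2 k hkQ).symm
    ((mem_centralizerIn.mp hec).2 y hyQ).symm
  have her : e r = h * x ^ d := by rw [← hd, mul_inv_cancel_left]
  have hkr : Commute (k ^ s) (r ^ n) := (hrk.symm.pow_pow s n)
  have h1 : e (r ^ p) = r ^ (n * p) := by
    rw [heM.map_pow' (Subgroup.mem_sup_right (Subgroup.mem_zpowers r)), her,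
      (hhx.pow_right d).mul_pow, hkr.mul_pow, ← pow_mul, ← pow_mul, ← pow_mul, mul_comm s p,
      mul_comm d p, pow_mul k p, pow_mul x p, D.hkp, D.hxp, one_pow, one_pow, one_mul, mul_one]
  rw [heg _ hrp, mul_comm n p, pow_mul, hq, hg.map_mul (Q.pow_mem hxQ _) (Q.pow_mem hkQ _),
    hg.map_pow' hxQ, hg.map_pow' hkQ, hgx, hgk, (D.hkx.symm.pow_pow cc (a * a)).mul_pow,
    (D.hkx.symm.pow_pow q₁ q₂).mul_pow, ← pow_mul, ← pow_mul, ← pow_mul, ← pow_mul, ← pow_mul,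
    ← mul_assoc, ← pow_add] at h1
  -- compare coordinates
  obtain ⟨N₁, hN₁⟩ : ∃ N : ℕ, N + q₁ * n = p * (q₁ * n + 1) :=
    ⟨p * (q₁ * n + 1) - q₁ * n, Nat.sub_add_cancel ((Nat.le_succ _).trans (Nat.le_mul_of_pos_left _ hp.out.pos))⟩
  obtain ⟨N₂, hN₂⟩ : ∃ N : ℕ, N + q₂ * n = p * (q₂ * n + 1) :=
    ⟨p * (q₂ * n + 1) - q₂ * n, Nat.sub_add_cancel ((Nat.le_succ _).trans (Nat.le_mul_of_pos_left _ hp.out.pos))⟩
  have h2 : x ^ (a * q₁ + cc * q₂ + N₁) * y ^ 0 * k ^ (a * a * q₂ + N₂) = 1 := by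
    rw [pow_zero, mul_one, pow_add, pow_add k,
      show x ^ (a * q₁ + cc * q₂) * x ^ N₁ * (k ^ (a * a * q₂) * k ^ N₂) =
        x ^ (a * q₁ + cc * q₂) * (x ^ N₁ * k ^ (a * a * q₂)) * k ^ N₂ by group,
      (D.hkx.symm.pow_pow N₁ (a * a * q₂)).eq, ← mul_assoc, h1, mul_assoc (x ^ (q₁ * n)),
      (D.hkx.pow_pow (q₂ * n) N₁).eq, ← mul_assoc, ← pow_add, mul_assoc, ← pow_add,
      add_comm (q₁ * n), add_comm (q₂ * n), hN₁, hN₂, pow_mul x p, pow_mul k p, D.hxp, D.hkp,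
      one_pow, one_pow, one_mul]
  obtain ⟨e1, -, e2⟩ := D.coords h2
  have hN₁' := congrArg (fun t : ℕ => (t : ZMod p)) hN₁
  have hN₂' := congrArg (fun t : ℕ => (t : ZMod p)) hN₂
  simp only [n] at hN₁' hN₂'
  push_cast at e1 e2 hN₁' hN₂'
  rw [ZMod.natCast_self, zero_mul] at hN₁' hN₂'
  have ha1 : (a : ZMod p) ≠ 0 := fun h => by rw [h, zero_mul] at hab; exact zero_ne_one hab
  have hq2 : (q₂ : ZMod p) = 0 := by
    have : (a : ZMod p) * a * (1 - a) * q₂ = 0 := by linear_combination e2 - hN₂'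
    refine (mul_eq_zero.mp this).resolve_left (mul_ne_zero (mul_ne_zero ha1 ha1) fun h => ha2 ?_)
    linear_combination (-(a : ZMod p) - 1) * h
  have hq1 : (q₁ : ZMod p) = 0 := by
    have : (a : ZMod p) * (1 - a * a) * q₁ = 0 := by
      linear_combination e1 - hN₁' - (cc : ZMod p) * hq2
    refine (mul_eq_zero.mp this).resolve_left (mul_ne_zero ha1 fun h => ha2 ?_)
    linear_combination -h
  obtain ⟨t₁', ht₁'⟩ := (ZMod.natCast_eq_zero_iff q₁ p).mp hq1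
  obtain ⟨t₂', ht₂'⟩ := (ZMod.natCast_eq_zero_iff q₂ p).mp hq2
  apply hrp1
  rw [hq, ht₁', ht₂', pow_mul, pow_mul, D.hxp, D.hkp, one_pow, one_pow, mul_one]

end SqData

/-- For `p ≥ 5` and rank two, an essential subgroup of order `p ^ 2` forces order `p ^ 3` and
exponent `p`. -/
theorem card_and_exponent_of_essential_sq (hS : IsPGroup p S) (hF : F.IsSaturated p) (hp5 : 5 ≤ p)
    (hrank3 : ∀ E : Subgroup Ω, E ≤ S → Cfsg.IsElementaryAbelian p E → Nat.card E ≤ p ^ 2)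
    (hP : F.IsEssential p P) (hcard : Nat.card P = p ^ 2) (hexp : ∀ v ∈ P, v ^ p = 1) :
    Nat.card S = p ^ 3 ∧ Monoid.exponent S = p := by
  obtain ⟨x, y, k, D⟩ := exists_sqData hS hF hp5 hP hcard hexp
  by_cases hle : S ≤ normalizerIn S P
  · have heq : normalizerIn S P = S := le_antisymm normalizerIn_le hle
    refine ⟨by rw [← D.hQ, heq], ?_⟩
    have hd : Monoid.exponent S ∣ p := Monoid.exponent_dvd_of_forall_pow_eq_one fun v =>
      Subtype.ext (D.exp_p (by omega) (hle v.2))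
    refine ((Nat.dvd_prime hp.out).mp hd).resolve_left fun h => D.hx1 ?_
    have := Monoid.pow_exponent_eq_one (⟨x, hP.1.1 D.hx⟩ : S)
    rw [h, pow_one] at this
    exact congrArg Subtype.val this
  · exact (D.false_of_lt hS hF hp5 hP hrank3 hle).elim

end Cfsg.Agent.Fusion
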