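import Cfsg.Agent.Lib.Fusion.CommutatorClassTwo
import Cfsg.Agent.Lib.AutPSL.Sylow

/-!
Groups isomorphic to a Sylow subgroup of `SL₃` in the defining characteristic.
-/

set_option autoImplicit false

namespace Cfsg.Agent.Fusion.SLThree

open Cfsg.Agent.AutPSL
open Cfsg.FusionSystem (centralizerIn)
open scoped MatrixGroups

universe u v

variable {K : Type v} [Field K]

local notation "SL3" => Matrix.SpecialLinearGroup (Fin 3) K
local notation "M3" => Matrix (Fin 3) (Fin 3) K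

/-- The three coordinates of a unitriangular matrix. -/
def crd (u : upperU 3 K) : K × K × K :=
  (((u : SL3) : M3) 0 1, ((u : SL3) : M3) 1 2, ((u : SL3) : M3) 0 2)

theorem crd_mul (u v : upperU 3 K) :
    crd (u * v) = ((crd u).1 + (crd v).1, (crd u).2.1 + (crd v).2.1,
      (crd u).2.2 + (crd v).2.2 + (crd u).1 * (crd v).2.1) := by
  obtain ⟨hu, hu'⟩ := mem_upperU.mp u.2
  obtain ⟨hv, hv'⟩ := mem_upperU.mp v.2
  have e : ∀ i j : Fin 3, (((u * v : upperU 3 K) : SL3) : M3) i j =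
      ∑ k, ((u : SL3) : M3) i k * ((v : SL3) : M3) k j := fun i j => by
    rw [Subgroup.coe_mul, Matrix.SpecialLinearGroup.coe_mul, Matrix.mul_apply]
  simp only [crd, e, Fin.sum_univ_three, hu', hv', hu 1 0 (by decide), hu 2 0 (by decide),
    hu 2 1 (by decide), hv 1 0 (by decide), hv 2 0 (by decide), hv 2 1 (by decide)]
  refine Prod.ext ?_ (Prod.ext ?_ ?_) <;> simp <;> ring

theorem crd_bijective : Function.Bijective (crd : upperU 3 K → K × K × K) := by
  constructor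
  · intro u v h
    obtain ⟨hu, hu'⟩ := mem_upperU.mp u.2
    obtain ⟨hv, hv'⟩ := mem_upperU.mp v.2
    simp only [crd, Prod.mk.injEq] at h
    apply Subtype.ext
    apply Subtype.ext
    ext i j
    fin_cases i <;> fin_cases j <;>
      first
        | exact h.1
        | exact h.2.1
        | exact h.2.2
        | exact (hu' _).trans (hv' _).symm
        | exact (hu _ _ (by decide)).trans (hv _ _ (by decide)).symm
  · rintro ⟨a, b, c⟩
    refine ⟨⟨⟨!![1, a, c; 0, 1, b; 0, 0, 1], by simp [Matrix.det_fin_three]⟩,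
      mem_upperU.mpr ⟨fun i j hij => ?_, fun i => ?_⟩⟩, ?_⟩
    · fin_cases i <;> fin_cases j <;> simp_all
    · fin_cases i <;> rfl
    · rfl

theorem exists_sylow [Finite K] (p : ℕ) [Fact p.Prime] [CharP K p] :
    ∃ T : Sylow p SL3, (T : Subgroup SL3) = upperU 3 K := by
  have hU : IsPGroup p (upperU 3 K) := fun u => ⟨3, Subtype.ext (upperU_pow p u.2)⟩
  refine ⟨⟨upperU 3 K, hU, fun {Q} hQ hle => ?_⟩, rfl⟩
  have hmap : Q.map (proj 3 K) = projU 3 K :=
    (sylU p).is_maximal' (hQ.map _) (Subgroup.map_mono hle)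
  refine le_antisymm (fun q hq => ?_) hle
  obtain ⟨u, hu, huq⟩ : proj 3 K q ∈ projU 3 K := hmap ▸ ⟨q, hq, rfl⟩
  obtain ⟨k, hk⟩ := hQ ⟨q, hq⟩
  exact eq_of_proj_eq p (upperU_pow p hu) (show q ^ p ^ k = 1 from congrArg Subtype.val hk) huq ▸ hu

variable {Ω : Type u} [Group Ω] {S : Subgroup Ω} [Finite S] {p : ℕ} [Fact p.Prime]

/-- Such a group is special with large abelian centralizers. -/
theorem specialCent [Finite K] [CharP K p] (T : Sylow p SL3) (e : ↥S ≃* ↥(T : Subgroup SL3)) :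
    ∃ Z : Subgroup Ω, SpecialCent S Z := by
  obtain ⟨T₀, hT₀⟩ := exists_sylow (K := K) p
  let ψ : S ≃* upperU 3 K := e.trans ((Sylow.equiv T T₀).trans (MulEquiv.subgroupCongr hT₀))
  let j : S → K × K × K := fun s => crd (ψ s)
  have hj : Function.Bijective j := crd_bijective.comp ψ.bijective
  have hmul : ∀ s t : S, j (s * t) = ((j s).1 + (j t).1, (j s).2.1 + (j t).2.1,
      (j s).2.2 + (j t).2.2 + (j s).1 * (j t).2.1) := fun s t => by
    simp only [j, map_mul, crd_mul]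
  have hcomm : ∀ s t : S, Commute s t ↔ (j s).1 * (j t).2.1 = (j t).1 * (j s).2.1 := by
    intro s t
    rw [commute_iff_eq, ← hj.1.eq_iff, hmul, hmul]
    simp only [Prod.mk.injEq]
    constructor
    · intro h; linear_combination h.2.2
    · intro h; exact ⟨add_comm _ _, add_comm _ _, by linear_combination h⟩
  have h1 : j 1 = (0, 0, 0) := by
    have h := hmul 1 1
    rw [mul_one] at h
    obtain ⟨ha, hb, hc⟩ := Prod.ext_iff.mp h |>.imp id Prod.ext_iff.mp
    simp only at ha hb hc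
    have ha' : (j 1).1 = 0 := by linear_combination -ha
    have hb' : (j 1).2.1 = 0 := by linear_combination -hb
    refine Prod.ext ha' (Prod.ext hb' ?_)
    rw [ha', zero_mul, add_zero] at hc
    show (j 1).2.2 = 0
    linear_combination -hc
  let Z₀ : Subgroup S :=
    { carrier := {s | (j s).1 = 0 ∧ (j s).2.1 = 0}
      one_mem' := by simp [h1]
      mul_mem' := fun {a b} ha hb => by
        simp only [Set.mem_setOf_eq] at ha hb ⊢
        rw [hmul]; simp [ha.1, ha.2, hb.1, hb.2]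
      inv_mem' := fun {a} ha => by
        simp only [Set.mem_setOf_eq] at ha ⊢
        have h := hmul a a⁻¹
        rw [mul_inv_cancel, h1] at h
        simp only [Prod.mk.injEq, ha.1, ha.2, zero_add] at h
        exact ⟨h.1.symm, h.2.1.symm⟩ }
  set Z := Z₀.map S.subtype with hZ
  have hmemZ : ∀ s : S, (s : Ω) ∈ Z ↔ (j s).1 = 0 ∧ (j s).2.1 = 0 := fun s => by
    rw [hZ]
    exact (Subgroup.mem_map_iff_mem (Subgroup.subtype_injective S) (K := Z₀) (x := s))
  have hcardK : Nat.card Z = Nat.card K := by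
    rw [hZ, ← Nat.card_congr (Z₀.equivMapOfInjective _ (Subgroup.subtype_injective S)).toEquiv]
    refine Nat.card_eq_of_bijective (fun z : Z₀ => (j z).2.2) ⟨fun a b h => ?_, fun c => ?_⟩
    · refine Subtype.ext (hj.1 (Prod.ext (a.2.1.trans b.2.1.symm)
        (Prod.ext (a.2.2.trans b.2.2.symm) h)))
    · obtain ⟨s, hs⟩ := hj.2 (0, 0, c)
      exact ⟨⟨s, by simp [Z₀, hs]⟩, by simp [hs]⟩
  refine ⟨Z, ⟨Subgroup.map_subtype_le _, ?_, ?_, ?_, ?_, ?_⟩⟩
  · rintro _ ⟨z, hz, rfl⟩ s hs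
    refine congrArg Subtype.val ((hcomm z ⟨s, hs⟩).mpr ?_).eq
    rw [hz.1, hz.2, zero_mul, mul_zero]
  · intro x hx y hy
    refine (hmemZ ((⟨x, hx⟩ : S)⁻¹ * (⟨y, hy⟩ * ⟨x, hx⟩ * (⟨y, hy⟩ : S)⁻¹))).mpr ?_
    set X : S := ⟨x, hx⟩
    set Y : S := ⟨y, hy⟩
    have hi : ∀ s : S, (j s⁻¹).1 = -(j s).1 ∧ (j s⁻¹).2.1 = -(j s).2.1 := by
      intro s
      have h := hmul s s⁻¹
      rw [mul_inv_cancel, h1] at h
      simp only [Prod.mk.injEq] at h
      exact ⟨by linear_combination -h.1, by linear_combination -h.2.1⟩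
    simp only [hmul, (hi X).1, (hi X).2, (hi Y).1, (hi Y).2]
    constructor <;> ring
  · intro x hx hxZ a ha b hb
    rw [mem_cent_zpowers] at ha hb
    have hne : ¬ ((j ⟨x, hx⟩).1 = 0 ∧ (j ⟨x, hx⟩).2.1 = 0) := fun h => hxZ ((hmemZ ⟨x, hx⟩).mpr h)
    have ea := (hcomm ⟨x, hx⟩ ⟨a, ha.1⟩).mp (Subtype.ext ha.2.eq)
    have eb := (hcomm ⟨x, hx⟩ ⟨b, hb.1⟩).mp (Subtype.ext hb.2.eq)
    refine congrArg Subtype.val ((hcomm ⟨a, ha.1⟩ ⟨b, hb.1⟩).mpr ?_).eq
    by_cases h0 : (j ⟨x, hx⟩).1 = 0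
    · have h0' : (j ⟨x, hx⟩).2.1 ≠ 0 := fun h => hne ⟨h0, h⟩
      refine mul_left_cancel₀ h0' ?_
      linear_combination (j ⟨a, ha.1⟩).2.1 * eb - (j ⟨b, hb.1⟩).2.1 * ea
    · refine mul_left_cancel₀ h0 ?_
      linear_combination (j ⟨a, ha.1⟩).1 * eb - (j ⟨b, hb.1⟩).1 * ea
  · intro x hx hxZ
    have hne : ¬ ((j ⟨x, hx⟩).1 = 0 ∧ (j ⟨x, hx⟩).2.1 = 0) := fun h => hxZ ((hmemZ ⟨x, hx⟩).mpr h)
    rw [hcardK, ← Nat.card_prod]
    symm
    set a := (j ⟨x, hx⟩).1
    set b := (j ⟨x, hx⟩).2.1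
    choose g hg using fun w : K × K => hj.2 (w.1 * a, w.1 * b, w.2)
    refine Nat.card_eq_of_bijective (fun w => (⟨g w, mem_cent_zpowers.mpr ⟨(g w).2, ?_⟩⟩ :
      centralizerIn S (Subgroup.zpowers x))) ⟨fun w w' h => ?_, fun y => ?_⟩
    · refine congrArg Subtype.val ((hcomm ⟨x, hx⟩ (g w)).mpr ?_).eq
      rw [hg]
      show a * (w.1 * b) = w.1 * a * b
      ring
    · have h2 : ((g w : S) : Ω) = g w' :=
        congrArg (fun z : centralizerIn S (Subgroup.zpowers x) => (z : Ω)) h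
      have h' := congrArg j (Subtype.ext h2 : g w = g w')
      rw [hg, hg] at h'
      simp only [Prod.mk.injEq] at h'
      refine Prod.ext ?_ h'.2.2
      by_cases h0 : a = 0
      · exact mul_right_cancel₀ (fun h => hne ⟨h0, h⟩) h'.2.1
      · exact mul_right_cancel₀ h0 h'.1
    · obtain ⟨hyS, hy⟩ := mem_cent_zpowers.mp y.2
      have ey : a * (j ⟨y, hyS⟩).2.1 = (j ⟨y, hyS⟩).1 * b :=
        (hcomm ⟨x, hx⟩ ⟨y, hyS⟩).mp (Subtype.ext hy.eq)
      obtain ⟨t, ht1, ht2⟩ : ∃ t, t * a = (j ⟨y, hyS⟩).1 ∧ t * b = (j ⟨y, hyS⟩).2.1 := by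
        by_cases h0 : a = 0
        · have hb : b ≠ 0 := fun h => hne ⟨h0, h⟩
          refine ⟨(j ⟨y, hyS⟩).2.1 / b, ?_, div_mul_cancel₀ _ hb⟩
          rw [h0, zero_mul] at ey
          rw [h0, mul_zero, (mul_eq_zero.mp ey.symm).resolve_right hb]
        · refine ⟨(j ⟨y, hyS⟩).1 / a, div_mul_cancel₀ _ h0, ?_⟩
          field_simp
          linear_combination -ey
      have hgy : g (t, (j ⟨y, hyS⟩).2.2) = ⟨y, hyS⟩ := hj.1 (by rw [hg]; simp [ht1, ht2])
      exact ⟨(t, (j ⟨y, hyS⟩).2.2), Subtype.ext (by simp [hgy])⟩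
  · rw [hcardK, Nat.card_eq_of_bijective j hj, Nat.card_prod, Nat.card_prod]

end Cfsg.Agent.Fusion.SLThree
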