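import Cfsg.Agent.Lib.Fusion.Group
import Cfsg.Agent.Lib.Fusion.Alperin
import Cfsg.Agent.Lib.Fusion.NormalizerStable

/-!
A criterion for saturation (Broto, Castellana, Grodal, Levi, Oliver): it is enough to check a
family of subgroups generating the system and containing the centric radical ones.
-/

set_option autoImplicit false

namespace Cfsg.Agent.Fusion

open Cfsg.FusionSystem (centralizerIn normalizerIn)

variable {Ω : Type*} [Group Ω] {S : Subgroup Ω} {F : FusionSystem S}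
variable {P P' Q R X Y : Subgroup Ω} {f g h e : Ω → Ω} {p : ℕ}

/-! ### Chains of restrictions -/

/-- `f` on `P` is a composite of restrictions of maps defined on strictly larger subgroups. -/
inductive Chain (F : FusionSystem S) : Subgroup Ω → (Ω → Ω) → Prop
  | one (P : Subgroup Ω) (g : Ω → Ω) (hP : P ≤ S) (hg : ∀ x ∈ P, g x = x) : Chain F P g
  | step (P X : Subgroup Ω) (e f g : Ω → Ω) (hPX : P < X) (he : MapTo F X e)
      (hf : Chain F (img e P) f) (hg : ∀ x ∈ P, g x = f (e x)) : Chain F P g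

namespace Chain

theorem mapTo (hc : Chain F P f) : MapTo F P f := by
  induction hc with
  | one P g hP hg => exact (mapTo_id F hP).congr' hg
  | step P X e f g hPX he _ hg ih =>
    exact ((he.restrict hPX.le).comp ih fun x hx => mem_img_of_mem hx).congr' hg

theorem congr_fun (hc : Chain F P f) (hfg : ∀ x ∈ P, g x = f x) : Chain F P g := by
  cases hc with
  | one _ _ hP hg => exact .one P g hP fun x hx => (hfg x hx).trans (hg x hx)
  | step _ X e f' _ hPX he hf hg =>
    exact .step P X e f' g hPX he hf fun x hx => (hfg x hx).trans (hg x hx)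

theorem single (hPX : P < X) (he : MapTo F X e) : Chain F P e :=
  .step P X e (fun x => x) e hPX he
    (.one _ _ ((img_mono hPX.le).trans he.img_le) fun _ _ => rfl) fun _ _ => rfl

theorem trans (hc : Chain F P f) : ∀ {g : Ω → Ω}, Chain F (img f P) g →
    Chain F P (fun x => g (f x)) := by
  induction hc with
  | one P g₀ hP hg₀ =>
    intro g hg
    rw [img_congr (g := fun x => x) hg₀, img_id] at hg
    exact hg.congr_fun fun x hx => congrArg g (hg₀ x hx)
  | step P X e f g₀ hPX he hf hg₀ ih =>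
    intro g hg
    have h1 : img g₀ P = img f (img e P) := by
      rw [(he.restrict hPX.le).img_img le_rfl]; exact img_congr hg₀
    rw [h1] at hg
    exact .step P X e (fun x => g (f x)) _ hPX he (ih hg) fun x hx => congrArg g (hg₀ x hx)

theorem inverse (hc : Chain F P f) : ∀ {g : Ω → Ω}, (∀ x ∈ P, g (f x) = x) →
    Chain F (img f P) g := by
  induction hc with
  | one P g₀ hP hg₀ =>
    intro g hg
    rw [img_congr (g := fun x => x) hg₀, img_id]
    exact .one P g hP fun x hx => by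
      have := hg x hx
      rwa [hg₀ x hx] at this
  | step P X e f g₀ hPX he hf hg₀ ih =>
    intro g hg
    have hg₀' : img g₀ P = img f (img e P) := by
      rw [(he.restrict hPX.le).img_img le_rfl]; exact img_congr hg₀
    rw [hg₀']
    obtain ⟨k, hk, hke, -, hkimg⟩ := he.exists_iso_inverse
    have h1 : Chain F (img f (img e P)) (fun y => e (g y)) := ih fun y hy => by
      obtain ⟨x, hx, rfl⟩ := ((he.restrict hPX.le).mem_img_iff le_rfl).mp hy
      show e (g (f (e x))) = e x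
      rw [← hg₀ x hx, hg x hx]
    have h2 : img e P < img e X := lt_of_le_not_ge (img_mono hPX.le)
      fun hle => hPX.not_ge ((he.img_le_img_iff le_rfl hPX.le).mp hle)
    have h3 : img (fun y => e (g y)) (img f (img e P)) = img e P := by
      rw [hf.mapTo.img_img le_rfl]
      refine (img_congr fun y hy => ?_).trans img_id
      obtain ⟨x, hx, rfl⟩ := ((he.restrict hPX.le).mem_img_iff le_rfl).mp hy
      rw [← hg₀ x hx, hg x hx]
    refine (h1.trans (h3.symm ▸ single h2 hk)).congr_fun fun y hy => ?_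
    obtain ⟨z, hz, rfl⟩ := (hf.mapTo.mem_img_iff le_rfl).mp hy
    obtain ⟨x, hx, rfl⟩ := ((he.restrict hPX.le).mem_img_iff le_rfl).mp hz
    show g (f (e x)) = k (e (g (f (e x))))
    rw [← hg₀ x hx, hg x hx, hke x (hPX.le hx)]

end Chain

/-! ### Automorphisms and extension -/

/-- The automorphisms in `Aut_F(X)` stabilizing `A`. -/
def stabAut (F : FusionSystem S) (X A : Subgroup Ω) (hA : A ≤ X) : Subgroup (MulAut X) where
  carrier := {α | α ∈ F.autGroup X ∧ ∀ x ∈ X, (autFun α x ∈ A ↔ x ∈ A)}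
  one_mem' := ⟨Subgroup.one_mem _, fun x hx => by rw [autFun_one hx]⟩
  mul_mem' := by
    rintro a b ⟨ha, ha'⟩ ⟨hb, hb'⟩
    refine ⟨Subgroup.mul_mem _ ha hb, fun x hx => ?_⟩
    rw [autFun_mul _ _ hx, ha' _ (autFun_mem b hx), hb' x hx]
  inv_mem' := by
    rintro a ⟨ha, ha'⟩
    refine ⟨Subgroup.inv_mem _ ha, fun x hx => ?_⟩
    rw [← ha' _ (autFun_mem a⁻¹ hx), autFun_autFun_inv a hx]

theorem congr_comp_aut {X' : Subgroup Ω} (hh : MapTo F X h) (hX : img h X = X') {δ : MulAut X'}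
    (hh' : MapTo F X g) (hX' : img g X = X') (hg : ∀ x ∈ X, g x = autFun δ (h x)) (α : MulAut X) :
    MulAut.congr (isoEquiv hh' hX') α = δ * MulAut.congr (isoEquiv hh hX) α * δ⁻¹ := by
  refine autFun_ext fun y hy => ?_
  obtain ⟨x, hx, rfl⟩ := (hh'.mem_img_iff le_rfl).mp (hX'.symm ▸ hy : y ∈ img g X)
  have hhx : h x ∈ X' := hX ▸ mem_img_of_mem hx
  rw [autFun_congr hh' hX' α hx, autFun_mul _ _ hy, autFun_mul _ _ (autFun_mem _ hy),
    hg x hx, autFun_inv_autFun δ hhx, autFun_congr hh hX α hx, hg _ (autFun_mem α hx)]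

theorem exists_extension {X' : Subgroup Ω} (hR : F.IsReceptive X') (hh : MapTo F X h)
    (hX : img h X = X') (hY : Y ≤ normalizerIn S X)
    (hU : (autInducedBy Y X).map (MulAut.congr (isoEquiv hh hX)).toMonoidHom ≤
      autInducedBy S X') : ∃ g, MapTo F Y g ∧ ∀ x ∈ X, g x = h x := by
  obtain ⟨g, hg, hgh⟩ := (isReceptive_iff.mp hR).2 X h hh hX
  refine ⟨g, hg.restrict fun k hk => ?_, hgh⟩
  obtain ⟨α, hα⟩ := exists_conjAut (P := X) (hY hk).2
  obtain ⟨k', hk', hk'x⟩ := mem_autInducedBy_iff_cj.mp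
    (hU ⟨α, mem_autInducedBy_iff_cj.mpr ⟨k, hk, hα⟩, rfl⟩)
  refine ⟨hY hk, k', hk', fun x hx => ?_⟩
  have h1 := hk'x (h x) (hX ▸ mem_img_of_mem hx)
  rw [MulEquiv.toMonoidHom_eq_coe, MonoidHom.coe_coe, autFun_congr hh hX α hx, hα x hx] at h1
  exact h1

/-- The elements of `N_S(Q)` acting on `Q` as members of `L`. -/
def preSub (S Q : Subgroup Ω) (L : Subgroup (MulAut Q)) : Subgroup Ω where
  carrier := {y | y ∈ normalizerIn S Q ∧ ∃ α ∈ L, ∀ x ∈ Q, autFun α x = cj y x}
  one_mem' := ⟨Subgroup.one_mem _, 1, Subgroup.one_mem _, fun x hx => by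
    rw [autFun_one hx, cj_one]⟩
  mul_mem' := by
    rintro a b ⟨ha, α, hα, hax⟩ ⟨hb, β, hβ, hbx⟩
    refine ⟨Subgroup.mul_mem _ ha hb, α * β, Subgroup.mul_mem _ hα hβ, fun x hx => ?_⟩
    rw [autFun_mul _ _ hx, hax _ (autFun_mem β hx), hbx x hx, ← cj_mul]
  inv_mem' := by
    rintro a ⟨ha, α, hα, hax⟩
    refine ⟨Subgroup.inv_mem _ ha, α⁻¹, Subgroup.inv_mem _ hα, fun x hx => ?_⟩
    have h1 := hax _ (autFun_mem α⁻¹ hx)
    rw [autFun_autFun_inv α hx] at h1
    conv_rhs => rw [h1]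
    rw [cj_inv_cancel]

/-! ### The inductive step -/

/-- Some conjugate is fully automized and receptive. -/
def HasGood (F : FusionSystem S) (p : ℕ) (X : Subgroup Ω) : Prop :=
  ∃ Y, F.IsConj X Y ∧ F.IsFullyAutomized p Y ∧ F.IsReceptive Y

/-- Two subgroups have a common image under maps defined on their normalizers. -/
def Rel (F : FusionSystem S) (P P' : Subgroup Ω) : Prop :=
  ∃ (D : Subgroup Ω) (a a' : Ω → Ω), MapTo F (normalizerIn S P) a ∧ img a P = D ∧
    MapTo F (normalizerIn S P') a' ∧ img a' P' = D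

theorem Rel.symm (h : Rel F P P') : Rel F P' P :=
  let ⟨D, a, a', h1, h2, h3, h4⟩ := h
  ⟨D, a', a, h3, h4, h1, h2⟩

variable [Finite S] [Fact p.Prime]

section Step

variable (hS : IsPGroup p S) {P₀ : Subgroup Ω} (hP₀ : P₀ < S)
  (hbig : ∀ X : Subgroup Ω, X ≤ S → Nat.card P₀ < Nat.card X → HasGood F p X)

omit [Fact p.Prime] in
theorem card_lt_of_lt (hXY : X < Y) (hY : Y ≤ S) : Nat.card X < Nat.card Y := by
  have := finite_of_le hY
  refine lt_of_le_of_ne (Subgroup.card_le_of_le hXY.le) fun h => ?_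
  exact hXY.ne (Subgroup.eq_of_le_of_card_ge hXY.le h.ge)

omit [Fact p.Prime] in
include hP₀ in
theorem lt_of_isConj₀ (hP : F.IsConj P₀ P) : P < S := by
  refine lt_of_le_of_ne (isConj_le_right hP) fun h => ?_
  have h1 := isConj_card hP
  rw [h] at h1
  exact hP₀.ne (Subgroup.eq_of_le_of_card_ge hP₀.le h1.le)

omit [Fact p.Prime] in
theorem img_lt (he : MapTo F X e) (hPX : P < X) : img e P < img e X :=
  lt_of_le_not_ge (img_mono hPX.le) fun hle => hPX.not_ge ((he.img_le_img_iff le_rfl hPX.le).mp hle)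

include hS hP₀ in
theorem rel_trans {B : Subgroup Ω} (hB : F.IsConj P₀ B) {n : ℕ} (hn : n ≤ Nat.card (normalizerIn S B))
    (ih : ∀ (X : Subgroup Ω), n ≤ Nat.card X → ∀ (P P' : Subgroup Ω) (e : Ω → Ω), F.IsConj P₀ P →
      P < X → X ≤ normalizerIn S P → MapTo F X e → img e P = P' → Rel F P P')
    (hPS : P ≤ S) (hP'S : P' ≤ S) (h₁ : Rel F P B) (h₂ : Rel F B P') : Rel F P P' := by
  obtain ⟨D₁, a, a', ha, haD, ha', ha'D⟩ := h₁
  obtain ⟨D₂, b, b', hb, hbD, hb', hb'D⟩ := h₂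
  have hBS := lt_of_isConj₀ hP₀ hB
  have hBN : B < normalizerIn S B := lt_normalizerIn hS hBS
  obtain ⟨k, hk, hka, -, hkimg⟩ := ha'.exists_iso_inverse
  set X := img a' (normalizerIn S B) with hX
  have hkX : ∀ y ∈ X, k y ∈ normalizerIn S B := fun y hy => by
    obtain ⟨z, hz, rfl⟩ := (ha'.mem_img_iff le_rfl).mp hy
    rw [hka z hz]; exact hz
  have hXN : X ≤ normalizerIn S D₁ := ha'D ▸ img_le_of_forall fun z hz =>
    ha'.map_mem_normalizerIn hBN.le hz hz
  have hD : img (fun y => b (k y)) D₁ = D₂ := by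
    have hD1 : D₁ ≤ X := ha'D ▸ img_mono hBN.le
    rw [← hk.img_img hD1, ← ha'D, hkimg B hBN.le, hbD]
  obtain ⟨D, c, c', hc, hcD, hc', hc'D⟩ := ih X (hn.trans (ha'.card_img le_rfl).ge) D₁ D₂
    (fun y => b (k y))
    (isConj_trans hB (ha'D ▸ (ha'.restrict hBN.le).isConj)) (ha'D ▸ img_lt ha' hBN) hXN
    (hk.comp hb hkX) hD
  have hPN := le_normalizerIn (S := S) hPS
  have hPN' := le_normalizerIn (S := S) hP'S
  refine ⟨D, fun x => c (a x), fun x => c' (b' x), ha.comp hc fun x hx => ?_, ?_,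
    hb'.comp hc' fun x hx => ?_, ?_⟩
  · exact haD ▸ ha.map_mem_normalizerIn hPN hx hx
  · rw [← ha.img_img hPN, haD, hcD]
  · exact hb'D ▸ hb'.map_mem_normalizerIn hPN' hx hx
  · rw [← hb'.img_img hPN', hb'D, hc'D]

include hS hP₀ hbig in
/-- A map defined on a larger subgroup relates a subgroup to its image. -/
theorem rel_of_map : ∀ (X P P' : Subgroup Ω) (e : Ω → Ω), F.IsConj P₀ P → P < X →
    X ≤ normalizerIn S P → MapTo F X e → img e P = P' → Rel F P P' := by
  intro X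
  induction hk : Nat.card S - Nat.card X using Nat.strong_induction_on generalizing X with
  | h k ih =>
  intro P P' e hP hPX hXP he hP'
  have hPS := isConj_le_right hP
  have heP : MapTo F P e := he.restrict hPX.le
  have hPP' : F.IsConj P P' := hP' ▸ heP.isConj
  have hP'c : F.IsConj P₀ P' := isConj_trans hP hPP'
  have hP'S := isConj_le_right hP'c
  set X' := img e X with hX'
  have hX'P : X' ≤ normalizerIn S P' := hP' ▸ img_le_of_forall fun z hz =>
    he.map_mem_normalizerIn hPX.le hz (hXP hz)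
  have hP'X : P' < X' := hP' ▸ img_lt he hPX
  obtain ⟨e', he', he'e, -, he'img⟩ := he.exists_iso_inverse
  rcases eq_or_lt_of_le hXP with rfl | hXlt
  · exact ⟨P', e, fun x => x, he, hP', mapTo_id F normalizerIn_le, img_id⟩
  rcases eq_or_lt_of_le hX'P with hX'e | hX'lt
  · refine ⟨P, fun x => x, e', mapTo_id F normalizerIn_le, img_id, hX'e ▸ he', ?_⟩
    rw [← hP', he'img P hPX.le]
  have hXS : X ≤ S := he.le
  have hX'S : X' ≤ S := he.img_le
  have := finite_of_le hXS
  have := finite_of_le (normalizerIn_le (S := S) (P := P))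
  have := finite_of_le (normalizerIn_le (S := S) (P := P'))
  obtain ⟨Xs, hXs, hfa, hrec⟩ := hbig X' hX'S
    (by rw [hX', he.card_img le_rfl, ← isConj_card hP]; exact card_lt_of_lt hPX hXS)
  have hXsS := hfa.1
  have := finite_of_le hXsS
  have := finite_mulAut Xs
  obtain ⟨χ, hχ, hχX⟩ := exists_map_normalizerIn hS hfa hrec hXs
  have hXN' : X' ≤ normalizerIn S X' := le_normalizerIn hX'S
  set A := img χ P' with hA
  have hAX : A ≤ Xs := hχX ▸ img_mono hP'X.le
  have hh : MapTo F X (fun x => χ (e x)) := he.comp hχ fun x hx => hXN' (mem_img_of_mem hx)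
  have hhX : img (fun x => χ (e x)) X = Xs := by rw [← he.img_img le_rfl]; exact hχX
  have hhP : img (fun x => χ (e x)) P = A := by rw [← heP.img_img le_rfl, hP']
  have hh' := hχ.restrict hXN'
  set Y := normalizerIn (normalizerIn S P) X with hY
  set Y' := normalizerIn (normalizerIn S P') X' with hY'
  have hXY : X < Y := lt_normalizerIn (hS.to_le normalizerIn_le) hXlt
  have hXY' : X' < Y' := lt_normalizerIn (hS.to_le normalizerIn_le) hX'lt
  have hYX : Y ≤ normalizerIn S X := fun y hy => ⟨normalizerIn_le hy.1, hy.2⟩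
  have hYX' : Y' ≤ normalizerIn S X' := fun y hy => ⟨normalizerIn_le hy.1, hy.2⟩
  set U := (autInducedBy Y X).map (MulAut.congr (isoEquiv hh hhX)).toMonoidHom with hU
  set U' := (autInducedBy Y' X').map (MulAut.congr (isoEquiv hh' hχX)).toMonoidHom with hU'
  -- both act on `Xs` stabilizing `A`
  have hstab : ∀ {Z W Q : Subgroup Ω} {φ : Ω → Ω} (hφ : MapTo F Z φ) (hφZ : img φ Z = Xs),
      Q ≤ Z → W ≤ normalizerIn S Q → img φ Q = A → W ≤ normalizerIn S Z →
      (autInducedBy W Z).map (MulAut.congr (isoEquiv hφ hφZ)).toMonoidHom ≤ stabAut F Xs A hAX := by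
    rintro Z W Q φ hφ hφZ hQZ hWQ hφQ hWZ _ ⟨α, hα, rfl⟩
    refine ⟨(map_congr_autGroup hφ hφZ).le ⟨α, autInducedBy_le_autGroup hφ.le
      (autInducedBy_mono (fun w hw => (hWZ hw).1) Z hα), rfl⟩, fun y hy => ?_⟩
    obtain ⟨w, hw, hwα⟩ := mem_autInducedBy_iff_cj.mp hα
    obtain ⟨z, hz, rfl⟩ := (hφ.mem_img_iff le_rfl).mp (hφZ.symm ▸ hy : y ∈ img φ Z)
    rw [MulEquiv.toMonoidHom_eq_coe, MonoidHom.coe_coe, autFun_congr hφ hφZ α hz, ← hφQ,
      hφ.apply_mem_img_iff hQZ (autFun_mem α hz), hφ.apply_mem_img_iff hQZ hz, hwα z hz]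
    exact (Subgroup.mem_normalizer_iff.mp (hWQ hw).2 z).symm
  have hUle : U ≤ stabAut F Xs A hAX := hstab hh hhX hPX.le inf_le_left hhP hYX
  have hU'le : U' ≤ stabAut F Xs A hAX := hstab hh' hχX hP'X.le inf_le_left rfl hYX'
  have hUp : IsPGroup p U := (isPGroup_autInducedBy (hS.to_le (hYX.trans normalizerIn_le)) X).map _
  have hU'p : IsPGroup p U' :=
    (isPGroup_autInducedBy (hS.to_le (hYX'.trans normalizerIn_le)) X').map _
  obtain ⟨W, hU'W, hW⟩ := exists_isSylowIn hU'le hU'p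
  obtain ⟨γ, hγ, hγW⟩ := hW.2.2 U hUle hUp
  obtain ⟨δ, hδ, hδW⟩ := exists_conj_le_autInducedBy hfa (fun w hw => (hW.1 hw).1) hW.2.1
  have hm : MapTo F Xs (autFun (δ * γ)) :=
    mapTo_of_mem_autGroup hXsS (Subgroup.mul_mem _ hδ hγ.1)
  have hm' : MapTo F Xs (autFun δ) := mapTo_of_mem_autGroup hXsS hδ
  have hh1 : MapTo F X (fun x => autFun (δ * γ) (χ (e x))) :=
    hh.comp hm fun x hx => hhX ▸ mem_img_of_mem hx
  have hh1X : img (fun x => autFun (δ * γ) (χ (e x))) X = Xs := by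
    rw [← hh.img_img le_rfl, hhX, img_autFun]
  have hh2 : MapTo F X' (fun x => autFun δ (χ x)) :=
    hh'.comp hm' fun x hx => hχX ▸ mem_img_of_mem hx
  have hh2X : img (fun x => autFun δ (χ x)) X' = Xs := by
    rw [← hh'.img_img le_rfl, hχX, img_autFun]
  obtain ⟨g₁, hg₁, hg₁e⟩ := exists_extension hrec hh1 hh1X hYX (by
    rintro _ ⟨α, hα, rfl⟩
    rw [MulEquiv.toMonoidHom_eq_coe, MonoidHom.coe_coe,
      congr_comp_aut hh hhX hh1 hh1X (δ := δ * γ) (fun _ _ => rfl) α,
      show ∀ u : MulAut Xs, δ * γ * u * (δ * γ)⁻¹ = δ * (γ * u * γ⁻¹) * δ⁻¹ from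
        fun u => by group]
    exact hδW _ (hγW _ ⟨α, hα, rfl⟩))
  obtain ⟨g₂, hg₂, hg₂e⟩ := exists_extension hrec hh2 hh2X hYX' (by
    rintro _ ⟨α, hα, rfl⟩
    rw [MulEquiv.toMonoidHom_eq_coe, MonoidHom.coe_coe,
      congr_comp_aut hh' hχX hh2 hh2X (δ := δ) (fun _ _ => rfl) α]
    exact hδW _ (hU'W ⟨α, hα, rfl⟩))
  set C := img g₂ P' with hC
  have hg₁P : img g₁ P = C := by
    rw [img_congr (fun x hx => hg₁e x (hPX.le hx)), hC,
      img_congr (fun x hx => hg₂e x (hP'X.le hx))]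
    rw [← hh.img_img hPX.le (autFun (δ * γ)), hhP, ← hh'.img_img hP'X.le (autFun δ), ← hA]
    rw [img_congr (g := fun a => autFun δ (autFun γ a)) fun a ha => autFun_mul δ γ (hAX ha),
      ← ((mapTo_of_mem_autGroup hXsS hγ.1).restrict hAX).img_img le_rfl (autFun δ)]
    congr 1
    have := finite_of_le (hAX.trans hXsS)
    exact img_eq_self_of_forall ((mapTo_of_mem_autGroup hXsS hγ.1).restrict hAX)
      fun a ha => (hγ.2 a (hAX ha)).mpr ha
  have hcardY : Nat.card X < Nat.card Y := card_lt_of_lt hXY (hYX.trans normalizerIn_le)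
  have hcardY' : Nat.card X < Nat.card Y' := by
    rw [← he.card_img le_rfl]; exact card_lt_of_lt hXY' (hYX'.trans normalizerIn_le)
  have hS' : ∀ Z : Subgroup Ω, Z ≤ S → Nat.card Z ≤ Nat.card S := fun Z hZ =>
    Subgroup.card_le_of_le hZ
  have r₁ : Rel F P C := ih _ (by have := hS' X hXS; have := hS' Y hg₁.le; omega) Y rfl P C g₁ hP
    (hPX.trans hXY) inf_le_left hg₁ hg₁P
  have r₂ : Rel F P' C := ih _ (by have := hS' X hXS; have := hS' Y' hg₂.le; omega) Y' rfl P' C g₂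
    hP'c (hP'X.trans hXY') inf_le_left hg₂ rfl
  have hCc : F.IsConj P₀ C := isConj_trans hP (hg₁P ▸ (hg₁.restrict (hPX.trans hXY).le).isConj)
  have hCN : Nat.card Y ≤ Nat.card (normalizerIn S C) := by
    rw [← hg₁.card_img le_rfl]
    have := finite_of_le (normalizerIn_le (S := S) (P := C))
    exact Subgroup.card_le_of_le (hg₁P ▸ img_le_of_forall fun z hz =>
      hg₁.map_mem_normalizerIn (hPX.trans hXY).le hz hz.1)
  refine rel_trans hS hP₀ hCc hCN (fun Z hZ P₁ P₂ e₁ h₁ h₂ h₃ h₄ h₅ => ?_) hPS hP'S r₁ r₂.symm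
  have := hS' X hXS
  have := hS' Z h₄.le
  exact ih _ (by omega) Z rfl P₁ P₂ e₁ h₁ h₂ h₃ h₄ h₅

variable (hchain : ∀ (P : Subgroup Ω) (f : Ω → Ω), F.IsConj P₀ P → MapTo F P f → Chain F P f)

include hS hP₀ hbig hchain in
theorem rel_of_chain (hc : Chain F P f) (hP : F.IsConj P₀ P) : Rel F P (img f P) := by
  clear hchain
  induction hc with
  | one P g hPS hg =>
    refine ⟨P, fun x => x, fun x => x, mapTo_id F normalizerIn_le, img_id, ?_⟩
    rw [img_congr (g := fun x => x) hg, img_id]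
    exact ⟨mapTo_id F normalizerIn_le, img_id⟩
  | step P X e f g hPX he hf hg ih =>
    have hPS := isConj_le_right hP
    have heP := he.restrict hPX.le
    have hPe : F.IsConj P₀ (img e P) := isConj_trans hP heP.isConj
    have := finite_of_le he.le
    have hlt : P < normalizerIn X P := lt_normalizerIn (hS.to_le he.le) hPX
    have r := rel_of_map hS hP₀ hbig (normalizerIn X P) P (img e P) e hP hlt
      (fun y hy => ⟨he.le hy.1, hy.2⟩) (he.restrict normalizerIn_le) rfl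
    have him : img g P = img f (img e P) := by rw [heP.img_img le_rfl]; exact img_congr hg
    rw [him]
    exact rel_trans hS hP₀ hPe (n := 0) (Nat.zero_le _)
      (fun Z _ => rel_of_map hS hP₀ hbig Z) hPS hf.mapTo.img_le r (ih hPe)

include hS hP₀ hbig hchain in
/-- Every member of the class maps, with its normalizer, to a fully normalized one. -/
theorem exists_norm_map (hQ : F.IsConj P₀ Q) (hQn : F.IsFullyNormalized Q) (hP : F.IsConj P₀ P) :
    ∃ τ, MapTo F (normalizerIn S P) τ ∧ img τ P = Q := by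
  obtain ⟨f, hf, hfQ⟩ := isConj_iff.mp (isConj_trans (isConj_symm hP) hQ)
  obtain ⟨D, a, a', ha, haD, ha', ha'D⟩ :=
    hfQ ▸ rel_of_chain hS hP₀ hbig hchain (hchain P f hP hf) hP
  have hPN := le_normalizerIn (S := S) (isConj_le_right hP)
  have hQN := le_normalizerIn (S := S) hQn.1
  have hQD : F.IsConj Q D := ha'D ▸ (ha'.restrict hQN).isConj
  have := finite_of_le (normalizerIn_le (S := S) (P := D))
  have himg : img a' (normalizerIn S Q) = normalizerIn S D :=
    Subgroup.eq_of_le_of_card_ge (ha'D ▸ img_le_of_forall fun z hz =>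
      ha'.map_mem_normalizerIn hQN hz hz) ((ha'.card_img le_rfl).symm ▸ hQn.2 D hQD)
  obtain ⟨k, hk, -, -, hkimg⟩ := ha'.exists_iso_inverse
  rw [himg] at hk
  refine ⟨fun x => k (a x), ha.comp hk fun x hx => haD ▸ ha.map_mem_normalizerIn hPN hx hx, ?_⟩
  rw [← ha.img_img hPN, haD, ← ha'D, hkimg Q hQN]

/-- `α` extends to a map defined on `T`. -/
def ExtOn (F : FusionSystem S) (Q T : Subgroup Ω) (α : MulAut Q) : Prop :=
  ∃ g, MapTo F T g ∧ ∀ x ∈ Q, g x = autFun α x

omit [Fact p.Prime] in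
theorem mem_autGroup_of_extOn (hQT : Q ≤ R) {α : MulAut Q} (hα : ExtOn F Q R α) :
    α ∈ F.autGroup Q :=
  let ⟨_, hg, hgx⟩ := hα
  (mem_autGroup_iff (hQT.trans hg.le)).mpr
    ((hg.restrict hQT).congr' fun x hx => (hgx x hx).symm)

variable {K : Subgroup (MulAut Q)}

omit [Fact p.Prime] in
theorem preSub_map (hKn : ∀ γ ∈ F.autGroup Q, ∀ k ∈ K, γ * k * γ⁻¹ ∈ K) (hQT : Q ≤ preSub S Q K)
    {γ : MulAut Q} (hγ : γ ∈ F.autGroup Q) (hg : MapTo F (preSub S Q K) g)
    (hgx : ∀ x ∈ Q, g x = autFun γ x) : img g (preSub S Q K) = preSub S Q K := by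
  have hQS : Q ≤ S := hQT.trans hg.le
  have := finite_of_le hg.le
  refine img_eq_self_of_forall hg fun y hy => ?_
  obtain ⟨hyN, α, hα, hαy⟩ := hy
  have hy : y ∈ preSub S Q K := ⟨hyN, α, hα, hαy⟩
  have h2 : ∀ q ∈ Q, autFun (γ * α * γ⁻¹) q = cj (g y) q := fun q hq => by
    have hq' : autFun γ⁻¹ q ∈ Q := autFun_mem _ hq
    rw [autFun_mul _ _ hq, autFun_mul _ _ hq', hαy _ hq', cj_apply,
      ← hgx _ (conj_mem_of_mem_normalizerIn hyN hq'), hg.map_conj hy (hQT hq'),
      hgx _ hq', autFun_autFun_inv γ hq, cj_apply]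
  refine ⟨?_, _, hKn γ hγ α hα, h2⟩
  have := finite_of_le hQS
  exact mem_normalizerIn_of_forall hQS (hg.mem hy) fun q hq => by
    rw [← cj_apply, ← h2 q hq]; exact autFun_mem _ hq

omit [Fact p.Prime] in
theorem extOn_mul (hKn : ∀ γ ∈ F.autGroup Q, ∀ k ∈ K, γ * k * γ⁻¹ ∈ K) (hQT : Q ≤ preSub S Q K)
    {α β : MulAut Q} (hα : ExtOn F Q (preSub S Q K) α) (hβ : ExtOn F Q (preSub S Q K) β) :
    ExtOn F Q (preSub S Q K) (α * β) := by
  have hβm := mem_autGroup_of_extOn hQT hβ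
  obtain ⟨a, ha, hax⟩ := hα
  obtain ⟨b, hb, hbx⟩ := hβ
  refine ⟨fun x => a (b x), hb.comp ha fun x hx => ?_, fun x hx => ?_⟩
  · exact (preSub_map hKn hQT hβm hb hbx).le (mem_img_of_mem hx)
  · show a (b x) = _
    rw [autFun_mul _ _ hx, hbx x hx, hax _ (autFun_mem β hx)]

omit [Fact p.Prime] in
theorem extOn_inv (hKn : ∀ γ ∈ F.autGroup Q, ∀ k ∈ K, γ * k * γ⁻¹ ∈ K) (hQT : Q ≤ preSub S Q K)
    {α : MulAut Q} (hα : ExtOn F Q (preSub S Q K) α) : ExtOn F Q (preSub S Q K) α⁻¹ := by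
  have hαm := mem_autGroup_of_extOn hQT hα
  obtain ⟨a, ha, hax⟩ := hα
  obtain ⟨k, hk, hka, -, -⟩ := ha.exists_iso_inverse
  rw [preSub_map hKn hQT hαm ha hax] at hk
  refine ⟨k, hk, fun x hx => ?_⟩
  have h1 := hka _ (hQT (autFun_mem α⁻¹ hx))
  rwa [hax _ (autFun_mem α⁻¹ hx), autFun_autFun_inv α hx] at h1

omit [Fact p.Prime] in
theorem extOn_cj (hKn : ∀ γ ∈ F.autGroup Q, ∀ k ∈ K, γ * k * γ⁻¹ ∈ K) (hQT : Q ≤ preSub S Q K)
    {α : MulAut Q} (hα : α ∈ autInducedBy S Q) : ExtOn F Q (preSub S Q K) α := by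
  obtain ⟨s, hs, hsx⟩ := mem_autInducedBy_iff_cj.mp hα
  exact ⟨cj s, mapTo_cj (fun y (hy : y ∈ preSub S Q K) => hy.1.1) hs, fun x hx => (hsx x hx).symm⟩

/-- The standing hypotheses on `K`: the crucial property is that `Q` is properly contained in
the preimage of `K`. -/
structure GoodKernel (F : FusionSystem S) (p : ℕ) (Q : Subgroup Ω) (K : Subgroup (MulAut Q)) :
    Prop where
  conj_mem : ∀ γ ∈ F.autGroup Q, ∀ k ∈ K, γ * k * γ⁻¹ ∈ K
  le_aut : K ≤ F.autGroup Q
  isPGroup : IsPGroup p K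
  inn_le : Inn Q ≤ K
  lt_pre : Q < preSub S Q K
  cases : (∀ R, F.IsConj Q R → centralizerIn S R ≤ R) ∨ K ≤ autInducedBy S Q

omit [Fact p.Prime] in
/-- An automorphism fixing a self-centralizing normal subgroup pointwise has `p`-power order. -/
theorem pow_eq_one_of_fix {A X : Subgroup Ω} (hXS : X ≤ S) (hAX : A ≤ X)
    (hC : centralizerIn S A ≤ A) (hN : ∀ x ∈ X, ∀ a ∈ A, x * a * x⁻¹ ∈ A) {α : MulAut X}
    (hα : ∀ a ∈ A, autFun α a = a) : α ^ Nat.card A = 1 := by
  have := finite_of_le hXS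
  refine autFun_ext fun x hx => ?_
  set z := x⁻¹ * autFun α x with hzd
  have hxz : autFun α x = x * z := by rw [hzd]; group
  have hzA : z ∈ A := by
    refine hC (mem_centralizerIn.mpr ⟨S.mul_mem (S.inv_mem (hXS hx)) (hXS (autFun_mem α hx)),
      fun a ha => ?_⟩)
    have h1 : x * a * x⁻¹ ∈ A := hN x hx a ha
    have h2 := hα _ h1
    rw [autFun_apply α (hAX h1),
      show (⟨x * a * x⁻¹, hAX h1⟩ : X) = ⟨x, hx⟩ * ⟨a, hAX ha⟩ * ⟨x, hx⟩⁻¹ from rfl,
      map_mul, map_mul, map_inv, Subgroup.coe_mul, Subgroup.coe_mul, InvMemClass.coe_inv,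
      ← autFun_apply α hx, ← autFun_apply α (hAX ha), hα a ha, hxz] at h2
    calc a * z = z * (z⁻¹ * a * z) := by group
      _ = _ := ?_
    have h3 : z * a * z⁻¹ = a := by
      have h4 : x * (z * a * z⁻¹) * x⁻¹ = x * a * x⁻¹ := by rw [← h2]; group
      exact mul_left_cancel (mul_right_cancel h4)
    calc z * (z⁻¹ * a * z) = a * z := by group
      _ = z * a * z⁻¹ * z := by rw [h3]
      _ = z * a := by group
  have hpow : ∀ n : ℕ, autFun (α ^ n) x = x * z ^ n := by
    intro n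
    induction n with
    | zero => simp [autFun_one hx]
    | succ n ih =>
      rw [pow_succ', autFun_mul _ _ hx, ih, autFun_apply α (X.mul_mem hx (X.pow_mem (hAX hzA) n)),
        show (⟨x * z ^ n, X.mul_mem hx (X.pow_mem (hAX hzA) n)⟩ : X) =
          ⟨x, hx⟩ * ⟨z, hAX hzA⟩ ^ n from rfl,
        map_mul, map_pow, Subgroup.coe_mul, SubmonoidClass.coe_pow, ← autFun_apply α hx,
        ← autFun_apply α (hAX hzA), hα z hzA, hxz, pow_succ', mul_assoc]
  rw [hpow, autFun_one hx]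
  have h5 : (⟨z, hzA⟩ : A) ^ Nat.card A = 1 := pow_card_eq_one'
  have h6 : z ^ Nat.card A = 1 := congrArg Subtype.val h5
  rw [h6, mul_one]

include hS hP₀ hbig hchain in
/-- An automorphism extending properly extends to the preimage of `K`. -/
theorem extOn_of_extends (hQ : F.IsConj P₀ Q) (hQn : F.IsFullyNormalized Q)
    (hK : GoodKernel F p Q K) : ∀ (X : Subgroup Ω) (γ : MulAut Q) (e : Ω → Ω), Q < X →
    X ≤ normalizerIn S Q → MapTo F X e → (∀ x ∈ Q, e x = autFun γ x) →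
    ExtOn F Q (preSub S Q K) γ := by
  intro X
  induction hk : Nat.card S - Nat.card X using Nat.strong_induction_on generalizing X with
  | h n ih =>
  intro γ e hQX hXQ he heγ
  set T := preSub S Q K with hT
  have hQS := hQn.1
  have := finite_of_le hQS
  have := finite_mulAut Q
  have hTN : T ≤ normalizerIn S Q := fun y hy => hy.1
  have hQT : Q ≤ T := hK.lt_pre.le
  by_cases hTX : T ≤ X
  · exact ⟨e, he.restrict hTX, heγ⟩
  have hγ : γ ∈ F.autGroup Q := mem_autGroup_of_extOn hQX.le ⟨e, he, heγ⟩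
  set X' := img e X with hX'
  have heQ : img e Q = Q := (img_congr heγ).trans (img_autFun γ)
  have hX'N : X' ≤ normalizerIn S Q := by
    have := img_le_of_forall (Q := normalizerIn S (img e Q))
      fun z hz => he.map_mem_normalizerIn hQX.le hz (hXQ hz)
    rwa [heQ] at this
  have hQX' : Q < X' := by
    have := img_lt he hQX
    rwa [heQ] at this
  by_cases hTX' : T ≤ X'
  · obtain ⟨k, hk, hke, -, -⟩ := he.exists_iso_inverse
    refine (inv_inv γ) ▸ extOn_inv hK.conj_mem hQT ⟨k, hk.restrict hTX', fun x hx => ?_⟩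
    have h1 := hke _ (hQX.le (autFun_mem γ⁻¹ hx))
    rwa [heγ _ (autFun_mem γ⁻¹ hx), autFun_autFun_inv γ hx] at h1
  have hXS : X ≤ S := he.le
  have hX'S : X' ≤ S := he.img_le
  have := finite_of_le hXS
  obtain ⟨Xs, hXs, hfa, hrec⟩ := hbig X' hX'S
    (by rw [hX', he.card_img le_rfl, ← isConj_card hQ]; exact card_lt_of_lt hQX hXS)
  have hXsS := hfa.1
  have := finite_of_le hXsS
  have := finite_mulAut Xs
  obtain ⟨χ, hχ, hχX⟩ := exists_map_normalizerIn hS hfa hrec hXs
  have hXN' : X' ≤ normalizerIn S X' := le_normalizerIn hX'S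
  set A := img χ Q with hA
  have hAX : A ≤ Xs := hχX ▸ img_mono hQX'.le
  have hh : MapTo F X (fun x => χ (e x)) := he.comp hχ fun x hx => hXN' (mem_img_of_mem hx)
  have hhX : img (fun x => χ (e x)) X = Xs := by rw [← he.img_img le_rfl]; exact hχX
  have hh' := hχ.restrict hXN'
  -- the automorphisms allowed on `Q`
  set L := autInducedBy X' Q ⊔ K with hL
  let M : Subgroup (MulAut Xs) :=
    { carrier := {α | α ∈ stabAut F Xs A hAX ∧
        ∃ l ∈ L, ∀ q ∈ Q, autFun α (χ q) = χ (autFun l q)}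
      one_mem' := ⟨Subgroup.one_mem _, 1, Subgroup.one_mem _, fun q hq => by
        rw [autFun_one (hAX (mem_img_of_mem hq)), autFun_one hq]⟩
      mul_mem' := by
        rintro a b ⟨ha, l, hl, hla⟩ ⟨hb, m, hm, hmb⟩
        refine ⟨Subgroup.mul_mem _ ha hb, l * m, Subgroup.mul_mem _ hl hm, fun q hq => ?_⟩
        rw [autFun_mul _ _ (hAX (mem_img_of_mem hq)), hmb q hq, hla _ (autFun_mem m hq),
          autFun_mul _ _ hq]
      inv_mem' := by
        rintro a ⟨ha, l, hl, hla⟩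
        refine ⟨Subgroup.inv_mem _ ha, l⁻¹, Subgroup.inv_mem _ hl, fun q hq => ?_⟩
        have h1 := hla _ (autFun_mem l⁻¹ hq)
        rw [autFun_autFun_inv l hq] at h1
        rw [← h1, autFun_inv_autFun a (hAX (mem_img_of_mem (autFun_mem l⁻¹ hq)))] }
  -- the subgroups where the extension takes place
  have hTnorm : ∀ y ∈ normalizerIn S Q, ∀ t ∈ T, y * t * y⁻¹ ∈ T := by
    rintro y hy t ⟨htN, α, hα, hαt⟩
    obtain ⟨c, hc⟩ := exists_conjAut (P := Q) hy.2
    refine ⟨Subgroup.mul_mem _ (Subgroup.mul_mem _ hy htN) (Subgroup.inv_mem _ hy), c * α * c⁻¹,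
      hK.conj_mem c (autInducedBy_le_autGroup hQS (mem_autInducedBy_iff_cj.mpr ⟨y, hy.1, hc⟩)) α hα,
      fun q hq => ?_⟩
    have hq' : autFun c⁻¹ q ∈ Q := autFun_mem _ hq
    have h1 : cj y (autFun c⁻¹ q) = q := (hc _ hq').symm.trans (autFun_autFun_inv c hq)
    rw [autFun_mul _ _ hq, autFun_mul _ _ hq', hc _ (autFun_mem α hq'), hαt _ hq', cj_mul, cj_mul]
    conv_rhs => rw [← h1, cj_inv_cancel]
  have hlt : ∀ Z : Subgroup Ω, Z ≤ normalizerIn S Q → ¬ T ≤ Z → Z < normalizerIn (Z ⊔ T) Z := by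
    intro Z hZ hTZ
    have hle : Z ⊔ T ≤ S := sup_le (hZ.trans normalizerIn_le) (hTN.trans normalizerIn_le)
    have := finite_of_le hle
    exact lt_normalizerIn (hS.to_le hle) (lt_of_le_of_ne le_sup_left fun h => hTZ (h ▸ le_sup_right))
  set Y := normalizerIn (X ⊔ T) X with hY
  set Y' := normalizerIn (X' ⊔ T) X' with hY'
  have hXY : X < Y := hlt X hXQ hTX
  have hXY' : X' < Y' := hlt X' hX'N hTX'
  have hYN : Y ≤ normalizerIn S Q := inf_le_left.trans (sup_le hXQ hTN)
  have hYN' : Y' ≤ normalizerIn S Q := inf_le_left.trans (sup_le hX'N hTN)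
  have hYX : Y ≤ normalizerIn S X := fun y hy => ⟨(hYN hy).1, hy.2⟩
  have hYX' : Y' ≤ normalizerIn S X' := fun y hy => ⟨(hYN' hy).1, hy.2⟩
  set U := (autInducedBy Y X).map (MulAut.congr (isoEquiv hh hhX)).toMonoidHom with hU
  set U' := (autInducedBy Y' X').map (MulAut.congr (isoEquiv hh' hχX)).toMonoidHom with hU'
  have hQN : Q ≤ normalizerIn S Q := le_normalizerIn hQS
  have hU'le : U' ≤ M := by
    rintro _ ⟨α, hα, rfl⟩
    obtain ⟨w, hw, hwα⟩ := mem_autInducedBy_iff_cj.mp hα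
    refine ⟨⟨(map_congr_autGroup hh' hχX).le ⟨α, autInducedBy_le_autGroup hX'S
      (autInducedBy_mono (fun y hy => (hYX' hy).1) X' hα), rfl⟩, fun a ha => ?_⟩, ?_⟩
    · obtain ⟨z, hz, rfl⟩ := (hh'.mem_img_iff le_rfl).mp (hχX.symm ▸ ha : a ∈ img χ X')
      rw [MulEquiv.toMonoidHom_eq_coe, MonoidHom.coe_coe, autFun_congr hh' hχX α hz, hA,
        hh'.apply_mem_img_iff hQX'.le (autFun_mem α hz), hh'.apply_mem_img_iff hQX'.le hz,
        hwα z hz]
      exact (Subgroup.mem_normalizer_iff.mp (hYN' hw).2 z).symm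
    · have hwL : w ∈ preSub S Q L := by
        refine (sup_le ?_ ?_ : X' ⊔ T ≤ preSub S Q L) hw.1
        · intro x hx
          obtain ⟨c, hc⟩ := exists_conjAut (P := Q) (hX'N hx).2
          exact ⟨hX'N hx, c, Subgroup.mem_sup_left (mem_autInducedBy_iff_cj.mpr ⟨x, hx, hc⟩), hc⟩
        · rintro t ⟨htN, c, hc, hct⟩
          exact ⟨htN, c, Subgroup.mem_sup_right hc, hct⟩
      obtain ⟨-, l, hl, hlw⟩ := hwL
      refine ⟨l, hl, fun q hq => ?_⟩
      rw [MulEquiv.toMonoidHom_eq_coe, MonoidHom.coe_coe, autFun_congr hh' hχX α (hQX'.le hq),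
        hwα q (hQX'.le hq), hlw q hq]
  have hUle : U ≤ M := by
    rintro _ ⟨α, hα, rfl⟩
    obtain ⟨w, hw, hwα⟩ := mem_autInducedBy_iff_cj.mp hα
    refine ⟨⟨(map_congr_autGroup hh hhX).le ⟨α, autInducedBy_le_autGroup hXS
      (autInducedBy_mono (fun y hy => (hYX hy).1) X hα), rfl⟩, fun a ha => ?_⟩, ?_⟩
    · obtain ⟨z, hz, rfl⟩ := (hh.mem_img_iff le_rfl).mp (hhX.symm ▸ ha : a ∈ img _ X)
      have hA' : A = img (fun x => χ (e x)) Q := by
        rw [hA, ← he.img_img hQX.le, heQ]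
      rw [MulEquiv.toMonoidHom_eq_coe, MonoidHom.coe_coe, autFun_congr hh hhX α hz, hA',
        hh.apply_mem_img_iff hQX.le (autFun_mem α hz), hh.apply_mem_img_iff hQX.le hz, hwα z hz]
      exact (Subgroup.mem_normalizer_iff.mp (hYN hw).2 z).symm
    · -- `γ` conjugates the action of `X ⊔ T` into `L`
      let L' := L.comap (MulAut.conj γ).toMonoidHom
      have hwL : w ∈ preSub S Q L' := by
        refine (sup_le ?_ ?_ : X ⊔ T ≤ preSub S Q L') hw.1
        · intro x hx
          obtain ⟨c, hc⟩ := exists_conjAut (P := Q) (hXQ hx).2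
          refine ⟨hXQ hx, c, Subgroup.mem_sup_left (mem_autInducedBy_iff_cj.mpr
            ⟨e x, mem_img_of_mem hx, fun q hq => ?_⟩), hc⟩
          show autFun (γ * c * γ⁻¹) q = cj (e x) q
          have hq' : autFun γ⁻¹ q ∈ Q := autFun_mem _ hq
          rw [autFun_mul _ _ hq, autFun_mul _ _ hq', hc _ hq', cj_apply,
            ← heγ _ (conj_mem_of_mem_normalizerIn (hXQ hx) hq'),
            he.map_conj hx (hQX.le hq'), heγ _ hq', autFun_autFun_inv γ hq, cj_apply]
        · rintro t ⟨htN, c, hc, hct⟩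
          exact ⟨htN, c, Subgroup.mem_sup_right (hK.conj_mem γ hγ c hc), hct⟩
      obtain ⟨-, l, hl, hlw⟩ := hwL
      refine ⟨γ * l * γ⁻¹, hl, fun q hq => ?_⟩
      have hq' : autFun γ⁻¹ q ∈ Q := autFun_mem _ hq
      rw [MulEquiv.toMonoidHom_eq_coe, MonoidHom.coe_coe]
      conv_lhs => rw [show χ q = (fun x => χ (e x)) (autFun γ⁻¹ q) by
        show χ q = χ (e (autFun γ⁻¹ q))
        rw [heγ _ hq', autFun_autFun_inv γ hq]]
      rw [autFun_congr hh hhX α (hQX.le hq'), hwα _ (hQX.le hq'), autFun_mul _ _ hq,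
        autFun_mul _ _ hq', ← hlw _ hq']
      show χ (e (autFun l (autFun γ⁻¹ q))) = _
      rw [heγ _ (autFun_mem l hq')]
  have hUp : IsPGroup p U := (isPGroup_autInducedBy (hS.to_le (hYX.trans normalizerIn_le)) X).map _
  have hU'p : IsPGroup p U' :=
    (isPGroup_autInducedBy (hS.to_le (hYX'.trans normalizerIn_le)) X').map _
  obtain ⟨W, hU'W, hW⟩ := exists_isSylowIn hU'le hU'p
  have hLle : L ≤ F.autGroup Q :=
    sup_le ((autInducedBy_mono hX'S Q).trans (autInducedBy_le_autGroup hQS)) hK.le_aut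
  obtain ⟨μ, hμ, hμU, l, hl, hlμ, hlT⟩ : ∃ μ ∈ M, (∀ u ∈ U, μ * u * μ⁻¹ ∈ W) ∧
      ∃ l ∈ F.autGroup Q, (∀ q ∈ Q, autFun μ (χ q) = χ (autFun l q)) ∧
        ExtOn F Q T l := by
    rcases hK.cases with hcen | hKS
    · -- here `M` is a `p`-group
      have hLp : IsPGroup p L := by
        refine (isPGroup_autInducedBy (hS.to_le hX'S) Q).to_sup_of_normal_right'
          hK.isPGroup fun x hx => mem_normalizer_of_forall fun k hk =>
            hK.conj_mem x ((autInducedBy_le_autGroup hQS) (autInducedBy_mono hX'S Q hx)) k hk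
      have hMp : IsPGroup p M := by
        rintro ⟨α, hα, l, hl, hlα⟩
        obtain ⟨a, ha⟩ := hLp ⟨l, hl⟩
        have hla : l ^ p ^ a = 1 := congrArg Subtype.val ha
        have hpow : ∀ k : ℕ, ∀ q ∈ Q, autFun (α ^ k) (χ q) = χ (autFun (l ^ k) q) := by
          intro k
          induction k with
          | zero => intro q hq; simp [autFun_one hq, autFun_one (hAX (mem_img_of_mem (f := χ) hq))]
          | succ k ih2 =>
            intro q hq
            rw [pow_succ', pow_succ', autFun_mul _ _ (hAX (mem_img_of_mem hq)), ih2 q hq,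
              autFun_mul _ _ hq, hlα _ (autFun_mem _ hq)]
        have hQc : F.IsConj Q A := (hχ.restrict (hQX'.le.trans hXN')).isConj
        have hXsA : ∀ x ∈ Xs, ∀ a ∈ A, x * a * x⁻¹ ∈ A := by
          intro x hx a ha
          obtain ⟨x₀, hx₀, rfl⟩ := (hh'.mem_img_iff le_rfl).mp (hχX.symm ▸ hx : x ∈ img χ X')
          obtain ⟨q, hq, rfl⟩ := (hh'.mem_img_iff hQX'.le).mp ha
          rw [← hh'.map_conj hx₀ (hQX'.le hq)]
          exact mem_img_of_mem (conj_mem_of_mem_normalizerIn (hX'N hx₀) hq)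
        have hfix := pow_eq_one_of_fix (S := S) hXsS hAX (hcen A hQc) hXsA (α := α ^ p ^ a)
          (fun b hb => by
            obtain ⟨q, hq, rfl⟩ := (hh'.mem_img_iff hQX'.le).mp hb
            rw [hpow _ q hq, hla, autFun_one hq])
        have := finite_of_le (isConj_le_right hQc)
        obtain ⟨b, hb⟩ := IsPGroup.iff_card.mp (hS.to_le (isConj_le_right hQc))
        exact ⟨a + b, Subtype.ext (by
          show α ^ p ^ (a + b) = 1
          rw [pow_add, pow_mul, ← hb]; exact hfix)⟩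
      have hWM : W = M := hW.eq_of_le hW.1 le_rfl hMp
      exact ⟨1, Subgroup.one_mem _, fun u hu => by simpa [hWM] using hUle hu, 1,
        Subgroup.one_mem _, fun q hq => by
          rw [autFun_one (hAX (mem_img_of_mem hq)), autFun_one hq],
        ⟨fun x => x,
          mapTo_id F (hTN.trans normalizerIn_le), fun x hx => (autFun_one hx).symm⟩⟩
    · obtain ⟨μ, hμ, hμU⟩ := hW.2.2 U hUle hUp
      obtain ⟨l, hl, hlμ⟩ := hμ.2
      refine ⟨μ, hμ, hμU, l, hLle hl, hlμ, extOn_cj hK.conj_mem hQT ?_⟩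
      exact (sup_le (autInducedBy_mono hX'S Q) hKS : L ≤ autInducedBy S Q) hl
  obtain ⟨δ, hδ, hδW⟩ := exists_conj_le_autInducedBy hfa (fun w hw => (hW.1 hw).1.1) hW.2.1
  have hm : MapTo F Xs (autFun (δ * μ)) :=
    mapTo_of_mem_autGroup hXsS (Subgroup.mul_mem _ hδ hμ.1.1)
  have hm' : MapTo F Xs (autFun δ) := mapTo_of_mem_autGroup hXsS hδ
  have hh1 : MapTo F X (fun x => autFun (δ * μ) (χ (e x))) :=
    hh.comp hm fun x hx => hhX ▸ mem_img_of_mem hx
  have hh1X : img (fun x => autFun (δ * μ) (χ (e x))) X = Xs := by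
    rw [← hh.img_img le_rfl, hhX, img_autFun]
  have hh2 : MapTo F X' (fun x => autFun δ (χ x)) :=
    hh'.comp hm' fun x hx => hχX ▸ mem_img_of_mem hx
  have hh2X : img (fun x => autFun δ (χ x)) X' = Xs := by
    rw [← hh'.img_img le_rfl, hχX, img_autFun]
  obtain ⟨g₁, hg₁, hg₁e⟩ := exists_extension hrec hh1 hh1X hYX (by
    rintro _ ⟨α, hα, rfl⟩
    rw [MulEquiv.toMonoidHom_eq_coe, MonoidHom.coe_coe,
      congr_comp_aut hh hhX hh1 hh1X (δ := δ * μ) (fun _ _ => rfl) α,
      show ∀ u : MulAut Xs, δ * μ * u * (δ * μ)⁻¹ = δ * (μ * u * μ⁻¹) * δ⁻¹ from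
        fun u => by group]
    exact hδW _ (hμU _ ⟨α, hα, rfl⟩))
  obtain ⟨g₂, hg₂, hg₂e⟩ := exists_extension hrec hh2 hh2X hYX' (by
    rintro _ ⟨α, hα, rfl⟩
    rw [MulEquiv.toMonoidHom_eq_coe, MonoidHom.coe_coe,
      congr_comp_aut hh' hχX hh2 hh2X (δ := δ) (fun _ _ => rfl) α]
    exact hδW _ (hU'W ⟨α, hα, rfl⟩))
  have hQY' : Q ≤ Y' := hQX'.le.trans hXY'.le
  have hQY : Q ≤ Y := hQX.le.trans hXY.le
  set C := img g₂ Q with hC
  have hg12 : ∀ q ∈ Q, g₁ q = g₂ (autFun (l * γ) q) := fun q hq => by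
    rw [hg₁e q (hQX.le hq), hg₂e _ (hQX'.le (autFun_mem _ hq))]
    show autFun (δ * μ) (χ (e q)) = autFun δ (χ (autFun (l * γ) q))
    rw [autFun_mul _ _ (hAX (mem_img_of_mem (f := χ) (heQ.le (mem_img_of_mem hq)))), heγ q hq,
      hlμ _ (autFun_mem γ hq), autFun_mul _ _ hq]
  have hg₁Q : img g₁ Q = C := by
    rw [img_congr hg12, hC]
    conv_rhs => rw [← img_autFun (l * γ)]
    rw [(mapTo_of_mem_autGroup hQS (Subgroup.mul_mem _ hl hγ)).img_img le_rfl]
  have hCc : F.IsConj P₀ C := isConj_trans hQ (hg₁Q ▸ (hg₁.restrict hQY).isConj)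
  obtain ⟨τ, hτ, hτC⟩ := exists_norm_map hS hP₀ hbig hchain hQ hQn hCc
  have hg₁C : ∀ y ∈ Y, g₁ y ∈ normalizerIn S C := fun y hy =>
    hg₁Q ▸ hg₁.map_mem_normalizerIn hQY hy (hYN hy)
  have hg₂C : ∀ y ∈ Y', g₂ y ∈ normalizerIn S C := fun y hy =>
    hg₂.map_mem_normalizerIn hQY' hy (hYN' hy)
  have hσ' := hg₁.comp hτ hg₁C
  have hρ' := hg₂.comp hτ hg₂C
  have hρimg : img (fun x => τ (g₂ x)) Q = Q := by
    rw [← hg₂.img_img hQY', hτC]
  have hσimg : img (fun x => τ (g₁ x)) Q = Q := by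
    rw [← hg₁.img_img hQY, hg₁Q, hτC]
  set σ := autOf (hσ'.restrict hQY) hσimg with hσd
  set ρ := autOf (hρ'.restrict hQY') hρimg with hρd
  have hS' : ∀ Z : Subgroup Ω, Z ≤ S → Nat.card Z ≤ Nat.card S := fun Z hZ =>
    Subgroup.card_le_of_le hZ
  have hσe : ExtOn F Q T σ := ih _ (by
      have := hS' X hXS; have := hS' Y hg₁.le
      have := card_lt_of_lt hXY hg₁.le; omega) Y rfl σ _ (lt_of_lt_of_le hQX hXY.le) hYN hσ'
    fun x hx => (autFun_autOf (hσ'.restrict hQY) hσimg hx).symm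
  have hρe : ExtOn F Q T ρ := ih _ (by
      have := hS' X hXS; have := hS' Y' hg₂.le
      have := card_lt_of_lt hXY' hg₂.le
      have := he.card_img le_rfl
      rw [← hX'] at this
      omega) Y' rfl ρ _ (lt_of_lt_of_le hQX' hXY'.le) hYN' hρ'
    fun x hx => (autFun_autOf (hρ'.restrict hQY') hρimg hx).symm
  have hγeq : γ = l⁻¹ * (ρ⁻¹ * σ) := by
    have : σ = ρ * (l * γ) := autFun_ext fun x hx => by
      rw [hσd, autFun_autOf _ _ hx, autFun_mul _ _ hx, hρd, autFun_autOf _ _ (autFun_mem _ hx),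
        hg12 x hx]
    rw [this]; group
  rw [hγeq]
  exact extOn_mul hK.conj_mem hQT (extOn_inv hK.conj_mem hQT hlT)
    (extOn_mul hK.conj_mem hQT (extOn_inv hK.conj_mem hQT hρe) hσe)

include hS hP₀ hbig hchain in
/-- Every automorphism extends to the preimage of `K`. -/
theorem extOn_all (hQ : F.IsConj P₀ Q) (hQn : F.IsFullyNormalized Q) (hK : GoodKernel F p Q K)
    {γ : MulAut Q} (hγ : γ ∈ F.autGroup Q) : ExtOn F Q (preSub S Q K) γ := by
  have hQS := hQn.1
  have hQN : Q ≤ normalizerIn S Q := le_normalizerIn hQS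
  have hQT := hK.lt_pre.le
  have key : ∀ {P : Subgroup Ω} {f : Ω → Ω}, Chain F P f → F.IsConj P₀ P →
      ∀ τ τ'', MapTo F (normalizerIn S P) τ → img τ P = Q →
        MapTo F (normalizerIn S (img f P)) τ'' → img τ'' (img f P) = Q →
        ∀ α : MulAut Q, (∀ x ∈ P, autFun α (τ x) = τ'' (f x)) → ExtOn F Q (preSub S Q K) α := by
    intro P f hc
    clear hγ
    induction hc with
    | one P g hPS hg =>
      intro hP τ τ'' hτ hτP hτ'' _ α hα
      rw [img_congr (g := fun x => x) hg, img_id] at hτ''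
      obtain ⟨k, hk, hkτ, -, -⟩ := hτ.exists_iso_inverse
      have hPN := le_normalizerIn (S := S) hPS
      have hPlt : P < normalizerIn S P := lt_normalizerIn hS (lt_of_isConj₀ hP₀ hP)
      refine extOn_of_extends hS hP₀ hbig hchain hQ hQn hK (img τ (normalizerIn S P)) α
        (fun y => τ'' (k y)) (hτP ▸ img_lt hτ hPlt)
        (hτP ▸ img_le_of_forall fun z hz => hτ.map_mem_normalizerIn hPN hz hz)
        (hk.comp hτ'' fun y hy => ?_) fun y hy => ?_
      · obtain ⟨z, hz, rfl⟩ := (hτ.mem_img_iff le_rfl).mp hy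
        rw [hkτ z hz]; exact hz
      · obtain ⟨x, hx, rfl⟩ := (hτ.mem_img_iff hPN).mp (hτP.symm ▸ hy : y ∈ img τ P)
        show τ'' (k (τ x)) = _
        rw [hkτ x (hPN hx), hα x hx, hg x hx]
    | step P X e f g hPX he hf hg ih =>
      intro hP τ τ'' hτ hτP hτ'' hτ''P α hα
      have heP := he.restrict hPX.le
      have hPS := isConj_le_right hP
      have hPe : F.IsConj P₀ (img e P) := isConj_trans hP heP.isConj
      obtain ⟨τ₁, hτ₁, hτ₁P⟩ := exists_norm_map hS hP₀ hbig hchain hQ hQn hPe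
      have him : img g P = img f (img e P) := by rw [heP.img_img le_rfl]; exact img_congr hg
      rw [him] at hτ'' hτ''P
      have := finite_of_le he.le
      set R := normalizerIn X P with hR
      have hPR : P < R := lt_normalizerIn (hS.to_le he.le) hPX
      have hPN := le_normalizerIn (S := S) hPS
      have hRN : R ≤ normalizerIn S P := fun y hy => ⟨he.le hy.1, hy.2⟩
      obtain ⟨k, hk, hkτ, -, hkimg⟩ := (hτ.restrict hRN).exists_iso_inverse
      have hkm : ∀ y ∈ img τ R, k y ∈ R := fun y hy => by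
        obtain ⟨z, hz, rfl⟩ := ((hτ.restrict hRN).mem_img_iff le_rfl).mp hy
        rw [hkτ z hz]; exact hz
      have hj : MapTo F (img τ R) (fun y => τ₁ (e (k y))) :=
        (hk.comp (he.restrict normalizerIn_le) hkm).comp hτ₁ fun y hy =>
          he.map_mem_normalizerIn hPX.le (hkm y hy).1 ⟨he.le (hkm y hy).1, (hkm y hy).2⟩
      have hQR : Q < img τ R := hτP ▸ img_lt (hτ.restrict hRN) hPR
      have hj1 : ∀ x ∈ P, (fun y => τ₁ (e (k y))) (τ x) = τ₁ (e x) := fun x hx => by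
        show τ₁ (e (k (τ x))) = _
        rw [hkτ x (hPR.le hx)]
      have hjimg : img (fun y => τ₁ (e (k y))) Q = Q := by
        conv_lhs => arg 2; rw [← hτP]
        rw [(hτ.restrict hPN).img_img le_rfl, img_congr hj1,
          ← heP.img_img le_rfl τ₁, hτ₁P]
      have hje := extOn_of_extends hS hP₀ hbig hchain hQ hQn hK (img τ R)
        (autOf (hj.restrict hQR.le) hjimg) _ hQR
        (hτP ▸ img_le_of_forall fun z hz => hτ.map_mem_normalizerIn hPN (hRN hz) (hRN hz)) hj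
        fun x hx => (autFun_autOf (hj.restrict hQR.le) hjimg hx).symm
      set β := autOf (hj.restrict hQR.le) hjimg with hβ
      have hrest : ExtOn F Q (preSub S Q K) (α * β⁻¹) :=
        ih hPe τ₁ τ'' hτ₁ hτ₁P hτ'' hτ''P _ fun y hy => by
          obtain ⟨x, hx, rfl⟩ := (heP.mem_img_iff le_rfl).mp hy
          have hQx : τ x ∈ Q := hτP ▸ mem_img_of_mem hx
          have h1 : autFun β (τ x) = τ₁ (e x) := by
            rw [hβ, autFun_autOf _ _ hQx]; exact hj1 x hx
          rw [autFun_mul _ _ (hτ₁P ▸ mem_img_of_mem hy), ← h1, autFun_inv_autFun β hQx, hα x hx,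
            hg x hx]
      have := extOn_mul hK.conj_mem hQT hrest hje
      rwa [inv_mul_cancel_right] at this
  exact key (hchain Q _ hQ (mapTo_of_mem_autGroup hQS hγ)) hQ (fun x => x) (fun x => x)
    (mapTo_id F normalizerIn_le) img_id (mapTo_id F normalizerIn_le)
    (by rw [img_id, img_autFun]) γ fun x _ => rfl

include hS hP₀ hbig hchain in
theorem good_of_kernel (hQ : F.IsConj P₀ Q) (hQn : F.IsFullyNormalized Q)
    (hK : GoodKernel F p Q K) : F.IsFullyAutomized p Q ∧ F.IsReceptive Q := by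
  have hQS := hQn.1
  have := finite_of_le hQS
  have := finite_mulAut Q
  have hQN : Q ≤ normalizerIn S Q := le_normalizerIn hQS
  set T := preSub S Q K with hT
  have hQT : Q ≤ T := hK.lt_pre.le
  have hTN : T ≤ normalizerIn S Q := fun y hy => hy.1
  have hTS : T ≤ S := hTN.trans normalizerIn_le
  have := finite_of_le hTS
  have := finite_mulAut T
  obtain ⟨Ts, hTs, hfa, hrec⟩ := hbig T hTS (by
    rw [← isConj_card hQ]; exact card_lt_of_lt hK.lt_pre hTS)
  have := finite_of_le hfa.1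
  have := finite_mulAut Ts
  obtain ⟨χ, hχ, hχT⟩ := exists_map_normalizerIn hS hfa hrec hTs
  have hNQT : normalizerIn S Q ≤ normalizerIn S T := by
    intro y hy
    obtain ⟨c, hc⟩ := exists_conjAut (P := Q) hy.2
    have hcA := autInducedBy_le_autGroup (F := F) hQS (mem_autInducedBy_iff_cj.mpr ⟨y, hy.1, hc⟩)
    have h1 : MapTo F T (cj y) := mapTo_cj hTS hy.1
    have h2 := preSub_map hK.conj_mem hQT hcA h1 fun x hx => (hc x hx).symm
    exact mem_normalizerIn_of_forall hTS hy.1 fun t ht => h2.le (mem_img_of_mem ht)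
  set UT := autInducedBy (normalizerIn S Q) T with hUT
  have hUTle : UT ≤ stabAut F T Q hQT := by
    intro α hα
    refine ⟨autInducedBy_le_autGroup hTS (autInducedBy_mono normalizerIn_le T hα), fun x hx => ?_⟩
    obtain ⟨y, hy, hyα⟩ := mem_autInducedBy_iff_cj.mp hα
    rw [hyα x hx]
    exact (Subgroup.mem_normalizer_iff.mp hy.2 x).symm
  have hUTp : IsPGroup p UT := isPGroup_autInducedBy (hS.to_le normalizerIn_le) T
  have hQNT : Q ≤ normalizerIn S T := hQN.trans hNQT
  have hTNT : T ≤ normalizerIn S T := le_normalizerIn hTS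
  -- `UT` is a Sylow subgroup of the stabilizer
  have hsyl : IsSylowIn p UT (stabAut F T Q hQT) := by
    obtain ⟨W, hUW, hW⟩ := exists_isSylowIn hUTle hUTp
    suffices hWU : W ≤ UT by
      exact (le_antisymm hUW hWU) ▸ hW
    have hh := hχ.restrict hTNT
    set V := W.map (MulAut.congr (isoEquiv hh hχT)).toMonoidHom with hV
    have hVle : V ≤ F.autGroup Ts :=
      (Subgroup.map_mono fun w hw => (hW.1 hw).1).trans (map_congr_autGroup hh hχT).le
    obtain ⟨δ, hδ, hδV⟩ := exists_conj_le_autInducedBy hfa hVle (hW.2.1.map _)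
    have hm := mapTo_of_mem_autGroup hfa.1 hδ
    have hh2 : MapTo F T (fun x => autFun δ (χ x)) :=
      hh.comp hm fun x hx => hχT ▸ mem_img_of_mem hx
    have hh2T : img (fun x => autFun δ (χ x)) T = Ts := by
      rw [← hh.img_img le_rfl, hχT, img_autFun]
    have hconj : ∀ w ∈ W, MulAut.congr (isoEquiv hh2 hh2T) w ∈ autInducedBy S Ts := fun w hw => by
      rw [congr_comp_aut hh hχT hh2 hh2T (δ := δ) (fun _ _ => rfl) w]
      exact hδV _ ⟨w, hw, rfl⟩
    obtain ⟨g, hg, hge⟩ := exists_extension hrec hh2 hh2T hNQT (by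
      rintro _ ⟨α, hα, rfl⟩
      exact hconj α (hUW hα))
    set C := img g Q with hC
    have hgC : img g (normalizerIn S Q) = normalizerIn S C := by
      have := finite_of_le (normalizerIn_le (S := S) (P := C))
      refine Subgroup.eq_of_le_of_card_ge (img_le_of_forall fun z hz =>
        hg.map_mem_normalizerIn hQN hz hz) ?_
      rw [hg.card_img le_rfl]
      exact hQn.2 C (hg.restrict hQN).isConj
    intro w hw
    obtain ⟨s, hs, hsw⟩ := mem_autInducedBy_iff_cj.mp (hconj w hw)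
    have hsC : s ∈ normalizerIn S C := by
      refine mem_normalizerIn_of_forall (hg.restrict hQN).img_le hs fun a ha => ?_
      obtain ⟨q, hq, rfl⟩ := (hg.mem_img_iff hQN).mp ha
      have hgq : g q ∈ Ts := by
        rw [hge q (hQT hq)]
        exact hh2T.le (mem_img_of_mem (f := fun x => autFun δ (χ x)) (hQT hq))
      rw [← cj_apply, ← hsw _ hgq, hge q (hQT hq), autFun_congr hh2 hh2T w (hQT hq)]
      have hwq : autFun w q ∈ Q := ((hW.1 hw).2 q (hQT hq)).mpr hq
      show autFun δ (χ (autFun w q)) ∈ _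
      rw [← hge _ (hQT hwq)]
      exact mem_img_of_mem hwq
    obtain ⟨y, hy, rfl⟩ := (hg.mem_img_iff le_rfl).mp (hgC.symm ▸ hsC)
    refine mem_autInducedBy_iff_cj.mpr ⟨y, hy, fun t ht => ?_⟩
    have hwt : autFun w t ∈ T := autFun_mem w ht
    have hyt : y * t * y⁻¹ ∈ T := conj_mem_of_mem_normalizerIn (hNQT hy) ht
    have h1 := hsw _ (hh2T ▸ mem_img_of_mem (f := fun x => autFun δ (χ x)) ht)
    rw [autFun_congr hh2 hh2T w ht, cj_apply] at h1
    refine hh2.inj hwt hyt ?_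
    rw [h1, ← hge t ht, ← hg.map_conj hy (hTN ht), hge _ hyt, cj_apply]
  refine ⟨(isFullyAutomized_iff hS).mpr ⟨hQS, ?_⟩, isReceptive_iff.mpr ⟨hQS, ?_⟩⟩
  · -- restriction to `Q` is surjective
    let res : stabAut F T Q hQT →* MulAut Q :=
      MonoidHom.mk' (fun α => autOf
        ((mapTo_of_mem_autGroup hTS α.2.1).restrict hQT)
        (img_eq_self_of_forall ((mapTo_of_mem_autGroup hTS α.2.1).restrict hQT)
          fun x hx => (α.2.2 x (hQT hx)).mpr hx))
        fun a b => autFun_ext fun x hx => by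
          have hbx : autFun (b : MulAut T) x ∈ Q := (b.2.2 x (hQT hx)).mpr hx
          rw [autFun_autOf _ _ hx, autFun_mul _ _ hx, autFun_autOf _ _ hx, autFun_autOf _ _ hbx,
            Subgroup.coe_mul, autFun_mul _ _ (hQT hx)]
    have h1 : res.range = F.autGroup Q := by
      refine le_antisymm ?_ fun γ hγ => ?_
      · rintro _ ⟨a, rfl⟩; exact autOf_mem _ _
      · obtain ⟨g, hg, hgx⟩ := extOn_all hS hP₀ hbig hchain hQ hQn hK hγ
        have himg := preSub_map hK.conj_mem hQT hγ hg hgx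
        refine ⟨⟨autOf hg himg, autOf_mem _ _, fun x hx => ?_⟩, autFun_ext fun x hx => ?_⟩
        · rw [autFun_autOf hg himg hx]
          have hgQ : img g Q = Q := (img_congr hgx).trans (img_autFun γ)
          conv_lhs => rw [← hgQ]
          exact hg.apply_mem_img_iff hQT hx
        · show autFun (autOf _ _) x = _
          rw [autFun_autOf _ _ hx]
          show autFun (autOf hg himg) x = _
          rw [autFun_autOf hg himg (hQT hx), hgx x hx]
    have h2 : (UT.subgroupOf (stabAut F T Q hQT)).map res ≤ autInducedBy S Q := by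
      rintro _ ⟨a, ha, rfl⟩
      obtain ⟨y, hy, hyα⟩ := mem_autInducedBy_iff_cj.mp ha
      refine mem_autInducedBy_iff_cj.mpr ⟨y, hy.1, fun x hx => ?_⟩
      show autFun (autOf _ _) x = _
      rw [autFun_autOf _ _ hx]
      exact hyα x (hQT hx)
    intro hdvd
    obtain ⟨W, hW⟩ := (isSylowIn_iff_exists hUTle).mp hsyl
    refine Sylow.not_dvd_index W (hdvd.trans ?_)
    rw [hW, ← h1, MonoidHom.range_eq_map]
    refine (Subgroup.relIndex_dvd_of_le_left _ h2).trans ?_
    rw [Subgroup.relIndex_map_map, top_sup_eq, Subgroup.relIndex_top_right]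
    exact Subgroup.index_dvd_of_le le_sup_left
  · intro P f hf hfQ
    have hPS := hf.le
    have hPN := le_normalizerIn (S := S) hPS
    have hP : F.IsConj P₀ P := isConj_trans hQ (isConj_symm (hfQ ▸ hf.isConj))
    obtain ⟨τ, hτ, hτP⟩ := exists_norm_map hS hP₀ hbig hchain hQ hQn hP
    obtain ⟨k, hk, hkτ, -, -⟩ := (hτ.restrict hPN).exists_iso_inverse
    rw [hτP] at hk
    have hkm : ∀ q ∈ Q, k q ∈ P := fun q hq => by
      obtain ⟨x, hx, rfl⟩ := (hτ.mem_img_iff hPN).mp (hτP.symm ▸ hq : q ∈ img τ P)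
      rw [hkτ x hx]; exact hx
    have hf1 : MapTo F Q (fun q => f (k q)) := hk.comp hf hkm
    have hf1Q : img (fun q => f (k q)) Q = Q := img_eq_self_of_forall hf1
      fun q hq => hfQ ▸ mem_img_of_mem (hkm q hq)
    set γ := autOf hf1 hf1Q with hγd
    have hγx : ∀ x ∈ P, autFun γ (τ x) = f x := fun x hx => by
      rw [hγd, autFun_autOf hf1 hf1Q (hτP ▸ mem_img_of_mem hx)]
      show f (k (τ x)) = f x
      rw [hkτ x hx]
    have hγ : γ ∈ F.autGroup Q := autOf_mem _ _
    set N' := extSub S (mapTo_of_mem_autGroup hQS hγ) with hN'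
    have hmove : ∀ y ∈ extSub S hf, τ y ∈ N' := by
      rintro y ⟨hyN, s, hs, hsy⟩
      refine ⟨hτP ▸ hτ.map_mem_normalizerIn hPN hyN hyN, s, hs, fun q hq => ?_⟩
      obtain ⟨x, hx, rfl⟩ := (hτ.mem_img_iff hPN).mp (hτP.symm ▸ hq : q ∈ img τ P)
      rw [← hτ.map_conj hyN (hPN hx), hγx _ (conj_mem_of_mem_normalizerIn hyN hx), hγx x hx]
      exact hsy x hx
    suffices hext : ∃ g, MapTo F N' g ∧ ∀ q ∈ Q, g q = autFun γ q by
      obtain ⟨g, hg, hgγ⟩ := hext
      refine ⟨fun y => g (τ y), (hτ.restrict (extSub_le hf)).comp hg hmove, fun x hx => ?_⟩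
      show g (τ x) = f x
      rw [hgγ _ (hτP ▸ mem_img_of_mem hx), hγx x hx]
    obtain ⟨e, he, heγ⟩ := extOn_all hS hP₀ hbig hchain hQ hQn hK hγ
    have heT := preSub_map hK.conj_mem hQT hγ he heγ
    have heQ : img e Q = Q := (img_congr heγ).trans (img_autFun γ)
    -- elements acting on `Q` as elements of `S`
    let M : Subgroup (MulAut T) :=
      { carrier := {α | α ∈ stabAut F T Q hQT ∧
          ∃ l ∈ autInducedBy S Q, ∀ q ∈ Q, autFun α q = autFun l q}
        one_mem' := ⟨Subgroup.one_mem _, 1, Subgroup.one_mem _, fun q hq => by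
          rw [autFun_one (hQT hq), autFun_one hq]⟩
        mul_mem' := by
          rintro a b ⟨ha, l, hl, hla⟩ ⟨hb, m, hm, hmb⟩
          refine ⟨Subgroup.mul_mem _ ha hb, l * m, Subgroup.mul_mem _ hl hm, fun q hq => ?_⟩
          rw [autFun_mul _ _ (hQT hq), hmb q hq, hla _ (autFun_mem m hq), autFun_mul _ _ hq]
        inv_mem' := by
          rintro a ⟨ha, l, hl, hla⟩
          refine ⟨Subgroup.inv_mem _ ha, l⁻¹, Subgroup.inv_mem _ hl, fun q hq => ?_⟩
          have h1 := hla _ (autFun_mem l⁻¹ hq)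
          rw [autFun_autFun_inv l hq] at h1
          conv_lhs => rw [← h1]
          rw [autFun_inv_autFun a (hQT (autFun_mem l⁻¹ hq))] }
    have hMle : M ≤ stabAut F T Q hQT := fun a ha => ha.1
    have hUTM : UT ≤ M := by
      intro α hα
      obtain ⟨y, hy, hyα⟩ := mem_autInducedBy_iff_cj.mp hα
      obtain ⟨c, hc⟩ := exists_conjAut (P := Q) hy.2
      exact ⟨hUTle hα, c, mem_autInducedBy_iff_cj.mpr ⟨y, hy.1, hc⟩,
        fun q hq => (hyα q (hQT hq)).trans (hc q hq).symm⟩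
    have hsylM : IsSylowIn p UT M := by
      obtain ⟨W, hUW, hW⟩ := exists_isSylowIn hUTM hUTp
      rw [← hsyl.eq_of_le hUW (hW.1.trans hMle) hW.2.1] at hW
      exact hW
    have hN'N : N' ≤ normalizerIn S Q := extSub_le _
    have hN'T : N' ≤ normalizerIn S T := hN'N.trans hNQT
    set U := (autInducedBy N' T).map (MulAut.congr (isoEquiv he heT)).toMonoidHom with hU
    have hUM : U ≤ M := by
      rintro _ ⟨α, hα, rfl⟩
      obtain ⟨y, hy, hyα⟩ := mem_autInducedBy_iff_cj.mp hα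
      obtain ⟨hyN, s, hs, hsy⟩ := hy
      have hsQ : s ∈ normalizerIn S Q := mem_normalizerIn_of_forall hQS hs fun q hq => by
        rw [← autFun_autFun_inv γ hq, ← hsy _ (autFun_mem _ hq)]
        exact autFun_mem γ (conj_mem_of_mem_normalizerIn hyN (autFun_mem _ hq))
      obtain ⟨c, hc⟩ := exists_conjAut (P := Q) hsQ.2
      refine ⟨⟨(map_congr_autGroup he heT).le ⟨α, autInducedBy_le_autGroup hTS
        (autInducedBy_mono (fun z hz => (hN'N hz).1) T hα), rfl⟩, fun a ha => ?_⟩, c,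
        mem_autInducedBy_iff_cj.mpr ⟨s, hs, hc⟩, fun q hq => ?_⟩
      · obtain ⟨t, ht, rfl⟩ := (he.mem_img_iff le_rfl).mp (heT.symm ▸ ha : a ∈ img e T)
        rw [MulEquiv.toMonoidHom_eq_coe, MonoidHom.coe_coe, autFun_congr he heT α ht]
        refine (((Iff.of_eq (congrArg (fun Z : Subgroup Ω => e (autFun α t) ∈ Z) heQ.symm)).trans
          (he.apply_mem_img_iff hQT (autFun_mem α ht))).trans ?_).trans
          ((he.apply_mem_img_iff hQT ht).symm.trans
            (Iff.of_eq (congrArg (fun Z : Subgroup Ω => e t ∈ Z) heQ)))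
        rw [hyα t ht]
        exact (Subgroup.mem_normalizer_iff.mp hyN.2 t).symm
      · obtain ⟨q₀, hq₀, rfl⟩ := (he.mem_img_iff hQT).mp (heQ.symm ▸ hq : q ∈ img e Q)
        rw [MulEquiv.toMonoidHom_eq_coe, MonoidHom.coe_coe, autFun_congr he heT α (hQT hq₀),
          hyα q₀ (hQT hq₀), cj_apply, heγ _ (conj_mem_of_mem_normalizerIn hyN hq₀),
          hsy q₀ hq₀, hc (e q₀) hq, heγ q₀ hq₀, cj_apply]
    have hUp : IsPGroup p U :=
      (isPGroup_autInducedBy (hS.to_le (hN'N.trans normalizerIn_le)) T).map _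
    obtain ⟨m₀, hm₀, hm₀U⟩ := hsylM.2.2 U hUM hUp
    -- normalize `m₀` so that it fixes `Q`
    obtain ⟨l, hl, hlm⟩ := hm₀.2
    obtain ⟨z, hz, hzl⟩ := mem_autInducedBy_iff_cj.mp hl
    have hzQ : z ∈ normalizerIn S Q := mem_normalizerIn_of_forall hQS hz fun q hq => by
      rw [← cj_apply, ← hzl q hq]; exact autFun_mem l hq
    obtain ⟨cz, hcz⟩ := exists_conjAut (P := T) (hNQT hzQ).2
    have hczU : cz ∈ UT := mem_autInducedBy_iff_cj.mpr ⟨z, hzQ, hcz⟩
    set m := cz⁻¹ * m₀ with hmd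
    have hmM : m ∈ M := Subgroup.mul_mem _ (Subgroup.inv_mem _ (hUTM hczU)) hm₀
    have hmfix : ∀ q ∈ Q, autFun m q = q := fun q hq => by
      rw [hmd, autFun_mul _ _ (hQT hq), hlm q hq, hzl q hq,
        ← hcz q (hQT hq), autFun_inv_autFun cz (hQT hq)]
    have hmap := mapTo_of_mem_autGroup hTS hmM.1.1
    have hh1 : MapTo F T (fun x => autFun m (e x)) :=
      he.comp hmap fun x hx => heT.le (mem_img_of_mem hx)
    have hh1T : img (fun x => autFun m (e x)) T = T := by
      rw [← he.img_img le_rfl, heT, img_autFun]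
    have hh2 : MapTo F T (fun x => χ (autFun m (e x))) :=
      hh1.comp hχ fun x hx => hTNT (hh1T.le (mem_img_of_mem (f := fun x => autFun m (e x)) hx))
    have hh2T : img (fun x => χ (autFun m (e x))) T = Ts := by
      rw [← hh1.img_img le_rfl, hh1T, hχT]
    obtain ⟨g, hg, hge⟩ := exists_extension hrec hh2 hh2T hN'T (by
      rintro _ ⟨α, hα, rfl⟩
      have h1 : MulAut.congr (isoEquiv hh1 hh1T) α ∈ UT := by
        rw [congr_comp_aut he heT hh1 hh1T (δ := m) (fun _ _ => rfl) α, hmd, mul_inv_rev, inv_inv,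
          show ∀ u : MulAut T, cz⁻¹ * m₀ * u * (m₀⁻¹ * cz) = cz⁻¹ * (m₀ * u * m₀⁻¹) * cz from
            fun u => by group]
        exact Subgroup.mul_mem _ (Subgroup.mul_mem _ (Subgroup.inv_mem _ hczU)
          (hm₀U _ ⟨α, hα, rfl⟩)) hczU
      obtain ⟨y, hy, hyv⟩ := mem_autInducedBy_iff_cj.mp h1
      refine mem_autInducedBy_iff_cj.mpr ⟨χ y, hχ.mem (hNQT hy), fun a ha => ?_⟩
      obtain ⟨t, ht, rfl⟩ := (hh2.mem_img_iff le_rfl).mp (hh2T.symm ▸ ha : a ∈ img _ T)
      have ht' : autFun m (e t) ∈ T := hh1T.le (mem_img_of_mem (f := fun x => autFun m (e x)) ht)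
      rw [MulEquiv.toMonoidHom_eq_coe, MonoidHom.coe_coe, autFun_congr hh2 hh2T α ht, cj_apply,
        ← hχ.map_conj (hNQT hy) (hTNT ht')]
      congr 1
      rw [← cj_apply, ← hyv _ ht', autFun_congr hh1 hh1T α ht])
    -- pull back through `χ` on `N_S(Q)`
    have hχN := hχ.restrict hNQT
    have hA : img χ (normalizerIn S Q) = normalizerIn S (img χ Q) := by
      have := finite_of_le (normalizerIn_le (S := S) (P := img χ Q))
      refine Subgroup.eq_of_le_of_card_ge (img_le_of_forall fun z hz =>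
        hχN.map_mem_normalizerIn hQN hz hz) ?_
      rw [hχN.card_img le_rfl]
      exact hQn.2 _ (hχN.restrict hQN).isConj
    obtain ⟨ψ, hψ, hψχ, -, -⟩ := hχN.exists_iso_inverse
    rw [hA] at hψ
    have hgq : ∀ q ∈ Q, g q = χ (autFun γ q) := fun q hq => by
      rw [hge q (hQT hq)]
      show χ (autFun m (e q)) = _
      rw [heγ q hq, hmfix _ (autFun_mem γ hq)]
    have hgQ : img g Q = img χ Q := by
      rw [img_congr hgq, ← (mapTo_of_mem_autGroup hQS hγ).img_img le_rfl χ, img_autFun]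
    refine ⟨fun y => ψ (g y), hg.comp hψ fun y hy => ?_, fun q hq => ?_⟩
    · exact hgQ ▸ hg.map_mem_normalizerIn (le_extSub _) hy (hN'N hy)
    · show ψ (g q) = _
      rw [hgq q hq, hψχ _ (hQN (autFun_mem γ hq))]

end Step

end Cfsg.Agent.Fusion
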