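import Cfsg.Agent.Lib.Fusion.SimpleGroupSystem

/-!
The simplicity criterion checked in an isomorphic group.
-/

set_option autoImplicit false

namespace Cfsg.Agent.Fusion

open Cfsg.FusionSystem (centralizerIn)

universe u v

variable {H : Type v} [Group H] [Finite H] {G : Type u} [Group G] [Finite G] {p : ℕ} [Fact p.Prime]

/-- The criterion, checked in an isomorphic group. -/
theorem isSimple_gfs_of_equiv (e : H ≃* G) (S₀ : Sylow p H) (S : Sylow p G)
    (hS1 : (S₀ : Subgroup H) ≠ ⊥)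
    (hsc : ∀ T : Subgroup H, T ≤ S₀ → T ≠ ⊥ →
      (∀ g : H, ∀ x ∈ T, g * x * g⁻¹ ∈ (S₀ : Subgroup H) → g * x * g⁻¹ ∈ T) →
      (S₀ : Subgroup H) ≤ T)
    (hgen : Subgroup.normalizer ((S₀ : Subgroup H) : Set H) ≤
      Subgroup.closure (localGen p (S₀ : Subgroup H))) :
    (Cfsg.groupFusionSystem (S : Subgroup G)).IsSimple p := by
  let S₁ : Sylow p G := S₀.mapSurjective (f := e.toMonoidHom) e.surjective
  have hS : (S₁ : Subgroup G) = (S₀ : Subgroup H).map e.toMonoidHom := rfl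
  refine isSimple_gfs S₁ S (fun h => hS1 ?_) (fun T hTS hT1 hT => ?_) ?_
  · rw [hS] at h
    exact (Subgroup.map_eq_bot_iff_of_injective _ e.injective).mp h
  · have hmem : ∀ {x}, x ∈ T.comap e.toMonoidHom → e x ∈ T := fun h => h
    have h0 := hsc (T.comap e.toMonoidHom) (fun x hx => by
      obtain ⟨z, hz, hzx⟩ := hS.le (hTS (hmem hx))
      exact e.injective hzx ▸ hz) (fun h => hT1 ?_) fun g x hx hgx => ?_
    · intro z hz
      obtain ⟨w, hw, rfl⟩ := hS.le hz
      exact h0 hw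
    · rw [← Subgroup.map_comap_eq_self_of_surjective e.surjective T (f := e.toMonoidHom), h,
        Subgroup.map_bot]
    · show e (g * x * g⁻¹) ∈ T
      have h1 := hT (e g) (e x) (hmem hx) (hS.ge ⟨_, hgx, by simp⟩)
      simpa using h1
  · rw [hS, show ((S₀ : Subgroup H).map e.toMonoidHom : Set G) = _ from rfl,
      ← Subgroup.map_equiv_normalizer_eq (S₀ : Subgroup H) e]
    refine (Subgroup.map_mono hgen).trans ?_
    rw [MonoidHom.map_closure, Subgroup.closure_le]
    rintro _ ⟨g, hg, rfl⟩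
    refine Subgroup.subset_closure ?_
    rcases hg with hg | ⟨hgN, Q, hQS, hQC, hQn, hgQ⟩
    · exact Or.inl ⟨g, hg, rfl⟩
    refine Or.inr ⟨?_, Q.map e.toMonoidHom, Subgroup.map_mono hQS, ?_, ?_, ?_⟩
    · rw [← Subgroup.map_equiv_normalizer_eq (S₀ : Subgroup H) e]
      exact ⟨g, hgN, rfl⟩
    · rintro z hz
      obtain ⟨hzS, hzc⟩ := mem_centralizerIn.mp hz
      obtain ⟨w, hw, rfl⟩ := hzS
      refine ⟨w, hQC (mem_centralizerIn.mpr ⟨hw, fun q hq => e.injective ?_⟩), rfl⟩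
      rw [map_mul, map_mul]
      exact hzc _ ⟨q, hq, rfl⟩
    · rw [← Subgroup.map_equiv_normalizer_eq Q e]
      exact Subgroup.map_mono hQn
    · have h1 := Subgroup.mem_map_of_mem e.toMonoidHom hgQ
      rw [MonoidHom.map_closure] at h1
      refine Subgroup.closure_mono ?_ h1
      rintro _ ⟨x, ⟨hxN, k, hk⟩, rfl⟩
      refine ⟨?_, k, by rw [← map_pow, hk, map_one]⟩
      rw [← Subgroup.map_equiv_normalizer_eq Q e]
      exact ⟨x, hxN, rfl⟩

end Cfsg.Agent.Fusion
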