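import Cfsg.Agent.Lib.Fusion.OmegaCriteria
import Cfsg.Agent.Lib.Fusion.NormalizerSaturated
import Cfsg.Agent.Lib.FGB.MillerCyclic
import Cfsg.Agent.Lib.Fusion.Normal

/-!
A saturated subsystem with the same maps on small abelian subgroups is the whole system.
-/

set_option autoImplicit false
set_option linter.unusedSectionVars false

namespace Cfsg.Agent.Fusion

open Cfsg.FusionSystem (centralizerIn normalizerIn)
open scoped commutatorElement

universe u

/-- The exponent of small subgroups: `4` for the prime two, otherwise `p`. -/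
def smallExp (p : ℕ) : ℕ := if p = 2 then 4 else p

section Group

variable {G : Type*} [Group G] {p : ℕ}

theorem pow_smallExp_of_good {x : G} (h : x ^ p = 1 ∨ (p = 2 ∧ x ^ 4 = 1)) : x ^ smallExp p = 1 := by
  unfold smallExp
  split_ifs with h2
  · rcases h with h | ⟨-, h⟩
    · subst h2
      rw [show 4 = 2 * 2 from rfl, pow_mul, h, one_pow]
    · exact h
  · rcases h with h | ⟨h', -⟩
    · exact h
    · exact absurd h' h2

theorem smallExp_comm [hp : Fact p.Prime] (Z : Subgroup G) (hZc : Z ≤ Subgroup.center G)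
    (hZm : ∀ z ∈ Z, z ^ smallExp p = 1) {x e : G} (hf : ⁅e, x⁆ ∈ Z) (hx : x ^ smallExp p = 1)
    (hxe : (x * e) ^ smallExp p = 1)
    (hsq : p = 2 → (e ^ 2) ^ 4 = 1 → e ^ 2 ∈ Z) : e ^ smallExp p = 1 := by
  set c := x⁻¹ * e⁻¹ * ⁅e, x⁆ * e * x with hc
  have hcZ : c = ⁅e, x⁆ := by
    have h := Subgroup.mem_center_iff.mp (hZc hf) (x⁻¹ * e⁻¹)
    rw [hc, h]; group
  have hcc : ∀ y : G, Commute c y := fun y => by
    rw [hcZ]; exact (Subgroup.mem_center_iff.mp (hZc hf) y).symm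
  have hrel : e * x = x * e * c := by
    rw [hc, commutatorElement_def]; group
  have h1 := Cfsg.Agent.FGB.mul_pow_of_central_commutator hrel (hcc x) (hcc e) (smallExp p)
  rw [hxe, hx, one_mul] at h1
  have hcm : c ^ smallExp p = 1 := by rw [hcZ]; exact hZm _ hf
  by_cases h2 : p = 2
  · subst h2
    simp only [smallExp, if_true] at h1 hcm ⊢
    rw [show Nat.choose 4 2 = 4 + 2 from rfl, pow_add, hcm, one_mul] at h1
    have hce : (c ^ 2) ^ 2 = 1 := by rw [← pow_mul]; exact hcm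
    have h3 : (e ^ 2) ^ 4 = 1 := by
      have h4 : e ^ 4 = (c ^ 2)⁻¹ := eq_inv_of_mul_eq_one_left h1.symm
      rw [← pow_mul, show 2 * 4 = 4 * 2 from rfl, pow_mul, h4, inv_pow, hce, inv_one]
    have h5 : Commute (e ^ 2) x := (Subgroup.mem_center_iff.mp (hZc (hsq rfl h3)) x).symm
    -- moving `x` past `e ^ 2` produces `c ^ 2`
    have h6 : e ^ 2 * x = x * e ^ 2 * c ^ 2 := by
      calc e ^ 2 * x = e * (e * x) := by rw [pow_two, mul_assoc]
        _ = e * (x * e * c) := by rw [hrel]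
        _ = e * x * (e * c) := by group
        _ = x * e * c * (e * c) := by rw [hrel]
        _ = x * e * (c * e) * c := by group
        _ = x * e ^ 2 * c ^ 2 := by rw [(hcc e).eq]; simp only [pow_two, mul_assoc]
    have h7 : c ^ 2 = 1 := by
      rw [h5.eq] at h6
      exact mul_left_cancel (h6.symm.trans (mul_one _).symm)
    rw [h7, mul_one] at h1
    exact h1.symm
  · simp only [smallExp, if_neg h2] at h1 hcm ⊢
    obtain ⟨r, hr⟩ := hp.out.dvd_choose_self (k := 2) (by omega)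
      (lt_of_le_of_ne hp.out.two_le (Ne.symm h2))
    rw [hr, pow_mul, hcm, one_pow, mul_one] at h1
    exact h1.symm

/-- If the elements of small order of a normal subgroup with all commutators in `Z` lie in `Z`, so
do all its elements of small order. -/
theorem mem_of_smallExp [Finite G] [hp : Fact p.Prime] (hG : IsPGroup p G) (D : Subgroup G)
    [D.Normal] (Z : Subgroup G) (hZc : Z ≤ Subgroup.center G) (hZm : ∀ z ∈ Z, z ^ smallExp p = 1)
    (H : ∀ x ∈ D, x ^ smallExp p = 1 → (∀ y : G, ⁅x, y⁆ ∈ Z) → x ∈ Z) :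
    ∀ x ∈ D, x ^ smallExp p = 1 → x ∈ Z := by
  have hnil : Group.IsNilpotent G := hG.isNilpotent
  obtain ⟨n, hn⟩ := hnil.nilpotent'
  suffices h : ∀ i, ∀ x ∈ D, x ∈ Subgroup.upperCentralSeries G i → x ^ smallExp p = 1 → x ∈ Z from
    fun x hx hxm => h n x hx (by rw [hn]; exact Subgroup.mem_top x) hxm
  intro i
  induction i with
  | zero =>
    intro x _ hx _
    rw [Subgroup.upperCentralSeries_zero, Subgroup.mem_bot] at hx
    rw [hx]; exact Z.one_mem
  | succ i ih =>
    intro x hxD hxi hxm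
    refine H x hxD hxm fun y => ?_
    have key : ∀ k, ∀ y ∈ Subgroup.upperCentralSeries G k, ⁅x, y⁆ ∈ Z := by
      intro k
      induction k with
      | zero =>
        intro y hy
        rw [Subgroup.upperCentralSeries_zero, Subgroup.mem_bot] at hy
        rw [hy, commutatorElement_one_right]; exact Z.one_mem
      | succ k ihk =>
        intro y hy
        -- the element `e` with `x e` conjugate to `x`
        set e := x⁻¹ * (y * x * y⁻¹) with he
        have he1 : e = ⁅x⁻¹, y⁆ := by rw [he, commutatorElement_def]; group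
        have hei : e ∈ Subgroup.upperCentralSeries G i := he1 ▸
          Subgroup.mem_upperCentralSeries_succ_iff.mp (Subgroup.inv_mem _ hxi) y
        have hek : e ∈ Subgroup.upperCentralSeries G k := by
          have h := Subgroup.inv_mem _ (Subgroup.mem_upperCentralSeries_succ_iff.mp hy x⁻¹)
          rwa [commutatorElement_inv, ← he1] at h
        have heD : e ∈ D := D.mul_mem (D.inv_mem hxD) (Subgroup.Normal.conj_mem inferInstance x hxD y)
        have hex : ⁅e, x⁆ ∈ Z := by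
          rw [← commutatorElement_inv]; exact Z.inv_mem (ihk e hek)
        have hxe : (x * e) ^ smallExp p = 1 := by
          rw [he, mul_inv_cancel_left, conj_pow, hxm, mul_one, mul_inv_cancel]
        have hem := smallExp_comm Z hZc hZm hex hxm hxe fun h2 h8 =>
          ih _ (D.pow_mem heD 2) (Subgroup.pow_mem _ hei 2) (by rw [smallExp, if_pos h2]; exact h8)
        have heZ : e ∈ Z := ih e heD hei hem
        have hconj : x⁻¹ * ⁅x, y⁆ * x = e⁻¹ := by rw [he, commutatorElement_def]; group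
        have : ⁅x, y⁆ = e⁻¹ := by
          have h := Subgroup.mem_center_iff.mp (hZc (Z.inv_mem heZ)) x
          calc ⁅x, y⁆ = x * (x⁻¹ * ⁅x, y⁆ * x) * x⁻¹ := by group
            _ = e⁻¹ := by rw [hconj, h, mul_inv_cancel_right]
        rw [this]; exact Z.inv_mem heZ
    exact key n y (by rw [hn]; exact Subgroup.mem_top y)

end Group

variable {Ω : Type u} [Group Ω] {S T : Subgroup Ω} [Finite S] {F E : FusionSystem S}
variable {A Z P Q : Subgroup Ω} {f : Ω → Ω} {p : ℕ} [hp : Fact p.Prime]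

/-- An abelian subgroup of `T` of small exponent. -/
structure IsSmall (p : ℕ) (T A : Subgroup Ω) : Prop where
  le : A ≤ T
  comm : ∀ a ∈ A, ∀ b ∈ A, Commute a b
  exp : ∀ a ∈ A, a ^ smallExp p = 1

theorem IsSmall.sup (hA : IsSmall p T A) (hZ : IsSmall p T Z)
    (h : ∀ a ∈ A, ∀ z ∈ Z, Commute a z) : IsSmall p T (A ⊔ Z) := by
  have hAc : ∀ w ∈ A ⊔ Z, ∀ a ∈ A, Commute w a := by
    intro w hw a ha
    rw [Subgroup.sup_eq_closure] at hw
    induction hw using Subgroup.closure_induction with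
    | mem w hw => exact hw.elim (fun h' => hA.comm w h' a ha) fun h' => (h a ha w h').symm
    | one => exact Commute.one_left _
    | mul x y _ _ hx hy => exact hx.mul_left hy
    | inv x _ hx => exact hx.inv_left
  have hZc : ∀ w ∈ A ⊔ Z, ∀ a ∈ Z, Commute w a := by
    intro w hw a ha
    rw [Subgroup.sup_eq_closure] at hw
    induction hw using Subgroup.closure_induction with
    | mem w hw => exact hw.elim (fun h' => h w h' a ha) fun h' => hZ.comm w h' a ha
    | one => exact Commute.one_left _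
    | mul x y _ _ hx hy => exact hx.mul_left hy
    | inv x _ hx => exact hx.inv_left
  have hall : ∀ w ∈ A ⊔ Z, ∀ v ∈ A ⊔ Z, Commute w v := by
    intro w hw v hv
    rw [Subgroup.sup_eq_closure] at hv
    induction hv using Subgroup.closure_induction with
    | mem v hv => exact hv.elim (fun h' => hAc w hw v h') fun h' => hZc w hw v h'
    | one => exact Commute.one_right _
    | mul x y _ _ hx hy => exact hx.mul_right hy
    | inv x _ hx => exact hx.inv_right
  refine ⟨sup_le hA.le hZ.le, hall, fun a ha => ?_⟩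
  have ha' := ha
  rw [Subgroup.sup_eq_closure] at ha
  induction ha using Subgroup.closure_induction with
  | mem v hv => exact hv.elim (hA.exp v) (hZ.exp v)
  | one => exact one_pow _
  | mul x y hx hy h1 h2 =>
    rw [← Subgroup.sup_eq_closure] at hx hy
    rw [(hall x hx y hy).mul_pow, h1 hx, h2 hy, one_mul]
  | inv x hx h1 =>
    rw [← Subgroup.sup_eq_closure] at hx
    rw [inv_pow, h1 hx, inv_one]

theorem IsSmall.img (hA : IsSmall p T A) (hT : F.StronglyClosed T) (hf : MapTo F P f)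
    (hAP : A ≤ P) : IsSmall p T (img f A) := by
  refine ⟨img_le_of_forall fun a ha => StronglyClosed.map_mem hT hf (hAP ha) (hA.le ha), ?_, ?_⟩
  · intro a ha b hb
    obtain ⟨x, hx, rfl⟩ := (hf.mem_img_iff hAP).mp ha
    obtain ⟨y, hy, rfl⟩ := (hf.mem_img_iff hAP).mp hb
    show f x * f y = f y * f x
    rw [← hf.map_mul (hAP hx) (hAP hy), ← hf.map_mul (hAP hy) (hAP hx), (hA.comm x hx y hy).eq]
  · intro a ha
    obtain ⟨x, hx, rfl⟩ := (hf.mem_img_iff hAP).mp ha
    obtain ⟨φ, -, hφ⟩ := hf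
    rw [← hφ ⟨x, hAP hx⟩, ← map_pow, show (⟨x, hAP hx⟩ : P) ^ smallExp p = 1 from
      Subtype.ext (hA.exp x hx), map_one]

/-- The setting: a subsystem with the same maps on the small subgroups of `T`. -/
structure SmallSetting (p : ℕ) (F E : FusionSystem S) (T : Subgroup Ω) : Prop where
  pgroup : IsPGroup p S
  satF : F.IsSaturated p
  satE : E.IsSaturated p
  sub : ∀ P f, MapTo E P f → MapTo F P f
  closed : F.StronglyClosed T
  coprime : ∀ P : Subgroup Ω, P ≤ S → ∀ α ∈ F.autGroup P, (orderOf α).Coprime p →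
    ∀ x ∈ P, x⁻¹ * autFun α x ∈ T
  small : ∀ A f, IsSmall p T A → MapTo F A f → MapTo E A f

/-- The maps fixing `Z` pointwise, on subgroups centralizing `Z`, lie in `E`. -/
def FixIn (F E : FusionSystem S) (Z : Subgroup Ω) : Prop :=
  ∀ (P : Subgroup Ω) (f : Ω → Ω), MapTo F P f → Z ≤ P → P ≤ centralizerIn S Z →
    (∀ z ∈ Z, f z = z) → MapTo E P f

theorem SmallSetting.exists_std (h : SmallSetting p F E T) (hA : IsSmall p T A) (hAS : A ≤ S) :
    ∃ χ : Ω → Ω, MapTo E (normalizerIn S A) χ ∧ F.IsFullyNormalized (Fusion.img χ A) ∧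
      E.IsFullyNormalized (Fusion.img χ A) ∧ IsSmall p T (Fusion.img χ A) := by
  obtain ⟨A₁, hc, hn⟩ := exists_isFullyNormalized (F := E) hAS
  obtain ⟨χ, hχ, rfl⟩ := exists_map_normalizerIn h.pgroup
    (isFullyAutomized_of_isFullyNormalized h.pgroup h.satE hn)
    (isReceptive_of_isFullyNormalized h.pgroup h.satE hn) hc
  have hA₁ := hA.img h.closed (h.sub _ _ hχ) (le_normalizerIn hAS)
  refine ⟨χ, hχ, ⟨hn.1, fun Q hQ => hn.2 Q ?_⟩, hn, hA₁⟩
  obtain ⟨g, hg, rfl⟩ := isConj_iff.mp hQ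
  exact (h.small _ _ hA₁ hg).isConj

/-- A map defined on a subgroup centralizing a small subgroup `A` lies in `E`. -/
theorem SmallSetting.mapTo_of_central (h : SmallSetting p F E T)
    (ih : ∀ B, IsSmall p T B → Nat.card B = Nat.card A → FixIn F E B) (hA : IsSmall p T A)
    (hf : MapTo F P f) (hAP : A ≤ P) (hPC : P ≤ centralizerIn S A) : MapTo E P f := by
  have hAS : A ≤ S := hAP.trans hf.le
  obtain ⟨χ, hχ, -, hn, hA₁⟩ := h.exists_std hA hAS
  have hPN : P ≤ normalizerIn S A := hPC.trans centralizerIn_le_normalizerIn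
  set A₁ := Fusion.img χ A
  obtain ⟨χ', hχ', hχ'χ, hχχ', -⟩ := (hχ.restrict hPN).exists_iso_inverse
  set P₁ := Fusion.img χ P
  have hA₁P₁ : A₁ ≤ P₁ := img_mono hAP
  have hχ'm : ∀ y ∈ P₁, χ' y ∈ P := fun y hy => by
    obtain ⟨x, hx, rfl⟩ := ((hχ.restrict hPN).mem_img_iff le_rfl).mp hy
    rw [hχ'χ x hx]; exact hx
  have hP₁C : P₁ ≤ centralizerIn S A₁ := img_le_of_forall fun x hx =>
    (hχ.restrict hPN).map_mem_centralizerIn hAP hx (hPC hx)
  -- it is enough to treat `f ∘ χ'`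
  suffices hg : MapTo E P₁ (fun y => f (χ' y)) from
    ((hχ.restrict hPN).comp hg fun x hx => mem_img_of_mem hx).congr' fun x hx => by
      rw [hχ'χ x hx]
  set g := fun y => f (χ' y)
  have hgF : MapTo F P₁ g := (h.sub _ _ hχ').comp hf hχ'm
  have hgA : MapTo E A₁ g := h.small _ _ hA₁ (hgF.restrict hA₁P₁)
  obtain ⟨k, hk, hkg, -, hkimg⟩ := hgA.exists_iso_inverse
  obtain ⟨e, he, hek⟩ := (isReceptive_iff.mp
    (isReceptive_of_isFullyNormalized h.pgroup h.satE hn)).2 _ k hk (hkimg A₁ le_rfl)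
  have hext : ∀ y ∈ P₁, g y ∈ extSub S hk := fun y hy => centralizerIn_le_extSub hk
    (hgF.map_mem_centralizerIn hA₁P₁ hy (hP₁C hy))
  have hfix : ∀ z ∈ A₁, e (g z) = z := fun z hz => by
    rw [hek _ (mem_img_of_mem hz), hkg z hz]
  have heg : MapTo E P₁ (fun y => e (g y)) :=
    ih A₁ hA₁ (hχ.card_img (le_normalizerIn hAS)) P₁ _
      (hgF.comp (h.sub _ _ he) hext) hA₁P₁ hP₁C hfix
  have hR : Fusion.img g P₁ ≤ extSub S hk := img_le_of_forall hext
  obtain ⟨e', he', he'e, -, -⟩ := (he.restrict hR).exists_iso_inverse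
  exact (heg.comp he' fun y hy => mem_img_of_mem (mem_img_of_mem hy)).congr' fun y hy =>
    (he'e _ (mem_img_of_mem hy)).symm

theorem isNormal_nSys (hA : A ≤ S) : (nSys F hA).IsNormal A := by
  refine isNormal_iff.mpr ⟨le_normalizerIn hA, fun P f hf => ?_⟩
  obtain ⟨hP, hfm, g, hg, hgf, hgA⟩ := (mapTo_nSys_iff (isNormalizerSystem_nSys F hA)).mp hf
  refine ⟨g, (mapTo_nSys_iff (isNormalizerSystem_nSys F hA)).mpr
    ⟨sup_le hP (le_normalizerIn hA), fun x hx => ?_, g, ?_, fun _ _ => rfl, hgA⟩, hgf, hgA⟩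
  · have := hg.map_mem_normalizerIn le_sup_right hx
      ((sup_le hP (le_normalizerIn hA)) hx)
    rwa [hgA] at this
  · rwa [sup_assoc, sup_idem]

/-- The normalizer of a small fully normalized subgroup lies in `E`. -/
theorem SmallSetting.normalizer (h : SmallSetting p F E T)
    (ih : ∀ B, IsSmall p T B → Nat.card B = Nat.card A → FixIn F E B) (hA : IsSmall p T A)
    (hnF : F.IsFullyNormalized A) (hnE : E.IsFullyNormalized A) :
    ∀ P f, MapTo (nSys F hnF.1) P f → MapTo (nSys E hnE.1) P f := by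
  have hAS := hnF.1
  set N := nSys F hnF.1 with hN
  have hNS : IsPGroup p (normalizerIn S A : Subgroup Ω) := h.pgroup.to_le normalizerIn_le
  have := finite_of_le (normalizerIn_le : normalizerIn S A ≤ S)
  have hNF := isNormalizerSystem_nSys F hAS
  have hNE := isNormalizerSystem_nSys E hnE.1
  have hsat : N.IsSaturated p := isSaturated_normalizerSystem h.pgroup h.satF hnF hNF
  have hsatE : (nSys E hnE.1).IsSaturated p := isSaturated_normalizerSystem h.pgroup h.satE hnE hNE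
  have hsub : ∀ P f, MapTo (nSys E hnE.1) P f → MapTo N P f := fun P f hf => by
    obtain ⟨h1, h2, g, hg, hgf, hgA⟩ := (mapTo_nSys_iff hNE).mp hf
    exact (mapTo_nSys_iff hNF).mpr ⟨h1, h2, g, h.sub _ _ hg, hgf, hgA⟩
  refine alperin hNS hsat _ fun Q hQ α hα => ?_
  have hQc : N.IsCentric Q := by
    rcases hQ with rfl | hQ
    · exact isCentric_top
    · exact hQ.1
  have hAn : N.IsNormal A := isNormal_nSys hAS
  have hAQ : A ≤ Q := (le_and_invariant_of_isNormal hNS hAn Q hQ).1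
  have hQN := hQc.1
  have hQS : Q ≤ S := hQN.trans normalizerIn_le
  have := finite_of_le hQS
  set D := Q ⊓ centralizerIn S A with hD
  have hDQ : D ≤ Q := inf_le_left
  have hAD : A ≤ D := le_inf hAQ fun a ha => mem_centralizerIn.mpr
    ⟨hAS ha, fun b hb => (hA.comm b hb a ha).eq⟩
  have hinvD : ∀ β ∈ N.autGroup Q, ∀ x ∈ D, autFun β x ∈ D := by
    intro β hβ x hx
    have hm := mapTo_of_mem_autGroup hQN hβ
    obtain ⟨-, -, g, hg, hgx, hgA⟩ := (mapTo_nSys_iff hNF).mp hm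
    refine ⟨autFun_mem β hx.1, ?_⟩
    have h1 := (hg.restrict le_sup_left).map_mem_centralizerIn hAQ hx.1 hx.2
    rwa [hgA, hgx x hx.1] at h1
  have hf := mapTo_of_mem_autGroup hQN hα
  obtain ⟨-, -, g, hg, hgx, hgA⟩ := (mapTo_nSys_iff hNF).mp hf
  set f₀ := autFun α with hf₀
  have hfF : MapTo F Q f₀ := (hg.restrict le_sup_left).congr' fun x hx => (hgx x hx).symm
  -- the restriction to the centralizer of `A` in `Q`
  have hDE : MapTo E D f₀ := h.mapTo_of_central ih hA (hfF.restrict hDQ) hAD inf_le_right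
  have hDN : MapTo (nSys E hnE.1) D f₀ := by
    refine (mapTo_nSys_iff hNE).mpr ⟨hDQ.trans hQN, fun x hx => hQN (autFun_mem α (hDQ hx)), f₀,
      by rwa [sup_eq_left.mpr hAD], fun _ _ => rfl, ?_⟩
    rw [img_congr fun x hx => (hgx x (hAQ hx)).symm, hgA]
  refine (mem_autGroup_iff hQN).mpr ?_
  obtain ⟨D₁, hDD₁, hD₁⟩ := exists_isFullyNormalized (F := nSys E hnE.1) (hDQ.trans hQN)
  obtain ⟨χ, hχ, hχD⟩ := exists_map_normalizerIn hNS
    (isFullyAutomized_of_isFullyNormalized hNS hsatE hD₁)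
    (isReceptive_of_isFullyNormalized hNS hsatE hD₁) hDD₁
  have hQnD : Q ≤ normalizerIn (normalizerIn S A) D := fun q hq =>
    mem_normalizerIn_of_forall (hDQ.trans hQN) (hQN hq) fun x hx => by
      refine ⟨Q.mul_mem (Q.mul_mem hq hx.1) (Q.inv_mem hq), ?_⟩
      refine mem_centralizerIn.mpr ⟨S.mul_mem (S.mul_mem (hQS hq) (hQS hx.1))
        (S.inv_mem (hQS hq)), fun a ha => ?_⟩
      have ha' : q⁻¹ * a * q ∈ A := by
        have := conj_mem_of_mem_normalizerIn (Subgroup.inv_mem _ (hQN hq)) ha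
        rwa [inv_inv] at this
      have h1 := (mem_centralizerIn.mp hx.2).2 _ ha'
      calc a * (q * x * q⁻¹) = q * (q⁻¹ * a * q * x) * q⁻¹ := by group
        _ = q * (x * (q⁻¹ * a * q)) * q⁻¹ := by rw [h1]
        _ = q * x * q⁻¹ * a := by group
  have hχQ := hχ.restrict hQnD
  have hfix : ∀ γ ∈ N.autGroup Q, (∀ x ∈ D, autFun γ x = x) →
      ∃ q ∈ Q, ∀ x ∈ Q, autFun γ x = cj q x := by
    intro γ hγN hγD
    set c : Fin 3 → Subgroup Ω := ![⊥, D, Q] with hc
    have hle : ∀ i, c i ≤ Q := by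
      intro i; fin_cases i <;> simp [c, hDQ]
    have hinv : ∀ i, ∀ β ∈ N.autGroup Q, ∀ x ∈ c i, autFun β x ∈ c i := by
      intro i β hβ x hx
      fin_cases i
      · change x ∈ (⊥ : Subgroup Ω) at hx
        change autFun β x ∈ (⊥ : Subgroup Ω)
        rw [Subgroup.mem_bot.mp hx, Subgroup.mem_bot]
        exact (mapTo_of_mem_autGroup hQN hβ).map_one
      · exact hinvD β hβ x hx
      · exact autFun_mem β hx
    set K := stabSeries N c hle hinv with hK
    have hKp : IsPGroup p K :=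
      isPGroup_stabilizer_series (hNS.to_le hQN) c rfl rfl hle K fun β hβ => hβ.2
    have hKn : (K.subgroupOf (N.autGroup Q)).Normal := by
      refine ⟨fun β hβ δ => ⟨Subgroup.mul_mem _ (Subgroup.mul_mem _ δ.2 hβ.1)
        (Subgroup.inv_mem _ δ.2), fun i x hx => ?_⟩⟩
      show x⁻¹ * autFun ((δ : MulAut Q) * (β : MulAut Q) * (δ : MulAut Q)⁻¹) x ∈ _
      have hz := hinv _ _ (Subgroup.inv_mem _ δ.2) x hx
      set z := autFun (δ : MulAut Q)⁻¹ x with hzdef
      have hzQ := hle _ hz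
      have hw := hinv _ _ δ.2 _ (hβ.2 i z hz)
      rw [autFun_mul _ _ (hle _ hx), autFun_mul _ _ (autFun_mem _ (hle _ hx))]
      have hm' := mapTo_of_mem_autGroup hQN δ.2
      rwa [hm'.map_mul (Q.inv_mem hzQ) (autFun_mem _ hzQ), hm'.map_inv hzQ, hzdef,
        autFun_autFun_inv _ (hle _ hx)] at hw
    have hγK : γ ∈ K := by
      refine ⟨hγN, fun i x hx => ?_⟩
      fin_cases i
      · change x⁻¹ * autFun γ x ∈ (⊥ : Subgroup Ω)
        rw [hγD x hx, inv_mul_cancel]; exact Subgroup.one_mem _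
      · change x ∈ Q at hx
        change x⁻¹ * autFun γ x ∈ D
        have hcen : x⁻¹ * autFun γ x ∈ centralizerIn S A := by
          refine mem_centralizerIn.mpr ⟨S.mul_mem (S.inv_mem (hQS hx))
            (hQS (autFun_mem γ hx)), fun a ha => ?_⟩
          have hm' := mapTo_of_mem_autGroup hQN hγN
          have ha1 : x * a * x⁻¹ ∈ A := conj_mem_of_mem_normalizerIn (hQN hx) ha
          have h1 := hm'.map_conj hx (hAQ ha)
          rw [hγD a (hAD ha), hγD _ (hAD ha1)] at h1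
          calc a * (x⁻¹ * autFun γ x) = x⁻¹ * (x * a * x⁻¹) * autFun γ x := by group
            _ = x⁻¹ * autFun γ x * a := by rw [h1]; group
        exact ⟨Q.mul_mem (Q.inv_mem hx) (autFun_mem γ hx), hcen⟩
    have hinn : γ ∈ Inn Q := by
      rcases hQ with rfl | hQe
      · obtain ⟨β, -, hβ⟩ := exists_conj_le_autInducedBy
          (isFullyAutomized_of_isFullyNormalized hNS hsat isFullyNormalized_top)
          (fun β hβ => hβ.1 : K ≤ _) hKp
        have h1 := hβ γ hγK
        rw [← inn_eq_autInducedBy] at h1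
        have h2 := (inferInstance : (Inn (normalizerIn S A)).Normal).conj_mem _ h1 β⁻¹
        simpa [mul_assoc] using h2
      · rw [← (isRadical_of_isEssential hNS hQe).2]
        exact ⟨⟨γ, hγN⟩, le_pCore hKn
          (hKp.comap_of_injective _ (Subgroup.subtype_injective _)) hγK, rfl⟩
    rw [inn_eq_autInducedBy] at hinn
    exact mem_autInducedBy_iff_cj.mp hinn
  set Q₁ := Fusion.img χ Q with hQ₁
  have hQ₁c : N.IsCentric Q₁ := isCentric_of_isConj hQc (hsub _ _ hχQ).isConj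
  have hA' : ∀ P f, MapTo N P f → A ≤ P → ∀ a ∈ A, f a ∈ A := fun P f hf hAP a ha =>
    StronglyClosed.map_mem (IsNormal.stronglyClosed hAn) hf (hAP ha) ha
  -- the centralizer of `D₁` lies in `D₁`
  have hCD₁ : centralizerIn (normalizerIn S A) D₁ ≤ Q₁ := by
    by_contra hne
    have : Finite (centralizerIn (normalizerIn S A) D₁ : Subgroup Ω) := finite_of_le centralizerIn_le
    have hnorm : Q₁ ≤ Subgroup.normalizer (centralizerIn (normalizerIn S A) D₁ : Set Ω) := by
      intro y hy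
      refine mem_normalizer_of_forall (P := centralizerIn (normalizerIn S A) D₁) ?_
      intro z hz
      refine mem_centralizerIn.mpr ⟨Subgroup.mul_mem _ (Subgroup.mul_mem _ (hQ₁c.1 hy)
        (centralizerIn_le hz)) (Subgroup.inv_mem _ (hQ₁c.1 hy)), fun d hd => ?_⟩
      obtain ⟨x, hx, rfl⟩ := (hχQ.mem_img_iff le_rfl).mp hy
      have hd' : (χ x)⁻¹ * d * χ x ∈ D₁ := by
        rw [← hχD] at hd ⊢
        obtain ⟨w, hw, rfl⟩ := (hχQ.mem_img_iff hDQ).mp hd
        rw [← hχQ.map_inv hx]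
        have := hχQ.map_conj (Q.inv_mem hx) (hDQ hw)
        rw [inv_inv, hχQ.map_inv hx, inv_inv] at this
        rw [hχQ.map_inv hx, ← this]
        have h3 := conj_mem_of_mem_normalizerIn (Subgroup.inv_mem _ (hQnD hx)) hw
        rw [inv_inv] at h3
        exact mem_img_of_mem h3
      have h1 := (mem_centralizerIn.mp hz).2 _ hd'
      calc d * (χ x * z * (χ x)⁻¹) = χ x * ((χ x)⁻¹ * d * χ x * z) * (χ x)⁻¹ := by group
        _ = χ x * (z * ((χ x)⁻¹ * d * χ x)) * (χ x)⁻¹ := by rw [h1]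
        _ = χ x * z * (χ x)⁻¹ * d := by group
    obtain ⟨k, hk, hkQ, hkn⟩ := exists_mem_normalizer_not_mem hNS hQ₁c.1 centralizerIn_le hnorm hne
    · refine hkQ ?_
      obtain ⟨χ', hχ', hχ'χ, hχχ', -⟩ := hχQ.exists_iso_inverse
      have hm : MapTo N Q (fun x => χ' (k * χ x * k⁻¹)) :=
        ((hsub _ _ hχQ).comp (mapTo_cj (F := N) hQ₁c.1 hkn.1) fun x hx => mem_img_of_mem hx).comp
          (hsub _ _ hχ') fun x hx => conj_mem_of_mem_normalizerIn hkn (mem_img_of_mem hx)
      have hmQ : ∀ x ∈ Q, χ' (k * χ x * k⁻¹) ∈ Q := fun x hx => by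
        obtain ⟨w, hw, hwx⟩ := (hχQ.mem_img_iff le_rfl).mp
          (conj_mem_of_mem_normalizerIn hkn (mem_img_of_mem (f := χ) hx))
        rw [← hwx, hχ'χ w hw]; exact hw
      set γ := autOf hm (img_eq_self_of_forall hm hmQ) with hγ
      have hγa : ∀ x ∈ Q, autFun γ x = χ' (k * χ x * k⁻¹) := fun x hx => autFun_autOf hm _ hx
      have hγD : ∀ x ∈ D, autFun γ x = x := fun x hx => by
        rw [hγa x hx.1, show k * χ x * k⁻¹ = χ x from ?_, hχ'χ x hx.1]
        rw [← (mem_centralizerIn.mp hk).2 (χ x) (hχD ▸ mem_img_of_mem hx), mul_inv_cancel_right]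
      obtain ⟨q, hq, hqγ⟩ := hfix γ (autOf_mem hm _) hγD
      have hqk : (χ q)⁻¹ * k ∈ centralizerIn (normalizerIn S A) Q₁ := by
        refine mem_centralizerIn.mpr ⟨Subgroup.mul_mem _ (Subgroup.inv_mem _
          (hQ₁c.1 (mem_img_of_mem hq))) hkn.1, fun y hy => ?_⟩
        obtain ⟨x, hx, rfl⟩ := (hχQ.mem_img_iff le_rfl).mp hy
        have h1 := congrArg χ ((hγa x hx).symm.trans (hqγ x hx))
        rw [hχχ' _ (conj_mem_of_mem_normalizerIn hkn (mem_img_of_mem hx)), cj_apply,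
          hχQ.map_conj hq hx] at h1
        calc χ x * ((χ q)⁻¹ * k) = (χ q)⁻¹ * (χ q * χ x * (χ q)⁻¹) * k := by group
          _ = (χ q)⁻¹ * (k * χ x * k⁻¹) * k := by rw [h1]
          _ = (χ q)⁻¹ * k * χ x := by group
      have := Q₁.mul_mem (mem_img_of_mem (f := χ) hq) (centralizerIn_le_of_isCentric hQ₁c hqk)
      rwa [mul_inv_cancel_left] at this
  -- transport `f₀` to `Q₁` and extend from `D₁`
  obtain ⟨χ', hχ', hχ'χ, hχχ', -⟩ := hχQ.exists_iso_inverse
  have hχ'm : ∀ y ∈ Q₁, χ' y ∈ Q := fun y hy => by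
    obtain ⟨x, hx, rfl⟩ := (hχQ.mem_img_iff le_rfl).mp hy
    rw [hχ'χ x hx]; exact hx
  set f₁ := fun y => χ (f₀ (χ' y)) with hf₁
  suffices hE₁ : MapTo (nSys E hnE.1) Q₁ f₁ by
    have h1 := (hχQ.comp hE₁ fun x hx => mem_img_of_mem hx).comp hχ'
      fun x hx => mem_img_of_mem (by rw [hχ'χ x hx]; exact autFun_mem α hx)
    exact h1.congr' fun x hx => by
      simp only [hf₁]
      rw [hχ'χ x hx, hχ'χ _ (autFun_mem α hx)]
  have hf₁N : MapTo N Q₁ f₁ := ((hsub _ _ hχ').comp hf hχ'm).comp (hsub _ _ hχQ)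
    fun y hy => autFun_mem α (hχ'm y hy)
  have hD₁Q₁ : D₁ ≤ Q₁ := hχD ▸ img_mono hDQ
  have hf₁D : MapTo (nSys E hnE.1) D₁ f₁ := by
    refine ((hχ'.restrict hD₁Q₁).comp hDN fun y hy => ?_).comp hχQ fun y hy =>
      autFun_mem α (hχ'm y (hD₁Q₁ hy))
    rw [← hχD] at hy
    obtain ⟨x, hx, rfl⟩ := (hχQ.mem_img_iff hDQ).mp hy
    rw [hχ'χ x (hDQ hx)]; exact hx
  have hf₁img : Fusion.img f₁ D₁ = D₁ := by
    have := finite_of_le (hD₁.1)
    refine img_eq_self_of_forall hf₁D fun y hy => ?_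
    rw [← hχD] at hy ⊢
    obtain ⟨x, hx, rfl⟩ := (hχQ.mem_img_iff hDQ).mp hy
    simp only [hf₁]
    rw [hχ'χ x (hDQ hx)]
    exact mem_img_of_mem (hinvD α hα x hx)
  obtain ⟨e, he, hef⟩ := (isReceptive_iff.mp
    (isReceptive_of_isFullyNormalized hNS hsatE hD₁)).2 _ _ hf₁D hf₁img
  have hext : Q₁ ≤ extSub (normalizerIn S A) hf₁D := fun z hz =>
    ⟨mem_normalizerIn_of_forall hD₁.1 (hQ₁c.1 hz) fun d hd => by
      rw [← hχD] at hd ⊢
      obtain ⟨w, hw, rfl⟩ := (hχQ.mem_img_iff hDQ).mp hd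
      obtain ⟨x, hx, rfl⟩ := (hχQ.mem_img_iff le_rfl).mp hz
      rw [← hχQ.map_conj hx (hDQ hw)]
      exact mem_img_of_mem (conj_mem_of_mem_normalizerIn (hQnD hx) hw),
      f₁ z, hf₁N.mem hz, fun x hx => hf₁N.map_conj hz (hD₁Q₁ hx)⟩
  have heQ := he.restrict hext
  -- the two maps differ by an element centralizing `D₁`
  have hdiff : ∀ y ∈ Q₁, e y * (f₁ y)⁻¹ ∈ Q₁ := by
    intro y hy
    refine hCD₁ (mem_centralizerIn.mpr
      ⟨Subgroup.mul_mem _ (heQ.mem hy) (Subgroup.inv_mem _ (hf₁N.mem hy)), fun d hd => ?_⟩)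
    obtain ⟨w, hw, rfl⟩ := (hf₁D.mem_img_iff le_rfl).mp (hf₁img.symm ▸ hd : d ∈ Fusion.img f₁ D₁)
    have hwy : y⁻¹ * w * y ∈ D₁ := by
      have := conj_mem_of_mem_normalizerIn (Subgroup.inv_mem _ (hext hy).1) hw
      rwa [inv_inv] at this
    have h1 := hf₁N.map_conj (Q₁.inv_mem hy) (hD₁Q₁ hw)
    have h2 := heQ.map_conj (Q₁.inv_mem hy) (hD₁Q₁ hw)
    rw [inv_inv, hf₁N.map_inv hy, inv_inv] at h1
    rw [inv_inv, heQ.map_inv hy, inv_inv, hef _ hwy, hef _ hw] at h2
    calc f₁ w * (e y * (f₁ y)⁻¹) = e y * ((e y)⁻¹ * f₁ w * e y) * (f₁ y)⁻¹ := by group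
      _ = e y * ((f₁ y)⁻¹ * f₁ w * f₁ y) * (f₁ y)⁻¹ := by rw [← h2, h1]
      _ = e y * (f₁ y)⁻¹ * f₁ w := by group
  have hf₁m : ∀ y ∈ Q₁, f₁ y ∈ Q₁ := fun y hy => mem_img_of_mem (autFun_mem α (hχ'm y hy))
  have := finite_of_le (hQ₁c.1.trans normalizerIn_le)
  have heimg : Fusion.img e Q₁ = Q₁ := img_eq_self_of_forall heQ fun y hy => by
    have := Q₁.mul_mem (hdiff y hy) (hf₁m y hy)
    rwa [inv_mul_cancel_right] at this
  obtain ⟨e', he', he'e, hee', -⟩ := heQ.exists_iso_inverse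
  rw [heimg] at he' hee'
  have hδ : MapTo N Q₁ (fun y => e' (f₁ y)) := hf₁N.comp (hsub _ _ he') hf₁m
  have hδm : ∀ y ∈ Q₁, e' (f₁ y) ∈ Q₁ := fun y hy => by
    obtain ⟨w, hw, hwy⟩ := (heQ.mem_img_iff le_rfl).mp (heimg.symm ▸ hf₁m y hy : f₁ y ∈ _)
    rw [← hwy, he'e w hw]; exact hw
  have hδD : ∀ y ∈ D₁, e' (f₁ y) = y := fun y hy => by rw [← hef y hy, he'e y (hD₁Q₁ hy)]
  -- a map fixing `D₁` is conjugation by an element of `Q₁`
  suffices hin : ∃ q ∈ Q₁, ∀ y ∈ Q₁, e' (f₁ y) = q * y * q⁻¹ by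
    obtain ⟨q, hq, hqy⟩ := hin
    refine ((mapTo_cj (F := nSys E hnE.1) hQ₁c.1 (hQ₁c.1 hq)).comp heQ fun y hy => ?_).congr'
      fun y hy => ?_
    · exact Q₁.mul_mem (Q₁.mul_mem hq hy) (Q₁.inv_mem hq)
    · show f₁ y = e (cj q y)
      rw [cj_apply, ← hqy y hy, hee' _ (hf₁m y hy)]
  set m := fun x => χ' (e' (f₁ (χ x))) with hm
  have hmN : MapTo N Q m := ((hsub _ _ hχQ).comp hδ fun x hx => mem_img_of_mem hx).comp
    (hsub _ _ hχ') fun x hx => hδm _ (mem_img_of_mem hx)
  have hmQ : ∀ x ∈ Q, m x ∈ Q := fun x hx => hχ'm _ (hδm _ (mem_img_of_mem hx))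
  have himg := img_eq_self_of_forall hmN hmQ
  obtain ⟨q, hq, hqx⟩ := hfix (autOf hmN himg) (autOf_mem hmN himg) fun x hx => by
    rw [autFun_autOf hmN himg hx.1]
    simp only [hm]
    rw [hδD _ (hχD ▸ mem_img_of_mem hx), hχ'χ x hx.1]
  refine ⟨χ q, mem_img_of_mem hq, fun y hy => ?_⟩
  obtain ⟨x, hx, rfl⟩ := (hχQ.mem_img_iff le_rfl).mp hy
  have h1 := hqx x hx
  rw [autFun_autOf hmN himg hx, cj_apply] at h1
  rw [← hχQ.map_conj hq hx, ← h1]
  exact (hχχ' _ (hδm _ hy)).symm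

/-- A map on a subgroup normalizing a small subgroup `A` lies in `E`. -/
theorem SmallSetting.mapTo_of_normal (h : SmallSetting p F E T)
    (ih : ∀ B, IsSmall p T B → Nat.card B = Nat.card A → FixIn F E B) (hA : IsSmall p T A)
    (hf : MapTo F P f) (hAP : A ≤ P) (hPN : P ≤ normalizerIn S A) : MapTo E P f := by
  have hAS : A ≤ S := hAP.trans hf.le
  obtain ⟨χ, hχ, hnF, hnE, hA₁⟩ := h.exists_std hA hAS
  have hAN := le_normalizerIn hAS
  set A₁ := Fusion.img χ A with hA₁d
  have hA' : IsSmall p T (Fusion.img f A) := hA.img h.closed hf hAP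
  have hA'S : Fusion.img f A ≤ S := img_le_of_forall fun a ha => hf.mem (hAP ha)
  have hfA : MapTo E A f := h.small _ _ hA (hf.restrict hAP)
  obtain ⟨χ', hχ', hχ'A⟩ := exists_map_normalizerIn h.pgroup
    (isFullyAutomized_of_isFullyNormalized h.pgroup h.satE hnE)
    (isReceptive_of_isFullyNormalized h.pgroup h.satE hnE)
    (isConj_trans (isConj_symm hfA.isConj) ((hχ.restrict hAN).isConj))
  have hfN : ∀ x ∈ P, f x ∈ normalizerIn S (Fusion.img f A) := fun x hx =>
    hf.map_mem_normalizerIn hAP hx (hPN hx)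
  obtain ⟨k, hk, hkχ, -, -⟩ := (hχ.restrict hPN).exists_iso_inverse
  have hkm : ∀ y ∈ Fusion.img χ P, k y ∈ P := fun y hy => by
    obtain ⟨x, hx, rfl⟩ := ((hχ.restrict hPN).mem_img_iff le_rfl).mp hy
    rw [hkχ x hx]; exact hx
  set g := fun y => χ' (f (k y)) with hg
  have hgF : MapTo F (Fusion.img χ P) g :=
    ((h.sub _ _ hk).comp hf hkm).comp (h.sub _ _ hχ') fun y hy => hfN _ (hkm y hy)
  have hA₁P : A₁ ≤ Fusion.img χ P := img_mono hAP
  have hgA : Fusion.img g A₁ = A₁ := by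
    rw [hA₁d, (hχ.restrict hPN).img_img hAP g,
      img_congr (g := fun x => χ' (f x)) fun x hx => by simp only [hg]; rw [hkχ x (hAP hx)],
      ← hf.img_img hAP χ', hχ'A]
  have hPN₁ : Fusion.img χ P ≤ normalizerIn S A₁ :=
    img_le_of_forall fun x hx => hχ.map_mem_normalizerIn hAN (hPN hx) (hPN hx)
  have hgm : ∀ y ∈ Fusion.img χ P, g y ∈ normalizerIn S A₁ := fun y hy => by
    have := hχ'.map_mem_normalizerIn (le_normalizerIn hA'S) (hfN _ (hkm y hy))
      (hfN _ (hkm y hy))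
    rwa [hχ'A] at this
  have hgN : MapTo (nSys F hnF.1) (Fusion.img χ P) g :=
    (mapTo_nSys_iff (isNormalizerSystem_nSys F hnF.1)).mpr
      ⟨hPN₁, hgm, g, by rwa [sup_eq_left.mpr hA₁P], fun _ _ => rfl, hgA⟩
  obtain ⟨-, -, g', hg', hg'g, -⟩ := (mapTo_nSys_iff (isNormalizerSystem_nSys E hnE.1)).mp
    (h.normalizer (fun B hB hc => ih B hB (hc.trans (hχ.card_img hAN))) hA₁ hnF hnE _ _ hgN)
  have hgE : MapTo E (Fusion.img χ P) g :=
    (hg'.restrict le_sup_left).congr' fun x hx => (hg'g x hx).symm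
  have hR : Fusion.img f P ≤ normalizerIn S (Fusion.img f A) := img_le_of_forall hfN
  obtain ⟨k', hk', hk'χ, -, -⟩ := (hχ'.restrict hR).exists_iso_inverse
  exact (((hχ.restrict hPN).comp hgE fun x hx => mem_img_of_mem hx).comp hk' fun x hx => by
    simp only [hg]
    rw [hkχ x hx]
    exact mem_img_of_mem (mem_img_of_mem hx)).congr' fun x hx => by
      simp only [hg]
      rw [hkχ x hx, hk'χ _ (mem_img_of_mem hx)]

/-- An automorphism of order prime to `p` moving elements inside `D` and fixing its elements of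
small order is trivial. -/
theorem eq_one_of_smallExp (hS : IsPGroup p S) {D : Subgroup Ω} (hPS : P ≤ S) (hDP : D ≤ P)
    {α : MulAut P} (hα : α ∈ F.autGroup P) (hcop : (orderOf α).Coprime p)
    (hmem : ∀ x ∈ P, x⁻¹ * autFun α x ∈ D)
    (hfix : ∀ x ∈ D, x ^ smallExp p = 1 → autFun α x = x) : α = 1 := by
  have := finite_of_le hPS
  have := finite_of_le (hDP.trans hPS)
  have hinv : ∀ x ∈ D, autFun α x ∈ D := fun x hx => by
    have := D.mul_mem hx (hmem x (hDP hx))
    rwa [mul_inv_cancel_left] at this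
  obtain ⟨C₀, -, hgood, hdet⟩ := exists_omega_detect (hS.to_le (hDP.trans hPS))
  have hm := (mapTo_of_mem_autGroup hPS hα).restrict hDP
  set α' := autOf hm (img_eq_self_of_forall hm hinv)
  have hα' : ∀ x ∈ D, autFun α' x = autFun α x := fun x hx => autFun_autOf hm _ hx
  have hpow : ∀ n : ℕ, ∀ x ∈ D, autFun (α' ^ n) x = autFun (α ^ n) x := by
    intro n
    induction n with
    | zero => intro x hx; rw [pow_zero, pow_zero, autFun_one hx, autFun_one (hDP hx)]
    | succ n ih =>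
      intro x hx
      rw [autFun_pow_succ _ _ hx, autFun_pow_succ _ _ (hDP hx), hα' x hx, ih _ (hinv x hx)]
  have hcop' : (orderOf α').Coprime p := hcop.coprime_dvd_left (orderOf_dvd_of_pow_eq_one
    (autFun_ext fun x hx => by
      rw [hpow _ x hx, pow_orderOf_eq_one, autFun_one (hDP hx), autFun_one hx]))
  have h1 : α' = 1 := hdet α' hcop' fun c hc => Subtype.ext (by
    rw [← autFun_coe, hα' c c.2]
    refine hfix _ c.2 ?_
    have := congrArg Subtype.val (pow_smallExp_of_good (p := p) (hgood c hc))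
    simpa using this)
  refine MulEquiv.ext fun x => ?_
  refine Coprime23.eq_of_commutator_fixed (hS.to_le hPS) α hcop (Subtype.ext ?_)
  have h2 : autFun α ((x : Ω)⁻¹ * autFun α x) = (x : Ω)⁻¹ * autFun α x := by
    rw [← hα' _ (hmem x x.2), h1, autFun_one (hmem x x.2)]
  rw [autFun_coe] at h2
  have e : (x : Ω)⁻¹ * ((α x : P) : Ω) = ((x⁻¹ * α x : P) : Ω) := rfl
  rw [e, autFun_coe] at h2
  exact h2

theorem SmallSetting.fixIn_step (h : SmallSetting p F E T) (hZ : IsSmall p T Z)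
    (hnF : F.IsFullyNormalized Z) (hnE : E.IsFullyNormalized Z)
    (ih : ∀ B, IsSmall p T B → Nat.card Z < Nat.card B → FixIn F E B) : FixIn F E Z := by
  intro P₀ f₀ hf₀ hZP₀ hP₀C hfix₀
  set C := centralizerIn S Z with hC
  have hCS : C ≤ S := centralizerIn_le
  have := finite_of_le hCS
  have hCp : IsPGroup p C := h.pgroup.to_le hCS
  have hcF := isCentralizerSystem_cSys F hnF.1
  have hcE := isCentralizerSystem_cSys E hnE.1
  have hsat : (cSys F hnF.1).IsSaturated p := isSaturated_centralizerSystem h.pgroup h.satF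
    (isFullyCentralized_of_isFullyNormalized h.pgroup h.satF hnF) hcF
  have hf₀C : MapTo (cSys F hnF.1) P₀ f₀ := by
    refine (mapTo_cSys_iff hcF).mpr
      ⟨hP₀C, fun x hx => ?_, f₀, by rwa [sup_eq_left.mpr hZP₀], fun _ _ => rfl, hfix₀⟩
    have h1 := hf₀.map_mem_centralizerIn hZP₀ hx (hP₀C hx)
    rwa [img_congr (g := fun y => y) hfix₀, img_id] at h1
  suffices halp : ∀ Q : Subgroup Ω, Q = C ∨ (cSys F hnF.1).IsEssential p Q →
      ∀ α ∈ (cSys F hnF.1).autGroup Q, α ∈ (cSys E hnE.1).autGroup Q by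
    obtain ⟨-, -, g, hg, hgf, -⟩ := (mapTo_cSys_iff hcE).mp
      (alperin hCp hsat (cSys E hnE.1) halp P₀ f₀ hf₀C)
    exact (hg.restrict le_sup_left).congr' fun x hx => (hgf x hx).symm
  intro Q hQ α hα
  have hQc : (cSys F hnF.1).IsCentric Q := by
    rcases hQ with rfl | hQ
    · exact isCentric_top
    · exact hQ.1
  have hQC : Q ≤ C := hQc.1
  have hQS : Q ≤ S := hQC.trans hCS
  have := finite_of_le hQS
  have hZQ : Z ≤ Q := fun z hz => centralizerIn_le_of_isCentric hQc (mem_centralizerIn.mpr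
    ⟨mem_centralizerIn.mpr ⟨hnF.1 hz, fun w hw => (hZ.comm w hw z hz).eq⟩, fun y hy =>
      ((mem_centralizerIn.mp (hQC hy)).2 z hz).symm⟩)
  refine (mem_autGroup_iff hQC).mpr ?_
  have hfC := mapTo_of_mem_autGroup hQC hα
  obtain ⟨-, -, g, hg, hgx, hgZ⟩ := (mapTo_cSys_iff hcF).mp hfC
  have hfF : MapTo F Q (autFun α) :=
    (hg.restrict le_sup_left).congr' fun x hx => (hgx x hx).symm
  by_cases hex : ∃ x ∈ T ⊓ Q, x ^ smallExp p = 1 ∧ x ∉ Z ∧ ∀ y ∈ Q, ⁅x, y⁆ ∈ Z
  · obtain ⟨x, hxTQ, hxm, hxZ, hxy⟩ := hex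
    have hxA : IsSmall p T (Subgroup.zpowers x) := by
      refine ⟨Subgroup.zpowers_le.mpr hxTQ.1, fun a ha b hb => ?_, fun a ha => ?_⟩
      · obtain ⟨i, rfl⟩ := Subgroup.mem_zpowers_iff.mp ha
        obtain ⟨j, rfl⟩ := Subgroup.mem_zpowers_iff.mp hb
        exact (Commute.refl x).zpow_zpow i j
      · obtain ⟨i, rfl⟩ := Subgroup.mem_zpowers_iff.mp ha
        rw [← zpow_natCast, ← zpow_mul, mul_comm, zpow_mul, zpow_natCast, hxm, one_zpow]
    set A := Subgroup.zpowers x ⊔ Z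
    have hA : IsSmall p T A := hxA.sup hZ fun a ha z hz => by
      obtain ⟨i, rfl⟩ := Subgroup.mem_zpowers_iff.mp ha
      exact (show Commute x z from ((mem_centralizerIn.mp (hQC hxTQ.2)).2 z hz).symm).zpow_left i
    have hAQ : A ≤ Q := sup_le (Subgroup.zpowers_le.mpr hxTQ.2) hZQ
    have hlt : Nat.card Z < Nat.card A := by
      have := finite_of_le (hAQ.trans hQS)
      exact Set.ncard_lt_ncard (s := (Z : Set Ω)) (t := (A : Set Ω))
        ((Set.ssubset_iff_of_subset (SetLike.coe_subset_coe.mpr le_sup_right)).mpr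
          ⟨x, Subgroup.mem_sup_left (Subgroup.mem_zpowers x), hxZ⟩) (Set.toFinite _)
    have hAN : Q ≤ normalizerIn S A := by
      intro q hq
      refine mem_normalizerIn_of_forall (hAQ.trans hQS) (hQS hq) fun a ha => ?_
      suffices hle : A.map (MulAut.conj q).toMonoidHom ≤ A from hle ⟨a, ha, by simp⟩
      rw [Subgroup.map_sup, sup_le_iff, MonoidHom.map_zpowers, Subgroup.zpowers_le]
      refine ⟨?_, ?_⟩
      · have h1 : ⁅x, q⁆⁻¹ * x ∈ A := A.mul_mem (A.inv_mem (Subgroup.mem_sup_right (hxy q hq)))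
          (Subgroup.mem_sup_left (Subgroup.mem_zpowers x))
        convert h1 using 1
        simp only [MulEquiv.toMonoidHom_eq_coe, MonoidHom.coe_coe, MulAut.conj_apply,
          commutatorElement_def]
        group
      · rintro _ ⟨z, hz, rfl⟩
        refine Subgroup.mem_sup_right (S := Subgroup.zpowers x) ?_
        have h1 := (mem_centralizerIn.mp (hQC hq)).2 z hz
        simp only [MulEquiv.coe_toMonoidHom, MulAut.conj_apply]
        rwa [← h1, mul_inv_cancel_right]
    have hE := h.mapTo_of_normal (fun B hB hc => ih B hB (by rw [hc]; exact hlt)) hA hfF hAQ hAN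
    exact (mapTo_cSys_iff hcE).mpr ⟨hQC, fun y hy => hQC (autFun_mem α hy), autFun α,
      by rwa [sup_eq_left.mpr hZQ], fun _ _ => rfl,
      fun z hz => (hgx z (hZQ hz)).symm.trans (hgZ z hz)⟩
  · -- every element of small order of `T ⊓ Q` lies in `Z`
    have hTQn : ((T ⊓ Q).subgroupOf Q).Normal := ⟨fun a ha y =>
      ⟨StronglyClosed.conj_mem h.closed (hQS y.2) ha.1, (y * a * y⁻¹).2⟩⟩
    have hZc : Z.subgroupOf Q ≤ Subgroup.center Q := fun z hz => Subgroup.mem_center_iff.mpr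
      fun y => Subtype.ext ((mem_centralizerIn.mp (hQC y.2)).2 z hz).symm
    have hsm : ∀ a ∈ (T ⊓ Q).subgroupOf Q, a ^ smallExp p = 1 → a ∈ Z.subgroupOf Q :=
      mem_of_smallExp (h.pgroup.to_le hQS) _ _ hZc
        (fun z hz => Subtype.ext (by simpa using hZ.exp z hz))
        fun a ha ham hay => by
          by_contra hcon
          exact hex ⟨a, ha, by simpa using congrArg Subtype.val ham, hcon, fun y hy => hay ⟨y, hy⟩⟩
    have hpg : IsPGroup p ((cSys F hnF.1).autGroup Q) := by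
      have := finite_mulAut Q
      refine isPGroup_of_coprime_eq_one _ fun β hβ hcop => ?_
      have hβC := mapTo_of_mem_autGroup hQC hβ
      obtain ⟨-, -, g', hg', hg'x, hg'Z⟩ := (mapTo_cSys_iff hcF).mp hβC
      have hβF : β ∈ F.autGroup Q := (mem_autGroup_iff hQS).mpr
        ((hg'.restrict le_sup_left).congr' fun x hx => (hg'x x hx).symm)
      refine eq_one_of_smallExp (F := F) h.pgroup hQS (D := T ⊓ Q) inf_le_right hβF hcop
        (fun x hx => ⟨h.coprime Q hQS β hβF hcop x hx,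
          Q.mul_mem (Q.inv_mem hx) (autFun_mem β hx)⟩) fun x hx hxm => ?_
      have hz : x ∈ Z := hsm ⟨x, hx.2⟩ hx (Subtype.ext (by simpa using hxm))
      rw [← hg'x x hx.2, hg'Z x hz]
    have hinn : α ∈ Inn Q := by
      rcases hQ with rfl | hQe
      · obtain ⟨β, -, hβ⟩ := exists_conj_le_autInducedBy
          (isFullyAutomized_of_isFullyNormalized hCp hsat isFullyNormalized_top) le_rfl hpg
        have h1 := hβ α hα
        rw [← inn_eq_autInducedBy] at h1
        have h2 := (inferInstance : (Inn C).Normal).conj_mem _ h1 β⁻¹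
        simpa [mul_assoc] using h2
      · rw [← (isRadical_of_isEssential hCp hQe).2]
        exact ⟨⟨α, hα⟩, le_pCore inferInstance
          (hpg.of_equiv Subgroup.topEquiv.symm) (Subgroup.mem_top _), rfl⟩
    rw [inn_eq_autInducedBy] at hinn
    obtain ⟨q, hq, hqx⟩ := mem_autInducedBy_iff_cj.mp hinn
    exact (mapTo_cj (F := cSys E hnE.1) hQC (hQC hq)).congr' hqx

theorem SmallSetting.fixIn (h : SmallSetting p F E T) :
    ∀ Z, IsSmall p T Z → FixIn F E Z := by
  intro Z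
  induction hk : Nat.card S - Nat.card Z using Nat.strong_induction_on generalizing Z with
  | h k ih =>
  intro hZ P f hf hZP hPC hfix
  have hZS : Z ≤ S := hZP.trans hf.le
  obtain ⟨χ, hχ, hnF, hnE, hZ₁⟩ := h.exists_std hZ hZS
  have hPN : P ≤ normalizerIn S Z := hPC.trans centralizerIn_le_normalizerIn
  obtain ⟨k', hk', hkχ, -, -⟩ := (hχ.restrict hPN).exists_iso_inverse
  have hkm : ∀ y ∈ Fusion.img χ P, k' y ∈ P := fun y hy => by
    obtain ⟨x, hx, rfl⟩ := ((hχ.restrict hPN).mem_img_iff le_rfl).mp hy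
    rw [hkχ x hx]; exact hx
  have hfC : ∀ x ∈ P, f x ∈ centralizerIn S Z := fun x hx => by
    have h1 := hf.map_mem_centralizerIn hZP hx (hPC hx)
    rwa [img_congr (g := fun y => y) hfix, img_id] at h1
  have hCN : ∀ x ∈ P, f x ∈ normalizerIn S Z := fun x hx =>
    centralizerIn_le_normalizerIn (hfC x hx)
  set f₁ := fun y => χ (f (k' y)) with hf₁
  have hcard : Nat.card (Fusion.img χ Z) = Nat.card Z := hχ.card_img (le_normalizerIn hZS)
  have hf₁F : MapTo F (Fusion.img χ P) f₁ :=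
    ((h.sub _ _ hk').comp hf hkm).comp (h.sub _ _ hχ) fun y hy => hCN _ (hkm y hy)
  have hE₁ : MapTo E (Fusion.img χ P) f₁ := by
    refine h.fixIn_step hZ₁ hnF hnE (fun B hB hlt => ?_) _ _ hf₁F (img_mono hZP)
      (img_le_of_forall fun x hx =>
        hχ.map_mem_centralizerIn (le_normalizerIn hZS) (hPN hx) (hPC hx)) fun z hz => ?_
    · rw [hcard] at hlt
      refine ih (Nat.card S - Nat.card B) ?_ B rfl hB
      have : Nat.card B ≤ Nat.card S := Subgroup.card_le_of_le (hB.le.trans h.closed.1)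
      omega
    · obtain ⟨x, hx, rfl⟩ := (hχ.mem_img_iff (le_normalizerIn hZS)).mp hz
      simp only [hf₁]
      rw [hkχ x (hZP hx), hfix x hx]
  have hR : Fusion.img f P ≤ normalizerIn S Z := img_le_of_forall hCN
  obtain ⟨k₂, hk₂, hk₂χ, -, -⟩ := (hχ.restrict hR).exists_iso_inverse
  exact (((hχ.restrict hPN).comp hE₁ fun x hx => mem_img_of_mem hx).comp hk₂ fun x hx => by
    simp only [hf₁]
    rw [hkχ x hx]
    exact mem_img_of_mem (mem_img_of_mem hx)).congr' fun x hx => by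
      simp only [hf₁]
      rw [hkχ x hx, hk₂χ _ (mem_img_of_mem hx)]

theorem SmallSetting.mapTo (h : SmallSetting p F E T) (hf : MapTo F P f) : MapTo E P f := by
  refine h.fixIn ⊥ ⟨bot_le, fun a ha b _ => ?_, fun a ha => ?_⟩ P f hf bot_le ?_ fun z hz => ?_
  · rw [Subgroup.mem_bot.mp ha]; exact Commute.one_left b
  · rw [Subgroup.mem_bot.mp ha, one_pow]
  · exact fun x hx => mem_centralizerIn.mpr ⟨hf.le hx, fun y hy => by
      rw [Subgroup.mem_bot.mp hy, one_mul, mul_one]⟩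
  · rw [Subgroup.mem_bot.mp hz, hf.map_one]

end Cfsg.Agent.Fusion

namespace Cfsg.Agent.Fusion

universe v

variable {Ω : Type v} [Group Ω] {S T : Subgroup Ω} [Finite S] {F E : FusionSystem S} {p : ℕ}
  [Fact p.Prime]

/-- A saturated subsystem with the same maps between small abelian subgroups of `T` has the same
maps. -/
theorem hom_eq_of_small (hS : IsPGroup p S) (hE : E.IsSaturated p) (hF : F.IsSaturated p)
    (hEF : E.IsSubsystemOf F) (hT : F.StronglyClosed T)
    (hcop : ∀ P : Subgroup Ω, P ≤ S → ∀ α ∈ F.autGroup P, (orderOf α).Coprime p →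
      ∀ x ∈ P, x⁻¹ * autFun α x ∈ T)
    (hodd : p ≠ 2 → ∀ A B : Subgroup Ω, A ≤ T → B ≤ T →
      Cfsg.IsElementaryAbelian p A → Cfsg.IsElementaryAbelian p B → E.homSet A B = F.homSet A B)
    (htwo : p = 2 → ∀ A B : Subgroup Ω, A ≤ T → B ≤ T →
      IsMulCommutative A → IsMulCommutative B → (∀ a ∈ A, a ^ 4 = 1) → (∀ b ∈ B, b ^ 4 = 1) →
        E.homSet A B = F.homSet A B) :
    ∀ P : Subgroup Ω, E.Hom P = F.Hom P := by
  have hsub : ∀ P f, MapTo E P f → MapTo F P f := fun P f ⟨φ, hφ, hφf⟩ => ⟨φ, hEF P hφ, hφf⟩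
  have hsm : ∀ A f, IsSmall p T A → MapTo F A f → MapTo E A f := by
    intro A f hA hf
    have hB := hA.img hT hf le_rfl
    have hcA : IsMulCommutative A := ⟨⟨fun a b => Subtype.ext (hA.comm _ a.2 _ b.2)⟩⟩
    have hcB : IsMulCommutative (img f A : Subgroup Ω) :=
      ⟨⟨fun a b => Subtype.ext (hB.comm _ a.2 _ b.2)⟩⟩
    have heq : E.homSet A (img f A) = F.homSet A (img f A) := by
      by_cases h2 : p = 2
      · exact htwo h2 _ _ hA.le hB.le hcA hcB
          (fun a ha => by simpa [smallExp, h2] using hA.exp a ha)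
          (fun a ha => by simpa [smallExp, h2] using hB.exp a ha)
      · exact hodd h2 _ _ hA.le hB.le
          ⟨hcA, fun a ha => by simpa [smallExp, h2] using hA.exp a ha⟩
          ⟨hcB, fun a ha => by simpa [smallExp, h2] using hB.exp a ha⟩
    obtain ⟨φ, hφ, hφf⟩ := hf
    have h1 : φ ∈ F.homSet A (img f A) :=
      ⟨hφ, fun x => (hφf x).symm ▸ mem_img_of_mem x.2⟩
    rw [← heq] at h1
    exact ⟨φ, h1.1, hφf⟩
  have hset : SmallSetting p F E T := ⟨hS, hF, hE, hsub, hT, hcop, hsm⟩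
  intro P
  refine Set.Subset.antisymm (hEF P) fun φ hφ => ?_
  exact mapTo_ev_iff.mp (hset.mapTo (mapTo_ev hφ))

end Cfsg.Agent.Fusion
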