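import Cfsg.Agent.Lib.Fusion.SolvableSystem

/-!
Solvability passes to and from a normal subsystem and its factor system.
-/

set_option autoImplicit false

namespace Cfsg.Agent.Fusion

open Cfsg.FusionSystem (centralizerIn normalizerIn preimageAlong imageAlong)
open scoped commutatorElement

variable {Ω : Type*} [Group Ω] {S T : Subgroup Ω} {F : FusionSystem S} {E : FusionSystem T} {p : ℕ}

/-- The elements of `T` all whose images under `Aut_F(T)` lie in `A`. -/
def stableCore (F : FusionSystem S) (T A : Subgroup Ω) : Subgroup Ω where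
  carrier := {x | x ∈ T ∧ ∀ α ∈ F.autGroup T, autFun α x ∈ A}
  one_mem' := ⟨T.one_mem, fun α _ => by
    rw [autFun_apply α T.one_mem, show (⟨1, T.one_mem⟩ : T) = 1 from rfl, map_one]
    exact A.one_mem⟩
  mul_mem' := fun {x y} hx hy => ⟨T.mul_mem hx.1 hy.1, fun α hα => by
    rw [autFun_apply α (T.mul_mem hx.1 hy.1),
      show (⟨x * y, T.mul_mem hx.1 hy.1⟩ : T) = ⟨x, hx.1⟩ * ⟨y, hy.1⟩ from rfl, map_mul,
      Subgroup.coe_mul, ← autFun_apply α hx.1, ← autFun_apply α hy.1]
    exact A.mul_mem (hx.2 α hα) (hy.2 α hα)⟩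
  inv_mem' := fun {x} hx => ⟨T.inv_mem hx.1, fun α hα => by
    rw [autFun_apply α (T.inv_mem hx.1),
      show (⟨x⁻¹, T.inv_mem hx.1⟩ : T) = ⟨x, hx.1⟩⁻¹ from rfl, map_inv, Subgroup.coe_inv,
      ← autFun_apply α hx.1]
    exact A.inv_mem (hx.2 α hα)⟩

theorem stableCore_bot : stableCore F T ⊥ = ⊥ :=
  le_bot_iff.mp fun x hx => by
    have := hx.2 1 (Subgroup.one_mem _)
    rwa [autFun_one hx.1] at this

theorem stableCore_self : stableCore F T T = T :=
  le_antisymm (fun _ hx => hx.1) fun _ hx => ⟨hx, fun α _ => autFun_mem α hx⟩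

theorem stronglyClosed_stableCore (hE : E.IsInvariantIn F) {A : Subgroup Ω}
    (hA : E.StronglyClosed A) : F.StronglyClosed (stableCore F T A) := by
  refine stronglyClosed_iff.mpr ⟨fun x hx => hE.2.1.1 hx.1, fun R f hR hf x hx => ?_⟩
  have hRT : R ≤ T := fun y hy => (hR hy).1
  obtain ⟨β, hβ, f₀, hf₀, hx₀⟩ := IsInvariantIn.frattini hE hRT hf
  refine ⟨StronglyClosed.map_mem hE.2.1 hf hx (hRT hx), fun α hα => ?_⟩
  rw [hx₀ x hx, ← autFun_mul α β (hf₀.mem hx)]
  have hαβ := Subgroup.mul_mem _ hα hβ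
  obtain ⟨g, hg, hgx⟩ := IsInvariantIn.transport hE hRT hf₀ hαβ
  rw [← hgx x hx]
  exact StronglyClosed.map_mem hA hg (mem_img_of_mem hx) ((hR hx).2 _ hαβ)

theorem abStep_stableCore (hE : E.IsInvariantIn F) {A B : Subgroup Ω} (h : AbStep E A B) :
    AbStep F (stableCore F T A) (stableCore F T B) := by
  refine ⟨fun x hx => ⟨hx.1, fun α hα => h.1 (hx.2 α hα)⟩, stronglyClosed_stableCore hE h.2.1,
    Subgroup.commutator_le.mpr fun x hx y hy => ?_⟩
  have hm : ⁅x, y⁆ ∈ T :=
    T.mul_mem (T.mul_mem (T.mul_mem hx.1 hy.1) (T.inv_mem hx.1)) (T.inv_mem hy.1)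
  refine ⟨hm, fun α hα => h.2.2 ?_⟩
  rw [autFun_apply α hm, show (⟨⁅x, y⁆, hm⟩ : T) = ⁅(⟨x, hx.1⟩ : T), ⟨y, hy.1⟩⁆ from rfl,
    map_commutatorElement]
  refine (Subgroup.commutator_mem_commutator (g₁ := autFun α x) (g₂ := autFun α y)
    (hx.2 α hα) (hy.2 α hα) : ⁅autFun α x, autFun α y⁆ ∈ ⁅B, B⁆) |> fun h => ?_
  rw [autFun_apply α hx.1, autFun_apply α hy.1] at h
  exact h

theorem abStep_of_subsystem (hEF : E.IsSubsystemOf F) (hT : T ≤ S) {A B : Subgroup Ω}
    (h : AbStep F A B) : AbStep E (A ⊓ T) (B ⊓ T) := by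
  refine ⟨inf_le_inf_right _ h.1, stronglyClosed_iff.mpr ⟨inf_le_right, fun R f hR hf x hx => ?_⟩,
    le_inf ((Subgroup.commutator_mono inf_le_left inf_le_left).trans h.2.2) ?_⟩
  · exact ⟨StronglyClosed.map_mem h.2.1 (IsSubsystemOf.mapTo hEF hf) hx (hR hx).1, hf.mem hx⟩
  · exact Subgroup.commutator_le.mpr fun x hx y hy => T.mul_mem (T.mul_mem (T.mul_mem hx.2 hy.2)
      (T.inv_mem hx.2)) (T.inv_mem hy.2)

variable {Ω' : Type*} [Group Ω'] {S' : Subgroup Ω'} {θ : S →* Ω'} {D : FusionSystem S'}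

theorem abStep_image (h : F.IsSurjectiveMorphism D θ) {A B : Subgroup Ω} (hAB : AbStep F A B) :
    AbStep D (imageAlong θ A) (imageAlong θ B) :=
  ⟨fun y hy => by
    obtain ⟨x, hx, rfl⟩ := (mem_imageAlong (hAB.1.trans hAB.2.1.1)).mp hy
    exact th_mem_imageAlong hAB.2.1.1 (hAB.1 hx),
    stronglyClosed_imageAlong h hAB.2.1, commutator_imageAlong_le hAB.2.1.1 hAB.1 hAB.2.2⟩

theorem abStep_preimage (h : F.IsMorphism D θ) {A B : Subgroup Ω'} (hAB : AbStep D A B) :
    AbStep F (preimageAlong θ A) (preimageAlong θ B) :=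
  ⟨fun x hx => mem_preimageAlong.mpr ⟨(mem_preimageAlong.mp hx).1,
    hAB.1 (mem_preimageAlong.mp hx).2⟩,
    stronglyClosed_preimageAlong h hAB.2.1, commutator_preimageAlong_le hAB.2.2⟩

variable [Finite S] [Fact p.Prime]

theorem isSolvableSystem_iff_normal_factor (hS : IsPGroup p S) (hF : F.IsSaturated p)
    (hE : E.IsWeaklyNormalIn F p) (hD : F.IsFactorSystem T θ D) :
    F.IsSolvableSystem ↔ E.IsSolvableSystem ∧ D.IsSolvableSystem := by
  have hT := hE.2.2.2.1
  have hmor := IsFactorSystem.isSurjectiveMorphism hS hF hT hD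
  have hr := hmor.2.1
  have : Finite T := finite_of_le hT.1
  have : Finite S' := hr ▸ Finite.of_surjective θ.rangeRestrict θ.rangeRestrict_surjective
  have hS' : IsPGroup p S' := hr ▸ hS.of_surjective θ.rangeRestrict θ.rangeRestrict_surjective
  rw [isSolvableSystem_iff_abChain hS hF, isSolvableSystem_iff_abChain (hS.to_le hT.1) hE.1,
    isSolvableSystem_iff_abChain hS' (isSaturated_image hS hF hmor)]
  have hker := IsFactorSystem.kerIn_eq hD
  constructor
  · intro h
    refine ⟨?_, ?_⟩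
    · have := Relation.ReflTransGen.lift (fun A => A ⊓ T)
        (fun A B => abStep_of_subsystem hE.2.2.1 hT.1) _ _ h
      simp only [Function.onFun] at this
      rwa [bot_inf_eq, inf_eq_right.mpr hT.1] at this
    · have := Relation.ReflTransGen.lift (fun A => imageAlong θ A)
        (fun A B => abStep_image hmor) _ _ h
      simp only [Function.onFun] at this
      rw [show imageAlong θ (⊥ : Subgroup Ω) = ⊥ from le_bot_iff.mp fun y hy => by
          obtain ⟨x, hx, rfl⟩ := (mem_imageAlong bot_le).mp hy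
          rw [Subgroup.mem_bot.mp hx, Subgroup.mem_bot, th_apply θ S.one_mem]
          exact map_one θ,
        show imageAlong θ S = S' from le_antisymm (hr ▸ imageAlong_le_range) fun y hy => by
          obtain ⟨x, rfl⟩ := (hr.symm ▸ hy : y ∈ θ.range)
          exact (th_coe θ x) ▸ th_mem_imageAlong le_rfl x.2] at this
      exact this
  · rintro ⟨h1, h2⟩
    have a := Relation.ReflTransGen.lift (fun A => stableCore F T A)
      (fun A B => abStep_stableCore hE.2.2) _ _ h1
    have b := Relation.ReflTransGen.lift (fun A => preimageAlong θ A)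
      (fun A B => abStep_preimage hmor.1) _ _ h2
    simp only [Function.onFun] at a b
    rw [stableCore_bot, stableCore_self] at a
    rw [show preimageAlong θ (⊥ : Subgroup Ω') = T by
        rw [← hker]; ext x; rw [mem_preimageAlong, mem_kerIn, Subgroup.mem_bot],
      show preimageAlong θ S' = S from le_antisymm preimageAlong_le fun x hx =>
        mem_preimageAlong.mpr ⟨hx, hr ▸ th_mem_range θ x⟩] at b
    exact a.trans b

end Cfsg.Agent.Fusion
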