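import Cfsg.Agent.Lib.Transfer.QuadStable
import Cfsg.Agent.Lib.Basics.Frattini

/-!
`p`-stability on all `p`-subgroups passes to quotients by normal `p`-subgroups centralized by all
elements of order prime to `p`.
-/

set_option autoImplicit false
set_option linter.style.haveILetI false
set_option maxHeartbeats 400000

namespace Cfsg.Agent.Fusion

open Subgroup Transfer
open scoped MatrixGroups commutatorElement

universe u

variable {G : Type u} [Group G] {p : ℕ}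

/-- Quadratic elements are in `O_p` of the automizer, for every `p`-subgroup. -/
def StabP (p : ℕ) (G : Type u) [Group G] : Prop :=
  ∀ Q : Subgroup G, IsPGroup p Q → ∀ x ∈ normalizer (Q : Set G),
    (∀ v ∈ Q, Commute x (x * v * x⁻¹ * v⁻¹)) →
      OpMod p (normalizer (Q : Set G)) (centralizer (Q : Set G)) x

/-- A pair of quadratic elements modulo `Z` generating a group not acting as a `p`-group. -/
def Wit (p : ℕ) (Z Q : Subgroup G) (x y : G) : Prop :=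
  IsPGroup p Q ∧ x ∈ normalizer (Q : Set G) ∧ y ∈ normalizer (Q : Set G) ∧
    (∀ v ∈ Q, ⁅x, ⁅x, v⁆⁆ ∈ Z) ∧ (∀ v ∈ Q, ⁅y, ⁅y, v⁆⁆ ∈ Z) ∧
    ∃ z ∈ closure ({x, y} : Set G), (orderOf z).Coprime p ∧ ∃ q ∈ Q, ¬ Commute z q

/-- An element of order prime to `p` stabilizing a series of a `p`-group centralizes it. -/
theorem commute_of_stab {Q A : Subgroup G} (hQ : IsPGroup p Q) [hp : Fact p.Prime] {z q : G}
    (hz : (orderOf z).Coprime p) (hA : ∀ a ∈ A, Commute z a) (hAQ : A ≤ Q)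
    (hq : z * q * z⁻¹ * q⁻¹ ∈ A) : Commute z q := by
  set c := z * q * z⁻¹ * q⁻¹ with hc
  have hiter : ∀ n : ℕ, z ^ n * q * (z ^ n)⁻¹ = c ^ n * q := by
    intro n
    induction n with
    | zero => simp
    | succ n ih =>
      have h1 : z * c ^ n = c ^ n * z := ((hA c hq).pow_right n).eq
      calc z ^ (n + 1) * q * (z ^ (n + 1))⁻¹ = z * (z ^ n * q * (z ^ n)⁻¹) * z⁻¹ := by
            rw [pow_succ']; group
        _ = z * c ^ n * q * z⁻¹ := by rw [ih]; group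
        _ = c ^ n * (z * q * z⁻¹) := by rw [h1]; group
        _ = c ^ n * (c * q) := by rw [hc]; group
        _ = c ^ (n + 1) * q := by rw [pow_succ]; group
  have h2 := hiter (orderOf z)
  rw [pow_orderOf_eq_one, one_mul, inv_one, mul_one, right_eq_mul] at h2
  obtain ⟨k, hk⟩ := hQ ⟨c, hAQ hq⟩
  have hk' : c ^ p ^ k = 1 := congrArg Subtype.val hk
  have hc1 : c = 1 := orderOf_eq_one_iff.mp (Nat.eq_one_of_dvd_coprimes (hz.pow_right k)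
    (orderOf_dvd_of_pow_eq_one h2) (orderOf_dvd_of_pow_eq_one hk'))
  exact (commutatorElement_eq_one_iff_commute (g₁ := z) (g₂ := q)).mp
    (by rw [commutatorElement_def]; exact hc.symm.trans hc1)

theorem comm_iff_quot {M : Type u} [Group M] {Z : Subgroup M} [Z.Normal] {x v : M} :
    Commute (x : M ⧸ Z) ((x * v * x⁻¹ * v⁻¹ : M) : M ⧸ Z) ↔ ⁅x, ⁅x, v⁆⁆ ∈ Z := by
  rw [← commutatorElement_eq_one_iff_commute, commutatorElement_def x v,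
    ← QuotientGroup.eq_one_iff]
  simp [commutatorElement_def, mul_assoc]

variable [Finite G] [hp : Fact p.Prime]

theorem Wit.central {Z Q : Subgroup G} [Z.Normal] {x y : G} (h : Wit p Z Q x y)
    (hZc : ∀ z : G, (orderOf z).Coprime p → ∀ a ∈ Z, Commute z a)
    (hmin : ∀ Q' : Subgroup G, Q' < Q → ¬ Wit p Z Q' x y) :
    ∃ Φ : Subgroup G, Φ ≤ Q ∧ Z ⊓ Q ≤ Φ ∧ x ∈ normalizer (Φ : Set G) ∧
      y ∈ normalizer (Φ : Set G) ∧ Q ≤ normalizer (Φ : Set G) ∧ (∀ q ∈ Q, q ^ p ∈ Φ) ∧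
      (∀ a ∈ Q, ∀ b ∈ Q, a * b * a⁻¹ * b⁻¹ ∈ Φ) ∧ (∀ a ∈ Φ, ∀ b ∈ Q, Commute a b) ∧
      ∀ z ∈ closure ({x, y} : Set G), (orderOf z).Coprime p → ∀ a ∈ Φ, Commute z a := by
  obtain ⟨hQ, hx, hy, hxq, hyq, z₀, hz₀, hz₀o, q₀, hq₀, hne⟩ := h
  haveI := hQ.isNilpotent
  set Φ := (Z ⊓ Q) ⊔ (frattini Q).map Q.subtype with hΦ
  have hΦQ : Φ ≤ Q := sup_le inf_le_right (map_subtype_le _)
  have hFn : ∀ g ∈ normalizer (Q : Set G), g ∈ normalizer (Φ : Set G) := by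
    intro g hg
    refine mem_normalizer_fintype fun a ha => ?_
    have hle : Φ ≤ Φ.comap (MulAut.conj g).toMonoidHom :=
      sup_le (fun w hw => mem_sup_left (S := Z ⊓ Q)
          ⟨(inferInstance : Z.Normal).conj_mem w hw.1 g, (mem_normalizer_iff.mp hg w).mp hw.2⟩)
        fun w hw => by
          obtain ⟨f, hf, rfl⟩ := hw
          exact mem_sup_right ⟨Q.normalizerMonoidHom ⟨g, hg⟩ f,
            (characteristic_iff_le_comap.mp inferInstance (Q.normalizerMonoidHom ⟨g, hg⟩)) hf, rfl⟩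
    exact hle ha
  have hpow : ∀ q ∈ Q, q ^ p ∈ Φ := fun q hq => mem_sup_right
    ⟨(⟨q, hq⟩ : Q) ^ p, Basics.pow_mem_frattini hQ _, rfl⟩
  have hcomm : ∀ a ∈ Q, ∀ b ∈ Q, a * b * a⁻¹ * b⁻¹ ∈ Φ := fun a ha b hb => mem_sup_right
    ⟨⁅(⟨a, ha⟩ : Q), ⟨b, hb⟩⁆, Basics.commutator_le_frattini
      (commutator_mem_commutator (mem_top _) (mem_top _)), rfl⟩
  have hsmall : ∀ R : Subgroup G, R ≤ Q → R ≠ Q → x ∈ normalizer (R : Set G) →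
      y ∈ normalizer (R : Set G) →
      ∀ z ∈ closure ({x, y} : Set G), (orderOf z).Coprime p → ∀ a ∈ R, Commute z a := by
    intro R hRQ hRne hxR hyR z hz hzo a ha
    by_contra hnc
    exact hmin R (lt_of_le_of_ne hRQ hRne) ⟨hQ.to_le hRQ, hxR, hyR,
      fun v hv => hxq v (hRQ hv), fun v hv => hyq v (hRQ hv), z, hz, hzo, a, ha, hnc⟩
  have hΦne : Φ ≠ Q := by
    intro he
    have h1 : ((Z ⊓ Q).subgroupOf Q) ⊔ frattini Q = ⊤ := by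
      apply map_injective Q.subtype_injective
      rw [Subgroup.map_sup, map_subgroupOf_eq_of_le inf_le_right, ← hΦ, ← MonoidHom.range_eq_map,
        range_subtype, he]
    have h2 := frattini_nongenerating h1
    have h3 : (⟨q₀, hq₀⟩ : Q) ∈ (Z ⊓ Q).subgroupOf Q := h2.symm ▸ mem_top _
    exact hne (hZc z₀ hz₀o q₀ (mem_subgroupOf.mp h3 : q₀ ∈ Z ⊓ Q).1)
  have hQΦ : Q ≤ normalizer (Φ : Set G) := fun a ha => hFn a (le_normalizer ha)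
  have hΦc := hsmall Φ hΦQ hΦne (hFn x hx) (hFn y hy)
  refine ⟨Φ, hΦQ, le_sup_left, hFn x hx, hFn y hy, hQΦ, hpow, hcomm, fun a ha b hb => ?_, hΦc⟩
  set Cq := Q ⊓ centralizer (Φ : Set G) with hCq
  have hJ : closure ({x, y} : Set G) ≤ normalizer (Q : Set G) := by
    rw [closure_le]; rintro w (rfl | rfl) <;> assumption
  have hzc : z₀ * q₀ * z₀⁻¹ * q₀⁻¹ ∈ Cq := by
    refine ⟨Q.mul_mem ((mem_normalizer_iff.mp (hJ hz₀) q₀).mp hq₀) (Q.inv_mem hq₀),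
      mem_centralizer_iff.mpr fun f hf => ?_⟩
    have hf' : q₀⁻¹ * f * q₀ ∈ Φ := by
      simpa using (mem_normalizer_iff.mp (hQΦ (Q.inv_mem hq₀)) f).mp hf
    have h1 : z₀ * (q₀⁻¹ * f * q₀) * z₀⁻¹ = q₀⁻¹ * f * q₀ := by
      rw [(hΦc z₀ hz₀ hz₀o _ hf').eq, mul_inv_cancel_right]
    have h2 : z₀⁻¹ * f * z₀ = f := by
      rw [mul_assoc, ← (hΦc z₀ hz₀ hz₀o _ hf).eq, inv_mul_cancel_left]
    calc f * (z₀ * q₀ * z₀⁻¹ * q₀⁻¹)
        = z₀ * q₀ * (q₀⁻¹ * (z₀⁻¹ * f * z₀) * q₀) * z₀⁻¹ * q₀⁻¹ := by group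
      _ = z₀ * q₀ * z₀⁻¹ * (z₀ * (q₀⁻¹ * f * q₀) * z₀⁻¹) * q₀⁻¹ := by rw [h2]; group
      _ = z₀ * q₀ * z₀⁻¹ * q₀⁻¹ * f := by rw [h1]; group
  have hCQ : Cq = Q := by
    by_contra hne'
    have hCn : ∀ g ∈ normalizer (Q : Set G), g ∈ normalizer (Cq : Set G) := fun g hg =>
      inf_normalizer_le_normalizer_inf ⟨hg, normalizer_le_normalizer_centralizer' Φ (hFn g hg)⟩
    exact hne (commute_of_stab hQ hz₀o
      (hsmall Cq inf_le_left hne' (hCn x hx) (hCn y hy) z₀ hz₀ hz₀o) inf_le_left hzc)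
  exact mem_centralizer_iff.mp (hCQ.ge hb).2 a ha

omit [Finite G] in
/-- The lift inverted by `t`, in a coset of a central subgroup of odd exponent centralized by `t`. -/
theorem exists_inverted (hp2 : p ≠ 2) {Q Φ : Subgroup G} (hQ : IsPGroup p Q) (hΦQ : Φ ≤ Q)
    (hΦc : ∀ a ∈ Φ, ∀ b ∈ Q, Commute a b) {t q : G} (hq : q ∈ Q)
    (ht : ∀ a ∈ Φ, Commute t a) (htq : t * q * t⁻¹ * q ∈ Φ) :
    ∃ ψ ∈ Φ, t * (q * ψ) * t⁻¹ = (q * ψ)⁻¹ ∧ ψ ∈ zpowers (t * q * t⁻¹ * q) := by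
  obtain ⟨φ, hφ⟩ : ∃ φ, φ = t * q * t⁻¹ * q := ⟨_, rfl⟩
  rw [← hφ] at htq ⊢
  obtain ⟨k, hk⟩ := hQ ⟨φ, hΦQ htq⟩
  have hk' : φ ^ p ^ k = 1 := congrArg Subtype.val hk
  obtain ⟨m, hm⟩ : ∃ m : ℕ, p ^ k = 2 * m + 1 := (hp.out.odd_of_ne_two hp2).pow
  have hψ : φ ^ m ∈ Φ := Φ.pow_mem htq m
  refine ⟨φ ^ m, hψ, ?_, pow_mem (mem_zpowers φ) m⟩
  have h1 : t * φ ^ m * t⁻¹ = φ ^ m := by rw [(ht _ hψ).eq, mul_inv_cancel_right]
  have h2 : t * q * t⁻¹ = φ * q⁻¹ := by rw [hφ]; group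
  have hc : Commute (φ ^ m) q⁻¹ := hΦc _ hψ _ (Q.inv_mem hq)
  calc t * (q * φ ^ m) * t⁻¹ = (t * q * t⁻¹) * (t * φ ^ m * t⁻¹) := by group
    _ = φ * φ ^ m * q⁻¹ := by
        rw [h1, h2]
        calc φ * q⁻¹ * φ ^ m = φ * (q⁻¹ * φ ^ m) := mul_assoc _ _ _
          _ = φ * φ ^ m * q⁻¹ := by rw [← hc.eq, mul_assoc]
    _ = (φ ^ m)⁻¹ * φ ^ (2 * m + 1) * q⁻¹ := by
        rw [← pow_succ', show 2 * m + 1 = m + (m + 1) by omega, pow_add φ m (m + 1),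
          inv_mul_cancel_left]
    _ = (q * φ ^ m)⁻¹ := by rw [← hm, hk', mul_one, mul_inv_rev]

omit [Finite G] in
theorem inverted_unique (hp2 : p ≠ 2) {Q Φ : Subgroup G} (hQ : IsPGroup p Q) (hΦQ : Φ ≤ Q)
    (hΦc : ∀ a ∈ Φ, ∀ b ∈ Q, Commute a b) {t f g : G} (hf : f ∈ Q)
    (ht : ∀ a ∈ Φ, Commute t a) (hfi : t * f * t⁻¹ = f⁻¹) (hgi : t * g * t⁻¹ = g⁻¹)
    (hd : f⁻¹ * g ∈ Φ) : g = f := by
  set d := f⁻¹ * g with hd'
  have hg : g = f * d := by rw [hd', mul_inv_cancel_left]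
  have h1 : t * g * t⁻¹ = f⁻¹ * d := by
    calc t * g * t⁻¹ = (t * f * t⁻¹) * (t * d * t⁻¹) := by rw [hg]; group
      _ = f⁻¹ * d := by rw [hfi, (ht d hd).eq, mul_inv_cancel_right]
  rw [hgi, hg, mul_inv_rev, (hΦc d hd f hf).inv_inv.eq] at h1
  have h2 : d * d = 1 := by
    have h3 : d⁻¹ = d := mul_left_cancel h1
    calc d * d = d⁻¹ * d := by rw [h3]
      _ = 1 := inv_mul_cancel d
  obtain ⟨k, hk⟩ := hQ ⟨d, hΦQ hd⟩
  have hd1 : d = 1 := orderOf_eq_one_iff.mp (Nat.eq_one_of_dvd_coprimes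
    (((Nat.coprime_primes Nat.prime_two hp.out).mpr (Ne.symm hp2)).pow_right k)
    (orderOf_dvd_of_pow_eq_one (by rw [pow_two]; exact h2))
    (orderOf_dvd_of_pow_eq_one (congrArg Subtype.val hk)))
  rw [hg, hd1, mul_one]

omit [Finite G] in
theorem upper_mul_lower_pow_ne_one (k : ℕ) : (tU p * tL p) ^ p ^ k ≠ 1 := by
  intro h
  have hM : ((tU p * tL p : SL(2, ZMod p)) : Matrix (Fin 2) (Fin 2) (ZMod p)) =
      !![2, 1; 1, 1] := by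
    rw [sl_val_mul, tU, tL, LinGrp.uSL_val, LinGrp.lSL_val, Matrix.mul_fin_two]
    norm_num
  have h1 : (!![2, 1; 1, 1] : Matrix (Fin 2) (Fin 2) (ZMod p)) ^ p ^ k = 1 := by
    rw [← hM, ← Matrix.SpecialLinearGroup.coe_pow, h, Matrix.SpecialLinearGroup.coe_one]
  have h2 : ((!![2, 1; 1, 1] : Matrix (Fin 2) (Fin 2) (ZMod p)) - 1) ^ p ^ k = 0 := by
    rw [sub_pow_char_pow_of_commute _ _ (Commute.one_right _), h1, one_pow, sub_self]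
  have h3 := congrArg Matrix.det h2
  rw [Matrix.det_pow, Matrix.det_zero] at h3
  have h4 := eq_zero_of_pow_eq_zero h3
  rw [Matrix.det_fin_two] at h4
  norm_num at h4

omit [hp : Fact p.Prime] in
theorem mem_sup_of_normal_right' {H : Type u} [Group H] {J N B : Subgroup H}
    (hJN : J ≤ normalizer (N : Set H)) (hB : B ≤ J) {z : H} (hz : z ∈ N ⊔ B) :
    ∃ n ∈ N, ∃ b ∈ B, n * b = z := by
  rw [← SetLike.mem_coe, coe_mul_of_right_le_normalizer_left _ _ (hB.trans hJN), Set.mem_mul] at hz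
  exact hz

omit [Finite G] hp in
theorem exists_mem_pow_mul {N : Subgroup G} {a b : G} (ha : a ∈ N)
    (hb : b ∈ normalizer (N : Set G)) : ∀ m : ℕ, ∃ x ∈ N, (a * b) ^ m = x * b ^ m := by
  intro m
  induction m with
  | zero => exact ⟨1, N.one_mem, by simp⟩
  | succ m ih =>
    obtain ⟨x, hx, he⟩ := ih
    refine ⟨a * (b * x * b⁻¹), N.mul_mem ha ((mem_normalizer_iff.mp hb x).mp hx), ?_⟩
    rw [pow_succ', he, pow_succ']
    group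

omit [Finite G] hp in
theorem exists_pow_mul_mem {J C : Subgroup G} (hJC : J ≤ normalizer (C : Set G)) {a b : G}
    (hb : b ∈ J) (ha : OpMod p J C a) (hb' : OpMod p J C b) : ∃ k, (a * b) ^ p ^ k ∈ C := by
  obtain ⟨N, hNJ, hJN, haN, hNp⟩ := ha
  obtain ⟨N', -, -, hbN, hNp'⟩ := hb'
  obtain ⟨l, hl⟩ := hNp' b hbN
  obtain ⟨x, hx, he⟩ := exists_mem_pow_mul haN (hJN hb) (p ^ l)
  obtain ⟨k, hk⟩ := hNp x hx
  have hxC : x ∈ normalizer (C : Set G) := hJC (hNJ hx)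
  obtain ⟨c, hc, he'⟩ := exists_mem_pow_mul ((mem_normalizer_iff.mp hxC _).mp hl) hxC (p ^ k)
  refine ⟨l + k, ?_⟩
  rw [pow_add, pow_mul, he, show x * b ^ p ^ l = x * b ^ p ^ l * x⁻¹ * x by group, he']
  exact C.mul_mem hc hk

omit hp in
omit [Finite G] hp in
theorem mem_of_eq_fst (f c : G) : f ∈ closure ({f, c} : Set G) :=
  subset_closure (Set.mem_insert _ _)

omit [Finite G] hp in
theorem mem_of_eq_snd (f c : G) : c ∈ closure ({f, c} : Set G) :=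
  subset_closure (Set.mem_insert_of_mem _ rfl)

omit [Finite G] hp in
theorem mem_of_zpow_snd (f c : G) {x : G} (hx : x ∈ zpowers c) : x ∈ closure ({f, c} : Set G) :=
  zpowers_le.mpr (mem_of_eq_snd f c) hx

/-- Quadratic action from generators. -/
theorem quad_of_gen {f f' a : G} {C₀ : Subgroup G} (hC : ∀ z ∈ C₀, Commute a z)
    (hn : ∀ z ∈ C₀, f * z * f⁻¹ ∈ C₀) (hn' : ∀ z ∈ C₀, f' * z * f'⁻¹ ∈ C₀)
    (hf : a * f * a⁻¹ * f⁻¹ ∈ C₀) (hf' : a * f' * a⁻¹ * f'⁻¹ ∈ C₀) :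
    ∀ v ∈ closure ({f, f'} : Set G), Commute a (a * v * a⁻¹ * v⁻¹) := by
  let T : Subgroup G :=
    { carrier := {v | v ∈ normalizer (C₀ : Set G) ∧ a * v * a⁻¹ * v⁻¹ ∈ C₀}
      one_mem' := ⟨one_mem _, by simp⟩
      mul_mem' := fun {x y} hx hy => ⟨mul_mem hx.1 hy.1, by
        rw [show a * (x * y) * a⁻¹ * (x * y)⁻¹ =
          (a * x * a⁻¹ * x⁻¹) * (x * (a * y * a⁻¹ * y⁻¹) * x⁻¹) by group]
        exact mul_mem hx.2 ((mem_normalizer_iff.mp hx.1 _).mp hy.2)⟩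
      inv_mem' := fun {x} hx => ⟨inv_mem hx.1, by
        have h1 := (mem_normalizer_iff.mp (inv_mem hx.1) _).mp (inv_mem hx.2)
        rwa [show x⁻¹ * (a * x * a⁻¹ * x⁻¹)⁻¹ * x⁻¹⁻¹ = a * x⁻¹ * a⁻¹ * x⁻¹⁻¹ by group] at h1⟩ }
  have hle : closure ({f, f'} : Set G) ≤ T := by
    rw [closure_le]
    rintro w (rfl | rfl)
    · exact ⟨mem_normalizer_fintype hn, hf⟩
    · exact ⟨mem_normalizer_fintype hn', hf'⟩
  exact fun v hv => hC _ (hle hv).2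

/-- Replacing `w` by an element inducing the exact map on inverted lifts. -/
theorem exact_lift {Q Φ : Subgroup G} (_hQ : IsPGroup p Q) (hΦQ : Φ ≤ Q)
    (hΦc : ∀ a ∈ Φ, ∀ b ∈ Q, Commute a b) {K jj : ℕ} (hK : Nat.card Q = p ^ K)
    (hjj : p ^ K = 2 * jj + 1) {t w f g : G} (ht : ∀ a ∈ Φ, Commute t a)
    (hs : ∀ a ∈ Φ, Commute (w * t * w⁻¹) a) (hgQ : g ∈ Q) (hfi : t * f * t⁻¹ = f⁻¹)
    (hgi : t * g * t⁻¹ = g⁻¹) (hd : g⁻¹ * (w * f * w⁻¹) ∈ Φ) :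
    (w * t * w⁻¹ * t⁻¹) ^ jj * w * f * ((w * t * w⁻¹ * t⁻¹) ^ jj * w)⁻¹ = g := by
  obtain ⟨α, hα⟩ : ∃ α, α = g⁻¹ * (w * f * w⁻¹) := ⟨_, rfl⟩
  rw [← hα] at hd
  obtain ⟨s, hsdef⟩ : ∃ s, s = w * t * w⁻¹ := ⟨_, rfl⟩
  rw [← hsdef] at hs ⊢
  have hsa : s * α * s⁻¹ = α := by rw [(hs _ hd).eq, mul_inv_cancel_right]
  have h1 : w * f * w⁻¹ = g * α := by rw [hα, mul_inv_cancel_left]
  have hsg : s * (g * α) * s⁻¹ = (g * α)⁻¹ := by
    rw [← h1, hsdef, show w * t * w⁻¹ * (w * f * w⁻¹) * (w * t * w⁻¹)⁻¹ =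
      w * (t * f * t⁻¹) * w⁻¹ by group, hfi]
    group
  have hsg' : s * g * s⁻¹ = α⁻¹ * g⁻¹ * α⁻¹ := by
    calc s * g * s⁻¹ = (s * (g * α) * s⁻¹) * (s * α * s⁻¹)⁻¹ := by group
      _ = _ := by rw [hsg, hsa]; group
  have htg' : t⁻¹ * g * t = g⁻¹ := by
    calc t⁻¹ * g * t = (t⁻¹ * g⁻¹ * t)⁻¹ := by group
      _ = (t⁻¹ * (t * g * t⁻¹) * t)⁻¹ := by rw [hgi]
      _ = g⁻¹ := by group
  obtain ⟨n, hn⟩ : ∃ n, n = s * t⁻¹ := ⟨_, rfl⟩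
  rw [← hn]
  have hng : n * g * n⁻¹ = g * α ^ 2 := by
    calc n * g * n⁻¹ = s * (t⁻¹ * g * t) * s⁻¹ := by rw [hn]; group
      _ = (s * g * s⁻¹)⁻¹ := by rw [htg']; group
      _ = α * g * α := by rw [hsg']; group
      _ = g * α ^ 2 := by rw [(hΦc _ hd _ hgQ).eq, pow_two, mul_assoc]
  have hna : ∀ i : ℕ, n * α ^ i * n⁻¹ = α ^ i := fun i => by
    rw [← conj_pow, show n * α * n⁻¹ = s * (t⁻¹ * α * t) * s⁻¹ by rw [hn]; group,
      show t⁻¹ * α * t = α by rw [mul_assoc, ← (ht _ hd).eq, inv_mul_cancel_left], hsa]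
  have hiter : ∀ i : ℕ, n ^ i * (g * α) * (n ^ i)⁻¹ = g * α ^ (2 * i + 1) := by
    intro i
    induction i with
    | zero => simp
    | succ i ih =>
      calc n ^ (i + 1) * (g * α) * (n ^ (i + 1))⁻¹
          = n * (n ^ i * (g * α) * (n ^ i)⁻¹) * n⁻¹ := by rw [pow_succ']; group
        _ = (n * g * n⁻¹) * (n * α ^ (2 * i + 1) * n⁻¹) := by rw [ih]; group
        _ = g * α ^ (2 * (i + 1) + 1) := by
            rw [hng, hna, mul_assoc, ← pow_add]; congr 2; omega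
  have hαK : α ^ (2 * jj + 1) = 1 := by
    rw [← hjj, ← hK]
    exact congrArg Subtype.val (pow_card_eq_one' (x := (⟨α, hΦQ hd⟩ : Q)))
  calc n ^ jj * w * f * (n ^ jj * w)⁻¹ = n ^ jj * (w * f * w⁻¹) * (n ^ jj)⁻¹ := by group
    _ = g := by rw [h1, hiter, hαK, mul_one]

/-- Two exact transvections on a group of class two: their product acts as a `p`-element. -/
theorem heisenberg_pow (hP : StabP p G) {Q Φ : Subgroup G} (hQ : IsPGroup p Q)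
    (hΦc : ∀ a ∈ Φ, ∀ b ∈ Q, Commute a b) {f₁ f₂ f₃ c ψ₃ a b : G} (hf₁Q : f₁ ∈ Q) (hf₂Q : f₂ ∈ Q)
    (hcdef : c = f₁⁻¹ * f₂⁻¹ * f₁ * f₂) (hcΦ : c ∈ Φ) (hψ₃ : ψ₃ ∈ Φ) (hψ₃z : ψ₃ ∈ zpowers c)
    (hf₃ : f₃ = f₁ * f₂ * ψ₃) (ha1 : a * f₁ * a⁻¹ = f₁) (ha2 : a * f₂ * a⁻¹ = f₃)
    (hb1 : b * f₁ * b⁻¹ = f₃) (hb2 : b * f₂ * b⁻¹ = f₂) :
    ∃ k, (a * b) ^ p ^ k ∈ centralizer ((closure ({f₁, f₂} : Set G) : Subgroup G) : Set G) := by
  set Q₀ := closure ({f₁, f₂} : Set G) with hQ₀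
  have hQ₀Q : Q₀ ≤ Q := by rw [closure_le]; rintro w (rfl | rfl) <;> assumption
  have hf₁0 : f₁ ∈ Q₀ := subset_closure (Set.mem_insert _ _)
  have hf₂0 : f₂ ∈ Q₀ := subset_closure (Set.mem_insert_of_mem _ rfl)
  have hc0 : c ∈ Q₀ := hcdef ▸
    Q₀.mul_mem (Q₀.mul_mem (Q₀.mul_mem (Q₀.inv_mem hf₁0) (Q₀.inv_mem hf₂0)) hf₁0) hf₂0
  have hψ₃0 : ψ₃ ∈ Q₀ := (zpowers_le.mpr hc0) hψ₃z
  have hf₃0 : f₃ ∈ Q₀ := hf₃ ▸ Q₀.mul_mem (Q₀.mul_mem hf₁0 hf₂0) hψ₃0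
  have hnorm : ∀ g : G, g * f₁ * g⁻¹ ∈ Q₀ → g * f₂ * g⁻¹ ∈ Q₀ → g ∈ normalizer (Q₀ : Set G) := by
    intro g h1 h2
    refine mem_normalizer_fintype fun w hw => ?_
    have hle : Q₀ ≤ Q₀.comap (MulAut.conj g).toMonoidHom := by
      rw [closure_le]; rintro w (rfl | rfl) <;> assumption
    exact hle hw
  have haN : a ∈ normalizer (Q₀ : Set G) :=
    hnorm _ (by rw [ha1]; exact hf₁0) (by rw [ha2]; exact hf₃0)
  have hbN : b ∈ normalizer (Q₀ : Set G) :=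
    hnorm _ (by rw [hb1]; exact hf₃0) (by rw [hb2]; exact hf₂0)
  have hψ₃Q : ∀ q ∈ Q, Commute ψ₃ q := hΦc _ hψ₃
  have hcQ : ∀ q ∈ Q, Commute c q := hΦc _ hcΦ
  -- quadraticity
  have hquad : ∀ (g f f' : G), f ∈ Q → f' ∈ Q → g * f * g⁻¹ = f → g * f' * g⁻¹ = f₃ →
      f₃ * f'⁻¹ ∈ closure ({f, c} : Set G) → f' * f * f'⁻¹ ∈ closure ({f, c} : Set G) →
      Commute g c → ∀ w ∈ closure ({f, f'} : Set G), Commute g (g * w * g⁻¹ * w⁻¹) := by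
    intro g f f' hf hf' hgf hgf' h3 h4 hgc
    refine quad_of_gen (C₀ := closure ({f, c} : Set G)) ?_ ?_ ?_ ?_ ?_
    · intro z hz
      have hle : closure ({f, c} : Set G) ≤ centralizer ({g} : Set G) := by
        rw [closure_le]
        rintro w (hw | hw)
        · rw [hw]; exact mem_centralizer_singleton_iff.mpr (mul_inv_eq_iff_eq_mul.mp hgf).symm
        · rw [Set.mem_singleton_iff.mp hw]; exact mem_centralizer_singleton_iff.mpr hgc.eq.symm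
      exact (mem_centralizer_singleton_iff.mp (hle hz)).symm
    · exact fun z hz => mul_mem (mul_mem (subset_closure (Set.mem_insert _ _)) hz)
        (inv_mem (subset_closure (Set.mem_insert _ _)))
    · intro z hz
      have hle : closure ({f, c} : Set G) ≤
          (closure ({f, c} : Set G)).comap (MulAut.conj f').toMonoidHom := by
        rw [closure_le]
        rintro w (hw | hw)
        · rw [hw]; exact h4
        · rw [Set.mem_singleton_iff.mp hw]; show f' * c * f'⁻¹ ∈ closure ({f, c} : Set G)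
          rw [← (hcQ _ hf').eq, mul_inv_cancel_right]
          exact subset_closure (Set.mem_insert_of_mem _ rfl)
      exact hle hz
    · rw [hgf, mul_inv_cancel]; exact one_mem _
    · rw [hgf']; exact h3
  have hc' : c⁻¹ = f₁⁻¹ * f₂ * f₁ * f₂⁻¹ := by
    calc c⁻¹ = f₂ * c⁻¹ * f₂⁻¹ := by
          rw [← ((hcQ _ hf₂Q).inv_left).eq, mul_inv_cancel_right]
      _ = _ := by rw [hcdef]; group
  have hac : Commute a c := by
    refine mul_inv_eq_iff_eq_mul.mp ?_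
    calc a * c * a⁻¹
        = (a * f₁ * a⁻¹)⁻¹ * (a * f₂ * a⁻¹)⁻¹ *
          (a * f₁ * a⁻¹) * (a * f₂ * a⁻¹) := by
          rw [hcdef]; group
      _ = f₁⁻¹ * ((f₁ * f₂)⁻¹ * f₁ * (f₁ * f₂)) := by
          rw [ha1, ha2, hf₃, mul_inv_rev (f₁ * f₂),
            show f₁⁻¹ * (ψ₃⁻¹ * (f₁ * f₂)⁻¹) * f₁ * (f₁ * f₂ * ψ₃) =
              f₁⁻¹ * (ψ₃⁻¹ * ((f₁ * f₂)⁻¹ * f₁ * (f₁ * f₂)) * ψ₃) by group,
            ((hψ₃Q _ (Q.mul_mem (Q.mul_mem (Q.inv_mem (Q.mul_mem hf₁Q hf₂Q)) hf₁Q)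
              (Q.mul_mem hf₁Q hf₂Q))).inv_left).eq, inv_mul_cancel_right]
      _ = c := by rw [hcdef]; group
  have hbc : Commute b c := by
    refine mul_inv_eq_iff_eq_mul.mp ?_
    calc b * c * b⁻¹
        = (b * f₁ * b⁻¹)⁻¹ * (b * f₂ * b⁻¹)⁻¹ *
          (b * f₁ * b⁻¹) * (b * f₂ * b⁻¹) := by
          rw [hcdef]; group
      _ = ψ₃⁻¹ * ((f₁ * f₂)⁻¹ * f₂⁻¹ * (f₁ * f₂)) * ψ₃ * f₂ := by
          rw [hb1, hb2, hf₃, mul_inv_rev (f₁ * f₂),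
            show ψ₃⁻¹ * (f₁ * f₂)⁻¹ * f₂⁻¹ * (f₁ * f₂ * ψ₃) * f₂ =
              ψ₃⁻¹ * ((f₁ * f₂)⁻¹ * f₂⁻¹ * (f₁ * f₂)) * ψ₃ * f₂ by group]
      _ = (f₁ * f₂)⁻¹ * f₂⁻¹ * (f₁ * f₂) * f₂ := by
          rw [((hψ₃Q _ (Q.mul_mem (Q.mul_mem (Q.inv_mem (Q.mul_mem hf₁Q hf₂Q)) (Q.inv_mem hf₂Q))
            (Q.mul_mem hf₁Q hf₂Q))).inv_left).eq, inv_mul_cancel_right]
      _ = f₂⁻¹ * c * f₂ := by rw [hcdef]; group
      _ = c := by rw [mul_assoc, (hcQ _ hf₂Q).eq, inv_mul_cancel_left]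
  have hq_a := hquad _ f₁ f₂ hf₁Q hf₂Q ha1 ha2 (by
      rw [hf₃, mul_assoc (f₁ * f₂) ψ₃, (hψ₃Q _ (Q.inv_mem hf₂Q)).eq, ← mul_assoc,
        mul_inv_cancel_right]
      exact mul_mem (mem_of_eq_fst f₁ c) (mem_of_zpow_snd f₁ c hψ₃z))
    (by
      rw [show f₂ * f₁ * f₂⁻¹ = f₁ * c⁻¹ by rw [hc']; group]
      exact mul_mem (mem_of_eq_fst f₁ c) (inv_mem (mem_of_eq_snd f₁ c))) hac
  have hq_b := hquad _ f₂ f₁ hf₂Q hf₁Q hb2 hb1 (by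
      rw [show f₃ * f₁⁻¹ = f₁ * f₂ * (ψ₃ * f₁⁻¹) by rw [hf₃, mul_assoc],
        (hψ₃Q _ (Q.inv_mem hf₁Q)).eq, ← mul_assoc,
        show f₁ * f₂ * f₁⁻¹ = f₂ * (f₂⁻¹ * f₁ * f₂ * f₁⁻¹) by group,
        show f₂⁻¹ * f₁ * f₂ * f₁⁻¹ = f₁ * c * f₁⁻¹ by rw [hcdef]; group,
        ← (hcQ _ hf₁Q).eq, mul_inv_cancel_right]
      exact mul_mem (mul_mem (mem_of_eq_fst f₂ c) (mem_of_eq_snd f₂ c))
        (mem_of_zpow_snd f₂ c hψ₃z))
    (by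
      rw [show f₁ * f₂ * f₁⁻¹ = f₂ * (f₁ * c * f₁⁻¹) by rw [hcdef]; group, ← (hcQ _ hf₁Q).eq,
        mul_inv_cancel_right]
      exact mul_mem (mem_of_eq_fst f₂ c) (mem_of_eq_snd f₂ c)) hbc
  have hpair' : closure ({f₂, f₁} : Set G) = Q₀ := by rw [Set.pair_comm]
  exact exists_pow_mul_mem (normalizer_le_normalizer_centralizer' Q₀) hbN
    (hP Q₀ (hQ.to_le hQ₀Q) _ haN hq_a)
    (hP Q₀ (hQ.to_le hQ₀Q) _ hbN fun w hw => hq_b w (hpair'.symm ▸ hw))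

/-- A natural pair on a central extension contradicts stability. -/
theorem false_of_natPair (hp2 : p ≠ 2) (hP : StabP p G) {Q Φ : Subgroup G} (hQ : IsPGroup p Q)
    (hΦQ : Φ ≤ Q) (hΦc : ∀ a ∈ Φ, ∀ b ∈ Q, Commute a b) {M : Subgroup G}
    [(Φ.subgroupOf M).Normal] (hMΦ : M ≤ normalizer (Φ : Set G)) {X : Subgroup G} {u v : M}
    (hu : (u : G) ∈ X) (hv : (v : G) ∈ X)
    (hΦz : ∀ z ∈ X, (orderOf z).Coprime p → ∀ a ∈ Φ, Commute z a)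
    {e₁ e₂ : ↥M ⧸ Φ.subgroupOf M}
    (he₁ : e₁ ∈ (Q.subgroupOf M).map (QuotientGroup.mk' (Φ.subgroupOf M)))
    (he₂ : e₂ ∈ (Q.subgroupOf M).map (QuotientGroup.mk' (Φ.subgroupOf M)))
    (hpair : NatPair p (QuotientGroup.mk' (Φ.subgroupOf M) u)
      (QuotientGroup.mk' (Φ.subgroupOf M) v) e₁ e₂) : False := by
  set π := QuotientGroup.mk' (Φ.subgroupOf M) with hπ
  obtain ⟨q₁, hq₁, rfl⟩ := he₁
  obtain ⟨q₂, hq₂, rfl⟩ := he₂
  replace hq₁ : (q₁ : G) ∈ Q := hq₁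
  replace hq₂ : (q₂ : G) ∈ Q := hq₂
  have hker : ∀ m : M, π m = 1 ↔ (m : G) ∈ Φ := fun m => QuotientGroup.eq_one_iff m
  obtain ⟨ψ, hψs, hψ⟩ := hpair.exists_hom
  set A := closure ({u, v} : Set M) with hA
  have hAX : ∀ a ∈ A, (a : G) ∈ X := fun a ha =>
    (closure_le (K := X.comap M.subtype)).mpr (by rintro w (rfl | rfl) <;> assumption) ha
  have hπA : A.map π = closure ({π u, π v} : Set _) := by
    rw [hA, MonoidHom.map_closure, Set.image_pair]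
  let χ : A →* SL(2, ZMod p) := ψ.comp
    ((MulEquiv.subgroupCongr hπA).toMonoidHom.comp (π.subgroupMap A))
  have hχ : ∀ (a : A) (w : Fin 2 → ZMod p), π (a : M) * natPoint p (π q₁) (π q₂) w * (π (a : M))⁻¹ =
      natPoint p (π q₁) (π q₂) (((χ a).1).mulVec w) := fun a w =>
    hψ ((MulEquiv.subgroupCongr hπA) (π.subgroupMap A a)) w
  have hχs : Function.Surjective χ := hψs.comp
    ((MulEquiv.subgroupCongr hπA).surjective.comp (π.subgroupMap_surjective A))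
  have huniq : ∀ S T : SL(2, ZMod p), (∀ w, natPoint p (π q₁) (π q₂) (S.1.mulVec w) =
      natPoint p (π q₁) (π q₂) (T.1.mulVec w)) → S = T := by
    intro S T hST
    refine Subtype.ext (Matrix.ext_of_mulVec_single fun i => ?_)
    have h3 := hpair.point_add (S.1.mulVec (Pi.single i 1) - T.1.mulVec (Pi.single i 1))
      (T.1.mulVec (Pi.single i 1))
    rw [sub_add_cancel, hST] at h3
    exact sub_eq_zero.mp (hpair.point_injective (mul_eq_right.mp h3.symm))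
  have hχu : χ ⟨u, subset_closure (Set.mem_insert _ _)⟩ = tU p :=
    huniq _ _ fun w => (hχ _ w).symm.trans (hpair.conj_u w)
  have hχv : χ ⟨v, subset_closure (Set.mem_insert_of_mem _ rfl)⟩ = tL p :=
    huniq _ _ fun w => (hχ _ w).symm.trans (hpair.conj_v w)
  -- the involution
  obtain ⟨t₀, ht₀⟩ := hχs (-1)
  obtain ⟨α, m, hm, hαm⟩ :=
    Nat.exists_eq_pow_mul_and_not_dvd (orderOf_pos t₀).ne' p hp.out.ne_one
  obtain ⟨t, htdef⟩ : ∃ t : A, t = t₀ ^ p ^ α := ⟨_, rfl⟩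
  have hχt : χ t = -1 := by
    rw [htdef, map_pow, ht₀, Odd.neg_one_pow (hp.out.odd_of_ne_two hp2).pow]
  have htord : (orderOf ((t : M) : G)).Coprime p := by
    refine Nat.Coprime.coprime_dvd_left (?_ : _ ∣ m)
      ((hp.out.coprime_iff_not_dvd.mpr hm).symm)
    apply orderOf_dvd_of_pow_eq_one
    rw [← SubmonoidClass.coe_pow, ← SubmonoidClass.coe_pow, htdef, ← pow_mul, ← hαm,
      pow_orderOf_eq_one]
    rfl
  set tg : G := ((t : M) : G) with htg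
  have htX : tg ∈ X := hAX _ t.2
  have htΦ : ∀ a ∈ Φ, Commute tg a := hΦz tg htX htord
  have hcomm : ∀ w, π (t : M) * natPoint p (π q₁) (π q₂) w * (π (t : M))⁻¹ =
      natPoint p (π q₁) (π q₂) (-w) := fun w => by
    rw [hχ t w, hχt]
    simp [Matrix.neg_mulVec]
  have hneg : ∀ w, natPoint p (π q₁) (π q₂) (-w) = (natPoint p (π q₁) (π q₂) w)⁻¹ := fun w =>
    eq_inv_of_mul_eq_one_left (by rw [← hpair.point_add, neg_add_cancel, natPoint_zero])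
  have hp10 : natPoint p (π q₁) (π q₂) ![1, 0] = π q₁ := by
    simp [natPoint, ZMod.val_one]
  have hp01 : natPoint p (π q₁) (π q₂) ![0, 1] = π q₂ := by
    simp [natPoint, ZMod.val_one]
  have hphi : ∀ q : M, (∃ w, π q = natPoint p (π q₁) (π q₂) w) →
      tg * (q : G) * tg⁻¹ * q ∈ Φ := by
    rintro q ⟨w, hw⟩
    refine (hker ((t : M) * q * (t : M)⁻¹ * q)).mp ?_
    rw [map_mul, map_mul, map_mul, map_inv, hw, hcomm, hneg, inv_mul_cancel]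
  obtain ⟨ψ₁, hψ₁, hi₁, -⟩ := exists_inverted hp2 hQ hΦQ hΦc hq₁ htΦ (hphi q₁ ⟨_, hp10.symm⟩)
  obtain ⟨ψ₂, hψ₂, hi₂, -⟩ := exists_inverted hp2 hQ hΦQ hΦc hq₂ htΦ (hphi q₂ ⟨_, hp01.symm⟩)
  set f₁ := (q₁ : G) * ψ₁ with hf₁
  set f₂ := (q₂ : G) * ψ₂ with hf₂
  have hf₁Q : f₁ ∈ Q := Q.mul_mem hq₁ (hΦQ hψ₁)
  have hf₂Q : f₂ ∈ Q := Q.mul_mem hq₂ (hΦQ hψ₂)
  obtain ⟨c, hcdef⟩ : ∃ c, c = f₁⁻¹ * f₂⁻¹ * f₁ * f₂ := ⟨_, rfl⟩
  have hc12 : tg * (f₁ * f₂) * tg⁻¹ * (f₁ * f₂) = c := by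
    rw [show tg * (f₁ * f₂) * tg⁻¹ = (tg * f₁ * tg⁻¹) * (tg * f₂ * tg⁻¹) by group, hi₁, hi₂,
      hcdef]
    group
  have hmodΦ : ∀ {q : G}, q ∈ Φ → ∀ hq : q ∈ M, π ⟨q, hq⟩ = 1 := fun h hq => (hker _).mpr h
  have hMψ₁ : ψ₁ ∈ Φ := hψ₁
  have hcΦ : c ∈ Φ := by
    have h12 : tg * ((q₁ : G) * q₂) * tg⁻¹ * ((q₁ : G) * q₂) ∈ Φ :=
      hphi (q₁ * q₂) ⟨![1, 0] + ![0, 1], by rw [hpair.point_add, hp10, hp01, map_mul]⟩
    have hq12 : f₁ * f₂ = (q₁ : G) * q₂ * (ψ₁ * ψ₂) := by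
      rw [hf₁, hf₂, mul_assoc (q₁ : G) ψ₁, ← mul_assoc ψ₁, (hΦc _ hψ₁ _ hq₂).eq]
      simp only [mul_assoc]
    have hψψ : Commute (ψ₁ * ψ₂) ((q₁ : G) * q₂) :=
      hΦc _ (Φ.mul_mem hψ₁ hψ₂) _ (Q.mul_mem hq₁ hq₂)
    rw [← hc12, hq12]
    have he : tg * ((q₁ : G) * q₂ * (ψ₁ * ψ₂)) * tg⁻¹ * ((q₁ : G) * q₂ * (ψ₁ * ψ₂)) =
        tg * ((q₁ : G) * q₂) * tg⁻¹ * ((q₁ : G) * q₂) * ((ψ₁ * ψ₂) * (ψ₁ * ψ₂)) := by
      calc tg * ((q₁ : G) * q₂ * (ψ₁ * ψ₂)) * tg⁻¹ * ((q₁ : G) * q₂ * (ψ₁ * ψ₂))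
          = (tg * ((q₁ : G) * q₂) * tg⁻¹) * ((tg * (ψ₁ * ψ₂) * tg⁻¹) * ((q₁ : G) * q₂)) *
            (ψ₁ * ψ₂) := by group
        _ = (tg * ((q₁ : G) * q₂) * tg⁻¹) * (((q₁ : G) * q₂) * (ψ₁ * ψ₂)) * (ψ₁ * ψ₂) := by
            rw [(htΦ _ (Φ.mul_mem hψ₁ hψ₂)).eq, mul_inv_cancel_right, hψψ.eq]
        _ = _ := by group
    rw [he]
    exact Φ.mul_mem h12 (Φ.mul_mem (Φ.mul_mem hψ₁ hψ₂) (Φ.mul_mem hψ₁ hψ₂))
  obtain ⟨ψ₃, hψ₃, hi₃, hψ₃z⟩ := exists_inverted hp2 hQ hΦQ hΦc (Q.mul_mem hf₁Q hf₂Q) htΦ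
    (hc12.symm ▸ hcΦ)
  rw [hc12] at hψ₃z
  set f₃ := f₁ * f₂ * ψ₃ with hf₃
  have hf₃Q : f₃ ∈ Q := Q.mul_mem (Q.mul_mem hf₁Q hf₂Q) (hΦQ hψ₃)
  obtain ⟨K, hK⟩ := hQ.exists_card_eq
  obtain ⟨jj, hjj⟩ : ∃ j : ℕ, p ^ K = 2 * j + 1 := (hp.out.odd_of_ne_two hp2).pow
  -- exact lifts
  have hexact : ∀ w : A, ∃ a : A, χ a = χ w ∧ ∀ f g : G, f ∈ Q → g ∈ Q →
      tg * f * tg⁻¹ = f⁻¹ → tg * g * tg⁻¹ = g⁻¹ →
      g⁻¹ * (((w : M) : G) * f * ((w : M) : G)⁻¹) ∈ Φ →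
      ((a : M) : G) * f * ((a : M) : G)⁻¹ = g := by
    intro w
    refine ⟨(w * t * w⁻¹ * t⁻¹) ^ jj * w, ?_, fun f g hfQ hgQ hfi hgi hd => ?_⟩
    · rw [map_mul, map_pow, map_mul, map_mul, map_mul, map_inv, map_inv, hχt]
      simp
    have hsX : ((w : M) : G) * tg * ((w : M) : G)⁻¹ ∈ X :=
      X.mul_mem (X.mul_mem (hAX _ w.2) htX) (X.inv_mem (hAX _ w.2))
    have hso : (orderOf (((w : M) : G) * tg * ((w : M) : G)⁻¹)).Coprime p := by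
      rw [show ((w : M) : G) * tg * ((w : M) : G)⁻¹ = MulAut.conj ((w : M) : G) tg from rfl,
        MulEquiv.orderOf_eq]
      exact htord
    exact exact_lift (K := K) hQ hΦQ hΦc hK hjj htΦ (hΦz _ hsX hso) hgQ hfi hgi hd
  obtain ⟨a, hχa, haf⟩ := hexact ⟨u, subset_closure (Set.mem_insert _ _)⟩
  obtain ⟨b, hχb, hbf⟩ := hexact ⟨v, subset_closure (Set.mem_insert_of_mem _ rfl)⟩
  have hdiff : ∀ (m : M) (g ψ : G) (q : M), g = (q : G) * ψ → ψ ∈ Φ → π m = π q →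
      g⁻¹ * (m : G) ∈ Φ := by
    intro m g ψ q hg hψ' he
    have h1 : (q : G)⁻¹ * m ∈ Φ := (hker (q⁻¹ * m)).mp (by rw [map_mul, map_inv, he, inv_mul_cancel])
    rw [hg, mul_inv_rev, mul_assoc]
    exact Φ.mul_mem (Φ.inv_mem hψ') h1
  have hconjψ : ∀ (w : M) (ψ : G), ψ ∈ Φ → (w : G) * ψ * (w : G)⁻¹ ∈ Φ := fun w ψ h =>
    (mem_normalizer_iff.mp (hMΦ w.2) ψ).mp h
  have hmove : ∀ (w q : M) (g ψ ψ' : G) (q' : M), ψ ∈ Φ → ψ' ∈ Φ → g = (q' : G) * ψ' →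
      π w * π q * (π w)⁻¹ = π q' → g⁻¹ * ((w : G) * ((q : G) * ψ) * (w : G)⁻¹) ∈ Φ := by
    intro w q g ψ ψ' q' hψ hψ' hg he
    rw [show (w : G) * ((q : G) * ψ) * (w : G)⁻¹ =
      ((w : G) * q * (w : G)⁻¹) * ((w : G) * ψ * (w : G)⁻¹) by group, ← mul_assoc]
    refine Φ.mul_mem ?_ (hconjψ w ψ hψ)
    exact hdiff (w * q * w⁻¹) g ψ' q' hg hψ' (by rw [map_mul, map_mul, map_inv, he])
  have hf₃' : f₃ = ((q₁ * q₂ : M) : G) * (ψ₁ * ψ₂ * ψ₃) := by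
    rw [hf₃, hf₁, hf₂, Subgroup.coe_mul, mul_assoc (q₁ : G) ψ₁, ← mul_assoc ψ₁,
      (hΦc _ hψ₁ _ hq₂).eq]
    simp only [mul_assoc]
  have hψ123 : ψ₁ * ψ₂ * ψ₃ ∈ Φ := Φ.mul_mem (Φ.mul_mem hψ₁ hψ₂) hψ₃
  have ha1 : ((a : M) : G) * f₁ * ((a : M) : G)⁻¹ = f₁ :=
    haf f₁ f₁ hf₁Q hf₁Q hi₁ hi₁ (hmove u q₁ f₁ ψ₁ ψ₁ q₁ hψ₁ hψ₁ rfl hpair.u_one)
  have ha2 : ((a : M) : G) * f₂ * ((a : M) : G)⁻¹ = f₃ :=
    haf f₂ f₃ hf₂Q hf₃Q hi₂ hi₃ (hmove u q₂ f₃ ψ₂ _ (q₁ * q₂) hψ₂ hψ123 hf₃'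
      (by rw [map_mul]; exact hpair.u_two))
  have hb1 : ((b : M) : G) * f₁ * ((b : M) : G)⁻¹ = f₃ :=
    hbf f₁ f₃ hf₁Q hf₃Q hi₁ hi₃ (hmove v q₁ f₃ ψ₁ _ (q₁ * q₂) hψ₁ hψ123 hf₃'
      (by rw [map_mul]; exact hpair.v_one))
  have hb2 : ((b : M) : G) * f₂ * ((b : M) : G)⁻¹ = f₂ :=
    hbf f₂ f₂ hf₂Q hf₂Q hi₂ hi₂ (hmove v q₂ f₂ ψ₂ ψ₂ q₂ hψ₂ hψ₂ rfl hpair.v_two)
  set Q₀ := closure ({f₁, f₂} : Set G) with hQ₀
  have hf₁0 : f₁ ∈ Q₀ := subset_closure (Set.mem_insert _ _)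
  have hf₂0 : f₂ ∈ Q₀ := subset_closure (Set.mem_insert_of_mem _ rfl)
  obtain ⟨k, hk⟩ := heisenberg_pow hP hQ hΦc hf₁Q hf₂Q hcdef hcΦ hψ₃ hψ₃z hf₃
    (a := ((a : M) : G)) (b := ((b : M) : G)) ha1 ha2 hb1 hb2
  refine upper_mul_lower_pow_ne_one (p := p) k ?_
  have hfix : ∀ (q : M) (ψ : G), ψ ∈ Φ → (q : G) * ψ ∈ Q₀ → (q : G) ∈ Q →
      π ((a * b : A) ^ p ^ k : A) * π q * (π ((a * b : A) ^ p ^ k : A))⁻¹ = π q := by
    intro q ψ hψ hqψ hqQ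
    set g : M := (((a * b : A) ^ p ^ k : A) : M) with hg
    have hgc : (g : G) ∈ centralizer (Q₀ : Set G) := by
      simpa [hg] using hk
    rw [← map_inv, ← map_mul, ← map_mul, ← mul_inv_eq_one, ← map_inv, ← map_mul, hker]
    have h1 := mem_centralizer_iff.mp hgc _ hqψ
    have h2 : (g : G) * q * (g : G)⁻¹ = (q : G) * ψ * ((g : G) * ψ * (g : G)⁻¹)⁻¹ := by
      calc (g : G) * q * (g : G)⁻¹
          = ((g : G) * ((q : G) * ψ)) * (g : G)⁻¹ * ((g : G) * ψ * (g : G)⁻¹)⁻¹ := by group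
        _ = _ := by rw [← h1, mul_inv_cancel_right]
    show (g : G) * q * (g : G)⁻¹ * (q : G)⁻¹ ∈ Φ
    have hd := Φ.mul_mem hψ (Φ.inv_mem (hconjψ g ψ hψ))
    rw [h2, mul_assoc (q : G) ψ, ← (hΦc _ hd _ hqQ).eq, mul_inv_cancel_right]
    exact hd
  have hχab : χ ((a * b) ^ p ^ k) = (tU p * tL p) ^ p ^ k := by
    rw [map_pow, map_mul, hχa, hχb, hχu, hχv]
  rw [← hχab]
  refine huniq _ _ fun w => ?_
  rw [← hχ, Matrix.SpecialLinearGroup.coe_one, Matrix.one_mulVec]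
  have h1 := hfix q₁ ψ₁ hψ₁ hf₁0 hq₁
  have h2 := hfix q₂ ψ₂ hψ₂ hf₂0 hq₂
  rw [natPoint]
  set g := π (((a * b : A) ^ p ^ k : A) : M)
  rw [show g * (π q₁ ^ (w 0).val * π q₂ ^ (w 1).val) * g⁻¹ =
    (g * π q₁ ^ (w 0).val * g⁻¹) * (g * π q₂ ^ (w 1).val * g⁻¹) by group, ← conj_pow, ← conj_pow,
    h1, h2]

/-- No pair of quadratic elements modulo `Z` is a witness. -/
theorem not_wit (hp2 : p ≠ 2) (hP : StabP p G) (Z : Subgroup G) [Z.Normal]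
    (hZc : ∀ z : G, (orderOf z).Coprime p → ∀ a ∈ Z, Commute z a) (Q : Subgroup G) (x y : G) :
    ¬ Wit p Z Q x y := by
  induction hn : Nat.card Q using Nat.strong_induction_on generalizing Q with
  | _ n ih =>
  subst hn
  intro h
  obtain ⟨Φ, hΦQ, hZΦ, hxΦ, hyΦ, hQΦ, hpow, hcomm, hΦc, hΦz⟩ := h.central hZc fun Q' hlt =>
    ih _ (lt_of_le_of_ne (card_le_of_le hlt.le) fun e =>
      hlt.ne (eq_of_le_of_card_ge hlt.le e.ge)) Q' rfl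
  obtain ⟨hQ, hx, hy, hxq, hyq, z₀, hz₀, hz₀o, q₀, hq₀, hne⟩ := h
  -- the section
  set M := normalizer (Q : Set G) ⊓ normalizer (Φ : Set G) with hM
  have hJM : closure ({x, y} : Set G) ≤ M := by
    rw [closure_le]
    rintro w (rfl | rfl)
    · exact ⟨hx, hxΦ⟩
    · exact ⟨hy, hyΦ⟩
  have hQM : Q ≤ M := le_inf le_normalizer hQΦ
  haveI : (Φ.subgroupOf M).Normal := ⟨fun a ha g => (mem_normalizer_iff.mp g.2.2 _).mp ha⟩
  set π := QuotientGroup.mk' (Φ.subgroupOf M) with hπ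
  set V := (Q.subgroupOf M).map π with hV
  have hVea : IsElementaryAbelian p V := by
    refine ⟨⟨⟨?_⟩⟩, ?_⟩
    · rintro ⟨_, a, ha, rfl⟩ ⟨_, b, hb, rfl⟩
      refine Subtype.ext (show π a * π b = π b * π a from ?_)
      rw [← mul_inv_eq_one, mul_inv_rev, ← mul_assoc, ← map_mul, ← map_inv, ← map_inv, ← map_mul,
        ← map_mul]
      exact (QuotientGroup.eq_one_iff _).mpr (hcomm _ ha _ hb)
    · rintro _ ⟨a, ha, rfl⟩
      rw [← map_pow]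
      exact (QuotientGroup.eq_one_iff _).mpr (hpow _ ha)
  set xM : M := ⟨x, hJM (subset_closure (Set.mem_insert _ _))⟩ with hxM
  set yM : M := ⟨y, hJM (subset_closure (Set.mem_insert_of_mem _ rfl))⟩ with hyM
  set J := closure ({π xM, π yM} : Set (↥M ⧸ Φ.subgroupOf M)) with hJ
  have hVn : V.Normal := Normal.map
    (⟨fun a ha g => (mem_normalizer_iff.mp g.2.1 _).mp ha⟩ : (Q.subgroupOf M).Normal) _
      (QuotientGroup.mk'_surjective _)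
  have hquad : ∀ (w : M), (∀ v ∈ Q, ⁅(w : G), ⁅(w : G), v⁆⁆ ∈ Z) →
      ∀ v ∈ V, Commute (π w) (π w * v * (π w)⁻¹ * v⁻¹) := by
    rintro w hw _ ⟨v, hv, rfl⟩
    rw [← map_inv, ← map_inv, ← map_mul, ← map_mul, ← map_mul]
    refine comm_iff_quot.mpr (hZΦ ⟨hw _ hv, ?_⟩)
    have hwQ : ∀ {a : G}, a ∈ Q → (w : G) * a * (w : G)⁻¹ ∈ Q :=
      fun h => (mem_normalizer_iff.mp w.2.1 _).mp h
    have h1 : ⁅(w : G), (v : G)⁆ ∈ Q := Q.mul_mem (hwQ hv) (Q.inv_mem hv)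
    exact Q.mul_mem (hwQ h1) (Q.inv_mem h1)
  have hypow : ∃ k, (π yM) ^ p ^ k ∈ centralizer (V : Set (↥M ⧸ Φ.subgroupOf M)) := by
    refine ⟨1, mem_centralizer_iff.mpr fun v hv => ?_⟩
    have h1 := hquad yM (fun a ha => hyq a ha) v hv
    have hc : ∀ n : ℕ, π yM ^ n * v * (π yM ^ n)⁻¹ = (π yM * v * (π yM)⁻¹ * v⁻¹) ^ n * v := by
      intro n
      induction n with
      | zero => simp
      | succ n ihn =>
        rw [pow_succ', show π yM * π yM ^ n * v * (π yM * π yM ^ n)⁻¹ =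
          π yM * (π yM ^ n * v * (π yM ^ n)⁻¹) * (π yM)⁻¹ by group, ihn,
          ← mul_assoc (π yM), (h1.pow_right n).eq, pow_succ]
        group
    have h2 := hc (p ^ 1)
    rw [pow_one, hVea.2 _ (V.mul_mem (hVn.conj_mem v hv _) (V.inv_mem hv)), one_mul,
      mul_inv_eq_iff_eq_mul] at h2
    rw [pow_one]
    exact h2.symm
  have hsurjJ : ∀ j ∈ J, ∃ g : M, (g : G) ∈ closure ({x, y} : Set G) ∧ π g = j := by
    intro j hj
    rw [hJ, ← Set.image_pair, ← MonoidHom.map_closure] at hj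
    obtain ⟨g, hg, rfl⟩ := hj
    refine ⟨g, ?_, rfl⟩
    have h1 := mem_map_of_mem M.subtype hg
    rwa [MonoidHom.map_closure, Set.image_pair] at h1
  have hn : ¬ OpMod p J (centralizer (V : Set (↥M ⧸ Φ.subgroupOf M))) (π xM) := by
    rintro ⟨N, hNJ, hJN, hxN, hNp⟩
    set zM : M := ⟨z₀, hJM hz₀⟩ with hzM
    have hzJ : π zM ∈ J := by
      rw [hJ, ← Set.image_pair, ← MonoidHom.map_closure]
      refine mem_map_of_mem π ?_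
      have h1 : z₀ ∈ (closure ({xM, yM} : Set M)).map M.subtype := by
        rw [MonoidHom.map_closure, Set.image_pair]; exact hz₀
      obtain ⟨w, hw, hwz⟩ := h1
      rwa [show w = zM from Subtype.ext hwz] at hw
    have hzN : π zM ∈ N ⊔ zpowers (π yM) := by
      refine (closure_le _).mpr ?_ hzJ
      rintro w (rfl | rfl)
      · exact mem_sup_left hxN
      · exact mem_sup_right (mem_zpowers _)
    obtain ⟨n, hn', b, hb, hnb⟩ := mem_sup_of_normal_right' hJN (by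
      rw [zpowers_le]; exact subset_closure (Set.mem_insert_of_mem _ rfl)) hzN
    obtain ⟨i, rfl⟩ := hb
    obtain ⟨k, hk⟩ := hypow
    set C := centralizer (V : Set (↥M ⧸ Φ.subgroupOf M)) with hC
    haveI hCn : C.Normal := by
      haveI := hVn
      rw [hC]; infer_instance
    set ρ := QuotientGroup.mk' C
    have hN1 : ρ (π zM) ^ p ^ k ∈ N.map ρ := by
      have hyk : ρ (π yM ^ i) ^ p ^ k = 1 := by
        rw [map_zpow, ← zpow_natCast, ← zpow_mul, mul_comm, zpow_mul, zpow_natCast, ← map_pow,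
          show ρ (π yM ^ p ^ k) = 1 from (QuotientGroup.eq_one_iff _).mpr hk, one_zpow]
      have hyn : ρ (π yM ^ i) ∈ normalizer ((N.map ρ : Subgroup _) : Set _) :=
        le_normalizer_map ρ (mem_map_of_mem ρ (zpow_mem
          (hJN (subset_closure (Set.mem_insert_of_mem _ rfl))) i))
      rw [← hnb, map_mul]
      have hgen : ∀ m : ℕ, (ρ n * ρ (π yM ^ i)) ^ m * (ρ (π yM ^ i) ^ m)⁻¹ ∈ N.map ρ := by
        intro m
        induction m with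
        | zero => simp
        | succ m ihm =>
          rw [pow_succ', pow_succ', show ρ n * ρ (π yM ^ i) * (ρ n * ρ (π yM ^ i)) ^ m *
            (ρ (π yM ^ i) * ρ (π yM ^ i) ^ m)⁻¹ = ρ n * (ρ (π yM ^ i) *
              ((ρ n * ρ (π yM ^ i)) ^ m * (ρ (π yM ^ i) ^ m)⁻¹) * (ρ (π yM ^ i))⁻¹) by group]
          exact mul_mem (mem_map_of_mem ρ hn') ((mem_normalizer_iff.mp hyn _).mp ihm)
      have h9 := hgen (p ^ k)
      rw [hyk, inv_one, mul_one] at h9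
      exact h9
    obtain ⟨n', hn'', he⟩ := hN1
    obtain ⟨l, hl⟩ := hNp n' hn''
    have hz1 : ρ (π zM) ^ p ^ (k + l) = 1 := by
      rw [pow_add, pow_mul, ← he, ← map_pow]
      exact (QuotientGroup.eq_one_iff _).mpr hl
    have hzc : π zM ∈ C := (QuotientGroup.eq_one_iff _).mp
      (show ρ (π zM) = 1 from orderOf_eq_one_iff.mp (Nat.eq_one_of_dvd_coprimes
        (hz₀o.pow_right (k + l))
        (orderOf_dvd_of_pow_eq_one (by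
          rw [← map_pow, ← map_pow,
            show zM ^ orderOf z₀ = 1 from Subtype.ext (pow_orderOf_eq_one z₀), map_one, map_one]))
        (orderOf_dvd_of_pow_eq_one hz1)))
    refine hne (commute_of_stab hQ hz₀o (hΦz z₀ hz₀ hz₀o) hΦQ ?_)
    have h1 : π ⟨q₀, hQM hq₀⟩ ∈ V := mem_map_of_mem π hq₀
    have h2 := mem_centralizer_iff.mp hzc _ h1
    have h3 : π (zM * ⟨q₀, hQM hq₀⟩ * zM⁻¹ * ⟨q₀, hQM hq₀⟩⁻¹) = 1 := by
      rw [map_mul, map_mul, map_mul, map_inv, map_inv, ← h2]; group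
    exact (QuotientGroup.eq_one_iff (N := Φ.subgroupOf M)
      (zM * (⟨q₀, hQM hq₀⟩ : M) * zM⁻¹ * (⟨q₀, hQM hq₀⟩ : M)⁻¹)).mp h3
  obtain ⟨u', hu', v', hv', e₁, he₁, e₂, he₂, hpair⟩ := exists_natPair_of_ea hp2 hVea
    (by rw [normalizer_eq_top_iff.mpr hVn]; exact le_top) (subset_closure (Set.mem_insert _ _))
    (hquad xM fun a ha => hxq a ha) hn
  obtain ⟨u, hu, rfl⟩ := hsurjJ u' hu'
  obtain ⟨v, hv, rfl⟩ := hsurjJ v' hv'
  exact false_of_natPair hp2 hP hQ hΦQ hΦc (M := M) inf_le_right hu hv hΦz he₁ he₂ hpair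

end Cfsg.Agent.Fusion
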