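import Cfsg.Agent.Lib.Transfer.ZJRelControl

/-!
`Z(J)` controls fusion: the induction step with restricted quotients.
-/

set_option autoImplicit false
set_option linter.style.haveILetI false

namespace Cfsg.Agent.Transfer

open Subgroup
open scoped Pointwise
open ConjFunctor (cj IsSylIn IsFN nS)

universe u

variable {G : Type u} [Group G] {p : ℕ} [Finite G] [hp : Fact p.Prime]

/-- The step, quotients being needed only by a `p'`-group or, when `G = C(O_p)S`, by `O_p`. -/
theorem goodZJ_step' {e : ℕ} (hodd : p ≠ 2) (he : e = 0 ∨ e = p) (hst : PStableElts p G)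
    (hsub : ∀ M : Subgroup G, M ≠ ⊤ → GoodZJ p e M)
    (hquot : ∀ (N : Subgroup G) [N.Normal], N ≠ ⊥ → (Nat.card N).Coprime p → GoodZJ p e (G ⧸ N))
    (hquotQ : ∀ (N : Subgroup G) [N.Normal], N ≠ ⊥ → IsPGroup p N →
      (∀ z : G, (orderOf z).Coprime p → ∀ a ∈ N, Commute z a) → GoodZJ p e (G ⧸ N)) :
    GoodZJ p e G := by
  haveI := LocalEvenA.pCore_normal' p G
  set Q := Cfsg.pCore p G with hQdef
  set C := centralizer ((Q : Subgroup G) : Set G) with hCdef
  by_cases hQ : Q = ⊥
  · refine goodZJ_of_locals he fun V hV hV0 => hsub _ fun h => hV0 ?_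
    exact le_bot_iff.mp (hQ ▸ ConjFunctor.le_pCore_of_normalizer hV h)
  intro S D hD T g hT hg
  set U₀ := (S : Subgroup G) ⊓ (Q ⊔ C) with hU₀
  set N₀ := normalizer (U₀ : Set G) with hN₀
  by_cases hN : N₀ = ⊤
  · obtain ⟨R, hRn, hRc, hR0⟩ := ConjFunctor.exists_pPrime_part S hN
    by_cases hR : R = ⊥
    · exact goodZJ_of_stable hodd he (hR0 hR) hst S D hD T g hT hg
    · haveI := hRn
      exact goodZJ_of_quotient R hRc (hquot R hR hRc) S D hD T g hT hg
  have hSN : (S : Subgroup G) ≤ N₀ :=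
    (le_inf le_normalizer le_normalizer_of_normal).trans inf_normalizer_le_normalizer_inf
  have hSZ : (S : Subgroup G) ≤ normalizer (ZJAb e D : Set G) :=
    le_normalizer.trans hD.normalizer_le_ZJAb
  have hsubS : ∀ M : Subgroup G, M ≠ ⊤ → (S : Subgroup G) ≤ M → ∀ (A : Subgroup G) (x : G),
      x ∈ M → A ≤ (S : Subgroup G) → cj x A ≤ (S : Subgroup G) → RReal (ZJAb e D) A x := by
    intro M hM hSM A x hx hA hxA
    obtain ⟨h, -, hh, hhe⟩ := goodZJ_sub hD
      (ConjFunctor.isSylIn_of_le (ConjFunctor.isSylIn_top S) hSM le_top) le_rfl (hsub M hM) hA hx hxA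
    rw [inf_eq_left.mpr hD.1] at hh
    exact ⟨h, hh, hhe⟩
  by_cases hL : C ⊔ (S : Subgroup G) = ⊤
  swap
  · -- both `C ⊔ S` and `N₀` are proper
    have hgm : g ∈ (C : Set G) * (N₀ : Set G) := by
      rw [← normal_mul, ConjFunctor.centralizer_sup_normalizer S]
      trivial
    obtain ⟨c, hc, n, hn, rfl⟩ := Set.mem_mul.mp hgm
    have hn1 : cj n (S : Subgroup G) ≤ N₀ := by
      rintro _ ⟨x, hx, rfl⟩
      exact mul_mem (mul_mem hn (hSN hx)) (inv_mem hn)
    obtain ⟨m, hm, hle⟩ := ConjFunctor.exists_conj_le_of_isSylIn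
      (ConjFunctor.isSylIn_of_le (ConjFunctor.isSylIn_top S) hSN le_top) hn1
      (ConjFunctor.cj_isPGroup n S.2)
    have hT1 : cj (m * n) T ≤ (S : Subgroup G) := by
      rw [ConjFunctor.cj_mul]
      exact (ConjFunctor.cj_le_cj.mpr (ConjFunctor.cj_le_cj.mpr hT)).trans hle
    set c' := m * c * m⁻¹ with hc'
    have hc'C : c' ∈ C := (inferInstance : C.Normal).conj_mem c hc m
    set L := C ⊔ (S : Subgroup G) with hLdef
    set P := cj c' (cj (m * n) T) with hP
    have heq : P = cj m (cj (c * n) T) := by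
      rw [hP, ← ConjFunctor.cj_mul, ← ConjFunctor.cj_mul]
      congr 1
      rw [hc']; group
    have hPle : P ≤ L ⊓ N₀ := by
      refine le_inf ?_ ?_
      · rw [hP]
        rintro _ ⟨x, hx, rfl⟩
        exact L.mul_mem (L.mul_mem (mem_sup_left hc'C) (mem_sup_right (hT1 hx)))
          (L.inv_mem (mem_sup_left hc'C))
      · rw [heq]
        rintro _ ⟨x, hx, rfl⟩
        exact N₀.mul_mem (N₀.mul_mem hm (hSN (hg hx))) (N₀.inv_mem hm)
    obtain ⟨m', hm', hle'⟩ := ConjFunctor.exists_conj_le_of_isSylIn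
      (ConjFunctor.isSylIn_of_le (ConjFunctor.isSylIn_top S)
        (le_inf (le_sup_right : (S : Subgroup G) ≤ L) hSN) le_top)
      hPle (ConjFunctor.cj_isPGroup c' (S.2.to_le hT1))
    have h2 : cj (m' * c') (cj (m * n) T) ≤ (S : Subgroup G) := by
      rw [ConjFunctor.cj_mul m' c', ← hP]; exact hle'
    have r₁ := hsubS N₀ hN hSN T (m * n) (N₀.mul_mem hm hn) hT hT1
    have r₂ := hsubS L hL le_sup_right _ (m' * c')
      (L.mul_mem hm'.1 (mem_sup_left hc'C)) hT1 h2
    have e1 : (m' * m)⁻¹ * (m' * c' * (m * n)) = c * n := by rw [hc']; group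
    have r₃ := hsubS N₀ hN hSN (cj (m' * c' * (m * n)) T) (m' * m)⁻¹
      (N₀.inv_mem (N₀.mul_mem hm'.2 hm))
      (by rw [ConjFunctor.cj_mul (m' * c')]; exact h2)
      (by rw [← ConjFunctor.cj_mul, e1]; exact hg)
    have := (r₁.trans r₂).trans r₃
    rwa [e1] at this
  -- `G = C S`
  have hQS : Q ≤ (S : Subgroup G) := Basics.pCore_le_sylow p S
  by_cases hDQ : D ≤ Q
  · have hDn : D.Normal := ⟨fun d hd x =>
      hD.2 d hd x (hQS ((inferInstance : Q.Normal).conj_mem d (hDQ hd) x))⟩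
    refine ⟨g, normalizer_le_normalizer_ZJAb D ?_, fun _ _ => rfl⟩
    rw [normalizer_eq_top]; trivial
  set q := QuotientGroup.mk' Q with hqdef
  have hq : Function.Surjective q := QuotientGroup.mk'_surjective _
  let S' : Sylow p (G ⧸ Q) := S.mapSurjective hq
  have hS' : (S' : Subgroup (G ⧸ Q)) = (S : Subgroup G).map q := Sylow.coe_mapSurjective hq S
  have hcomap : ((S : Subgroup G).map q).comap q = (S : Subgroup G) := by
    rw [comap_map_eq, QuotientGroup.ker_mk', sup_eq_left.mpr hQS]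
  have hcl : Closed (S' : Subgroup (G ⧸ Q)) (D.map q) := by
    refine ⟨hS' ▸ map_mono hD.1, ?_⟩
    rintro _ ⟨d, hd, rfl⟩ y hy
    obtain ⟨x, rfl⟩ := hq y
    rw [← map_inv, ← map_mul, ← map_mul, hS', ← mem_comap, hcomap] at hy
    exact ⟨x * d * x⁻¹, hD.2 d hd x hy, by simp⟩
  set M := (normalizer (ZJAb e (D.map q) : Set (G ⧸ Q))).comap q with hMdef
  have hSM : (S : Subgroup G) ≤ M := fun s hs =>
    hcl.normalizer_le_ZJAb (le_normalizer (hS'.symm ▸ mem_map_of_mem q hs))
  have hM : M ≠ ⊤ := by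
    intro hM
    have hDp : IsPGroup p (D.map q) := (S.2.to_le hD.1).map q
    have hne : D.map q ≠ ⊥ := by
      rw [Ne, Subgroup.map_eq_bot_iff, QuotientGroup.ker_mk']; exact hDQ
    refine ZJAb_ne_bot he hDp hne (le_bot_iff.mp ?_)
    rw [← ConjFunctor.pCore_quotient_pCore (X := G) (p := p)]
    refine ConjFunctor.le_pCore_of_normalizer (hDp.to_le (ZJAb_le _)) ?_
    rw [← map_comap_eq_self_of_surjective hq (normalizer _), ← hMdef, hM,
      map_top_of_surjective q hq]
  refine rreal_driver S hD.normalizer_le_ZJAb (fun U hfn hUS hUne hU0 n hn hbig => ?_) T g hT hg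
  have hQn : cj n Q = Q := ConjFunctor.cj_eq_iff.mpr (by rw [normalizer_eq_top]; trivial)
  by_cases hQU : Q ≤ U
  swap
  · have hlt : U < U ⊔ Q := left_lt_sup.mpr hQU
    refine (hbig (U ⊔ Q) n ?_ (sup_le hUS hQS) ?_).mono le_sup_left
    · exact lt_of_le_of_ne (card_le_of_le hlt.le) fun e' =>
        hlt.ne (eq_of_le_of_card_ge hlt.le e'.ge)
    · rw [ConjFunctor.cj, Subgroup.map_sup]
      exact sup_le ((ConjFunctor.cj_eq_iff.mpr hn).le.trans hUS) (hQn.le.trans hQS)
  have hcen : ∀ z : G, (orderOf z).Coprime p → ∀ a ∈ Q, Commute z a := by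
    intro z hz a ha
    have hsurj : Function.Surjective ((QuotientGroup.mk' C).comp (S : Subgroup G).subtype) := by
      rw [← MonoidHom.range_eq_top, MonoidHom.range_comp, range_subtype,
        ← (comap_injective (QuotientGroup.mk'_surjective C)).eq_iff,
        comap_map_eq, QuotientGroup.ker_mk', comap_top, sup_comm]
      exact hL
    obtain ⟨k, hk⟩ := (S.2.of_surjective _ hsurj) (QuotientGroup.mk' C z)
    have hzC : z ∈ C := (QuotientGroup.eq_one_iff z).mp (orderOf_eq_one_iff.mp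
      (Nat.eq_one_of_dvd_coprimes (hz.pow_right k) (orderOf_map_dvd (QuotientGroup.mk' C) z)
        (orderOf_dvd_of_pow_eq_one hk)))
    exact (mem_centralizer_iff.mp hzC a ha).symm
  obtain ⟨k, hk, hke⟩ := hquotQ Q hQ (Basics.pCore_isPGroup p) hcen S' _ hcl (U.map q) (q n) (hS' ▸ map_mono hUS) (by
    rintro _ ⟨_, ⟨u, hu, rfl⟩, rfl⟩
    rw [hS']
    exact ⟨n * u * n⁻¹, hUS ((mem_normalizer_iff.mp hn u).mp hu), by simp⟩)
  obtain ⟨c, rfl⟩ := hq k
  have hUQ : (U.map q).comap q = U := by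
    rw [comap_map_eq, QuotientGroup.ker_mk', sup_eq_left.mpr hQU]
  have hcU : ∀ u ∈ U, c * u * c⁻¹ ∈ U := fun u hu => by
    rw [← hUQ, mem_comap, map_mul, map_mul, map_inv, hke (q u) (mem_map_of_mem q hu), ← map_inv,
      ← map_mul, ← map_mul]
    exact mem_map_of_mem q ((mem_normalizer_iff.mp hn u).mp hu)
  have hcN : c ∈ normalizer (U : Set G) := by
    refine ConjFunctor.cj_eq_iff.mp (eq_of_le_of_card_ge ?_ (by rw [ConjFunctor.cj_card]))
    rintro _ ⟨u, hu, rfl⟩
    exact hcU u hu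
  obtain ⟨h, hh, hhe⟩ := hsubS M hM hSM U c hk hUS
    ((ConjFunctor.cj_eq_iff.mpr hcN).le.trans hUS)
  set E := normalizer (U : Set G) ⊓
    (centralizer ((U.map q : Subgroup (G ⧸ Q)) : Set (G ⧸ Q))).comap q with hE
  have hNE : normalizer (U : Set G) ≤ normalizer (E : Set G) := by
    refine (le_inf le_normalizer fun x hx => ?_).trans inf_normalizer_le_normalizer_inf
    rw [← comap_normalizer_eq_of_surjective _ hq, mem_comap]
    exact normalizer_le_normalizer_centralizer' _ (le_normalizer_map q (mem_map_of_mem q hx))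
  have hRs := isSylIn_inf_of_le (hfn.sylIn S.2) inf_le_left hNE
  have hyE : c⁻¹ * n ∈ E := by
    refine mem_inf.mpr ⟨(normalizer (U : Set G)).mul_mem ((normalizer (U : Set G)).inv_mem hcN) hn, ?_⟩
    rintro _ ⟨u, hu, rfl⟩
    rw [map_mul, map_inv]
    have := hke (q u) (mem_map_of_mem q hu)
    calc q u * ((q c)⁻¹ * q n) = (q c)⁻¹ * (q c * q u * (q c)⁻¹) * q n := by group
      _ = (q c)⁻¹ * (q n * q u * (q n)⁻¹) * q n := by rw [this]
      _ = (q c)⁻¹ * q n * q u := by group
  have hdec := ConjFunctor.le_sup_of_coprime_le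
    (Z := centralizer (U : Set G) ⊓ E) inf_le_right hRs (fun y hy hyp => by
      refine ⟨mem_centralizer_iff.mpr fun u hu => ?_, hy⟩
      refine (ConjFunctor.comm_of_coprime_of_fixed hyp (Basics.pCore_isPGroup p) ?_ ?_).symm
      · have hyC : y ∈ C := by
          have hsurj : Function.Surjective
              ((QuotientGroup.mk' C).comp (S : Subgroup G).subtype) := by
            rw [← MonoidHom.range_eq_top, MonoidHom.range_comp, range_subtype,
              ← (comap_injective (QuotientGroup.mk'_surjective C)).eq_iff,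
              comap_map_eq, QuotientGroup.ker_mk', comap_top, sup_comm]
            exact hL
          obtain ⟨k, hk⟩ := (S.2.of_surjective _ hsurj) (QuotientGroup.mk' C y)
          refine (QuotientGroup.eq_one_iff y).mp
            (Components.eq_one_of_pow_prime_pow_of_coprime hyp hk ?_)
          show (QuotientGroup.mk' C y) ^ _ = 1
          rw [← map_pow, pow_orderOf_eq_one, map_one]
        exact fun w hw => (mem_centralizer_iff.mp hyC w hw).symm
      · refine (QuotientGroup.eq_one_iff (N := Q) _).mp ?_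
        show q _ = 1
        have := hy.2 (q u) (mem_map_of_mem q hu)
        rw [map_mul, map_mul, map_mul, map_inv, map_inv, ← this]
        group) hyE
  have hnorm : nS (S : Subgroup G) U ⊓ E ≤
      normalizer ((centralizer (U : Set G) ⊓ E : Subgroup G) : Set G) :=
    (le_inf ((inf_le_left.trans inf_le_right).trans (normalizer_le_normalizer_centralizer' U))
      (inf_le_right.trans le_normalizer)).trans inf_normalizer_le_normalizer_inf
  rw [← SetLike.mem_coe, coe_mul_of_right_le_normalizer_left _ _ hnorm, Set.mem_mul] at hdec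
  obtain ⟨z, hz, s, hs, hzs⟩ := hdec
  refine ⟨h * s, mul_mem hh (hSZ hs.1.1), fun u hu => ?_⟩
  have hsu : s * u * s⁻¹ ∈ U := (mem_normalizer_iff.mp hs.1.2 u).mp hu
  have hzc : z * (s * u * s⁻¹) * z⁻¹ = s * u * s⁻¹ := by
    rw [← mem_centralizer_iff.mp hz.1 _ hsu, mul_inv_cancel_right]
  calc h * s * u * (h * s)⁻¹ = h * (s * u * s⁻¹) * h⁻¹ := by group
    _ = c * (z * (s * u * s⁻¹) * z⁻¹) * c⁻¹ := by rw [hzc, hhe _ hsu]
    _ = c * (z * s) * u * (c * (z * s))⁻¹ := by group
    _ = n * u * n⁻¹ := by rw [hzs, mul_inv_cancel_left]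

end Cfsg.Agent.Transfer
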