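import Cfsg.Agent.Lib.Fusion.StableLift
import Cfsg.Agent.Lib.Fusion.StableStep
import Cfsg.Agent.Lib.Fusion.Group
import Cfsg.Agent.Lib.Fusion.CoreDecomp
import Cfsg.Agent.Lib.Fusion.Normal
import Cfsg.Agent.Lib.Components.PLocal

/-!
`p`-stable fusion systems of finite groups: `Z(J(S))` is normal.
-/

set_option autoImplicit false
set_option linter.style.haveILetI false

namespace Cfsg.Agent.Fusion

open Subgroup Transfer
open scoped commutatorElement

universe u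

variable {G : Type u} [Group G] {p : ℕ} [Finite G] [hp : Fact p.Prime]

omit hp in
theorem StabP.subgroup (h : StabP p G) (M : Subgroup G) : StabP p ↥M := by
  intro Q hQ x hx hq
  have hxN : (x : G) ∈ normalizer ((Q.map M.subtype : Subgroup G) : Set G) :=
    le_normalizer_map M.subtype (mem_map_of_mem M.subtype hx)
  obtain ⟨N, hNJ, hJN, hxN', hNp⟩ := h (Q.map M.subtype) (hQ.map _) (x : G) hxN (by
    rintro _ ⟨v, hv, rfl⟩
    exact (hq v hv).map M.subtype)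
  refine ⟨normalizer (Q : Set M) ⊓ N.comap M.subtype, inf_le_left, ?_, ⟨hx, hxN'⟩, fun n hn => ?_⟩
  · intro g hg
    refine mem_normalizer_fintype fun n hn => ⟨Subgroup.mul_mem _ (Subgroup.mul_mem _ hg hn.1) (Subgroup.inv_mem _ hg), ?_⟩
    exact (mem_normalizer_iff.mp (hJN (le_normalizer_map M.subtype (mem_map_of_mem _ hg))) (n : G)).mp hn.2
  · obtain ⟨k, hk⟩ := hNp (n : G) hn.2
    exact ⟨k, mem_centralizer_iff.mpr fun v hv =>
      Subtype.ext (mem_centralizer_iff.mp hk (v : G) ⟨v, hv, rfl⟩)⟩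

theorem exists_pGroup_map (N : Subgroup G) [N.Normal] {Q₁ : Subgroup (G ⧸ N)}
    (hQ₁ : IsPGroup p Q₁) :
    ∃ P : Subgroup G, IsPGroup p P ∧ P.map (QuotientGroup.mk' N) = Q₁ := by
  set π := QuotientGroup.mk' N
  obtain ⟨P⟩ : Nonempty (Sylow p (Q₁.comap π)) := inferInstance
  let f : Q₁.comap π →* Q₁ := π.subgroupComap Q₁
  have hf : Function.Surjective f := fun ⟨y, hy⟩ => by
    obtain ⟨x, rfl⟩ := QuotientGroup.mk'_surjective N y
    exact ⟨⟨x, hy⟩, rfl⟩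
  have htop : ((P.mapSurjective hf : Sylow p Q₁) : Subgroup Q₁) = ⊤ :=
    ((P.mapSurjective hf).3 (hQ₁.to_subgroup ⊤) le_top).symm
  rw [Sylow.coe_mapSurjective] at htop
  refine ⟨(P : Subgroup (Q₁.comap π)).map (Q₁.comap π).subtype, P.2.map _, le_antisymm ?_ ?_⟩
  · rintro _ ⟨_, ⟨x, -, rfl⟩, rfl⟩
    exact x.2
  · intro y hy
    obtain ⟨x, hx, he⟩ := htop.symm ▸ mem_top (⟨y, hy⟩ : Q₁)
    exact ⟨x, ⟨x, hx, rfl⟩, congrArg Subtype.val he⟩

theorem StabP.quot_coprime (h : StabP p G) (N : Subgroup G) [N.Normal]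
    (hN : (Nat.card N).Coprime p) : StabP p (G ⧸ N) := by
  intro Q₁ hQ₁ x₁ hx₁ hq
  obtain ⟨P, hP, rfl⟩ := exists_pGroup_map N hQ₁
  set π := QuotientGroup.mk' N
  have hmap := Components.map_normalizer_of_coprime hN hP
  rw [← hmap] at hx₁ ⊢
  obtain ⟨x, hx, rfl⟩ := hx₁
  have hbot := Components.inf_eq_bot_of_coprime_isPGroup hN hP
  obtain ⟨K, hKJ, hJK, hxK, hKp⟩ := h P hP x hx fun v hv => by
    have h1 : ⁅x, ⁅x, v⁆⁆ ∈ N ⊓ P := by
      have hxP : ∀ {a : G}, a ∈ P → ⁅x, a⁆ ∈ P := fun ha =>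
        P.mul_mem ((mem_normalizer_iff.mp hx _).mp ha) (P.inv_mem ha)
      refine mem_inf.mpr ⟨comm_iff_quot.mp ?_, hxP (hxP hv)⟩
      have h2 := hq (π v) ⟨v, hv, rfl⟩
      rwa [← map_inv, ← map_inv, ← map_mul, ← map_mul, ← map_mul] at h2
    rw [hbot, mem_bot, commutatorElement_eq_one_iff_commute] at h1
    exact h1
  refine ⟨K.map π, map_mono hKJ, (map_mono hJK).trans (le_normalizer_map π), ⟨x, hxK, rfl⟩, ?_⟩
  rintro _ ⟨n, hn, rfl⟩
  obtain ⟨k, hk⟩ := hKp n hn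
  refine ⟨k, mem_centralizer_iff.mpr ?_⟩
  rintro _ ⟨v, hv, rfl⟩
  rw [← map_pow, ← map_mul, ← map_mul, mem_centralizer_iff.mp hk v hv]

theorem StabP.quot_central (hp2 : p ≠ 2) (h : StabP p G) (N : Subgroup G) [N.Normal]
    (hNp : IsPGroup p N) (hNc : ∀ z : G, (orderOf z).Coprime p → ∀ a ∈ N, Commute z a) :
    StabP p (G ⧸ N) := by
  intro Q₁ hQ₁ x₁ hx₁ hq
  by_contra hn
  set π := QuotientGroup.mk' N
  set Q := Q₁.comap π with hQ
  have hQp : IsPGroup p Q :=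
    hQ₁.comap_of_ker_isPGroup π (by rw [QuotientGroup.ker_mk']; exact hNp)
  have hnorm : ∀ {a : G}, π a ∈ normalizer (Q₁ : Set (G ⧸ N)) → a ∈ normalizer (Q : Set G) := by
    intro a ha
    refine mem_normalizer_fintype fun v hv => ?_
    show π (a * v * a⁻¹) ∈ Q₁
    rw [map_mul, map_mul, map_inv]
    exact (mem_normalizer_iff.mp ha (π v)).mp hv
  -- Baer-Suzuki
  set J := normalizer (Q₁ : Set (G ⧸ N)) with hJ
  set C := centralizer (Q₁ : Set (G ⧸ N)) with hC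
  haveI hCn : (C.subgroupOf J).Normal := ⟨fun c hc g =>
    (mem_normalizer_iff.mp (normalizer_le_normalizer_centralizer' Q₁ g.2) _).mp hc⟩
  set ρ := QuotientGroup.mk' (C.subgroupOf J)
  set xJ : J := ⟨x₁, hx₁⟩ with hxJ
  obtain ⟨g, hg⟩ : ∃ g : J, ¬ IsPGroup p
      ↥(closure ({ρ xJ, ρ g * ρ xJ * (ρ g)⁻¹} : Set (↥J ⧸ C.subgroupOf J))) := by
    by_contra hne
    push Not at hne
    obtain ⟨M, hMn, hMp, hxM⟩ := Invol.baerSuzuki_element (p := p) (x := ρ xJ) fun q => by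
      obtain ⟨g, rfl⟩ := QuotientGroup.mk'_surjective _ q
      exact hne g
    refine hn ⟨(M.comap ρ).map J.subtype, map_subtype_le _, fun j hj => ?_, ⟨xJ, hxM, rfl⟩, ?_⟩
    · refine mem_normalizer_fintype ?_
      rintro _ ⟨m, hm, rfl⟩
      exact ⟨⟨j, hj⟩ * m * ⟨j, hj⟩⁻¹, (inferInstance : (M.comap ρ).Normal).conj_mem m hm _, rfl⟩
    · rintro _ ⟨m, hm, rfl⟩
      obtain ⟨k, hk⟩ := hMp ⟨_, hm⟩
      refine ⟨k, ?_⟩
      have h1 : ρ (m ^ p ^ k) = 1 := by rw [map_pow]; exact congrArg Subtype.val hk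
      have h2 := (QuotientGroup.eq_one_iff _).mp h1
      simpa [mem_subgroupOf] using h2
  obtain ⟨x, hxπ⟩ := QuotientGroup.mk'_surjective N x₁
  obtain ⟨a, haπ⟩ := QuotientGroup.mk'_surjective N (g : G ⧸ N)
  have hquad : ∀ v ∈ Q, ⁅x, ⁅x, v⁆⁆ ∈ N := fun v hv => by
    refine comm_iff_quot.mp ?_
    have h2 := hq (π v) hv
    rw [← hxπ, ← map_inv, ← map_inv, ← map_mul, ← map_mul, ← map_mul] at h2
    exact h2
  have haQ : ∀ v ∈ Q, a * v * a⁻¹ ∈ Q := fun v hv =>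
    (mem_normalizer_iff.mp (hnorm (haπ ▸ g.2)) v).mp hv
  have hquad' : ∀ v ∈ Q, ⁅a * x * a⁻¹, ⁅a * x * a⁻¹, v⁆⁆ ∈ N := fun v hv => by
    have hv' : a⁻¹ * v * a ∈ Q := by
      have := (mem_normalizer_iff.mp (inv_mem (hnorm (haπ ▸ g.2))) v).mp hv
      simpa using this
    have h1 := (inferInstance : N.Normal).conj_mem _ (hquad _ hv') a
    convert h1 using 1
    simp only [commutatorElement_def]
    group
  have hxn : x ∈ normalizer (Q : Set G) := hnorm (hxπ ▸ hx₁)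
  have han : a ∈ normalizer (Q : Set G) := hnorm (haπ ▸ g.2)
  obtain ⟨w, hw, hwp⟩ : ∃ w ∈ closure ({x, a * x * a⁻¹} : Set G),
      ∀ k, π w ^ p ^ k ∉ C := by
    simp only [IsPGroup, not_forall, not_exists] at hg
    obtain ⟨⟨q, hq'⟩, hqk⟩ := hg
    rw [← map_inv, ← map_mul, ← map_mul, ← Set.image_pair, ← MonoidHom.map_closure] at hq'
    obtain ⟨w₁, hw₁, rfl⟩ := hq'
    have h2 : (w₁ : G ⧸ N) ∈ (closure ({x, a * x * a⁻¹} : Set G)).map π := by
      have h3 := mem_map_of_mem J.subtype hw₁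
      rw [MonoidHom.map_closure, Set.image_pair] at h3
      rw [MonoidHom.map_closure, Set.image_pair, map_mul, map_mul, map_inv, hxπ, haπ]
      exact h3
    obtain ⟨w, hw, he⟩ := h2
    refine ⟨w, hw, fun k hk => hqk k (Subtype.ext ?_)⟩
    show ρ w₁ ^ p ^ k = 1
    rw [← map_pow]
    refine (QuotientGroup.eq_one_iff _).mpr ?_
    rw [mem_subgroupOf, SubmonoidClass.coe_pow, ← he]
    exact hk
  obtain ⟨α, m, hm, hαm⟩ := Nat.exists_eq_pow_mul_and_not_dvd (orderOf_pos w).ne' p hp.out.ne_one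
  refine not_wit hp2 h N hNc Q x (a * x * a⁻¹) ⟨hQp, hxn,
    mul_mem (mul_mem han hxn) (inv_mem han), hquad, hquad', w ^ p ^ α,
    pow_mem hw _, ?_, ?_⟩
  · refine Nat.Coprime.coprime_dvd_left ?_ ((hp.out.coprime_iff_not_dvd.mpr hm).symm)
    exact orderOf_dvd_of_pow_eq_one (by rw [← pow_mul, ← hαm, pow_orderOf_eq_one])
  · by_contra hne
    push Not at hne
    refine hwp α (mem_centralizer_iff.mpr fun v hv => ?_)
    obtain ⟨v, rfl⟩ := QuotientGroup.mk'_surjective N v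
    rw [← map_pow, ← map_mul, ← map_mul, (hne v hv).eq]

theorem StabP.pStableElts (h : StabP p G) : PStableElts p G := fun V _ hV a _ hq => by
  have hJ : normalizer (V : Set G) = ⊤ := normalizer_eq_top_iff.mpr inferInstance
  have h1 := h V hV a (hJ ▸ mem_top a) ((quad_iff V a).mp hq)
  rw [hJ] at h1
  exact mk_mem_pCore_of_opMod h1

/-- `Z(J)` controls fusion in stable groups. -/
theorem goodZJ_of_stabP (hp2 : p ≠ 2) : ∀ (n : ℕ) (X : Type u) [Group X] [Finite X],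
    Nat.card X ≤ n → StabP p X → GoodZJ p 0 X := by
  intro n
  induction n with
  | zero => intro X _ _ hc; exact absurd hc (Nat.not_le.mpr Nat.card_pos)
  | succ n ih =>
    intro X _ _ hc h
    refine goodZJ_step' hp2 (Or.inl rfl) h.pStableElts (fun M hM => ih M ?_ (h.subgroup M))
      (fun N _ hN hNc => ih _ ?_ (h.quot_coprime N hNc))
      (fun N _ hN hNp hNcen => ih _ ?_ (h.quot_central hp2 N hNp hNcen))
    · have := (Subgroup.card_le_card_group M).lt_of_ne fun e => hM (eq_top_of_card_eq M e)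
      omega
    all_goals
      have h2 : 2 ≤ Nat.card N := by
        haveI : Nontrivial N := (nontrivial_iff_ne_bot N).mpr hN
        exact Finite.one_lt_card
      have h3 := Subgroup.card_eq_card_quotient_mul_card_subgroup N
      have h4 : 2 * Nat.card (X ⧸ N) ≤ Nat.card X := by
        rw [h3, mul_comm 2]; exact Nat.mul_le_mul_left _ h2
      omega

theorem stabP_of_fusion (S : Sylow p G)
    (hst : ∀ Q : Subgroup G, (groupFusionSystem (S : Subgroup G)).IsFullyNormalized Q →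
      ∀ χ : MulAut ↥Q, χ ∈ (groupFusionSystem (S : Subgroup G)).autGroup Q →
        (∀ a : ↥Q, (χ a⁻¹) * a * (χ a⁻¹) * (χ (χ a)) = 1) →
        χ ∈ (Cfsg.pCore p ↥((groupFusionSystem (S : Subgroup G)).autGroup Q)).map
          ((groupFusionSystem (S : Subgroup G)).autGroup Q).subtype) : StabP p G := by
  intro Q hQ x hx hq
  obtain ⟨T, hT⟩ := hQ.exists_le_sylow
  obtain ⟨b, hb⟩ := MulAction.exists_smul_eq G T S
  have hQ₀ : Q.map (MulAut.conj b).toMonoidHom ≤ (S : Subgroup G) := by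
    rintro _ ⟨q, hq, rfl⟩
    rw [← hb]
    exact Subgroup.smul_mem_pointwise_smul _ _ _ (hT hq)
  obtain ⟨g, hgS, hgSyl⟩ := exists_conj_isSylowIn S hQ₀
  set c := MulAut.conj (g * b)
  have hR : (Q.map (MulAut.conj b).toMonoidHom).map (MulAut.conj g).toMonoidHom =
      Q.map c.toMonoidHom := by
    rw [Subgroup.map_map]
    exact congrArg (fun f => Q.map f) (MonoidHom.ext fun z => by simp [c, mul_assoc])
  rw [hR] at hgS hgSyl
  set R := Q.map c.toMonoidHom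
  have hfn := (isFullyNormalized_gfs_iff S hgS).mpr hgSyl
  have hxR : c x ∈ normalizer (R : Set G) := le_normalizer_map c.toMonoidHom ⟨x, hx, rfl⟩
  set y := c x with hy
  set φ := R.normalizerMonoidHom
  set A := (groupFusionSystem (S : Subgroup G)).autGroup R
  have hAmem : ∀ z : normalizer (R : Set G), φ z ∈ A := fun z => by
    show φ z ∈ (groupFusionSystem (S : Subgroup G)).autGroup R
    rw [autGroup_gfs hgS, mem_autInducedBy_iff_cj]
    exact ⟨z, mem_top _, fun v hv => by rw [autFun_apply _ hv]; rfl⟩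
  have hχ := hst R hfn (φ ⟨y, hxR⟩) (hAmem _) (by
    rintro ⟨_, v, hv, rfl⟩
    refine Subtype.ext ?_
    show (c x * (c v)⁻¹ * (c x)⁻¹) * c v * (c x * (c v)⁻¹ * (c x)⁻¹) *
      (c x * (c x * c v * (c x)⁻¹) * (c x)⁻¹) = 1
    simp only [← map_inv, ← map_mul]
    rw [← map_one c]
    congr 1
    have h1 := (hq v⁻¹ (Q.inv_mem hv)).eq
    rw [inv_inv] at h1
    calc x * v⁻¹ * x⁻¹ * v * (x * v⁻¹ * x⁻¹) * (x * (x * v * x⁻¹) * x⁻¹)
        = (x * v⁻¹ * x⁻¹ * v) * x * (x * v⁻¹ * x⁻¹ * v)⁻¹ * x⁻¹ := by group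
      _ = 1 := by rw [← h1]; group)
  obtain ⟨χ', hχ', he⟩ := hχ
  let ψ : normalizer (R : Set G) →* A := φ.codRestrict A hAmem
  have hyψ : (⟨y, hxR⟩ : normalizer (R : Set G)) ∈ (Cfsg.pCore p A).comap ψ := by
    show ψ ⟨y, hxR⟩ ∈ Cfsg.pCore p A
    rw [show ψ ⟨y, hxR⟩ = χ' from Subtype.ext he.symm]
    exact hχ'
  refine ⟨(((Cfsg.pCore p A).comap ψ).map (normalizer (R : Set G)).subtype).comap c.toMonoidHom,
    ?_, ?_, ⟨_, hyψ, rfl⟩, ?_⟩
  · intro n hn
    obtain ⟨⟨m, hm⟩, -, hmn⟩ := hn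
    have hmn' : m = c n := hmn
    subst hmn'
    refine mem_normalizer_fintype fun v hv => ?_
    have h1 := (mem_normalizer_iff.mp hm (c v)).mp ⟨v, hv, rfl⟩
    rw [← map_inv, ← map_mul, ← map_mul] at h1
    obtain ⟨w, hw, hwe⟩ := h1
    exact c.injective hwe ▸ hw
  · intro j hj
    refine mem_normalizer_fintype ?_
    rintro n ⟨m, hm, hmn⟩
    haveI := LocalEvenA.pCore_normal' p A
    refine ⟨⟨c j, le_normalizer_map c.toMonoidHom ⟨j, hj, rfl⟩⟩ * m *
      ⟨c j, le_normalizer_map c.toMonoidHom ⟨j, hj, rfl⟩⟩⁻¹,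
      (inferInstance : ((Cfsg.pCore p A).comap ψ).Normal).conj_mem m hm _, ?_⟩
    have hmn' : (m : G) = c n := hmn
    show c j * (m : G) * (c j)⁻¹ = c (j * n * j⁻¹)
    rw [hmn', map_mul, map_mul, map_inv]
  · rintro n ⟨m, hm, hmn⟩
    have hmn' : (m : G) = c n := hmn
    obtain ⟨k, hk⟩ := Basics.pCore_isPGroup (G := A) p ⟨_, hm⟩
    refine ⟨k, mem_centralizer_iff.mpr fun v hv => ?_⟩
    have h1 : φ (m ^ p ^ k) = 1 := by
      rw [map_pow]
      exact congrArg Subtype.val (congrArg Subtype.val hk)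
    have h2 := congrArg Subtype.val (DFunLike.congr_fun h1 (⟨c v, v, hv, rfl⟩ : R))
    change ((m ^ p ^ k : normalizer (R : Set G)) : G) * c v *
      ((m ^ p ^ k : normalizer (R : Set G)) : G)⁻¹ = c v at h2
    rw [SubmonoidClass.coe_pow, hmn', ← map_pow, ← map_inv, ← map_mul, ← map_mul] at h2
    exact (mul_inv_eq_iff_eq_mul.mp (c.injective h2)).symm

theorem core_ne_bot_of_stable (hp2 : p ≠ 2) (S : Sylow p G) (hS1 : (S : Subgroup G) ≠ ⊥)
    (h : StabP p G) : (groupFusionSystem (S : Subgroup G)).core ≠ ⊥ := by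
  set W := ZJAb 0 (S : Subgroup G)
  have hW : W ≠ ⊥ := ZJAb_ne_bot (Or.inl rfl) S.2 hS1
  have hgood := goodZJ_of_stabP hp2 _ G le_rfl h S (S : Subgroup G) ⟨le_rfl, fun d hd g hg => hg⟩
  have hWS : W ≤ (S : Subgroup G) := ZJAb_le _
  refine fun hc => hW (le_bot_iff.mp (hc ▸ le_core (isNormal_iff.mpr ⟨hWS, fun P f hf => ?_⟩)))
  obtain ⟨hP, g, hg⟩ := mapTo_gfs_iff.mp hf
  obtain ⟨k, hk, hkg⟩ := hgood P g hP (by
    rintro _ ⟨x, hx, rfl⟩
    obtain ⟨h1, h2⟩ := hg x hx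
    exact h2)
  have hmapS : ∀ x ∈ P ⊔ W, k * x * k⁻¹ ∈ (S : Subgroup G) := by
    intro x hx
    have hle : P ⊔ W ≤ ((S : Subgroup G)).comap (MulAut.conj k).toMonoidHom := by
      refine sup_le (fun y hy => ?_) fun y hy => hWS ((mem_normalizer_iff.mp hk y).mp hy)
      show k * y * k⁻¹ ∈ (S : Subgroup G)
      rw [hkg y hy]; exact (hg y hy).2
    exact hle hx
  have hm := mapTo_gfs_cj (sup_le hP hWS) hmapS
  refine ⟨cj k, hm, fun x hx => by rw [cj_apply, hkg x hx, (hg x hx).1], ?_⟩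
  exact img_eq_self_of_forall (hm.restrict le_sup_right) fun x hx =>
    (mem_normalizer_iff.mp hk x).mp hx

end Cfsg.Agent.Fusion
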