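import Cfsg.Agent.Lib.Fusion.Transfer
import Cfsg.Agent.Lib.Fusion.Centric

/-!
Tate's theorem for a saturated system and a subsystem over the same subgroup.
-/

set_option autoImplicit false

namespace Cfsg.Agent.Fusion

open Cfsg.FusionSystem (centralizerIn normalizerIn)
open scoped commutatorElement

universe u

variable {Ω : Type u} [Group Ω] {S : Subgroup Ω} {F : FusionSystem S} {p : ℕ}

theorem exists_central_index_p_above {G : Type*} [Group G] [Finite G] [Fact p.Prime]
    (hG : IsPGroup p G) (L K : Subgroup G) [L.Normal] [K.Normal] (hK : L < K) :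
    ∃ (N : Subgroup G) (_ : N.Normal), L ≤ N ∧ N ≤ K ∧ Nat.card (K.map (QuotientGroup.mk' N)) = p ∧
      K.map (QuotientGroup.mk' N) ≤ Subgroup.center (G ⧸ N) := by
  have hfin : Set.Finite {N : Subgroup G | N.Normal ∧ L ≤ N ∧ N < K} :=
    (Set.toFinite (Set.univ : Set (Subgroup G))).subset (Set.subset_univ _)
  obtain ⟨N, ⟨hNn, hLN, hNK⟩, hmax⟩ :=
    hfin.exists_maximal ⟨L, inferInstance, le_rfl, hK⟩
  refine ⟨N, hNn, hLN, hNK.le, ?_⟩
  set π := QuotientGroup.mk' N with hπ
  set Kb := K.map π with hKb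
  have hKbn : Kb.Normal :=
    (inferInstance : K.Normal).map π (QuotientGroup.mk'_surjective N)
  have hKbne : Kb ≠ ⊥ := fun h => hNK.not_ge fun x hx => by
    have : π x ∈ Kb := ⟨x, hx, rfl⟩
    rw [h, Subgroup.mem_bot] at this
    exact (QuotientGroup.eq_one_iff x).mp this
  have : Nontrivial Kb := (Subgroup.nontrivial_iff_ne_bot Kb).mpr hKbne
  have hc : ∃ z ∈ Kb, z ∈ Subgroup.center (G ⧸ N) ∧ orderOf z = p := by
    have hne : Kb ⊓ Subgroup.center (G ⧸ N) ≠ ⊥ := by
      intro hbot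
      have hQ : IsPGroup p (ConjAct (G ⧸ N)) :=
        (hG.to_quotient N).of_equiv (ConjAct.toConjAct (G := G ⧸ N))
      have hone : (1 : Kb) ∈ MulAction.fixedPoints (ConjAct (G ⧸ N)) Kb := fun c =>
        Subtype.ext (by rw [ConjAct.Subgroup.val_conj_smul, Subgroup.coe_one, smul_one])
      have hdvd : p ∣ Nat.card Kb := by
        obtain ⟨n, hn⟩ := ((hG.to_quotient N).to_subgroup Kb).exists_card_eq
        rcases n with _ | n
        · exact absurd (Subgroup.card_eq_one.mp (by rw [hn, pow_zero])) hKbne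
        · exact hn ▸ dvd_pow_self p (Nat.succ_ne_zero n)
      obtain ⟨b, hb, hb1⟩ := hQ.exists_fixed_point_of_prime_dvd_card_of_fixed_point Kb hdvd hone
      refine hb1 (Subtype.ext (Subgroup.mem_bot.mp (hbot.le ⟨b.2, ?_⟩)).symm)
      refine Subgroup.mem_center_iff.mpr fun g => ?_
      have h1 := congrArg Subtype.val (hb (ConjAct.toConjAct g))
      rw [ConjAct.Subgroup.val_conj_smul, ConjAct.smul_def, ConjAct.ofConjAct_toConjAct,
        mul_inv_eq_iff_eq_mul] at h1
      exact h1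
    obtain ⟨y, hy, hy1⟩ := (Subgroup.bot_or_exists_ne_one _).resolve_left hne
    obtain ⟨k, hk⟩ := isPGroup_iff_orderOf_dvd_pow.mp (hG.to_quotient N) y
    obtain ⟨j, -, hj⟩ := (Nat.dvd_prime_pow Fact.out).mp hk
    have hjpos : j ≠ 0 := fun h => hy1 (orderOf_eq_one_iff.mp (by rw [hj, h, pow_zero]))
    refine ⟨y ^ p ^ (j - 1), (Kb.pow_mem hy.1 _), (Subgroup.center _).pow_mem hy.2 _, ?_⟩
    rw [orderOf_pow, hj, Nat.gcd_eq_right (pow_dvd_pow p (by omega)),
      Nat.pow_div (by omega) (Fact.out : p.Prime).pos,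
      show j - (j - 1) = 1 by omega, pow_one]
  obtain ⟨z, hzK, hzC, hz⟩ := hc
  have hzn : (Subgroup.zpowers z).Normal := ⟨fun a ha g => by
    have ha' : a ∈ Subgroup.center (G ⧸ N) := (Subgroup.zpowers_le.mpr hzC) ha
    rwa [Subgroup.mem_center_iff.mp ha' g, mul_inv_cancel_right]⟩
  set M := (Subgroup.zpowers z).comap π with hM
  have hNM : N ≤ M := fun x hx => by
    show π x ∈ Subgroup.zpowers z
    rw [show π x = 1 from (QuotientGroup.eq_one_iff x).mpr hx]
    exact Subgroup.one_mem _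
  have hMK : M ≤ K := fun x hx => by
    obtain ⟨k, hk, hkx⟩ := (Subgroup.zpowers_le.mpr hzK) (hx : π x ∈ Subgroup.zpowers z)
    have := K.mul_mem hk (hNK.le (QuotientGroup.eq.mp hkx))
    rwa [mul_inv_cancel_left] at this
  have hMeq : M = K := by
    by_contra hne
    have hle := hmax ⟨hzn.comap π, hLN.trans hNM, lt_of_le_of_ne hMK hne⟩ hNM
    obtain ⟨x, rfl⟩ := QuotientGroup.mk'_surjective N z
    have hx : x ∈ N := hle (show π x ∈ _ from Subgroup.mem_zpowers _)
    have : orderOf (π x) = 1 := orderOf_eq_one_iff.mpr ((QuotientGroup.eq_one_iff x).mpr hx)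
    rw [hz] at this
    exact (Fact.out : p.Prime).one_lt.ne' this
  have hKb' : Kb = Subgroup.zpowers z := by
    rw [hKb, ← hMeq, hM, Subgroup.map_comap_eq_self_of_surjective (QuotientGroup.mk'_surjective N)]
  refine ⟨by rw [hKb', Nat.card_zpowers, hz], hKb' ▸ Subgroup.zpowers_le.mpr hzC⟩

/-- Fusion form of Tate's theorem: if the hyperfocal subgroup lies in `Φ(S)` it is trivial. -/
theorem hyperfocal_eq_of_le_sup_frattini [Finite S] [Fact p.Prime] (hS : IsPGroup p S)
    (hF : F.IsSaturated p) {E : FusionSystem S} (hEF : E ≤ F)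
    (h : F.hyperfocalSubgroup p ≤ E.hyperfocalSubgroup p ⊔ (frattini S).map S.subtype) :
    F.hyperfocalSubgroup p = E.hyperfocalSubgroup p := by
  classical
  by_contra hne
  have hauto : ∀ {P : Subgroup Ω}, P ≤ S → ∀ {α : MulAut P}, α ∈ E.autGroup P → α ∈ F.autGroup P :=
    fun hP _ hα => (mem_autGroup_iff hP).mpr
      ((le_iff_mapTo.mp hEF) _ _ (mapTo_of_mem_autGroup hP hα))
  have hLH : E.hyperfocalSubgroup p ≤ F.hyperfocalSubgroup p :=
    hyperfocal_le_iff.mpr fun P hP => oP_induction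
      (C := fun α => ∀ x ∈ P, x⁻¹ * autFun α x ∈ F.hyperfocalSubgroup p)
      (fun x hx => by rw [autFun_one hx, inv_mul_cancel]; exact Subgroup.one_mem _)
      (fun a b _ _ ha hb x hx => by
        have h1 := Subgroup.mul_mem _ (hb x hx) (ha _ (autFun_mem b hx))
        rw [autFun_mul _ _ hx]
        rwa [mul_assoc, mul_inv_cancel_left] at h1)
      (fun a _ ha x hx => by
        have h1 := Subgroup.inv_mem _ (ha _ (autFun_mem a⁻¹ hx))
        rwa [autFun_autFun_inv a hx, mul_inv_rev, inv_inv] at h1)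
      fun a ha hcop x hx => mem_hyperfocal hP (mem_oP_of_coprime (hauto hP ha) hcop) hx
  set H := F.hyperfocalSubgroup p with hH
  set LE := E.hyperfocalSubgroup p with hLE
  set K : Subgroup S := H.subgroupOf S with hK
  have hmK : ∀ {s : S}, s ∈ K ↔ (s : Ω) ∈ H := Subgroup.mem_subgroupOf
  have : K.Normal := ⟨fun n hn g => hmK.mpr (hyperfocal_conj_mem g.2 (hmK.mp hn))⟩
  have : (LE.subgroupOf S).Normal :=
    ⟨fun n hn g => Subgroup.mem_subgroupOf.mpr
      (hyperfocal_conj_mem g.2 (Subgroup.mem_subgroupOf.mp hn))⟩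
  obtain ⟨N, hNn, hLN, hNK, hcard, hcen⟩ := exists_central_index_p_above hS (LE.subgroupOf S) K
    (lt_of_le_of_ne (Subgroup.comap_mono hLH) fun hb => hne (by
      rw [hH, hLE, ← Subgroup.map_subgroupOf_eq_of_le (hyperfocal_le (F := F) (p := p)), ← hH,
        ← hK, ← hb, Subgroup.map_subgroupOf_eq_of_le (hLH.trans hyperfocal_le), ← hLE]))
  set π := QuotientGroup.mk' N with hπ
  let Kb := K.map π
  have : IsCyclic Kb := isCyclic_of_prime_card hcard
  let : CommGroup Kb := { (inferInstance : Group Kb) with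
    mul_comm := fun a b => Subtype.ext (Subgroup.mem_center_iff.mp (hcen b.2) a) }
  have hexp : ∀ a : Kb, a ^ p = 1 := fun a =>
    orderOf_dvd_iff_pow_eq_one.mp (hcard ▸ orderOf_dvd_natCard a)
  -- a section of `S ⧸ K`
  let sec : S ⧸ K → S := fun w => w.out * (Quotient.out (1 : S ⧸ K))⁻¹
  have hsec1 : sec 1 = 1 := mul_inv_cancel _
  have hsec : ∀ g : S, g * (sec g)⁻¹ ∈ K := fun g => by
    rw [← QuotientGroup.eq_one_iff, QuotientGroup.mk_mul, QuotientGroup.mk_inv,
      QuotientGroup.mk_mul, QuotientGroup.mk_inv, QuotientGroup.out_eq', QuotientGroup.out_eq']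
    group
  let lam : S → Kb := fun g => ⟨π (g * (sec g)⁻¹), ⟨_, hsec g, rfl⟩⟩
  have hlamK : ∀ k ∈ K, (lam k : S ⧸ N) = π k := fun k hk => by
    show π (k * (sec (k : S ⧸ K))⁻¹) = π k
    rw [(QuotientGroup.eq_one_iff k).mpr hk, hsec1, inv_one, mul_one]
  let lt : S → Additive Kb := fun g => Additive.ofMul (lam g)
  have hl : ∀ k ∈ K, ∀ g, lt (k * g) = lt k + lt g := fun k hk g => by
    refine congrArg Additive.ofMul (Subtype.ext ?_)
    show π (k * g * (sec ((k * g : S) : S ⧸ K))⁻¹) = (lam k : S ⧸ N) * π (g * (sec g)⁻¹)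
    rw [hlamK k hk, QuotientGroup.mk_mul, (QuotientGroup.eq_one_iff k).mpr hk, one_mul,
      mul_assoc, _root_.map_mul]
  have hr : ∀ k ∈ K, ∀ g, lt (g * k) = lt g + lt k := fun k hk g => by
    refine congrArg Additive.ofMul (Subtype.ext ?_)
    show π (g * k * (sec ((g * k : S) : S ⧸ K))⁻¹) = π (g * (sec g)⁻¹) * (lam k : S ⧸ N)
    rw [hlamK k hk, QuotientGroup.mk_mul, (QuotientGroup.eq_one_iff k).mpr hk, mul_one,
      _root_.map_mul, _root_.map_mul, _root_.map_mul, mul_assoc, mul_assoc]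
    congr 1
    exact (Subgroup.mem_center_iff.mp (hcen ⟨k, hk, rfl⟩) _).symm
  -- every map is conjugation modulo `H`
  have hconj : ∀ {P : Subgroup Ω} {f : Ω → Ω}, MapTo F P f →
      ∃ c : S, ∀ x ∈ P, (f x)⁻¹ * ((c : Ω) * x * (c : Ω)⁻¹) ∈ H := by
    intro P f hf
    refine alperin_prop hS hF
      (fun P f => ∃ c : S, ∀ x ∈ P, (f x)⁻¹ * ((c : Ω) * x * (c : Ω)⁻¹) ∈ H) ?_ ?_ ?_ ?_ ?_ hf
    · rintro P f g _ ⟨c, hc⟩ hg
      exact ⟨c, fun x hx => by rw [hg x hx]; exact hc x hx⟩
    · intro P g hP hg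
      exact ⟨⟨g, hg⟩, fun x _ => (inv_mul_cancel (g * x * g⁻¹)).symm ▸ H.one_mem⟩
    · rintro P Q f g hf' hg' hm ⟨c, hc⟩ ⟨d, hd⟩
      refine ⟨d * c, fun x hx => ?_⟩
      have h1 := H.mul_mem (hd _ (hm x hx)) (hyperfocal_conj_mem d.2 (hc x hx))
      convert h1 using 1
      rw [Subgroup.coe_mul]
      group
    · rintro P f g hf' hg' hgf ⟨c, hc⟩
      refine ⟨c⁻¹, fun y hy => ?_⟩
      obtain ⟨x, hx, rfl⟩ := (hf'.mem_img_iff le_rfl).mp hy
      rw [hgf x hx]
      have h1 := hyperfocal_conj_mem (S.inv_mem c.2)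
        (hyperfocal_conj_mem (hf'.mem hx) (H.inv_mem (hc x hx)))
      have h2 := hyperfocal_conj_mem (S.inv_mem (hf'.le hx)) h1
      convert h2 using 1
      rw [Subgroup.coe_inv]
      group
    · intro Q hQ α hα
      have hQn := isFullyNormalized_of_eq_top_or_essential hQ
      obtain ⟨β, hβ, c, hc, rfl⟩ := exists_eq_mul_of_isFullyNormalized hS hF hQn hα
      obtain ⟨s, hs, hsc⟩ := mem_autInducedBy_iff_cj.mp hc
      refine ⟨⟨s, hs⟩, fun x hx => ?_⟩
      rw [autFun_mul _ _ hx]
      set y := autFun c x with hy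
      have hyQ : y ∈ Q := autFun_mem c hx
      have h1 := H.inv_mem (mem_hyperfocal hQn.1 hβ hyQ)
      rw [mul_inv_rev, inv_inv] at h1
      rw [← cj_apply, ← hsc x hx]
      exact h1
  obtain ⟨q, T, hq, hT1, hT2, -⟩ := exists_fusion_transfer hS hF K lt hl hr fun P f hf => by
    obtain ⟨c, hc⟩ := hconj hf
    refine ⟨c⁻¹, fun a b ha hab => ?_⟩
    rw [eq_comm, QuotientGroup.eq, hmK]
    have h1 := hc a ha
    rw [hab] at h1
    have h2 : (c : Ω) * (a : Ω) * (c : Ω)⁻¹ * (b : Ω)⁻¹ ∈ H := by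
      have := hyperfocal_conj_mem b.2 h1
      rwa [mul_inv_cancel_left] at this
    convert h2 using 1
    push_cast
    group
  let μ : S →* Kb := MonoidHom.mk' (fun g => Additive.toMul (q • lt g - T g)) fun a b => by
    have h1 := hT1 a b
    rw [← toMul_add]
    congr 1
    rw [sub_sub, sub_eq_iff_eq_add, nsmul_sub, nsmul_sub] at h1
    rw [h1]; abel
  have hTK : ∀ {P : Subgroup Ω} {f : Ω → Ω} (hf : MapTo F P f) {x : Ω} (hx : x ∈ P),
      x ∈ H → f x ∈ H → T ⟨x, hf.le hx⟩ = T ⟨f x, hf.mem hx⟩ :=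
    fun {P f} hf {x} hx h1 h2 => hT2 P f hf x hx (hmK.mpr h1) (hmK.mpr h2)
  have hμL : LE.subgroupOf S ≤ μ.ker := by
    suffices hgen : LE ≤ μ.ker.map S.subtype by
      intro k hk
      obtain ⟨k', hk', hkk⟩ := hgen (Subgroup.mem_subgroupOf.mp hk)
      obtain rfl : k' = k := Subtype.ext hkk
      exact hk'
    refine hyperfocal_le_iff.mpr fun P hP => oP_induction
      (C := fun α => ∀ x ∈ P, x⁻¹ * autFun α x ∈ μ.ker.map S.subtype) ?_ ?_ ?_ ?_
    · intro x hx
      rw [autFun_one hx, inv_mul_cancel]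
      exact Subgroup.one_mem _
    · intro a b _ _ ha hb x hx
      have h1 := Subgroup.mul_mem _ (hb x hx) (ha _ (autFun_mem b hx))
      rw [autFun_mul _ _ hx]
      rwa [mul_assoc, mul_inv_cancel_left] at h1
    · intro a _ ha x hx
      have h1 := Subgroup.inv_mem _ (ha _ (autFun_mem a⁻¹ hx))
      rwa [autFun_autFun_inv a hx, mul_inv_rev, inv_inv] at h1
    · intro α hα hcop x hx
      have hαF := hauto hP hα
      have hm := mapTo_of_mem_autGroup hP hαF
      -- `μ` is invariant on the hyperfocal part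
      have hstab : ∀ y ∈ P, y ∈ H → autFun α y ∈ H := fun y hy hyH => by
        have h1 := H.mul_mem hyH (mem_hyperfocal hP (mem_oP_of_coprime hαF hcop) hy)
        rwa [mul_inv_cancel_left] at h1
      have hμinv : ∀ (y : Ω) (hy : y ∈ P), y ∈ H →
          μ ⟨autFun α y, hm.mem hy⟩ = μ ⟨y, hP hy⟩ := by
        intro y hy hyH
        have hπ : π (⟨autFun α y, hm.mem hy⟩ : S) = π (⟨y, hP hy⟩ : S) :=
          (QuotientGroup.eq.mpr (hLN (Subgroup.mem_subgroupOf.mpr
            (mem_hyperfocal hP (mem_oP_of_coprime hα hcop) hy)))).symm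
        have hlt : lt ⟨autFun α y, hm.mem hy⟩ = lt ⟨y, hP hy⟩ := by
          refine congrArg Additive.ofMul (Subtype.ext ?_)
          rw [hlamK _ (hmK.mpr (hstab y hy hyH)), hlamK _ (hmK.mpr hyH), hπ]
        show Additive.toMul (q • lt ⟨autFun α y, hm.mem hy⟩ - T ⟨autFun α y, hm.mem hy⟩) =
          Additive.toMul (q • lt ⟨y, hP hy⟩ - T ⟨y, hP hy⟩)
        rw [hlt, hTK hm hy hyH (hstab y hy hyH)]
      set d := x⁻¹ * autFun α x with hd
      have hdP : d ∈ P := P.mul_mem (P.inv_mem hx) (autFun_mem α hx)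
      have hdH : d ∈ H := mem_hyperfocal hP (mem_oP_of_coprime hαF hcop) hx
      let ψ : P →* Kb := μ.comp (Subgroup.inclusion hP)
      have hd' : ∀ n : ℕ, autFun (α ^ n) d ∈ H ∧
          ψ ⟨autFun (α ^ n) d, autFun_mem _ hdP⟩ = ψ ⟨d, hdP⟩ := by
        intro n
        induction n with
        | zero =>
          exact ⟨by rw [pow_zero, autFun_one hdP]; exact hdH,
            congrArg ψ (Subtype.ext (autFun_one hdP))⟩
        | succ n ih =>
          have he : autFun (α ^ (n + 1)) d = autFun α (autFun (α ^ n) d) := by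
            rw [pow_succ', autFun_mul _ _ hdP]
          refine ⟨he ▸ hstab _ (autFun_mem _ hdP) ih.1, ?_⟩
          refine Eq.trans ?_ ((hμinv _ (autFun_mem _ hdP) ih.1).trans ih.2)
          exact congrArg μ (Subtype.ext he)
      have hstep : ∀ n : ℕ, ψ ⟨autFun (α ^ n) x, autFun_mem _ hx⟩ =
          ψ ⟨x, hx⟩ * ψ ⟨d, hdP⟩ ^ n := by
        intro n
        induction n with
        | zero => simp only [pow_zero, mul_one]; exact congrArg ψ (Subtype.ext (autFun_one hx))
        | succ n ih =>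
            have he : (⟨autFun (α ^ (n + 1)) x, autFun_mem _ hx⟩ : P) =
                ⟨autFun (α ^ n) x, autFun_mem _ hx⟩ * ⟨autFun (α ^ n) d, autFun_mem _ hdP⟩ := by
              refine Subtype.ext ?_
              show autFun (α ^ (n + 1)) x = autFun (α ^ n) x * autFun (α ^ n) d
              rw [← (mapTo_of_mem_autGroup hP (Subgroup.pow_mem _ hαF n)).map_mul hx hdP, hd,
                mul_inv_cancel_left, pow_succ, autFun_mul _ _ hx]
            rw [he, _root_.map_mul, ih, (hd' n).2, pow_succ, mul_assoc]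
      have h1 := hstep (orderOf α)
      rw [show (⟨autFun (α ^ orderOf α) x, autFun_mem _ hx⟩ : P) = ⟨x, hx⟩ from
        Subtype.ext (by show autFun _ x = x; rw [pow_orderOf_eq_one, autFun_one hx])] at h1
      have h2 : ψ ⟨d, hdP⟩ = 1 := orderOf_eq_one_iff.mp
        (Nat.eq_one_of_dvd_coprimes hcop (orderOf_dvd_of_pow_eq_one (by simpa using h1))
          (orderOf_dvd_of_pow_eq_one (hexp _)))
      exact ⟨⟨d, hP hdP⟩, h2, rfl⟩
  have hμ : K ≤ μ.ker := fun k hk => by
    have hle : LE ⊔ (frattini S).map S.subtype ≤ μ.ker.map S.subtype := sup_le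
      (by rw [← Subgroup.map_subgroupOf_eq_of_le (hLH.trans hyperfocal_le : LE ≤ S)]
          exact Subgroup.map_mono hμL)
      (Subgroup.map_mono (frattini_le_ker Fact.out μ hexp))
    obtain ⟨k', hk', hkk⟩ := hle (h (hmK.mp hk))
    obtain rfl : k' = k := Subtype.ext hkk
    exact hk'
  have hinv : ∀ {P : Subgroup Ω} {f : Ω → Ω} (hf : MapTo F P f) {x : Ω} (hx : x ∈ P) (hxH : x ∈ H)
      (hfxH : f x ∈ H),
      π (⟨x, hf.le hx⟩ : S) = π (⟨f x, hf.mem hx⟩ : S) := by
    intro P f hf x hx hxH hfxH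
    have hT := hT2 P f hf x hx (hmK.mpr hxH) (hmK.mpr hfxH)
    have hk : ∀ k ∈ K, T k = q • lt k := fun k hk => by
      have h1 : q • lt k - T k = 0 := hμ hk
      exact (sub_eq_zero.mp h1).symm
    rw [hk _ (hmK.mpr hxH), hk _ (hmK.mpr hfxH), ← sub_eq_zero, ← nsmul_sub] at hT
    have h2 : lt ⟨x, hf.le hx⟩ = lt ⟨f x, hf.mem hx⟩ := by
      refine sub_eq_zero.mp (eq_zero_of_nsmul_eq_zero Fact.out hq hT (n := 1) ?_)
      rw [pow_one]
      exact hexp _
    have h3 := congrArg (fun a : Kb => (a : S ⧸ N)) (Additive.ofMul.injective h2)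
    rwa [hlamK _ (hmK.mpr hxH), hlamK _ (hmK.mpr hfxH)] at h3
  have hle : H ≤ N.map S.subtype := by
    refine hyperfocal_le_iff.mpr fun P hP => oP_induction
      (C := fun α => ∀ x ∈ P, x⁻¹ * autFun α x ∈ N.map S.subtype) ?_ ?_ ?_ ?_
    · intro x hx
      rw [autFun_one hx, inv_mul_cancel]
      exact Subgroup.one_mem _
    · intro a b _ _ ha hb x hx
      have h1 := Subgroup.mul_mem _ (hb x hx) (ha _ (autFun_mem b hx))
      rw [autFun_mul _ _ hx]
      convert h1 using 1
      group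
    · intro a _ ha x hx
      have h1 := Subgroup.inv_mem _ (ha _ (autFun_mem a⁻¹ hx))
      rw [autFun_autFun_inv a hx] at h1
      convert h1 using 1
      group
    · intro α hα hcop x hx
      have hm := mapTo_of_mem_autGroup hP hα
      set d := x⁻¹ * autFun α x with hd
      have hdP : d ∈ P := P.mul_mem (P.inv_mem hx) (autFun_mem α hx)
      have hdH : d ∈ H := mem_hyperfocal hP (mem_oP_of_coprime hα hcop) hx
      have hαdH : autFun α d ∈ H := by
        have h1 := H.mul_mem hdH (mem_hyperfocal hP (mem_oP_of_coprime hα hcop) hdP)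
        rwa [mul_inv_cancel_left] at h1
      have hfix := hinv hm hdP hdH hαdH
      let ψ : P →* S ⧸ N := π.comp (Subgroup.inclusion hP)
      have hstep : ∀ n : ℕ, ψ ⟨autFun (α ^ n) x, autFun_mem _ hx⟩ =
          ψ ⟨x, hx⟩ * ψ ⟨d, hdP⟩ ^ n := by
        intro n
        have hfix' : ∀ n : ℕ, ψ ⟨autFun (α ^ n) d, autFun_mem _ hdP⟩ = ψ ⟨d, hdP⟩ := by
          intro n
          induction n with
          | zero => exact congrArg ψ (Subtype.ext (autFun_one hdP))
          | succ n ih =>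
              rw [← ih]
              have hH' : autFun (α ^ n) d ∈ H := by
                have h1 := H.mul_mem hdH (mem_hyperfocal hP
                  (Subgroup.pow_mem _ (mem_oP_of_coprime hα hcop) n) hdP)
                rwa [mul_inv_cancel_left] at h1
              have hH'' : autFun α (autFun (α ^ n) d) ∈ H := by
                have h1 := H.mul_mem hH' (mem_hyperfocal hP (mem_oP_of_coprime hα hcop)
                  (autFun_mem (α ^ n) hdP))
                rwa [mul_inv_cancel_left] at h1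
              refine Eq.trans ?_ (hinv hm (autFun_mem (α ^ n) hdP) hH' hH'').symm
              exact congrArg π (Subtype.ext (by
                show autFun (α ^ (n + 1)) d = autFun α (autFun (α ^ n) d)
                rw [pow_succ', autFun_mul _ _ hdP]))
        induction n with
        | zero => simp only [pow_zero, mul_one]; exact congrArg ψ (Subtype.ext (autFun_one hx))
        | succ n ih =>
            have he : (⟨autFun (α ^ (n + 1)) x, autFun_mem _ hx⟩ : P) =
                ⟨autFun (α ^ n) x, autFun_mem _ hx⟩ * ⟨autFun (α ^ n) d, autFun_mem _ hdP⟩ := by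
              refine Subtype.ext ?_
              show autFun (α ^ (n + 1)) x = autFun (α ^ n) x * autFun (α ^ n) d
              rw [← (mapTo_of_mem_autGroup hP (Subgroup.pow_mem _ hα n)).map_mul hx hdP, hd,
                mul_inv_cancel_left, pow_succ, autFun_mul _ _ hx]
            rw [he, _root_.map_mul, ih, hfix' n, pow_succ, mul_assoc]
      have h1 := hstep (orderOf α)
      rw [show (⟨autFun (α ^ orderOf α) x, autFun_mem _ hx⟩ : P) = ⟨x, hx⟩ from
        Subtype.ext (by show autFun _ x = x; rw [pow_orderOf_eq_one, autFun_one hx])] at h1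
      obtain ⟨i, hi⟩ := (hS.to_quotient N) (ψ ⟨d, hdP⟩)
      have h2 : ψ ⟨d, hdP⟩ = 1 := orderOf_eq_one_iff.mp
        (Nat.eq_one_of_dvd_coprimes (hcop.pow_right i) (orderOf_dvd_of_pow_eq_one (by simpa using h1))
          (orderOf_dvd_of_pow_eq_one hi))
      exact ⟨⟨d, hP hdP⟩, (QuotientGroup.eq_one_iff _).mp h2, rfl⟩
  have hKN : K ≤ N := fun k hk => by
    obtain ⟨n, hn, hnk⟩ := hle (hmK.mp hk)
    rwa [← show n = k from Subtype.ext hnk]
  have hbot : K.map π = ⊥ := by
    rw [eq_bot_iff]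
    rintro _ ⟨k, hk, rfl⟩
    exact (QuotientGroup.eq_one_iff k).mpr (hKN hk)
  rw [hbot, Subgroup.card_bot] at hcard
  exact (Fact.out : p.Prime).one_lt.ne hcard

/-- The focal subgroup is the product of the hyperfocal subgroup and the derived group. -/
theorem focal_eq_hyperfocal_sup [Finite S] [Fact p.Prime] (hS : IsPGroup p S)
    (hF : F.IsSaturated p) :
    F.focalSubgroup = F.hyperfocalSubgroup p ⊔ ⁅S, S⁆ := by
  set W := F.hyperfocalSubgroup p ⊔ ⁅S, S⁆ with hW
  refine le_antisymm (focal_le_iff.mpr fun P f hf => ?_) (sup_le hyperfocal_le_focal ?_)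
  · refine alperin_prop hS hF (fun P f => ∀ x ∈ P, x⁻¹ * f x ∈ W) ?_ ?_ ?_ ?_ ?_ hf
    · intro P f g _ hC hgf x hx
      rw [hgf x hx]
      exact hC x hx
    · intro P g hP hg x hx
      refine Subgroup.mem_sup_right ?_
      have := Subgroup.commutator_mem_commutator (H₁ := S) (H₂ := S)
        (Subgroup.inv_mem _ (hP hx)) hg
      simpa [commutatorElement_def, mul_assoc] using this
    · intro P Q f g _ _ hm h1 h2 x hx
      have := W.mul_mem (h1 x hx) (h2 _ (hm x hx))
      rwa [mul_assoc, mul_inv_cancel_left] at this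
    · intro P f g hf' _ hgf hC y hy
      obtain ⟨x, hx, rfl⟩ := (hf'.mem_img_iff le_rfl).mp hy
      rw [hgf x hx]
      have := W.inv_mem (hC x hx)
      rwa [mul_inv_rev, inv_inv] at this
    · intro P hP α hα x hx
      have hPn := isFullyNormalized_of_eq_top_or_essential hP
      obtain ⟨β, hβ, c, hc, rfl⟩ := exists_eq_mul_of_isFullyNormalized hS hF hPn hα
      obtain ⟨s, hs, hsc⟩ := mem_autInducedBy_iff_cj.mp hc
      rw [autFun_mul _ _ hx]
      have h1 : x⁻¹ * autFun c x ∈ W := by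
        refine Subgroup.mem_sup_right ?_
        rw [hsc x hx]
        have := Subgroup.commutator_mem_commutator (H₁ := S) (H₂ := S)
          (Subgroup.inv_mem _ (hPn.1 hx)) hs
        simpa [commutatorElement_def, mul_assoc] using this
      have := W.mul_mem h1 (Subgroup.mem_sup_left (mem_hyperfocal hPn.1 hβ (autFun_mem c hx)))
      rwa [mul_assoc, mul_inv_cancel_left] at this
  · refine Subgroup.commutator_le.mpr fun a ha b hb => ?_
    have h1 := mem_focal (mapTo_cj (F := F) le_rfl hb) (S.inv_mem ha)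
    rw [inv_inv, cj_apply] at h1
    rw [commutatorElement_def]
    simpa [mul_assoc] using h1

end Cfsg.Agent.Fusion
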