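import Cfsg.Agent.Lib.Fusion.ResidualModel
import Cfsg.Agent.Lib.Fusion.SolvableExtension
import Cfsg.Agent.Lib.Fusion.ModelExistence
import Cfsg.Agent.Lib.Fusion.IndexP.Main
import Cfsg.Agent.Lib.Fusion.PrimeIndexMain
import Cfsg.Agent.Lib.Transfer.SL2Props

/-!
Terminating residual series and `p`-solvable models.
-/

set_option autoImplicit false

namespace Cfsg.Agent.Fusion

open Cfsg.FusionSystem (centralizerIn normalizerIn preimageAlong)

universe u

variable {Ω : Type u} [Group Ω] {S : Subgroup Ω} {F : FusionSystem S} {p : ℕ}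

/-- Abelian steps from a subgroup containing the hyperfocal subgroup up to `S`. -/
theorem abChain_of_hyperfocal_le [Finite S] [Fact p.Prime] (hS : IsPGroup p S)
    (hF : F.IsSaturated p) {T : Subgroup Ω} (hTS : T ≤ S)
    (hTn : ∀ s ∈ S, ∀ x ∈ T, s * x * s⁻¹ ∈ T) (hT : F.hyperfocalSubgroup p ≤ T) :
    AbChain F T S := by
  haveI : (T.subgroupOf S).Normal := ⟨fun x hx g => hTn g g.2 x hx⟩
  have := hS.isNilpotent
  haveI : Group.IsSolvable (S ⧸ T.subgroupOf S) :=
    Group.isSolvable_of_surjective (QuotientGroup.mk'_surjective (T.subgroupOf S))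
  obtain ⟨n, hn⟩ := (Group.isSolvable_def (S ⧸ T.subgroupOf S)).mp inferInstance
  let A : ℕ → Subgroup Ω := fun i =>
    ((derivedSeries (S ⧸ T.subgroupOf S) i).comap (QuotientGroup.mk' _)).map S.subtype
  have hAS : ∀ i, A i ≤ S := fun i => Subgroup.map_subtype_le _
  have hTA : ∀ i, T ≤ A i := fun i x hx => by
    refine ⟨⟨x, hTS hx⟩, ?_, rfl⟩
    show (QuotientGroup.mk' (T.subgroupOf S)) ⟨x, hTS hx⟩ ∈
      derivedSeries (S ⧸ T.subgroupOf S) i
    rw [show (QuotientGroup.mk' (T.subgroupOf S)) ⟨x, hTS hx⟩ = 1 from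
      (QuotientGroup.eq_one_iff _).mpr (Subgroup.mem_subgroupOf.mpr hx)]
    exact Subgroup.one_mem _
  have hAn : ∀ i, ∀ s ∈ S, ∀ x ∈ A i, s * x * s⁻¹ ∈ A i := by
    rintro i s hs _ ⟨x, hx, rfl⟩
    exact ⟨⟨s, hs⟩ * x * ⟨s, hs⟩⁻¹, ((derivedSeries_normal _ i).comap _).conj_mem x hx _, rfl⟩
  have key : ∀ i, i ≤ n → AbChain F (A n) (A i) := by
    intro i hi
    induction hk : n - i generalizing i with
    | zero => obtain rfl : i = n := by omega
              exact Relation.ReflTransGen.refl
    | succ k ih =>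
      refine (ih (i + 1) (by omega) (by omega)).tail ⟨?_,
        stronglyClosed_of_hyperfocal_le hS hF (hAS i) (hAn i) (hT.trans (hTA i)), ?_⟩
      · exact Subgroup.map_mono (Subgroup.comap_mono (derivedSeries_antitone _ (Nat.le_succ i)))
      · rw [← Subgroup.map_commutator]
        refine Subgroup.map_mono (Subgroup.map_le_iff_le_comap.mp ?_)
        rw [Subgroup.map_commutator, derivedSeries_succ]
        exact Subgroup.commutator_mono (Subgroup.map_comap_le _ _) (Subgroup.map_comap_le _ _)
  have h0 : A 0 = S := by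
    show ((derivedSeries (S ⧸ T.subgroupOf S) 0).comap _).map S.subtype = S
    rw [derivedSeries_zero, Subgroup.comap_top, ← MonoidHom.range_eq_map, Subgroup.range_subtype]
  have hn' : A n = T := by
    show ((derivedSeries (S ⧸ T.subgroupOf S) n).comap _).map S.subtype = T
    rw [hn, MonoidHom.comap_bot, QuotientGroup.ker_mk', Subgroup.map_subgroupOf_eq_of_le hTS]
  have := key 0 (Nat.zero_le n)
  rwa [h0, hn'] at this

theorem terminating_forward (h : F.HasTerminatingResidualSeries p) :
    ∀ [Finite S] [Fact p.Prime], IsPGroup p S → F.IsSaturated p →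
      AbChain F ⊥ S ∧ ∀ (G : Type u) [Group G] (ι : S →* G), F.IsModel p G ι →
        Cfsg.IsPSolvable p G := by
  induction h with
  | @trivial S F p hbot =>
    intro _ _ _ _
    refine ⟨hbot ▸ Relation.ReflTransGen.refl, fun G _ ι hι => isPSolvable_of_coprime ?_⟩
    have := hι.1
    obtain ⟨T, hT⟩ := hι.2.2.1
    have h1 : (T : Subgroup G) = ⊥ := by
      rw [hT, eq_bot_iff]
      rintro _ ⟨s, rfl⟩
      have : s = 1 := Subtype.ext (by simpa [hbot] using s.2)
      rw [this, map_one]
      exact Subgroup.one_mem _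
    have h2 := T.not_dvd_index
    rw [h1, Subgroup.index_bot] at h2
    exact (((Fact.out : p.Prime).coprime_iff_not_dvd).mpr h2).symm
  | @step S F E p D hE hD _ ih =>
    intro _ _ hS hF
    have hUS : E.hyperfocalSubgroup p ≤ S := hyperfocal_le
    have := finite_of_le hUS
    obtain ⟨habD, hmodD⟩ := ih (hS.to_le hUS) hD.1
    have hEw := pPrimeResidual_isWeaklyNormalIn hS hF hE
    have hDn := pPowerIndex_isNormalIn hS hE.1 hUS (fun s hs x hx => hyperfocal_conj_mem hs hx)
      hD.1 hD.2
    refine ⟨?_, fun G _ ι hι => ?_⟩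
    · have a : AbChain E ⊥ (E.hyperfocalSubgroup p) := by
        have := Relation.ReflTransGen.lift (fun A => stableCore E (E.hyperfocalSubgroup p) A)
          (fun A B => abStep_stableCore hDn.1.2.2) _ _ habD
        simp only [Function.onFun] at this
        rwa [stableCore_bot, stableCore_self] at this
      have b := a.trans (abChain_of_hyperfocal_le hS hE.1 hUS
        (fun s hs x hx => hyperfocal_conj_mem hs hx) le_rfl)
      have c := Relation.ReflTransGen.lift (fun A => stableCore F S A)
        (fun A B => abStep_stableCore hEw.2.2) _ _ b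
      simp only [Function.onFun] at c
      rwa [stableCore_bot, stableCore_self] at c
    · have := hι.1
      obtain ⟨hle, hH⟩ := IsModel.pPrimeResidual hι hE
      set H := Subgroup.normalClosure (ι.range : Set G)
      obtain ⟨-, ι', hK⟩ := IsModel.pResidual hH hD
      have hKsol := hmodD _ ι' hK
      have hHsol : Cfsg.IsPSolvable p H := by
        refine isPSolvable_extension _ H (Cfsg.pResidual p H) le_rfl hKsol (Or.inl ?_)
        obtain ⟨k, hk⟩ := (Transfer.isPGroup_quotient_pResidual (G := H) (p := p)).exists_card_eq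
        exact ⟨k, (Subgroup.index_eq_card _).trans hk⟩
      refine isPSolvable_extension _ G H le_rfl hHsol (Or.inr ?_)
      obtain ⟨T, hT⟩ := hι.2.2.1
      refine (((Fact.out : p.Prime).coprime_iff_not_dvd).mpr fun hd => T.not_dvd_index ?_).symm
      exact hd.trans (Subgroup.index_dvd_of_le (hT.le.trans Subgroup.le_normalClosure))

theorem terminating_backward : ∀ (n : ℕ) {S : Subgroup Ω} {F : FusionSystem S} [Finite S]
    [Fact p.Prime], Nat.card S ≤ n → IsPGroup p S → ∀ (G : Type u) [Group G] (ι : S →* G),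
      F.IsModel p G ι → Cfsg.IsPSolvable p G → F.HasTerminatingResidualSeries p := by
  intro n
  induction n with
  | zero => intro S F _ _ hc; have := Nat.card_pos (α := S); omega
  | succ n ih =>
    intro S F _ _ hc hS G _ ι hι hsol
    have hp : p.Prime := Fact.out
    by_cases hbot : S = ⊥
    · exact .trivial F p hbot
    have hF := IsModel.isSaturated hι
    have := hι.1
    obtain ⟨E, hE⟩ := exists_isPPrimeResidual hS hF
    obtain ⟨hle, hH⟩ := IsModel.pPrimeResidual hι hE
    set H := Subgroup.normalClosure (ι.range : Set G) with hHdef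
    set ιH := ι.codRestrict H hle
    obtain ⟨D, hD⟩ : ∃ D : FusionSystem (E.hyperfocalSubgroup p), E.IsPResidual p D :=
      IndexP.exists_pPowerIndex hS hE.1 hyperfocal_le le_rfl
    obtain ⟨hU, ι', hK⟩ := IsModel.pResidual hH hD
    have hHsol := Transfer.isPSolvable_subgroup' hsol H
    have hne : E.hyperfocalSubgroup p ≠ S := by
      intro he
      have hrK : ιH.range ≤ Cfsg.pResidual p H := by
        rintro _ ⟨s, rfl⟩
        have := (mem_preimageAlong.mp (hU.le (he.ge s.2))).2
        rwa [th_coe] at this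
      have hall : ∀ N : Subgroup H, N.Normal → (∀ x : H, ∀ k, x ^ p ^ k = 1 → x ∈ N) → N = ⊤ := by
        intro N hN hpel
        have hsub : Subgroup.closure (Group.conjugatesOfSet (ι.range : Set G)) ≤
            N.map H.subtype := by
          refine (Subgroup.closure_le _).mpr fun c hc => ?_
          have hcH : c ∈ H := Subgroup.conjugatesOfSet_subset_normalClosure hc
          obtain ⟨y, ⟨s, rfl⟩, hcs⟩ := Group.mem_conjugatesOfSet_iff.mp hc
          obtain ⟨k, hk⟩ := hS s
          refine ⟨⟨c, hcH⟩, hpel _ k (Subtype.ext ?_), rfl⟩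
          obtain ⟨d, hd⟩ := _root_.isConj_iff.mp hcs
          show c ^ p ^ k = 1
          rw [← hd, conj_pow, ← map_pow, hk, map_one, mul_one, mul_inv_cancel]
        refine top_le_iff.mp fun x _ => ?_
        obtain ⟨y, hy, hxy⟩ := hsub x.2
        exact Subtype.ext hxy ▸ hy
      have hp' : ∀ N : Subgroup H, N.Normal → N.index.Coprime p → N = ⊤ := by
        intro N hN hN'
        haveI := hN
        refine hall N hN fun x k hk => ?_
        rw [← QuotientGroup.eq_one_iff (N := N)]
        have h1 : ((x : H ⧸ N)) ^ p ^ k = 1 := by rw [← QuotientGroup.mk_pow, hk]; rfl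
        have h2 : (orderOf (x : H ⧸ N)).Coprime (p ^ k) :=
          (hN'.pow_right k).coprime_dvd_left
            (Subgroup.index_eq_card N ▸ orderOf_dvd_natCard _)
        exact orderOf_eq_one_iff.mp (Nat.eq_one_of_dvd_coprimes h2 dvd_rfl
          (orderOf_dvd_of_pow_eq_one h1))
      have hdvd : p ∣ Nat.card H := by
        have : Nontrivial S := (Subgroup.nontrivial_iff_ne_bot S).mpr hbot
        obtain ⟨k, hk, hcard⟩ := hS.nontrivial_iff_card.mp inferInstance
        have hinj : Function.Injective ιH := hH.2.1.1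
        exact (hcard ▸ dvd_pow_self p hk.ne').trans
          (Subgroup.card_dvd_of_injective ιH hinj)
      refine pResidual_ne_top_of_isPSolvable hHsol hdvd hp' (hp' _ inferInstance ?_)
      obtain ⟨T, hT⟩ := hH.2.2.1
      refine ((hp.coprime_iff_not_dvd).mpr fun hd => T.not_dvd_index ?_).symm
      exact hd.trans (Subgroup.index_dvd_of_le (hT.le.trans hrK))
    have hUS : E.hyperfocalSubgroup p ≤ S := hyperfocal_le
    have := finite_of_le hUS
    have hlt : Nat.card (E.hyperfocalSubgroup p) < Nat.card S :=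
      card_lt_of_lt (lt_of_le_of_ne hUS hne) le_rfl
    exact .step F E p D hE hD (ih (by omega) (hS.to_le hUS) _ ι' hK
      (Transfer.isPSolvable_subgroup' hHsol _))

end Cfsg.Agent.Fusion
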