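import Cfsg.Agent.Lib.Fusion.YoshidaTransfer
import Cfsg.Agent.Lib.Fusion.Tate
import Cfsg.Agent.Lib.Fusion.NormalizerSaturated
import Cfsg.Agent.Lib.Basics.Frattini

/-!
Yoshida's theorem for fusion systems.
-/

set_option autoImplicit false
set_option linter.style.haveILetI false

namespace Cfsg.Agent.Fusion

universe u

variable {Ω : Type u} [Group Ω] {S : Subgroup Ω} {F : FusionSystem S} {p : ℕ} [Finite S]
  [Fact p.Prime]

theorem orderOf_map_dvd_of_mapTo {P : Subgroup Ω} {f : Ω → Ω} (hf : MapTo F P f) {v : Ω}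
    (hv : v ∈ P) : orderOf (f v) ∣ orderOf v := by
  have hpow : ∀ n : ℕ, f (v ^ n) = f v ^ n := by
    intro n
    induction n with
    | zero => rw [pow_zero, pow_zero, hf.map_one]
    | succ n ih => rw [pow_succ, hf.map_mul (P.pow_mem hv n) hv, ih, pow_succ]
  exact orderOf_dvd_of_pow_eq_one (by rw [← hpow, pow_orderOf_eq_one, hf.map_one])

/-- Yoshida's theorem for fusion systems: a saturated subsystem with the same automorphisms of `S`
controls transfer unless `S` maps onto a Sylow subgroup of `Sym(p²)`. -/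
theorem yoshida (hS : IsPGroup p S) (hF : F.IsSaturated p) {E : FusionSystem S}
    (hE : E.IsSaturated p) (hEF : E ≤ F)
    (hfull : ∀ f, MapTo F S f → ∀ x ∈ S, x⁻¹ * f x ∈ E.focalSubgroup)
    (hne : E.focalSubgroup ≠ F.focalSubgroup) :
    ∃ (W : Sylow p (Equiv.Perm (Fin (p ^ 2)))) (f : ↥S →* ↥(W : Subgroup (Equiv.Perm (Fin (p ^ 2))))),
      Function.Surjective f := by
  classical
  haveI : Group.IsNilpotent S := hS.isNilpotent
  have hle : E.focalSubgroup ≤ F.focalSubgroup := focal_le_iff.mpr fun P f hf x hx =>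
    mem_focal (le_iff_mapTo.mp hEF P f hf) hx
  set Φ := (frattini S).map S.subtype with hΦ
  have hcommΦ : ⁅S, S⁆ ≤ Φ := by
    rw [← Subgroup.map_subtype_commutator S]
    exact Subgroup.map_mono Basics.commutator_le_frattini
  have hFS : F.focalSubgroup ≤ S := focal_le_iff.mpr fun P f hf x hx =>
    S.mul_mem (S.inv_mem (hf.le hx)) (hf.mem hx)
  -- some element of the focal subgroup lies outside `foc(E) Φ(S)`
  set K : Subgroup S := E.focalSubgroup.subgroupOf S ⊔ frattini S with hK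
  obtain ⟨u₀, hu₀F, hu₀K⟩ : ∃ u₀ : S, (u₀ : Ω) ∈ F.focalSubgroup ∧ u₀ ∉ K := by
    by_contra h
    push Not at h
    have h1 : F.focalSubgroup ≤ E.focalSubgroup ⊔ Φ := fun x hx => by
      have h2 : (⟨x, hFS hx⟩ : S) ∈ K := h _ hx
      have h3 : x ∈ K.map S.subtype := ⟨_, h2, rfl⟩
      rw [hK, Subgroup.map_sup,
        Subgroup.map_subgroupOf_eq_of_le (hle.trans hFS)] at h3
      exact h3
    rw [focal_eq_hyperfocal_sup hS hE] at h1
    have h2 : F.hyperfocalSubgroup p ≤ E.hyperfocalSubgroup p ⊔ Φ :=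
      (hyperfocal_le_focal.trans h1).trans
        (sup_le (sup_le le_sup_left (hcommΦ.trans le_sup_right)) le_sup_right)
    refine hne ?_
    rw [focal_eq_hyperfocal_sup hS hE, focal_eq_hyperfocal_sup hS hF,
      hyperfocal_eq_of_le_sup_frattini hS hF hEF h2]
  -- a maximal subgroup containing `K` and avoiding it
  obtain ⟨L, hKL, ⟨-, hu₀L⟩, hLmax⟩ := Finite.exists_le_maximal
    (p := fun L : Subgroup S => K ≤ L ∧ u₀ ∉ L) ⟨le_rfl, hu₀K⟩
  have hΦL : frattini S ≤ L := le_sup_right.trans hKL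
  haveI hLn : L.Normal := ⟨fun x hx a => by
    have h1 : a * x * a⁻¹ * x⁻¹ ∈ L :=
      hΦL (Basics.commutator_le_frattini (Subgroup.commutator_mem_commutator
        (Subgroup.mem_top a) (Subgroup.mem_top x)))
    have h2 := L.mul_mem h1 hx
    rwa [inv_mul_cancel_right] at h2⟩
  obtain ⟨π, hπ, ⟨t₀, ht₀⟩, hπL⟩ := exists_hom_zmod hS (H := L) fun h => hu₀L (h ▸ Subgroup.mem_top u₀)
  have hπ1 : π 1 = 0 := by
    have := hπ 1 1
    rwa [one_mul, left_eq_add] at this
  have hπpow : ∀ (a : S) (n : ℕ), π (a ^ n) = n * π a := by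
    intro a n
    induction n with
    | zero => simp [hπ1]
    | succ n ih => rw [pow_succ, hπ, ih]; push_cast; ring
  have hu₀ : π u₀ ≠ 0 := by
    intro h0
    have hall : ∀ y : S, π y = 0 := by
      intro y
      by_cases hy : y ∈ L
      · exact hπL y hy
      have h1 : u₀ ∈ L ⊔ Subgroup.zpowers y := by
        by_contra hnot
        exact hy ((hLmax ⟨hKL.trans le_sup_left, hnot⟩ le_sup_left)
          (Subgroup.mem_sup_right (Subgroup.mem_zpowers y)))
      obtain ⟨l, hl, z, hz, hlz⟩ := Subgroup.mem_sup_of_normal_left.mp h1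
      obtain ⟨i, rfl⟩ := mem_powers_iff_mem_zpowers.mpr hz
      have h2 := congrArg π hlz
      rw [hπ, hπL l hl, zero_add, hπpow, h0] at h2
      rcases mul_eq_zero.mp h2 with h3 | h3
      · exfalso
        obtain ⟨j, rfl⟩ := (ZMod.natCast_eq_zero_iff _ _).mp h3
        refine hu₀L (hlz ▸ L.mul_mem hl ?_)
        show y ^ (p * j) ∈ L
        rw [pow_mul]
        exact L.pow_mem (hΦL (Basics.pow_mem_frattini hS y)) j
      · exact h3
    exact one_ne_zero (ht₀.symm.trans (hall t₀))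
  -- an element of least order
  let cand : Set S := {a | (a : Ω) ∈ F.focalSubgroup ∧ π a ≠ 0}
  obtain ⟨u, hu, humin⟩ := Set.exists_min_image cand orderOf (Set.toFinite _) ⟨u₀, hu₀F, hu₀⟩
  obtain ⟨X, m, hX, hm, hcard⟩ := exists_stableBiset hS hF
  let := pairAct X
  have hKπ : ∀ a : S, (a : Ω) ∈ E.focalSubgroup → π a = 0 := fun a ha =>
    hπL a (hKL (Subgroup.mem_sup_left ha))
  have hfixab : ∀ (x : X.carrier) (a b : S), lm a x = rm x b → ((a, b) : S × S) • x = x := by
    intro x a b h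
    calc ((a, b) : S × S) • x = ((1, b) : S × S) • lm a x := by simp [lm, smul_smul]
      _ = ((1, b) : S × S) • rm x b := by rw [h]
      _ = x := by simp [rm, smul_smul, Prod.mk_one_one]
  refine exists_surjection_of_transfer hS hX.free hm hcard π hπ u hu.2 (fun x hall a b h => ?_)
    (fun x v b hv h => ?_) ?_
  · obtain ⟨P, f, hf, hfix⟩ := hX.fix_iff x
    have hSP : S ≤ P := fun y hy => by
      obtain ⟨c, hc⟩ := hall ⟨y, hy⟩
      exact (hfix _ _ (hfixab x _ _ hc)).1
    obtain ⟨-, hab⟩ := hfix a b (hfixab x a b h)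
    have h1 := hfull f (hf.restrict hSP) a a.2
    rw [hab] at h1
    have h2 := hKπ (a⁻¹ * b) h1
    have h3 := hπ a (a⁻¹ * b)
    rwa [mul_inv_cancel_left, h2, add_zero] at h3
  · obtain ⟨P, f, hf, hfix⟩ := hX.fix_iff x
    obtain ⟨hvP, hvb⟩ := hfix v b (hfixab x v b h)
    have hvu : v ∈ Subgroup.zpowers u := Subgroup.zpowers_le.mpr (Subgroup.pow_mem _ (Subgroup.mem_zpowers u) p) hv
    have hvF : (v : Ω) ∈ F.focalSubgroup := by
      obtain ⟨i, rfl⟩ := Subgroup.mem_zpowers_iff.mp hvu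
      exact F.focalSubgroup.zpow_mem hu.1 i
    have hbF : (b : Ω) ∈ F.focalSubgroup := by
      have h1 := F.focalSubgroup.mul_mem hvF (mem_focal hf hvP)
      rwa [mul_inv_cancel_left, hvb] at h1
    by_contra hne0
    have h1 := humin b ⟨hbF, hne0⟩
    have h2 : orderOf b ∣ orderOf v := by
      rw [← Subgroup.orderOf_coe b, ← Subgroup.orderOf_coe v, ← hvb]
      exact orderOf_map_dvd_of_mapTo hf hvP
    have h3 : orderOf v ∣ orderOf (u ^ p) := orderOf_dvd_of_mem_zpowers hv
    have h4 : orderOf (u ^ p) < orderOf u := by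
      rw [orderOf_pow]
      have hne1 : orderOf u ≠ 1 := fun h => hu.2 (by rw [orderOf_eq_one_iff.mp h]; exact hπ1)
      obtain ⟨k, hk⟩ := isPGroup_iff_orderOf_dvd_pow.mp hS u
      obtain ⟨i, -, hi⟩ := (Nat.dvd_prime_pow Fact.out).mp hk
      rw [hi] at hne1 ⊢
      cases i with
      | zero => simp at hne1
      | succ i =>
        rw [Nat.gcd_eq_right (dvd_pow_self p (Nat.succ_ne_zero i))]
        exact Nat.div_lt_self (Nat.pow_pos (Fact.out : p.Prime).pos) (Fact.out : p.Prime).one_lt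
    have h5 := Nat.le_of_dvd (orderOf_pos _) (h2.trans h3)
    omega
  · set Cl := Subgroup.closure {y : S | ∃ (a a' : S) (e : X.carrier ≃ X.carrier),
      (∀ x (b : S), e (rm x b) = rm (e x) b) ∧ (∀ x, e (lm a x) = lm a' (e x)) ∧ y = a⁻¹ * a'}
    have h1 : F.focalSubgroup ≤ Cl.map S.subtype := focal_le_iff.mpr fun P f hf x hx => by
      obtain ⟨e, he1, he2⟩ := hX.translate hf
      exact ⟨(⟨x, hf.le hx⟩ : S)⁻¹ * ⟨f x, hf.mem hx⟩,
        Subgroup.subset_closure ⟨_, _, e, he1, he2 x hx, rfl⟩, rfl⟩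
    obtain ⟨y, hy, hyu⟩ := h1 hu.1
    exact (S.subtype_injective hyu) ▸ hy

end Cfsg.Agent.Fusion
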