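import Cfsg.Agent.Lib.Fusion.BisetTransfer
import Cfsg.Agent.Lib.Fusion.CyclicWreath

/-!
Yoshida's transfer argument, along a right free biset.
-/

set_option autoImplicit false
set_option linter.style.haveILetI false

namespace Cfsg.Agent.Fusion

variable {p : ℕ} [hp : Fact p.Prime]

/-- In a finite `p`-group a proper subgroup lies in the kernel of a surjection to `ZMod p`. -/
theorem exists_hom_zmod {G : Type*} [Group G] [Finite G] (hG : IsPGroup p G) {H : Subgroup G}
    (hH : H ≠ ⊤) : ∃ π : G → ZMod p, (∀ a b, π (a * b) = π a + π b) ∧ (∃ t, π t = 1) ∧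
      ∀ h ∈ H, π h = 0 := by
  obtain ⟨M, hM, hHM⟩ : ∃ M : Subgroup G, IsCoatom M ∧ H ≤ M :=
    (eq_top_or_exists_le_coatom H).resolve_left hH
  haveI : Group.IsNilpotent G := hG.isNilpotent
  haveI : M.Normal := Subgroup.NormalizerCondition.normal_of_coatom M
    Group.normalizerCondition_of_isNilpotent hM
  have hidx : Nat.card (G ⧸ M) = p := by
    haveI : Nontrivial (G ⧸ M) := by
      by_contra h
      rw [not_nontrivial_iff_subsingleton] at h
      exact hM.1 (QuotientGroup.subgroup_eq_top_of_subsingleton M h)
    obtain ⟨k, hk⟩ := IsPGroup.iff_card.mp (hG.to_quotient M)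
    have h1 : k ≠ 0 := by
      rintro rfl
      rw [pow_zero] at hk
      exact absurd hk (Finite.one_lt_card).ne'
    obtain ⟨x, hx⟩ := exists_prime_orderOf_dvd_card' (G := G ⧸ M) p (hk ▸ dvd_pow_self p h1)
    have h2 : Subgroup.zpowers x = ⊤ := by
      obtain ⟨g, rfl⟩ := QuotientGroup.mk'_surjective M x
      have hlt : M < (Subgroup.zpowers (QuotientGroup.mk' M g)).comap (QuotientGroup.mk' M) := by
        refine SetLike.lt_iff_le_and_exists.mpr ⟨fun y hy => ?_, g, Subgroup.mem_zpowers _, fun hg => ?_⟩
        · show QuotientGroup.mk' M y ∈ Subgroup.zpowers (QuotientGroup.mk' M g)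
          have h0 : QuotientGroup.mk' M y = 1 := (QuotientGroup.eq_one_iff y).mpr hy
          rw [h0]
          exact Subgroup.one_mem _
        · have h0 : QuotientGroup.mk' M g = 1 := (QuotientGroup.eq_one_iff g).mpr hg
          rw [h0, orderOf_one] at hx
          exact absurd hx hp.out.one_lt.ne
      have hmax := hM.2 _ hlt
      rw [← Subgroup.map_comap_eq_self_of_surjective (QuotientGroup.mk'_surjective M)
        (Subgroup.zpowers (QuotientGroup.mk' M g)), hmax]
      exact Subgroup.map_top_of_surjective _ (QuotientGroup.mk'_surjective M)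
    rw [← hx, ← Nat.card_zpowers, h2, Subgroup.card_top]
  haveI : IsCyclic (G ⧸ M) := isCyclic_of_prime_card hidx
  let e : G ⧸ M ≃* Multiplicative (ZMod p) :=
    mulEquivOfCyclicCardEq (by rw [hidx]; simp)
  refine ⟨fun a => Multiplicative.toAdd (e a), fun a b => ?_, ?_, fun h hh => ?_⟩
  · simp only [QuotientGroup.mk_mul, map_mul, toAdd_mul]
  · obtain ⟨a, ha⟩ := QuotientGroup.mk_surjective (e.symm (Multiplicative.ofAdd 1))
    exact ⟨a, by simp [ha]⟩
  · simp only [(QuotientGroup.eq_one_iff h).mpr (hHM hh), map_one, toAdd_one]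

variable {G : Type*} [Group G] {X : Type*} [MulAction (G × G) X]

/-- Yoshida's argument: an element killed by every transfer, with minimality, yields a wreath
product quotient. -/
theorem exists_surjection_of_transfer [Finite G] [Finite X] (hG : IsPGroup p G)
    (hfree : ∀ (b : G) (x : X), ((1, b) : G × G) • x = x → b = 1)
    {m : ℕ} (hm : ¬ p ∣ m) (hcard : Nat.card X ≡ m * Nat.card G [MOD p * Nat.card G])
    (lam : G → ZMod p) (hlam : ∀ a b, lam (a * b) = lam a + lam b) (u : G) (hu : lam u ≠ 0)
    (hfull : ∀ x : X, (∀ a : G, ∃ b : G, lm a x = rm x b) → ∀ a b : G, lm a x = rm x b → lam b = lam a)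
    (hlow : ∀ (x : X) (v b : G), v ∈ Subgroup.zpowers (u ^ p) → lm v x = rm x b → lam b = 0)
    (hfoc : u ∈ Subgroup.closure {y | ∃ (a a' : G) (e : X ≃ X),
      (∀ x (b : G), e (rm x b) = rm (e x) b) ∧ (∀ x, e (lm a x) = lm a' (e x)) ∧ y = a⁻¹ * a'}) :
    ∃ (W : Sylow p (Equiv.Perm (Fin (p ^ 2)))) (f : G →* ↥(W : Subgroup (Equiv.Perm (Fin (p ^ 2))))),
      Function.Surjective f := by
  classical
  have hlam1 : lam 1 = 0 := by
    have := hlam 1 1
    rwa [one_mul, left_eq_add] at this
  have hlaminv : ∀ a, lam a⁻¹ = -lam a := fun a => by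
    have := hlam a⁻¹ a
    rw [inv_mul_cancel, hlam1] at this
    exact eq_neg_of_add_eq_zero_left this.symm
  let rel : Setoid X :=
    { r := fun x y => ∃ b : G, rm x b = y
      iseqv := ⟨fun x => ⟨1, rm_one x⟩,
        fun {x y} ⟨b, h⟩ => ⟨b⁻¹, by rw [← h, rm_rm, mul_inv_cancel, rm_one]⟩,
        fun {x y z} ⟨b, h⟩ ⟨c, h'⟩ => ⟨b * c, by rw [← rm_rm, h, h']⟩⟩ }
  let I := Quotient rel
  haveI : Fintype I := Fintype.ofFinite I
  let r : I → X := Quotient.out
  have hr : ∀ i : I, Quotient.mk rel (r i) = i := Quotient.out_eq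
  letI : MulAction G I :=
    { smul := fun a => Quotient.map (lm a) fun x y ⟨b, h⟩ => ⟨b, by rw [← lm_rm, h]⟩
      one_smul := fun i => by
        induction i using Quotient.inductionOn with
        | h x => exact congrArg (Quotient.mk rel) (by simp [lm, Prod.mk_one_one])
      mul_smul := fun a b i => by
        induction i using Quotient.inductionOn with
        | h x => exact congrArg (Quotient.mk rel) (lm_lm a b x).symm }
  have hsmul : ∀ (a : G) (x : X), a • Quotient.mk rel x = Quotient.mk rel (lm a x) := fun _ _ => rfl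
  have hex : ∀ (a : G) (i : I), ∃ b : G, rm (r (a • i)) b = lm a (r i) := by
    intro a i
    refine Quotient.exact (s := rel) ?_
    rw [hr, ← hsmul, hr]
  choose c hc using hex
  let ell : G → I → ZMod p := fun a i => lam (c a i)
  have hinj : ∀ {x : X} {a b : G}, rm x a = rm x b → a = b := fun h => rm_inj hfree h
  have hcoc : ∀ a b i, c (a * b) i = c a (b • i) * c b i := by
    intro a b i
    refine hinj (x := r ((a * b) • i)) ?_
    rw [hc, ← rm_rm, mul_smul, hc, ← lm_rm, hc, lm_lm]
  have hell : ∀ a b i, ell (a * b) i = ell a (b • i) + ell b i := fun a b i => by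
    show lam _ = _
    rw [hcoc, hlam]
  -- the cardinality of the orbit space
  have hqX : Nat.card X = Fintype.card I * Nat.card G := by
    rw [← Nat.card_eq_fintype_card, ← Nat.card_prod]
    refine (Nat.card_eq_of_bijective (fun x : I × G => rm (r x.1) x.2) ⟨?_, ?_⟩).symm
    · rintro ⟨i, a⟩ ⟨j, b⟩ h
      have hij : i = j := by
        rw [← hr i, ← hr j]
        exact Quotient.sound ⟨a * b⁻¹, by
          have h' : rm (r i) a = rm (r j) b := h
          rw [← rm_rm, h', rm_rm, mul_inv_cancel, rm_one]⟩
      subst hij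
      exact congrArg (Prod.mk i) (hinj h)
    · intro x
      obtain ⟨b, hb⟩ := Quotient.exact (s := rel) (hr (Quotient.mk rel x))
      exact ⟨(Quotient.mk rel x, b), hb⟩
  have hq : ((Fintype.card I : ℕ) : ZMod p) ≠ 0 := by
    rw [Ne, ZMod.natCast_eq_zero_iff]
    intro hd
    rw [hqX] at hcard
    exact hm (Nat.modEq_zero_iff_dvd.mp ((Nat.ModEq.mul_right_cancel' Nat.card_pos.ne' hcard).symm.trans
      (Nat.modEq_zero_iff_dvd.mpr hd)))
  -- the transfer
  let T : G → ZMod p := fun a => ∑ i, ell a i
  have hT : ∀ a b, T (a * b) = T a + T b := fun a b => by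
    show ∑ i, ell (a * b) i = _
    simp only [hell, Finset.sum_add_distrib]
    exact congrArg (· + T b) (Equiv.sum_comp (MulAction.toPerm b) fun i => ell a i)
  have hTe : ∀ {a a' : G} (e : X ≃ X), (∀ x (b : G), e (rm x b) = rm (e x) b) →
      (∀ x, e (lm a x) = lm a' (e x)) → T a = T a' := by
    intro a a' e he1 he2
    let σ : I → I := fun i => Quotient.mk rel (e (r i))
    have hd : ∀ i, ∃ d : G, rm (r (σ i)) d = e (r i) := fun i => Quotient.exact (s := rel) (hr (σ i))
    choose d hd using hd
    have hσ : ∀ i, σ (a • i) = a' • σ i := by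
      intro i
      have h1 : e (rm (r (a • i)) (c a i)) = lm a' (e (r i)) := by rw [hc, he2]
      rw [he1] at h1
      show Quotient.mk rel (e (r (a • i))) = a' • Quotient.mk rel (e (r i))
      rw [hsmul]
      exact Quotient.sound ⟨c a i, h1⟩
    have hσbij : Function.Bijective σ := by
      refine (Finite.injective_iff_bijective).mp fun i j h => ?_
      obtain ⟨b, hb⟩ := Quotient.exact (s := rel) h
      rw [← hr i, ← hr j]
      exact Quotient.sound ⟨b, e.injective (by rw [he1, hb])⟩
    have hrel : ∀ i, c a' (σ i) * d i = d (a • i) * c a i := by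
      intro i
      refine hinj (x := r (a' • σ i)) ?_
      rw [← rm_rm, hc, ← rm_rm, ← hσ, hd, ← he1, hc, ← lm_rm, hd, he2]
    have hrel' : ∀ i, ell a' (σ i) + lam (d i) = lam (d (a • i)) + ell a i := fun i => by
      show lam _ + _ = _ + lam _
      rw [← hlam, ← hlam, hrel]
    have h1 : T a' = ∑ i, ell a' (σ i) := (Fintype.sum_bijective σ hσbij _ _ fun _ => rfl).symm
    have h2 : ∑ i, (ell a' (σ i) + lam (d i)) = ∑ i, (lam (d (a • i)) + ell a i) :=
      Finset.sum_congr rfl fun i _ => hrel' i
    rw [Finset.sum_add_distrib, Finset.sum_add_distrib, ← h1,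
      show ∑ i, lam (d (a • i)) = ∑ i, lam (d i) from
        Equiv.sum_comp (MulAction.toPerm a) fun i => lam (d i)] at h2
    rw [add_comm] at h2
    exact (add_left_cancel h2).symm
  have hT1 : T 1 = 0 := by
    have := hT 1 1
    rwa [one_mul, left_eq_add] at this
  have hTu : T u = 0 := by
    refine (fun {y : G} (hy : y ∈ Subgroup.closure _) => ?_ : ∀ {y : G}, y ∈ _ → T y = 0) hfoc
    induction hy using Subgroup.closure_induction with
    | mem y hy =>
      obtain ⟨a, a', e, he1, he2, rfl⟩ := hy
      have h1 := hT a⁻¹ a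
      rw [inv_mul_cancel, hT1] at h1
      rw [hT, eq_neg_of_add_eq_zero_left h1.symm, hTe e he1 he2, neg_add_cancel]
    | one => exact hT1
    | mul a b _ _ ha hb => rw [hT, ha, hb, add_zero]
    | inv a _ ha =>
      have h1 := hT a⁻¹ a
      rw [inv_mul_cancel, hT1, ha, add_zero] at h1
      exact h1.symm
  by_contra hno
  -- sums of powers of `u ^ p` over invariant sets vanish
  have hlowsum : ∀ v ∈ Subgroup.zpowers (u ^ p), ∀ B : Finset I, (∀ i, v • i ∈ B ↔ i ∈ B) →
      ∑ i ∈ B, ell v i = 0 := by
    intro v hv
    have hpow : ∀ (n : ℕ) i, ∑ t ∈ Finset.range n, ell v (v ^ t • i) = ell (v ^ n) i := by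
      intro n i
      induction n with
      | zero =>
        rw [Finset.sum_range_zero]
        show (0 : ZMod p) = lam _
        rw [show c (v ^ 0) i = 1 from hinj (x := r ((v ^ 0) • i))
          (by rw [hc, rm_one, pow_zero, one_smul]; simp [lm, Prod.mk_one_one]), hlam1]
      | succ n ih => rw [Finset.sum_range_succ, ih, pow_succ', hell, add_comm]
    intro B hB
    induction B using Finset.strongInduction with
    | H B ih =>
      rcases B.eq_empty_or_nonempty with rfl | ⟨i, hi⟩
      · simp
      set n := Function.minimalPeriod (v • ·) i with hn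
      have hnpos : 0 < n := by
        rw [hn, MulAction.minimalPeriod_eq_card]
        haveI : Nonempty (MulAction.orbit (Subgroup.zpowers v) i) := ⟨⟨i, MulAction.mem_orbit_self i⟩⟩
        exact Fintype.card_pos
      set O := (Finset.range n).image fun t => v ^ t • i with hO
      have hfixn : v ^ n • i = i := MulAction.pow_smul_eq_iff_minimalPeriod_dvd.mpr dvd_rfl
      have hOmem : ∀ j, v • j ∈ O ↔ j ∈ O := by
        have hfwd : ∀ j ∈ O, v • j ∈ O := by
          intro j hj
          obtain ⟨t, ht, rfl⟩ := Finset.mem_image.mp hj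
          refine Finset.mem_image.mpr ⟨(t + 1) % n, Finset.mem_range.mpr (Nat.mod_lt _ hnpos), ?_⟩
          rw [MulAction.pow_smul_mod_minimalPeriod, pow_succ', mul_smul]
        intro j
        refine ⟨fun hj => ?_, hfwd j⟩
        obtain ⟨t, ht, htj⟩ := Finset.mem_image.mp hj
        refine Finset.mem_image.mpr ⟨(t + (n - 1)) % n, Finset.mem_range.mpr (Nat.mod_lt _ hnpos), ?_⟩
        rw [MulAction.pow_smul_mod_minimalPeriod]
        apply MulAction.injective v
        show v • v ^ (t + (n - 1)) • i = v • j
        rw [← mul_smul, ← pow_succ', show t + (n - 1) + 1 = t + n by omega, pow_add, mul_smul, hfixn, htj]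
      have hOB : O ⊆ B := by
        intro j hj
        obtain ⟨t, -, rfl⟩ := Finset.mem_image.mp hj
        clear hj
        induction t with
        | zero => simpa using hi
        | succ t iht => rw [pow_succ', mul_smul]; exact (hB _).mpr iht
      have hiO : i ∈ O := Finset.mem_image.mpr ⟨0, Finset.mem_range.mpr hnpos, by simp⟩
      rw [← Finset.sum_sdiff hOB, ih (B \ O)
        (Finset.sdiff_ssubset hOB ⟨i, hiO⟩) fun j => by
          rw [Finset.mem_sdiff, Finset.mem_sdiff, hB, hOmem], zero_add, hO,
        Finset.sum_image, hpow n i]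
      · refine hlow (r i) (v ^ n) _ (Subgroup.pow_mem _ hv n) ?_
        have h1 := hc (v ^ n) i
        rw [hfixn] at h1
        exact h1.symm
      · intro s hs t ht hst
        have hs' := Finset.mem_range.mp hs
        have ht' := Finset.mem_range.mp ht
        by_contra hne
        rcases lt_or_gt_of_ne hne with h | h
        · have h2 : v ^ (t - s) • (v ^ s • i) = v ^ s • i := by
            rw [← mul_smul, ← pow_add, Nat.sub_add_cancel h.le]; exact hst.symm
          rw [← mul_smul, ← pow_add, add_comm, pow_add, mul_smul] at h2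
          have h3 := MulAction.pow_smul_eq_iff_minimalPeriod_dvd.mp (MulAction.injective (v ^ s) h2)
          have := Nat.le_of_dvd (by omega) h3
          omega
        · have h2 : v ^ (s - t) • (v ^ t • i) = v ^ t • i := by
            rw [← mul_smul, ← pow_add, Nat.sub_add_cancel h.le]; exact hst
          rw [← mul_smul, ← pow_add, add_comm, pow_add, mul_smul] at h2
          have h3 := MulAction.pow_smul_eq_iff_minimalPeriod_dvd.mp (MulAction.injective (v ^ t) h2)
          have := Nat.le_of_dvd (by omega) h3
          omega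
  -- orbit by orbit the transfer agrees with the multiple of `lam u`
  have horb : ∀ i₀ : I, ∑ i ∈ Finset.univ.filter (fun i => i ∈ MulAction.orbit G i₀), ell u i =
      ∑ i ∈ Finset.univ.filter (fun i => i ∈ MulAction.orbit G i₀), lam u := by
    intro i₀
    set O := Finset.univ.filter (fun i => i ∈ MulAction.orbit G i₀) with hO
    have hOinv : ∀ (a : G) i, a • i ∈ O ↔ i ∈ O := fun a i => by
      simp [hO, ← MulAction.orbit_eq_iff, MulAction.orbit_smul]
    by_cases htop : MulAction.stabilizer G i₀ = ⊤
    · have hO1 : O = {i₀} := by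
        ext i
        simp only [hO, Finset.mem_filter, Finset.mem_univ, true_and, Finset.mem_singleton]
        constructor
        · rintro ⟨a, rfl⟩
          exact (htop.ge (Subgroup.mem_top a) : a ∈ MulAction.stabilizer G i₀)
        · rintro rfl
          exact MulAction.mem_orbit_self _
      rw [hO1, Finset.sum_singleton, Finset.sum_singleton]
      have hfix : ∀ a : G, lm a (r i₀) = rm (r i₀) (c a i₀) := fun a => by
        have h1 := hc a i₀
        rw [(htop.ge (Subgroup.mem_top a) : a ∈ MulAction.stabilizer G i₀)] at h1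
        exact h1.symm
      exact hfull (r i₀) (fun a => ⟨_, hfix a⟩) u _ (hfix u)
    obtain ⟨π, hπ, ⟨t, ht⟩, hπH⟩ := exists_hom_zmod (p := p) hG htop
    have hπ1 : π 1 = 0 := by
      have := hπ 1 1
      rwa [one_mul, left_eq_add] at this
    let β : I → ZMod p := fun i => if h : i ∈ MulAction.orbit G i₀ then π (Classical.choose h) else 0
    have hβa : ∀ a : G, β (a • i₀) = π a := by
      intro a
      have h : a • i₀ ∈ MulAction.orbit G i₀ := MulAction.mem_orbit _ _
      show (if h : a • i₀ ∈ MulAction.orbit G i₀ then π (Classical.choose h) else 0) = π a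
      rw [dif_pos h]
      have h1 : Classical.choose h • i₀ = a • i₀ := Classical.choose_spec h
      have h2 : a⁻¹ * Classical.choose h ∈ MulAction.stabilizer G i₀ := by
        rw [MulAction.mem_stabilizer_iff, mul_smul, h1, inv_smul_smul]
      have h3 := hπH _ h2
      have h4 := hπ a (a⁻¹ * Classical.choose h)
      rw [mul_inv_cancel_left, h3, add_zero] at h4
      exact h4
    have hβ : ∀ (a : G), ∀ i ∈ O, β (a • i) = π a + β i := by
      intro a i hi
      obtain ⟨b, rfl⟩ : i ∈ MulAction.orbit G i₀ := (Finset.mem_filter.mp hi).2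
      show β (a • b • i₀) = π a + β (b • i₀)
      rw [← mul_smul, hβa, hβa, hπ]
    let F : G → ZMod p → ZMod p := fun a j => ∑ i ∈ O.filter (fun i => β i = j), ell a i
    have hFsum : ∀ a, ∑ j, F a j = ∑ i ∈ O, ell a i := fun a =>
      Finset.sum_fiberwise O β (ell a)
    have hF : ∀ a b j, F (a * b) j = F a (j + π b) + F b j := by
      intro a b j
      show ∑ i ∈ O.filter (fun i => β i = j), ell (a * b) i = _
      rw [Finset.sum_congr rfl fun i _ => hell a b i, Finset.sum_add_distrib]
      refine congrArg (· + F b j) (Finset.sum_bij (fun i _ => b • i) ?_ ?_ ?_ fun _ _ => rfl)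
      · intro i hi
        obtain ⟨hiO, hij⟩ := Finset.mem_filter.mp hi
        exact Finset.mem_filter.mpr ⟨(hOinv b i).mpr hiO, by rw [hβ b i hiO, hij, add_comm]⟩
      · exact fun i _ k _ h => MulAction.injective b h
      · intro i hi
        obtain ⟨hiO, hij⟩ := Finset.mem_filter.mp hi
        have h1 : b⁻¹ • i ∈ O := (hOinv b⁻¹ i).mpr hiO
        refine ⟨b⁻¹ • i, Finset.mem_filter.mpr ⟨h1, ?_⟩, smul_inv_smul b i⟩
        have h2 := hβ b _ h1
        rw [smul_inv_smul, hij, add_comm (π b)] at h2
        exact (add_right_cancel h2).symm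
    have hsize : ((O.card : ℕ) : ZMod p) = 0 := by
      rw [ZMod.natCast_eq_zero_iff]
      have h1 : O.card = (MulAction.stabilizer G i₀).index := by
        rw [MulAction.index_stabilizer, Set.ncard_eq_toFinset_card']
        congr 1
        ext i
        simp [hO]
      obtain ⟨k, hk⟩ := hG.index (MulAction.stabilizer G i₀)
      rw [h1, hk]
      refine dvd_pow_self p ?_
      rintro rfl
      exact htop (Subgroup.index_eq_one.mp (by rw [hk, pow_zero]))
    rw [Finset.sum_const, nsmul_eq_mul, hsize, zero_mul]
    by_cases hπu : π u = 0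
    · by_contra hne
      exact hno (exists_wreath_surjection hG π hπ F hF ht hπu (by rw [hFsum]; exact hne))
    · have hpow : ∀ n : ℕ, F (u ^ n) 0 = ∑ s ∈ Finset.range n, F u (s * π u) := by
        intro n
        induction n with
        | zero =>
          show F (u ^ 0) 0 = 0
          have h1 := hF 1 1 0
          rw [one_mul, hπ1, add_zero, left_eq_add] at h1
          rw [pow_zero]; exact h1
        | succ n ih =>
          have hπn : ∀ k : ℕ, π (u ^ k) = k * π u := by
            intro k
            induction k with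
            | zero => simp [hπ1]
            | succ k ihk => rw [pow_succ, hπ, ihk]; push_cast; ring
          rw [pow_succ', hF, zero_add, hπn, ih, Finset.sum_range_succ, add_comm]
      have hbij : ∑ s ∈ Finset.range p, F u (s * π u) = ∑ j, F u j := by
        refine Finset.sum_bij (fun s _ => (s : ZMod p) * π u) (fun _ _ => Finset.mem_univ _)
          (fun a ha b hb h => ?_) (fun j _ => ?_) fun _ _ => rfl
        · have h1 := mul_right_cancel₀ hπu h
          rw [ZMod.natCast_eq_natCast_iff'] at h1
          rwa [Nat.mod_eq_of_lt (Finset.mem_range.mp ha),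
            Nat.mod_eq_of_lt (Finset.mem_range.mp hb)] at h1
        · exact ⟨(j / π u).val, Finset.mem_range.mpr (ZMod.val_lt _), by
            rw [ZMod.natCast_zmod_val, div_mul_cancel₀ _ hπu]⟩
      rw [← hFsum, ← hbij, ← hpow]
      refine hlowsum _ (Subgroup.mem_zpowers _) _ fun i => ?_
      have hπp : π (u ^ p) = 0 := by
        have hπn : ∀ k : ℕ, π (u ^ k) = k * π u := by
          intro k
          induction k with
          | zero => simp [hπ1]
          | succ k ihk => rw [pow_succ, hπ, ihk]; push_cast; ring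
        rw [hπn, ZMod.natCast_self, zero_mul]
      simp only [Finset.mem_filter, hOinv]
      constructor
      · rintro ⟨hi, h⟩
        rw [hβ _ i hi, hπp, zero_add] at h
        exact ⟨hi, h⟩
      · rintro ⟨hi, h⟩
        exact ⟨hi, by rw [hβ _ i hi, hπp, zero_add, h]⟩
  -- conclusion
  have hsum : T u = ∑ _i : I, lam u := by
    show ∑ i, ell u i = _
    let orbit : I → Quotient (MulAction.orbitRel G I) := Quotient.mk _
    rw [← Finset.sum_fiberwise Finset.univ orbit (ell u),
      ← Finset.sum_fiberwise Finset.univ orbit (fun _ => lam u)]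
    refine Finset.sum_congr rfl fun q _ => ?_
    obtain ⟨i₀, rfl⟩ := Quotient.exists_rep q
    have hfe : Finset.univ.filter (fun i => orbit i = Quotient.mk _ i₀) =
        Finset.univ.filter (fun i => i ∈ MulAction.orbit G i₀) := by
      refine Finset.filter_congr fun i _ => ?_
      show Quotient.mk _ i = Quotient.mk _ i₀ ↔ _
      rw [Quotient.eq]
      exact MulAction.orbitRel_apply
    rw [hfe]
    exact horb i₀
  rw [Finset.sum_const, Finset.card_univ, nsmul_eq_mul, hTu] at hsum
  exact mul_ne_zero hq hu hsum.symm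

end Cfsg.Agent.Fusion
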